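import Mathlib
import Groth.Prelude.Def_Smoothing

set_option autoImplicit false
universe u

namespace Groth.Agent.H34.StdBC

open TensorProduct MvPolynomial Smoothing

variable {R A R' : Type u} [CommRing R] [CommRing A] [Algebra R A] [CommRing R'] [Algebra R R']

theorem aeval_hom_eq (P : MarkedPresentation R A) : aeval (fun i => P.hom (X i)) = P.hom :=
  (aeval_unique P.hom).symm

noncomputable def pres (P : MarkedPresentation R A) :
    Algebra.Presentation R A (Fin P.n) (Fin P.m) where
  toGenerators := Algebra.Generators.ofSurjective (fun i => P.hom (X i)) (by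
    rw [aeval_hom_eq]
    exact P.surj)
  relation := P.rel
  span_range_relation_eq_ker := by
    rw [Algebra.Generators.ker_eq_ker_aeval_val]
    show Ideal.span (Set.range P.rel) = RingHom.ker (aeval (fun i => P.hom (X i)))
    rw [aeval_hom_eq, ← P.ker_eq]
    rfl

variable (R') in
noncomputable def homBC (P : MarkedPresentation R A) :
    MvPolynomial (Fin P.n) R' →ₐ[R'] R' ⊗[R] A :=
  aeval ((pres P).baseChange R').val

variable (R') in
noncomputable def bc (P : MarkedPresentation R A) : MarkedPresentation R' (R' ⊗[R] A) where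
  n := P.n
  m := P.m
  c := P.c
  hcn := P.hcn
  hcm := P.hcm
  rel j := MvPolynomial.map (algebraMap R R') (P.rel j)
  hom := homBC R' P
  surj := ((pres P).baseChange R').aeval_val_surjective
  ker_eq := by
    have h1 := ((pres P).baseChange R').span_range_relation_eq_ker
    rw [Algebra.Generators.ker_eq_ker_aeval_val] at h1
    exact h1.symm

theorem bc_hom_map (P : MarkedPresentation R A) (p : MvPolynomial (Fin P.n) R) :
    homBC R' P (MvPolynomial.map (algebraMap R R') p) = (1 : R') ⊗ₜ[R] P.hom p := by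
  show aeval ((pres P).baseChange R').val (MvPolynomial.map (algebraMap R R') p) = _
  rw [aeval_map_algebraMap]
  have h1 : ((pres P).baseChange R').val =
      fun i => (Algebra.TensorProduct.includeRight : A →ₐ[R] R' ⊗[R] A) (P.hom (X i)) := rfl
  rw [h1, ← comp_aeval_apply (f := fun i => P.hom (X i))
    (Algebra.TensorProduct.includeRight : A →ₐ[R] R' ⊗[R] A) p, aeval_hom_eq]
  rfl

theorem jacobianMinor_map {n m c : ℕ} (f : Fin m → MvPolynomial (Fin n) R)
    (rows : Fin c → Fin m) (cols : Fin c → Fin n) :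
    jacobianMinor (fun j => MvPolynomial.map (algebraMap R R') (f j)) rows cols =
      MvPolynomial.map (algebraMap R R') (jacobianMinor f rows cols) := by
  unfold jacobianMinor
  rw [RingHom.map_det]
  refine congrArg Matrix.det (Matrix.ext fun j k => ?_)
  show pderiv (cols k) (MvPolynomial.map (algebraMap R R') (f (rows j))) =
    MvPolynomial.map (algebraMap R R') (pderiv (cols k) (f (rows j)))
  exact pderiv_map

theorem killsTail_bc (P : MarkedPresentation R A) (a : A) (h : KillsTail P a) :
    KillsTail (bc R' P) ((1 : R') ⊗ₜ[R] a) := by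
  intro (a'' : MvPolynomial (Fin P.n) R') ha'' (j : Fin P.m) (hj : P.c ≤ (j : ℕ))
  obtain ⟨a', ha'⟩ := P.surj a
  have hK := h a' ha' j hj
  have ha2 : homBC R' P a'' = (1 : R') ⊗ₜ[R] a := ha''
  have hker : ∀ q : MvPolynomial (Fin P.n) R', homBC R' P q = 0 →
      q ∈ Ideal.span (Set.range fun j : Fin P.m => MvPolynomial.map (algebraMap R R') (P.rel j)) := by
    intro q hq
    have h0 : q ∈ RingHom.ker (bc R' P).hom.toRingHom := hq
    rw [(bc R' P).ker_eq] at h0
    exact h0
  show a'' * MvPolynomial.map (algebraMap R R') (P.rel j) ∈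
    Ideal.span ((fun j : Fin P.m => MvPolynomial.map (algebraMap R R') (P.rel j)) ''
      {j' : Fin P.m | (j' : ℕ) < P.c}) ⊔
    Ideal.span (Set.range fun j : Fin P.m => MvPolynomial.map (algebraMap R R') (P.rel j)) ^ 2
  have h1 : MvPolynomial.map (algebraMap R R') a' * MvPolynomial.map (algebraMap R R') (P.rel j) ∈
      Ideal.span ((fun j : Fin P.m => MvPolynomial.map (algebraMap R R') (P.rel j)) ''
        {j' : Fin P.m | (j' : ℕ) < P.c}) ⊔
      Ideal.span (Set.range fun j : Fin P.m => MvPolynomial.map (algebraMap R R') (P.rel j)) ^ 2 := by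
    have h2 := Ideal.mem_map_of_mem (MvPolynomial.map (σ := Fin P.n) (algebraMap R R')) hK
    rw [map_mul, Ideal.map_sup, Ideal.map_pow, Ideal.map_span, Ideal.map_span, Set.image_image,
      ← Set.range_comp] at h2
    exact h2
  have h3 : a'' - MvPolynomial.map (algebraMap R R') a' ∈
      Ideal.span (Set.range fun j : Fin P.m => MvPolynomial.map (algebraMap R R') (P.rel j)) := by
    apply hker
    rw [map_sub, bc_hom_map, ha']
    exact sub_eq_zero.mpr ha2
  have h4 : MvPolynomial.map (algebraMap R R') (P.rel j) ∈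
      Ideal.span (Set.range fun j : Fin P.m => MvPolynomial.map (algebraMap R R') (P.rel j)) :=
    Ideal.subset_span ⟨j, rfl⟩
  have h5 : (a'' - MvPolynomial.map (algebraMap R R') a') *
      MvPolynomial.map (algebraMap R R') (P.rel j) ∈
      Ideal.span (Set.range fun j : Fin P.m => MvPolynomial.map (algebraMap R R') (P.rel j)) ^ 2 := by
    rw [pow_two]
    exact Ideal.mul_mem_mul h3 h4
  have h6 : a'' * MvPolynomial.map (algebraMap R R') (P.rel j) =
      MvPolynomial.map (algebraMap R R') a' * MvPolynomial.map (algebraMap R R') (P.rel j) +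
        (a'' - MvPolynomial.map (algebraMap R R') a') *
          MvPolynomial.map (algebraMap R R') (P.rel j) := by
    ring
  rw [h6]
  exact Ideal.add_mem _ h1 (Ideal.mem_sup_right h5)

theorem elem_bc (a : A) (h : IsElementaryStandard R A a) :
    IsElementaryStandard R' (R' ⊗[R] A) ((1 : R') ⊗ₜ[R] a) := by
  obtain ⟨P, ⟨a₀, ha₀⟩, hK⟩ := h
  refine ⟨bc R' P, ⟨(1 : R') ⊗ₜ[R] a₀, ?_⟩, killsTail_bc P a hK⟩
  show (1 : R') ⊗ₜ[R] a = (1 : R') ⊗ₜ[R] a₀ * homBC R' P
    (jacobianMinor (fun j => MvPolynomial.map (algebraMap R R') (P.rel j))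
      (Fin.castLE P.hcm) (Fin.castLE P.hcn))
  rw [jacobianMinor_map, bc_hom_map, Algebra.TensorProduct.tmul_mul_tmul, mul_one, ← ha₀]

theorem strict_bc (a : A) (h : IsStrictlyStandard R A a) :
    IsStrictlyStandard R' (R' ⊗[R] A) ((1 : R') ⊗ₜ[R] a) := by
  obtain ⟨P, hmem, hK⟩ := h
  refine ⟨bc R' P, ?_, killsTail_bc P a hK⟩
  have h1 := Ideal.mem_map_of_mem (Algebra.TensorProduct.includeRight : A →ₐ[R] R' ⊗[R] A) hmem
  rw [Ideal.map_span, ← Set.range_comp] at h1
  have h2 : (⇑(Algebra.TensorProduct.includeRight : A →ₐ[R] R' ⊗[R] A) ∘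
        fun cols : Fin P.c → Fin P.n => P.hom (jacobianMinor P.rel (Fin.castLE P.hcm) cols)) =
      fun cols : Fin (bc R' P).c → Fin (bc R' P).n =>
        (bc R' P).hom (jacobianMinor (bc R' P).rel (Fin.castLE (bc R' P).hcm) cols) := by
    funext (cols : Fin P.c → Fin P.n)
    show (1 : R') ⊗ₜ[R] P.hom (jacobianMinor P.rel (Fin.castLE P.hcm) cols) = homBC R' P
      (jacobianMinor (fun j => MvPolynomial.map (algebraMap R R') (P.rel j))
        (Fin.castLE P.hcm) cols)
    rw [jacobianMinor_map, bc_hom_map]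
  rw [h2] at h1
  exact h1

end Groth.Agent.H34.StdBC
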