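import Groth.Agent.H87.ComplIso
import Groth.Agent.Lead.CompleteNoetherian
import Groth.Prelude.Def_EGA4b
import Mathlib.RingTheory.AdicCompletion.LocalRing
import Mathlib.RingTheory.AdicCompletion.AsTensorProduct
import Mathlib.RingTheory.AdicCompletion.Exactness
import Mathlib.RingTheory.AdicCompletion.Noetherian
import Mathlib.RingTheory.TensorProduct.Quotient
import Mathlib.RingTheory.Flat.FaithfullyFlat.Algebra

/-! Completion of a quotient `A/I` of a Noetherian local ring: `Cpl (A/I) ≃ (A/I) ⊗_A Cpl A`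
(helper34). -/

set_option autoImplicit false
universe u
open IsLocalRing TensorProduct

namespace Groth.Agent.H34.ComplQuot

section QuotComplete

variable {R : Type*} [CommRing R] [IsLocalRing R] [IsNoetherianRing R]

/-- A quotient of a complete Noetherian local ring is complete (as a module).
(same argument as helper61's `isAdicComplete_quotient_module`) -/
theorem isAdicComplete_quotient_module [IsAdicComplete (maximalIdeal R) R] (J : Ideal R) :
    IsAdicComplete (maximalIdeal R) (R ⧸ J) := by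
  have : IsPrecomplete (maximalIdeal R) (R ⧸ J) := by
    rw [← AdicCompletion.of_surjective_iff]
    intro y
    obtain ⟨x, hx⟩ := AdicCompletion.map_surjective (maximalIdeal R)
      (f := Submodule.mkQ J) (Submodule.mkQ_surjective J) y
    obtain ⟨r, hr⟩ := AdicCompletion.of_surjective (maximalIdeal R) R x
    refine ⟨Submodule.mkQ J r, ?_⟩
    rw [← AdicCompletion.map_of, hr, hx]
  exact { toIsHausdorff := inferInstance, toIsPrecomplete := this }

theorem isAdicComplete_quotient [IsAdicComplete (maximalIdeal R) R] (J : Ideal R)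
    [IsLocalRing (R ⧸ J)] :
    IsAdicComplete (maximalIdeal (R ⧸ J)) (R ⧸ J) := by
  have h1 : (maximalIdeal R).map (algebraMap R (R ⧸ J)) = maximalIdeal (R ⧸ J) :=
    IsLocalRing.map_maximalIdeal_of_surjective (Ideal.Quotient.mk J) Ideal.Quotient.mk_surjective
  rw [← h1, IsAdicComplete.map_algebraMap_iff]
  exact isAdicComplete_quotient_module J

end QuotComplete

variable (A : Type u) [CommRing A] [IsNoetherianRing A] [IsLocalRing A] (I : Ideal A)
  [Nontrivial (A ⧸ I)]

instance isNoetherianRing_cpl : IsNoetherianRing (EGA4.Cpl A) :=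
  Groth.Agent.Lead.isNoetherianRing_adicCompletion (maximalIdeal A)
    (maximalIdeal A).fg_of_isNoetherianRing

theorem faithfullyFlat_cpl : Module.FaithfullyFlat A (EGA4.Cpl A) :=
  Module.FaithfullyFlat.of_flat_of_isLocalHom

omit [IsNoetherianRing A] in
theorem le_maximalIdeal : I ≤ maximalIdeal A :=
  IsLocalRing.le_maximalIdeal (Ideal.Quotient.nontrivial_iff.mp inferInstance)

theorem map_ne_top : I.map (algebraMap A (EGA4.Cpl A)) ≠ ⊤ := by
  intro h
  have h1 : I.map (algebraMap A (EGA4.Cpl A)) ≤ maximalIdeal (EGA4.Cpl A) := by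
    rw [AdicCompletion.maximalIdeal_eq_map]
    exact Ideal.map_mono (le_maximalIdeal A I)
  rw [h] at h1
  exact (maximalIdeal.isMaximal (EGA4.Cpl A)).ne_top (top_le_iff.mp h1)

instance nontrivial_quot : Nontrivial (EGA4.Cpl A ⧸ I.map (algebraMap A (EGA4.Cpl A))) :=
  Ideal.Quotient.nontrivial_iff.mpr (map_ne_top A I)

/-- The target ring `S = Â / IÂ`. -/
abbrev S : Type u := EGA4.Cpl A ⧸ I.map (algebraMap A (EGA4.Cpl A))

instance isAdicComplete_S : IsAdicComplete (maximalIdeal (S A I)) (S A I) :=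
  isAdicComplete_quotient (I.map (algebraMap A (EGA4.Cpl A)))

omit [IsNoetherianRing A] in
theorem hmA : (maximalIdeal A).map (Ideal.Quotient.mk I) = maximalIdeal (A ⧸ I) :=
  IsLocalRing.map_maximalIdeal_of_surjective _ Ideal.Quotient.mk_surjective

theorem hmS : (maximalIdeal (EGA4.Cpl A)).map
    (Ideal.Quotient.mk (I.map (algebraMap A (EGA4.Cpl A)))) = maximalIdeal (S A I) :=
  IsLocalRing.map_maximalIdeal_of_surjective _ Ideal.Quotient.mk_surjective

theorem hφ : maximalIdeal (A ⧸ I) ≤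
    (maximalIdeal (S A I)).comap (Algebra.ofId (A ⧸ I) (S A I)) := by
  rw [← hmA, Ideal.map_le_iff_le_comap]
  intro a ha
  rw [Ideal.mem_comap, Ideal.mem_comap]
  show algebraMap (A ⧸ I) (S A I) (Ideal.Quotient.mk I a) ∈ _
  rw [Ideal.Quotient.algebraMap_quotient_map_quotient, ← hmS]
  apply Ideal.mem_map_of_mem
  rw [AdicCompletion.maximalIdeal_eq_map]
  exact Ideal.mem_map_of_mem _ ha

theorem hsurj (n : ℕ) (s : S A I) :
    ∃ p : A ⧸ I, s - Algebra.ofId (A ⧸ I) (S A I) p ∈ maximalIdeal (S A I) ^ n := by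
  obtain ⟨x, rfl⟩ := Ideal.Quotient.mk_surjective s
  obtain ⟨a, ha⟩ := Submodule.mkQ_surjective _ (x.val n)
  refine ⟨Ideal.Quotient.mk I a, ?_⟩
  show _ - algebraMap (A ⧸ I) (S A I) (Ideal.Quotient.mk I a) ∈ _
  rw [Ideal.Quotient.algebraMap_quotient_map_quotient, ← map_sub, ← hmS, ← Ideal.map_pow]
  apply Ideal.mem_map_of_mem
  have h1 : x - algebraMap A (EGA4.Cpl A) a ∈
      (maximalIdeal A ^ n • ⊤ : Submodule A (EGA4.Cpl A)) := by
    rw [AdicCompletion.pow_smul_top_eq_ker_eval (maximalIdeal A).fg_of_isNoetherianRing,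
      LinearMap.mem_ker, map_sub, sub_eq_zero]
    rw [AdicCompletion.algebraMap_apply]
    simp only [AdicCompletion.eval_apply, AdicCompletion.of_apply, Algebra.algebraMap_self,
      RingHom.id_apply]
    exact ha.symm
  rw [AdicCompletion.maximalIdeal_eq_map, ← Ideal.map_pow]
  have h2 := (Ideal.smul_top_eq_map (R := A) (S := EGA4.Cpl A) (maximalIdeal A ^ n))
  rw [h2] at h1
  exact h1

theorem hinj (n : ℕ) (p : A ⧸ I)
    (hp : Algebra.ofId (A ⧸ I) (S A I) p ∈ maximalIdeal (S A I) ^ n) :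
    p ∈ maximalIdeal (A ⧸ I) ^ n := by
  obtain ⟨a, rfl⟩ := Ideal.Quotient.mk_surjective p
  have hp' : algebraMap (A ⧸ I) (S A I) (Ideal.Quotient.mk I a) ∈ maximalIdeal (S A I) ^ n := hp
  rw [Ideal.Quotient.algebraMap_quotient_map_quotient, ← hmS, ← Ideal.map_pow] at hp'
  have h1 : algebraMap A (EGA4.Cpl A) a ∈
      ((maximalIdeal (EGA4.Cpl A) ^ n).map
        (Ideal.Quotient.mk (I.map (algebraMap A (EGA4.Cpl A))))).comap
        (Ideal.Quotient.mk (I.map (algebraMap A (EGA4.Cpl A)))) := hp'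
  rw [Ideal.comap_map_of_surjective' _ Ideal.Quotient.mk_surjective, Ideal.mk_ker,
    AdicCompletion.maximalIdeal_eq_map, ← Ideal.map_pow, ← Ideal.map_sup] at h1
  have := faithfullyFlat_cpl A
  have h2 : a ∈ ((maximalIdeal A ^ n ⊔ I).map (algebraMap A (EGA4.Cpl A))).comap
      (algebraMap A (EGA4.Cpl A)) := h1
  rw [Ideal.comap_map_eq_self_of_faithfullyFlat] at h2
  rw [← hmA, ← Ideal.map_pow]
  obtain ⟨b, hb, c, hc, rfl⟩ := Submodule.mem_sup.mp h2
  rw [map_add, Ideal.Quotient.eq_zero_iff_mem.mpr hc, add_zero]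
  exact Ideal.mem_map_of_mem _ hb

/-- `Cpl (A/I) ≃ Â/IÂ` as `A/I`-algebras. -/
noncomputable def cplQuotEquiv : EGA4.Cpl (A ⧸ I) ≃ₐ[A ⧸ I] S A I :=
  (AlgEquiv.ofBijective _ (Groth.Agent.H87.ComplIso.hatMap_bijective (R := A ⧸ I)
    (maximalIdeal (A ⧸ I)) (maximalIdeal (S A I)) (Algebra.ofId (A ⧸ I) (S A I))
    (hφ A I) (hsurj A I) (hinj A I))).trans
    ((AdicCompletion.ofAlgEquiv (maximalIdeal (S A I))).restrictScalars (A ⧸ I)).symm

/-- `Cpl (A/I) ≃ (A/I) ⊗_A Â` as `A/I`-algebras. -/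
noncomputable def cplQuotEquivTensor : (A ⧸ I) ⊗[A] EGA4.Cpl A ≃ₐ[A ⧸ I] EGA4.Cpl (A ⧸ I) :=
  ((cplQuotEquiv A I).trans
    (Algebra.TensorProduct.quotIdealMapEquivQuotTensor (EGA4.Cpl A) I)).symm

end Groth.Agent.H34.ComplQuot
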