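import Groth.Agent.H34.CMChain
import Groth.Agent.H34.ComplQuot
import Groth.Agent.S6284
import Groth.Agent.H29.FlatCM
import Groth.Agent.H29.FlatDepthMod
import Groth.Agent.H29.Depth
import Mathlib.RingTheory.KrullDimension.Field

/-! A Noetherian local ring with a CM module of full support is formally equidimensional
(helper34). -/

set_option autoImplicit false
universe u
open IsLocalRing TensorProduct

namespace Groth.Agent.H34.FormalEquidim

variable (A : Type u) [CommRing A] [IsNoetherianRing A] [IsLocalRing A]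

theorem mB_isMaximal : (EGA4.mB A (EGA4.Cpl A)).IsMaximal := by
  have h : EGA4.mB A (EGA4.Cpl A) = maximalIdeal (EGA4.Cpl A) :=
    (AdicCompletion.maximalIdeal_eq_map (R := A)).symm
  rw [h]
  infer_instance

theorem ringKrullDim_cpl : ringKrullDim (EGA4.Cpl A) = ringKrullDim A := by
  have h1 := Groth.Agent.H29.FlatCM.ringKrullDim_eq_add_fibre (A := A) (B := EGA4.Cpl A)
  have h2 : ringKrullDim (EGA4.FibRing A (EGA4.Cpl A)) = 0 :=
    ringKrullDim_eq_zero_of_isField
      ((Ideal.Quotient.maximal_ideal_iff_isField_quotient (EGA4.mB A (EGA4.Cpl A))).1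
        (mB_isMaximal A))
  rw [h1, h2, add_zero]

theorem depth_fibMod : LocCoh.depth (EGA4.Cpl A) (EGA4.FibMod A (EGA4.Cpl A) (EGA4.Cpl A)) = 0 := by
  have hne : (EGA4.mB A (EGA4.Cpl A) • (⊤ : Submodule (EGA4.Cpl A) (EGA4.Cpl A))) ≠ ⊤ := by
    rw [smul_eq_mul, Ideal.mul_top]
    exact (mB_isMaximal A).ne_top
  have hnt : Nontrivial (EGA4.FibMod A (EGA4.Cpl A) (EGA4.Cpl A)) :=
    Submodule.Quotient.nontrivial_iff.mpr hne
  rw [Groth.Agent.H29.depth_eq_zero_iff]
  refine ⟨Groth.Agent.H29.maximalIdeal_smul_top_ne_top _ _, ?_⟩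
  intro r hr hreg
  have hr' : r ∈ EGA4.mB A (EGA4.Cpl A) := by
    have h : EGA4.mB A (EGA4.Cpl A) = maximalIdeal (EGA4.Cpl A) :=
      (AdicCompletion.maximalIdeal_eq_map (R := A)).symm
    rw [h]; exact hr
  have hzero : ∀ x : EGA4.FibMod A (EGA4.Cpl A) (EGA4.Cpl A), r • x = 0 := by
    intro x
    obtain ⟨y, rfl⟩ := Submodule.Quotient.mk_surjective _ x
    rw [← Submodule.Quotient.mk_smul, Submodule.Quotient.mk_eq_zero]
    exact Submodule.smul_mem_smul hr' Submodule.mem_top
  obtain ⟨x, y, hxy⟩ := hnt.exists_pair_ne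
  exact hxy (hreg (by simp only [hzero]))

variable (M : Type u) [AddCommGroup M] [Module A M] [Module.Finite A M]

theorem main (hCM : LocCoh.IsCohenMacaulayModule A M) (hsupp : Module.support A M = Set.univ) :
    EGA4.IsFormallyEquidim A := by
  have hsupp' : Module.support (EGA4.Cpl A) (EGA4.Cpl A ⊗[A] M) = Set.univ := by
    rw [Groth.Agent.S6284.result, hsupp, Set.preimage_univ]
  have hdepth : LocCoh.depth (EGA4.Cpl A) (EGA4.Cpl A ⊗[A] M) = LocCoh.depth A M := by
    rw [Groth.Agent.H29.FlatDepthMod.depth_tensor (R := A) (S := EGA4.Cpl A) M (EGA4.Cpl A),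
      depth_fibMod, add_zero]
  have hCM' : LocCoh.IsCohenMacaulayModule (EGA4.Cpl A) (EGA4.Cpl A ⊗[A] M) := by
    rw [Groth.Agent.H29.CM.isCM_def,
      Groth.Agent.H34.CMChain.supportDim_eq_of_support_eq_univ hsupp', ringKrullDim_cpl,
      ← Groth.Agent.H34.CMChain.supportDim_eq_of_support_eq_univ hsupp, hdepth]
    exact hCM
  intro P hP
  have hPprime : P.IsPrime := hP.1.1
  have h1 := Groth.Agent.H34.CMChain.height_add_dim hCM' hsupp' P
  rw [Ideal.height_eq_zero_iff.mpr hP] at h1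
  simpa using h1

end Groth.Agent.H34.FormalEquidim
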