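import Groth.Prelude.Def_EGA4b
import Groth.Prelude.Def_Found
import Mathlib.RingTheory.Flat.FaithfullyFlat.Basic
import Mathlib.RingTheory.TensorProduct.Basic
import Mathlib.RingTheory.FiniteType
import Mathlib.RingTheory.LocalRing.ResidueField.Fiber
import Mathlib.RingTheory.Localization.Basic
import Mathlib.RingTheory.Localization.BaseChange
import Mathlib.RingTheory.SurjectiveOnStalks
import Mathlib.RingTheory.Flat.Stability
import Mathlib.RingTheory.Nilpotent.GeometricallyReduced

/-! Fibres of a localized ring map `S⁻¹A → S⁻¹B` agree with fibres of `A → B` (helper34). -/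

set_option autoImplicit false
universe u
open TensorProduct

namespace Groth.Agent.H34.FibLoc

variable (A B : Type u) [CommRing A] [CommRing B] [Algebra A B] (S : Submonoid A)
  (A' B' : Type u) [CommRing A'] [CommRing B'] [Algebra A A'] [Algebra B B'] [Algebra A' B']
  [Algebra A B'] [IsScalarTower A A' B'] [IsScalarTower A B B'] [IsLocalization S A']
  [IsLocalization (Algebra.algebraMapSubmonoid B S) B']

include S in
theorem flat [Module.Flat A B] : Module.Flat A' B' := by
  have h1 : Algebra.IsPushout A B A' B' := Algebra.isPushout_of_isLocalization S A' B B'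
  have h2 : Algebra.IsPushout A A' B B' := Algebra.IsPushout.symm h1
  exact Module.Flat.of_linearEquiv (Algebra.IsPushout.equiv A A' B B').symm.toLinearEquiv

attribute [local instance] Algebra.TensorProduct.rightAlgebra in
theorem isNoetherianRing_fiber (p : Ideal A) [p.IsPrime] [IsNoetherianRing B] :
    IsNoetherianRing (p.Fiber B) :=
  isNoetherianRing_of_ringEquiv _ (Ideal.Fiber.algEquivQuotient p (S := B)).symm.toRingEquiv

include S in
/-- Geometric fibres of `A' → B'` over `p'` are geometric fibres of `A → B` over `p' ∩ A`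
(core version, for an arbitrary field extension `k'` of `κ(p')`). -/
theorem exists_ringEquiv_core (p' : Ideal A') [p'.IsPrime] (k' : Type u) [Field k']
    [Algebra p'.ResidueField k'] :
    ∃ (σ : (p'.comap (algebraMap A A')).ResidueField →+* p'.ResidueField)
      (_ : Function.Bijective σ)
      (alg : Algebra (p'.comap (algebraMap A A')).ResidueField k'),
      (@algebraMap _ k' _ _ alg = (algebraMap p'.ResidueField k').comp σ) ∧
      Nonempty ((k' ⊗[(p'.comap (algebraMap A A')).ResidueField]
          (p'.comap (algebraMap A A')).Fiber B) ≃+*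
        (k' ⊗[p'.ResidueField] p'.Fiber B')) := by
  set p := p'.comap (algebraMap A A') with hp
  let σ : p.ResidueField →+* p'.ResidueField :=
    Ideal.ResidueField.map p p' (algebraMap A A') rfl
  have hσ : Function.Bijective σ :=
    (RingHom.surjectiveOnStalks_of_isLocalization S A').residueFieldMap_bijective p p' rfl
  let algκk' : Algebra p.ResidueField k' := ((algebraMap p'.ResidueField k').comp σ).toAlgebra
  refine ⟨σ, hσ, algκk', rfl, ⟨?_⟩⟩
  letI : Algebra A' k' :=
    ((algebraMap p'.ResidueField k').comp (algebraMap A' p'.ResidueField)).toAlgebra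
  haveI : IsScalarTower A' p'.ResidueField k' := IsScalarTower.of_algebraMap_eq (fun _ => rfl)
  letI : Algebra A k' := ((algebraMap A' k').comp (algebraMap A A')).toAlgebra
  haveI : IsScalarTower A A' k' := IsScalarTower.of_algebraMap_eq (fun _ => rfl)
  haveI : IsScalarTower A p.ResidueField k' := IsScalarTower.of_algebraMap_eq (fun a => by
    show algebraMap p'.ResidueField k' (algebraMap A' p'.ResidueField (algebraMap A A' a)) =
      algebraMap p'.ResidueField k' (σ (algebraMap A p.ResidueField a))
    rw [Ideal.ResidueField.map_algebraMap])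
  have h1 : Algebra.IsPushout A B A' B' := Algebra.isPushout_of_isLocalization S A' B B'
  have h2 : Algebra.IsPushout A A' B B' := Algebra.IsPushout.symm h1
  let e2' : A' ⊗[A] B ≃ₐ[A'] B' := Algebra.IsPushout.equiv A A' B B'
  let e1 : k' ⊗[p'.ResidueField] (p'.ResidueField ⊗[A'] B') ≃ₐ[p'.ResidueField] k' ⊗[A'] B' :=
    Algebra.TensorProduct.cancelBaseChange A' p'.ResidueField p'.ResidueField k' B'
  let e2 : k' ⊗[A'] (A' ⊗[A] B) ≃ₐ[A'] k' ⊗[A'] B' :=
    Algebra.TensorProduct.congr AlgEquiv.refl e2'
  let e3 : k' ⊗[A'] (A' ⊗[A] B) ≃ₐ[A'] k' ⊗[A] B :=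
    Algebra.TensorProduct.cancelBaseChange A A' A' k' B
  let e4 : k' ⊗[p.ResidueField] (p.ResidueField ⊗[A] B) ≃ₐ[p.ResidueField] k' ⊗[A] B :=
    Algebra.TensorProduct.cancelBaseChange A p.ResidueField p.ResidueField k' B
  exact e4.toRingEquiv.trans (e3.symm.toRingEquiv.trans (e2.toRingEquiv.trans e1.symm.toRingEquiv))

include S in
/-- Finite version. -/
theorem exists_ringEquiv (p' : Ideal A') [p'.IsPrime] (k' : Type u) [Field k']
    [Algebra p'.ResidueField k'] (hfin : Module.Finite p'.ResidueField k') :
    ∃ (_ : Algebra (p'.comap (algebraMap A A')).ResidueField k'),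
      Module.Finite (p'.comap (algebraMap A A')).ResidueField k' ∧
      Nonempty ((k' ⊗[(p'.comap (algebraMap A A')).ResidueField]
          (p'.comap (algebraMap A A')).Fiber B) ≃+*
        (k' ⊗[p'.ResidueField] p'.Fiber B')) := by
  obtain ⟨σ, hσ, alg, halg, he⟩ := exists_ringEquiv_core A B S A' B' p' k'
  refine ⟨alg, ?_, he⟩
  let := alg
  let algκκ' : Algebra (p'.comap (algebraMap A A')).ResidueField p'.ResidueField := σ.toAlgebra
  have : IsScalarTower (p'.comap (algebraMap A A')).ResidueField p'.ResidueField k' :=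
    IsScalarTower.of_algebraMap_eq (fun x => by rw [halg]; rfl)
  have hfinκ : Module.Finite (p'.comap (algebraMap A A')).ResidueField p'.ResidueField :=
    Module.Finite.of_surjective
      (Algebra.linearMap (p'.comap (algebraMap A A')).ResidueField p'.ResidueField) hσ.2
  exact Module.Finite.trans p'.ResidueField k'

include S in
/-- Algebraic version. -/
theorem exists_ringEquiv_algebraic (p' : Ideal A') [p'.IsPrime] (k' : Type u) [Field k']
    [Algebra p'.ResidueField k'] [Algebra.IsAlgebraic p'.ResidueField k'] :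
    ∃ (_ : Algebra (p'.comap (algebraMap A A')).ResidueField k'),
      Algebra.IsAlgebraic (p'.comap (algebraMap A A')).ResidueField k' ∧
      Nonempty ((k' ⊗[(p'.comap (algebraMap A A')).ResidueField]
          (p'.comap (algebraMap A A')).Fiber B) ≃+*
        (k' ⊗[p'.ResidueField] p'.Fiber B')) := by
  obtain ⟨σ, hσ, alg, halg, he⟩ := exists_ringEquiv_core A B S A' B' p' k'
  refine ⟨alg, ?_, he⟩
  let := alg
  exact Algebra.IsAlgebraic.of_ringHom_of_comp_eq σ (RingHom.id k') hσ.2
    Function.injective_id (by rw [halg]; rfl)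

include S in
theorem isRegularHom_localization [IsNoetherianRing B] (h : CAlg.IsRegularHom A B) :
    CAlg.IsRegularHom A' B' := by
  obtain ⟨hflat, hfib⟩ := h
  refine ⟨flat A B S A' B', ?_⟩
  intro p' hp'
  have hB' : IsNoetherianRing B' :=
    IsLocalization.isNoetherianRing (Algebra.algebraMapSubmonoid B S) B' inferInstance
  refine ⟨isNoetherianRing_fiber A' B' p', ?_⟩
  intro k' _ _ hfin
  obtain ⟨alg, hfin', ⟨e⟩⟩ := exists_ringEquiv A B S A' B' p' k' hfin
  let := alg
  have h3 : IsRegularRing (k' ⊗[(p'.comap (algebraMap A A')).ResidueField]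
      (p'.comap (algebraMap A A')).Fiber B) := (hfib (p'.comap (algebraMap A A'))).2 k' hfin'
  exact @IsRegularRing.of_ringEquiv (k' ⊗[(p'.comap (algebraMap A A')).ResidueField]
      (p'.comap (algebraMap A A')).Fiber B) _ (k' ⊗[p'.ResidueField] p'.Fiber B') _ e h3

theorem isNormalRing_of_ringEquiv {R R' : Type u} [CommRing R] [CommRing R'] (e : R ≃+* R')
    (h : EGA4.IsNormalRing R) : EGA4.IsNormalRing R' := by
  intro p hp
  obtain ⟨hd, hic⟩ := h (p.comap e)
  let E : Localization.AtPrime (p.comap e) ≃+* Localization.AtPrime p :=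
    IsLocalization.ringEquivOfRingEquiv
      (Localization.AtPrime (p.comap e)) (Localization.AtPrime p) e (e.map_primeCompl_comap_eq p)
  exact ⟨E.symm.toMulEquiv.isDomain _, IsIntegrallyClosed.of_equiv E⟩

include S in
theorem isNormalHom_localization (h : EGA4.IsNormalHom A B) : EGA4.IsNormalHom A' B' := by
  obtain ⟨hflat, hfib⟩ := h
  refine ⟨flat A B S A' B', ?_⟩
  intro p' hp' k' _ _ hfin
  obtain ⟨alg, hfin', ⟨e⟩⟩ := exists_ringEquiv A B S A' B' p' k' hfin
  let := alg
  have h3 : EGA4.IsNormalRing (k' ⊗[(p'.comap (algebraMap A A')).ResidueField]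
      (p'.comap (algebraMap A A')).Fiber B) := hfib (p'.comap (algebraMap A A')) k' hfin'
  exact isNormalRing_of_ringEquiv e h3

include S in
theorem geomReduced_localization
    (h : ∀ (p : Ideal A) [p.IsPrime], Algebra.IsGeometricallyReduced p.ResidueField (p.Fiber B))
    (p' : Ideal A') [p'.IsPrime] :
    Algebra.IsGeometricallyReduced p'.ResidueField (p'.Fiber B') := by
  rw [Algebra.isGeometricallyReduced_field_iff]
  obtain ⟨alg, halg, ⟨e⟩⟩ :=
    exists_ringEquiv_algebraic A B S A' B' p' (AlgebraicClosure p'.ResidueField)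
  let := alg
  have := h (p'.comap (algebraMap A A'))
  have h3 : IsReduced (AlgebraicClosure p'.ResidueField ⊗[(p'.comap (algebraMap A A')).ResidueField]
      (p'.comap (algebraMap A A')).Fiber B) := inferInstance
  exact isReduced_of_injective e.symm.toRingHom e.symm.injective

end Groth.Agent.H34.FibLoc
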