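import Groth.Agent.H34.Fitting

set_option autoImplicit false
universe u v

namespace Groth.Agent.H34.Fit

open Matrix

variable {R : Type u} [CommRing R] {M : Type v} [AddCommGroup M] [Module R M]

theorem minorsIdeal_mono {κ : Type*} {Z Z' : Set (κ → R)} (h : Z ⊆ Z') (p : ℕ) :
    minorsIdeal Z p ≤ minorsIdeal Z' p :=
  Ideal.span_mono (by
    rintro d ⟨z, e, hz, rfl⟩
    exact ⟨z, e, fun b => h (hz b), rfl⟩)

omit [CommRing R] in
theorem minor_update {κ : Type*} {p : ℕ} (z : Fin p → κ → R) (e : Fin p → κ) (b₀ : Fin p)
    (v : κ → R) :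
    (Matrix.of fun a b => (Function.update z b₀ v) b (e a)) =
      (Matrix.of fun a b => z b (e a)).updateCol b₀ (fun a => v (e a)) := by
  ext a b
  rw [Matrix.updateCol_apply]
  by_cases hb : b = b₀
  · subst hb
    simp
  · simp [hb]

/-- Minors of vectors in a span lie in the ideal of minors of the generators. -/
theorem minorsIdeal_span {κ : Type*} (G : Set (κ → R)) (p : ℕ) :
    minorsIdeal (Submodule.span R G : Set (κ → R)) p = minorsIdeal G p := by
  classical
  apply le_antisymm _ (minorsIdeal_mono Submodule.subset_span p)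
  apply Ideal.span_le.mpr
  rintro d ⟨z, e, hz, rfl⟩
  have key : ∀ (s : Finset (Fin p)) (z : Fin p → κ → R),
      (∀ b ∈ s, z b ∈ Submodule.span R G) → (∀ b, b ∉ s → z b ∈ G) →
      (Matrix.of fun a b => z b (e a)).det ∈ minorsIdeal G p := by
    intro s
    induction s using Finset.induction_on with
    | empty =>
      intro z _ hz
      exact Ideal.subset_span ⟨z, e, fun b => hz b (by simp), rfl⟩
    | insert b₀ s hb₀ ih =>
      intro z hz1 hz2
      have h1 : ∀ v ∈ Submodule.span R G,
          (Matrix.of fun a b => (Function.update z b₀ v) b (e a)).det ∈ minorsIdeal G p := by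
        intro v hv
        induction hv using Submodule.span_induction with
        | mem v hv =>
          apply ih
          · intro b hb
            have hne : b ≠ b₀ := fun h => hb₀ (h ▸ hb)
            rw [Function.update_of_ne hne]
            exact hz1 b (Finset.mem_insert_of_mem hb)
          · intro b hb
            by_cases hbb : b = b₀
            · subst hbb
              rw [Function.update_self]
              exact hv
            · rw [Function.update_of_ne hbb]
              exact hz2 b (by simp [hbb, hb])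
        | zero =>
          have h0 : (Matrix.of fun a b => (Function.update z b₀ (0 : κ → R)) b (e a)).det = 0 :=
            Matrix.det_eq_zero_of_column_eq_zero b₀ (fun a => by simp)
          rw [h0]
          exact Ideal.zero_mem _
        | add v v' _ _ hv hv' =>
          rw [minor_update] at hv hv' ⊢
          have : (fun a => (v + v') (e a)) = (fun a => v (e a)) + (fun a => v' (e a)) := rfl
          rw [this, Matrix.det_updateCol_add]
          exact Ideal.add_mem _ hv hv'
        | smul r v _ hv =>
          rw [minor_update] at hv ⊢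
          have : (fun a => (r • v) (e a)) = r • (fun a => v (e a)) := rfl
          rw [this, Matrix.det_updateCol_smul]
          exact Ideal.mul_mem_left _ _ hv
      have h2 := h1 (z b₀) (hz1 b₀ (Finset.mem_insert_self _ _))
      rwa [Function.update_eq_self] at h2
  exact key Finset.univ z (fun b _ => hz b) (fun b hb => absurd (Finset.mem_univ b) hb)

theorem relSet_eq_ker {n : ℕ} (x : Fin n → M) :
    {z : Fin n → R | IsRel x z} = (LinearMap.ker (Fintype.linearCombination R x) : Set (Fin n → R)) := by
  ext z
  simp [IsRel, Fintype.linearCombination_apply]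

/-- `Fit_n(M) = R` when `n` elements generate `M`. -/
theorem fittIdeal_eq_top_of_span {n : ℕ} (x : Fin n → M)
    (hx : Submodule.span R (Set.range x) = ⊤) : Fitt.ideal R M n = ⊤ := by
  rw [fittIdeal_eq_minorsIdeal x hx n, Nat.sub_self, minorsIdeal_zero]

/-- Fitting ideals grow along surjections. -/
theorem fittIdeal_le_of_surjective {M' : Type*} [AddCommGroup M'] [Module R M']
    (f : M →ₗ[R] M') (hf : Function.Surjective f) (k : ℕ) :
    Fitt.ideal R M k ≤ Fitt.ideal R M' k := by
  apply Ideal.span_le.mpr
  rintro d ⟨n, x, a, hx, hrel, rfl⟩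
  apply Ideal.subset_span
  refine ⟨n, f ∘ x, a, ?_, ?_, rfl⟩
  · rw [Set.range_comp, ← Submodule.map_span, hx, Submodule.map_top, LinearMap.range_eq_top.mpr hf]
  · intro i hi
    have h := congrArg f (hrel i hi)
    simpa using h

/-- Fitting ideals of finitely presented modules are finitely generated. -/
theorem fittIdeal_fg [Module.FinitePresentation R M] (k : ℕ) : (Fitt.ideal R M k).FG := by
  classical
  obtain ⟨n, x, hx⟩ := Module.Finite.exists_fin (R := R) (M := M)
  have hsurj : Function.Surjective (Fintype.linearCombination R x) := by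
    rw [← LinearMap.range_eq_top, Fintype.range_linearCombination, hx]
  obtain ⟨G, hG⟩ := Module.FinitePresentation.fg_ker (Fintype.linearCombination R x) hsurj
  rw [fittIdeal_eq_minorsIdeal x hx k, relSet_eq_ker, ← hG, minorsIdeal_span]
  have h1 : minorsIdeal (G : Set (Fin n → R)) (n - k) =
      Ideal.span (Set.range (fun ze : (Fin (n - k) → G) × (Fin (n - k) → Fin n) =>
        (Matrix.of fun a b => (ze.1 b : Fin n → R) (ze.2 a)).det)) := by
    apply le_antisymm
    · apply Ideal.span_le.mpr
      rintro d ⟨z, e, hz, rfl⟩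
      apply Ideal.subset_span
      exact ⟨(fun b => ⟨z b, hz b⟩, e), rfl⟩
    · apply Ideal.span_le.mpr
      rintro d ⟨⟨z, e⟩, rfl⟩
      apply Ideal.subset_span
      exact ⟨fun b => (z b).1, e, fun b => (z b).2, rfl⟩
  rw [h1]
  exact Submodule.fg_span (Set.finite_range _)

theorem det_smul_eq_zero {ι : Type*} [Fintype ι] [DecidableEq ι] (x : ι → M) (a : Matrix ι ι R)
    (h : ∀ i, ∑ j, a i j • x j = 0) (j : ι) : a.det • x j = 0 := by
  have h1 : ∑ i, a.adjugate j i • ∑ l, a i l • x l = 0 := by simp [h]
  rw [← h1]
  simp only [Finset.smul_sum, smul_smul]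
  rw [Finset.sum_comm]
  have h2 : ∀ l, ∑ i, (a.adjugate j i * a i l) • x l =
      ((a.det • (1 : Matrix ι ι R)) j l) • x l := by
    intro l
    rw [← Finset.sum_smul, ← Matrix.adjugate_mul, Matrix.mul_apply]
  simp only [h2, Matrix.smul_apply, Matrix.one_apply, smul_eq_mul, mul_ite, mul_one, mul_zero,
    ite_smul, zero_smul, Finset.sum_ite_eq, Finset.mem_univ, if_true]

theorem fittIdeal_zero_le_annihilator : Fitt.ideal R M 0 ≤ Module.annihilator R M := by
  apply Ideal.span_le.mpr
  rintro d ⟨n, x, a, hx, hrel, rfl⟩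
  rw [SetLike.mem_coe, Module.mem_annihilator]
  intro m
  have hm : m ∈ Submodule.span R (Set.range x) := by rw [hx]; trivial
  induction hm using Submodule.span_induction with
  | mem y hy =>
    obtain ⟨j, rfl⟩ := hy
    exact det_smul_eq_zero x a (fun i => hrel i i.isLt) j
  | zero => simp
  | add y z _ _ hy hz => rw [smul_add, hy, hz, add_zero]
  | smul r y _ hy => rw [smul_comm, hy, smul_zero]

theorem zeroLocus_fittIdeal_zero [Module.Finite R M] :
    PrimeSpectrum.zeroLocus (Fitt.ideal R M 0 : Set R) = Module.support R M := by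
  classical
  ext p
  rw [PrimeSpectrum.mem_zeroLocus, SetLike.coe_subset_coe, Module.mem_support_iff_of_finite]
  constructor
  · intro hp
    by_contra hcon
    obtain ⟨s, hs, hsp⟩ := SetLike.not_le_iff_exists.mp hcon
    obtain ⟨n, x, hx⟩ := Module.Finite.exists_fin (R := R) (M := M)
    have h1 : s ^ n ∈ Fitt.ideal R M 0 := by
      apply Ideal.subset_span
      refine ⟨n, x, s • (1 : Matrix (Fin n) (Fin n) R), hx, ?_, ?_⟩
      · intro i _
        simp [Matrix.smul_apply, Matrix.one_apply, Module.mem_annihilator.mp hs]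
      · simp
    exact hsp (p.2.mem_of_pow_mem n (hp h1))
  · intro hp
    exact fittIdeal_zero_le_annihilator.trans hp

theorem fittIdeal_zero_quotient (I : Ideal R) : Fitt.ideal R (R ⧸ I) 0 = I := by
  have hsmul : ∀ r : R, r • (1 : R ⧸ I) = Ideal.Quotient.mk I r := fun r => by
    rw [Algebra.smul_def, mul_one]
    rfl
  have hx : Submodule.span R (Set.range (fun _ : Fin 1 => (1 : R ⧸ I))) = ⊤ := by
    rw [eq_top_iff]
    rintro m -
    obtain ⟨r, rfl⟩ := Ideal.Quotient.mk_surjective m
    rw [← hsmul]
    exact Submodule.smul_mem _ _ (Submodule.subset_span ⟨0, rfl⟩)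
  rw [fittIdeal_eq_minorsIdeal _ hx 0]
  have h10 : (1 : ℕ) - 0 = 1 := rfl
  rw [h10]
  apply le_antisymm
  · apply Ideal.span_le.mpr
    rintro d ⟨z, e, hz, rfl⟩
    have h1 : IsRel (fun _ : Fin 1 => (1 : R ⧸ I)) (z 0) := hz 0
    unfold IsRel at h1
    rw [Fin.sum_univ_one, hsmul, Ideal.Quotient.eq_zero_iff_mem] at h1
    rw [SetLike.mem_coe, Matrix.det_fin_one, Matrix.of_apply, Subsingleton.elim (e 0) 0]
    exact h1
  · intro r hr
    apply Ideal.subset_span
    refine ⟨fun _ _ => r, fun _ => 0, fun _ => ?_, ?_⟩
    · show IsRel _ _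
      unfold IsRel
      rw [Fin.sum_univ_one, hsmul, Ideal.Quotient.eq_zero_iff_mem]
      exact hr
    · rw [Matrix.det_fin_one, Matrix.of_apply]

end Groth.Agent.H34.Fit
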