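import Groth.Agent.H34.Fitting2

set_option autoImplicit false
universe u v w

namespace Groth.Agent.H34.Fit

open Matrix TensorProduct

variable {R : Type u} [CommRing R] {M : Type v} [AddCommGroup M] [Module R M]

/-- Minors commute with ring homomorphisms. -/
theorem minorsIdeal_image_map {R' : Type w} [CommRing R'] (φ : R →+* R') {κ : Type*}
    (Z : Set (κ → R)) (p : ℕ) :
    minorsIdeal ((fun z : κ → R => fun i => φ (z i)) '' Z) p = (minorsIdeal Z p).map φ := by
  unfold minorsIdeal
  rw [Ideal.map_span]
  congr 1
  ext d'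
  constructor
  · rintro ⟨z', e, hz', rfl⟩
    choose z hz hzz using hz'
    refine ⟨(Matrix.of fun a b => z b (e a)).det, ⟨z, e, hz, rfl⟩, ?_⟩
    rw [RingHom.map_det]
    congr 1
    ext a b
    simp [← hzz b]
  · rintro ⟨d, ⟨z, e, hz, rfl⟩, rfl⟩
    refine ⟨fun b => fun i => φ (z b i), e, fun b => ⟨z b, hz b, rfl⟩, ?_⟩
    rw [RingHom.map_det]
    congr 1

variable (R' : Type w) [CommRing R'] [Algebra R R']

theorem span_one_tmul_eq_top {n : ℕ} (x : Fin n → M)
    (hx : Submodule.span R (Set.range x) = ⊤) :
    Submodule.span R' (Set.range fun i => (1 : R') ⊗ₜ[R] x i) = ⊤ := by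
  rw [eq_top_iff]
  rintro t -
  induction t using TensorProduct.induction_on with
  | zero => exact Submodule.zero_mem _
  | add a b ha hb => exact Submodule.add_mem _ ha hb
  | tmul r' m =>
    have hm : m ∈ Submodule.span R (Set.range x) := by rw [hx]; trivial
    induction hm using Submodule.span_induction with
    | mem y hy =>
      obtain ⟨i, rfl⟩ := hy
      have h1 : r' ⊗ₜ[R] x i = r' • ((1 : R') ⊗ₜ[R] x i) := by
        rw [TensorProduct.smul_tmul', smul_eq_mul, mul_one]
      rw [h1]
      exact Submodule.smul_mem _ _ (Submodule.subset_span ⟨i, rfl⟩)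
    | zero =>
      rw [TensorProduct.tmul_zero]
      exact Submodule.zero_mem _
    | add y z _ _ hy hz =>
      rw [TensorProduct.tmul_add]
      exact Submodule.add_mem _ hy hz
    | smul r y _ hy =>
      rw [TensorProduct.tmul_smul, ← algebraMap_smul R' r (r' ⊗ₜ[R] y)]
      exact Submodule.smul_mem _ _ hy

/-- Relations among `1 ⊗ x` are the span of the images of the relations among `x`. -/
theorem relSet_baseChange {n : ℕ} (x : Fin n → M) (hx : Submodule.span R (Set.range x) = ⊤) :
    {z' : Fin n → R' | IsRel (fun i => (1 : R') ⊗ₜ[R] x i) z'} =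
      (Submodule.span R' ((fun z : Fin n → R => fun i => algebraMap R R' (z i)) ''
        {z | IsRel x z}) : Set (Fin n → R')) := by
  classical
  apply Set.Subset.antisymm
  · intro z' hz'
    have hz'' : ∑ i, z' i ⊗ₜ[R] x i = 0 := by
      have h0 : IsRel (fun i => (1 : R') ⊗ₜ[R] x i) z' := hz'
      unfold IsRel at h0
      rw [← h0]
      refine Finset.sum_congr rfl (fun i _ => ?_)
      rw [TensorProduct.smul_tmul', smul_eq_mul, mul_one]
    let π := Fintype.linearCombination R x
    have hsurj : Function.Surjective π := by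
      rw [← LinearMap.range_eq_top, Fintype.range_linearCombination, hx]
    have hex : Function.Exact (LinearMap.ker π).subtype π := by
      intro v
      rw [← LinearMap.mem_ker]
      simp
    have hex' := lTensor_exact R' hex hsurj
    let t : R' ⊗[R] (Fin n → R) := ∑ i, z' i ⊗ₜ[R] (Pi.single i (1 : R))
    have ht : (π.lTensor R') t = 0 := by
      simp only [t, map_sum, LinearMap.lTensor_tmul]
      rw [← hz'']
      refine Finset.sum_congr rfl (fun i _ => ?_)
      simp [π, Fintype.linearCombination_apply_single]
    obtain ⟨s, hs⟩ := (hex' t).mp ht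
    let φL : (Fin n → R) →ₗ[R] (Fin n → R') := (Algebra.linearMap R R').compLeft (Fin n)
    let Ψ : R' ⊗[R] (Fin n → R) →ₗ[R'] (Fin n → R') := LinearMap.liftBaseChange R' φL
    have hΨt : Ψ t = z' := by
      simp only [t, map_sum, Ψ, LinearMap.liftBaseChange_tmul]
      funext j
      simp [φL, Finset.sum_apply, Pi.single_apply]
    have hΨs : ∀ s : R' ⊗[R] (LinearMap.ker π), Ψ (((LinearMap.ker π).subtype.lTensor R') s) ∈
        Submodule.span R' ((fun z : Fin n → R => fun i => algebraMap R R' (z i)) ''
          {z | IsRel x z}) := by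
      intro s
      induction s using TensorProduct.induction_on with
      | zero => simp
      | add a b ha hb =>
        rw [map_add, map_add]
        exact Submodule.add_mem _ ha hb
      | tmul r' k =>
        rw [LinearMap.lTensor_tmul, LinearMap.liftBaseChange_tmul]
        refine Submodule.smul_mem _ _ (Submodule.subset_span ⟨k.1, ?_, rfl⟩)
        have hk := k.2
        rw [LinearMap.mem_ker, Fintype.linearCombination_apply] at hk
        exact hk
    rw [← hΨt, ← hs]
    exact hΨs s
  · intro z' hz'
    refine Submodule.span_induction (p := fun z' _ => IsRel (fun i => (1 : R') ⊗ₜ[R] x i) z')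
      ?_ ?_ ?_ ?_ hz'
    · rintro _ ⟨z, hz, rfl⟩
      unfold IsRel at hz ⊢
      have : ∀ i, algebraMap R R' (z i) • ((1 : R') ⊗ₜ[R] x i) = (1 : R') ⊗ₜ[R] (z i • x i) := by
        intro i
        rw [algebraMap_smul, TensorProduct.tmul_smul]
      simp only [this]
      rw [← TensorProduct.tmul_sum, hz, TensorProduct.tmul_zero]
    · unfold IsRel
      simp
    · intro a b _ _ ha hb
      unfold IsRel at ha hb ⊢
      simp only [Pi.add_apply, add_smul, Finset.sum_add_distrib, ha, hb, add_zero]
    · intro r a _ ha
      unfold IsRel at ha ⊢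
      simp only [Pi.smul_apply, smul_eq_mul, mul_smul]
      rw [← Finset.smul_sum, ha, smul_zero]

/-- Fitting ideals commute with base change. -/
theorem fittIdeal_baseChange [Module.Finite R M] (k : ℕ) :
    Fitt.ideal R' (R' ⊗[R] M) k = (Fitt.ideal R M k).map (algebraMap R R') := by
  obtain ⟨n, x, hx⟩ := Module.Finite.exists_fin (R := R) (M := M)
  rw [fittIdeal_eq_minorsIdeal (fun i => (1 : R') ⊗ₜ[R] x i) (span_one_tmul_eq_top R' x hx) k,
    fittIdeal_eq_minorsIdeal x hx k, relSet_baseChange R' x hx, minorsIdeal_span,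
    minorsIdeal_image_map]

end Groth.Agent.H34.Fit
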