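import Mathlib
import Groth.Prelude.Def_Fitting

set_option autoImplicit false
universe u v

namespace Groth.Agent.H34.Fit

open Matrix

variable {R : Type u} [CommRing R] {M : Type v} [AddCommGroup M] [Module R M]

/-- `z` is a relation among the tuple `x`. -/
def IsRel {ι : Type*} [Fintype ι] (x : ι → M) (z : ι → R) : Prop := ∑ i, z i • x i = 0

variable (R) in
/-- Symmetric "big determinant" ideal of a tuple: generated by the determinants of square
matrices all of whose rows, except at most `k`, are relations among the tuple. -/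
def D {ι : Type*} [Fintype ι] [DecidableEq ι] (x : ι → M) (k : ℕ) : Ideal R :=
  Ideal.span {d | ∃ (a : Matrix ι ι R) (S : Finset ι), S.card ≤ k ∧
    (∀ i, i ∉ S → IsRel x (a i)) ∧ d = a.det}

theorem D_comp_equiv_le {ι ι' : Type*} [Fintype ι] [DecidableEq ι] [Fintype ι'] [DecidableEq ι']
    (x : ι → M) (e : ι' ≃ ι) (k : ℕ) : D R (x ∘ e) k ≤ D R x k := by
  apply Ideal.span_le.mpr
  rintro d ⟨a, S, hS, hrel, rfl⟩
  apply Ideal.subset_span
  refine ⟨a.submatrix e.symm e.symm, S.map e.toEmbedding, by simpa using hS, ?_,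
    (Matrix.det_submatrix_equiv_self e.symm a).symm⟩
  intro i hi
  have hi' : e.symm i ∉ S := by
    intro h
    apply hi
    rw [Finset.mem_map]
    exact ⟨e.symm i, h, by simp⟩
  have h := hrel _ hi'
  unfold IsRel at h ⊢
  rw [← Equiv.sum_comp e]
  simpa using h

theorem D_comp_equiv {ι ι' : Type*} [Fintype ι] [DecidableEq ι] [Fintype ι'] [DecidableEq ι']
    (x : ι → M) (e : ι' ≃ ι) (k : ℕ) : D R (x ∘ e) k = D R x k := by
  apply le_antisymm (D_comp_equiv_le (R := R) x e k)
  have h := D_comp_equiv_le (R := R) (x ∘ e) e.symm k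
  have h2 : (x ∘ e) ∘ e.symm = x := by
    funext i
    simp
  rwa [h2] at h

theorem D_le_sumElim {ι κ : Type*} [Fintype ι] [DecidableEq ι] [Fintype κ] [DecidableEq κ]
    (w : ι → M) (hw : Submodule.span R (Set.range w) = ⊤) (y : κ → M) (k : ℕ) :
    D R w k ≤ D R (Sum.elim w y) k := by
  have hC : ∀ j, ∃ c : ι → R, ∑ i, c i • w i = y j := fun j => by
    have h1 : y j ∈ Submodule.span R (Set.range w) := by rw [hw]; trivial
    exact (Submodule.mem_span_range_iff_exists_fun R).mp h1
  choose C hC using hC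
  apply Ideal.span_le.mpr
  rintro d ⟨a, S, hS, hrel, rfl⟩
  apply Ideal.subset_span
  refine ⟨Matrix.fromBlocks a 0 (-(Matrix.of C)) 1, S.map Function.Embedding.inl,
    by simpa using hS, ?_, ?_⟩
  · rintro (i | j) hi
    · have hi' : i ∉ S := by
        intro h
        apply hi
        rw [Finset.mem_map]
        exact ⟨i, h, rfl⟩
      have h := hrel i hi'
      unfold IsRel at h ⊢
      rw [Fintype.sum_sum_type]
      simpa using h
    · unfold IsRel
      rw [Fintype.sum_sum_type]
      simp [hC j, Matrix.one_apply]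
  · rw [Matrix.det_fromBlocks_zero₁₂, Matrix.det_one, mul_one]

theorem D_snoc_le {N : ℕ} (w : Fin N → M) (hw : Submodule.span R (Set.range w) = ⊤) (v : M)
    (k : ℕ) : D R (Fin.snoc w v : Fin (N + 1) → M) k ≤ D R w k := by
  obtain ⟨c, hc⟩ := (Submodule.mem_span_range_iff_exists_fun R).mp
    (show v ∈ Submodule.span R (Set.range w) by rw [hw]; trivial)
  apply Ideal.span_le.mpr
  rintro d ⟨A, S, hS, hrel, rfl⟩
  let c' : Fin (N + 1) → R := Fin.snoc c 0
  let A' : Matrix (Fin (N + 1)) (Fin (N + 1)) R :=
    Matrix.of fun i j => A i j + c' j * A i (Fin.last N)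
  have hdet : A'.det = A.det := by
    rw [← Matrix.det_transpose A', ← Matrix.det_transpose A]
    refine Matrix.det_eq_of_forall_row_eq_smul_add_const c' (Fin.last N) (by simp [c']) ?_
    intro i j
    simp [A', Matrix.transpose_apply]
  rw [SetLike.mem_coe, ← hdet, Matrix.det_succ_column A' (Fin.last N)]
  refine Ideal.sum_mem _ (fun i _ => Ideal.mul_mem_left _ _ ?_)
  apply Ideal.subset_span
  refine ⟨A'.submatrix i.succAbove (Fin.last N).succAbove,
    Finset.univ.filter (fun i' => i.succAbove i' ∈ S), ?_, ?_, rfl⟩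
  · calc (Finset.univ.filter (fun i' => i.succAbove i' ∈ S)).card ≤ S.card :=
          Finset.card_le_card_of_injOn i.succAbove (fun i' hi' => by simpa using hi')
            (Fin.succAbove_right_injective.injOn)
      _ ≤ k := hS
  · intro i' hi'
    have hi'' : i.succAbove i' ∉ S := by simpa using hi'
    have h := hrel _ hi''
    unfold IsRel at h ⊢
    rw [Fin.sum_univ_castSucc] at h
    simp only [Fin.snoc_castSucc, Fin.snoc_last] at h
    simp only [Matrix.submatrix_apply, Fin.succAbove_last, A', Matrix.of_apply, c',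
      Fin.snoc_castSucc]
    rw [← h, ← hc]
    simp only [add_smul, Finset.sum_add_distrib, Finset.smul_sum, mul_smul]
    congr 1
    exact Finset.sum_congr rfl (fun j _ => smul_comm _ _ _)

theorem span_append_eq_top {N m : ℕ} (w : Fin N → M) (hw : Submodule.span R (Set.range w) = ⊤)
    (y : Fin m → M) : Submodule.span R (Set.range (Fin.append w y)) = ⊤ := by
  rw [eq_top_iff, ← hw]
  apply Submodule.span_mono
  rintro _ ⟨i, rfl⟩
  exact ⟨Fin.castAdd m i, Fin.append_left w y i⟩

theorem D_append_le {N : ℕ} (w : Fin N → M) (hw : Submodule.span R (Set.range w) = ⊤) (k : ℕ) :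
    ∀ (m : ℕ) (y : Fin m → M), D R (Fin.append w y) k ≤ D R w k := by
  intro m
  induction m with
  | zero =>
    intro y
    have hy : y = Fin.elim0 := Subsingleton.elim _ _
    subst hy
    rw [Fin.append_elim0]
    exact D_comp_equiv_le (R := R) w (finCongr (Nat.add_zero N)) k
  | succ m ih =>
    intro y
    rw [← Fin.snoc_init_self y, Fin.append_snoc]
    exact (D_snoc_le (R := R) (Fin.append w (Fin.init y)) (span_append_eq_top w hw _) _ k).trans
      (ih (Fin.init y))

/-- Independence of the generating tuple. -/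
theorem D_indep {n n' : ℕ} (x : Fin n → M) (hx : Submodule.span R (Set.range x) = ⊤)
    (y : Fin n' → M) (hy : Submodule.span R (Set.range y) = ⊤) (k : ℕ) :
    D R y k ≤ D R x k := by
  calc D R y k ≤ D R (Sum.elim y x) k := D_le_sumElim y hy x k
    _ = D R (Sum.elim x y ∘ (Equiv.sumComm (Fin n') (Fin n))) k := by
        congr 1
        funext s
        cases s <;> rfl
    _ = D R (Sum.elim x y) k := D_comp_equiv _ _ k
    _ = D R (Fin.append x y ∘ (finSumFinEquiv : Fin n ⊕ Fin n' ≃ Fin (n + n'))) k := by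
        congr 1
        funext s
        cases s <;> simp
    _ = D R (Fin.append x y) k := D_comp_equiv _ _ k
    _ ≤ D R x k := D_append_le x hx k n' y

/-- The ideal generated by the `p × p` minors of vectors from `Z`. -/
def minorsIdeal {κ : Type*} (Z : Set (κ → R)) (p : ℕ) : Ideal R :=
  Ideal.span {d | ∃ (z : Fin p → κ → R) (e : Fin p → κ), (∀ b, z b ∈ Z) ∧
    d = (Matrix.of fun a b => z b (e a)).det}

/-- Iterated Laplace expansion. -/
theorem det_mem_minorsIdeal {κ : Type*} (Z : Set (κ → R)) :
    ∀ (t m : ℕ) (v : Fin m → κ → R) (col : Fin m → κ) (S : Finset (Fin m)), S.card ≤ t → t ≤ m →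
      (∀ i, i ∉ S → v i ∈ Z) → (Matrix.of fun i j => v i (col j)).det ∈ minorsIdeal Z (m - t) := by
  intro t
  induction t with
  | zero =>
    intro m v col S hS _ hZ
    have hS' : S = ∅ := Finset.card_eq_zero.mp (Nat.le_zero.mp hS)
    apply Ideal.subset_span
    refine ⟨v, col, fun b => hZ b (by simp [hS']), ?_⟩
    rw [← Matrix.det_transpose]
    rfl
  | succ t ih =>
    intro m v col S hS htm hZ
    obtain ⟨m', rfl⟩ : ∃ m', m = m' + 1 := ⟨m - 1, by omega⟩
    obtain ⟨i₀, hi₀⟩ : ∃ i₀ : Fin (m' + 1), (S.erase i₀).card ≤ t := by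
      by_cases hne : S.Nonempty
      · obtain ⟨i₀, hi₀⟩ := hne
        exact ⟨i₀, by rw [Finset.card_erase_of_mem hi₀]; omega⟩
      · rw [Finset.not_nonempty_iff_eq_empty] at hne
        exact ⟨0, by simp [hne]⟩
    rw [Matrix.det_succ_row _ i₀]
    have hsub : m' + 1 - (t + 1) = m' - t := Nat.add_sub_add_right m' 1 t
    rw [hsub]
    refine Ideal.sum_mem _ (fun j _ => Ideal.mul_mem_left _ _ ?_)
    have h := ih m' (v ∘ i₀.succAbove) (col ∘ j.succAbove)
      (Finset.univ.filter (fun i' => i₀.succAbove i' ∈ S)) ?_ (by omega) ?_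
    · exact h
    · calc (Finset.univ.filter (fun i' => i₀.succAbove i' ∈ S)).card
          = ((Finset.univ.filter (fun i' => i₀.succAbove i' ∈ S)).image i₀.succAbove).card :=
            (Finset.card_image_of_injective _ Fin.succAbove_right_injective).symm
        _ ≤ (S.erase i₀).card := Finset.card_le_card (by
            intro x hx
            simp only [Finset.mem_image, Finset.mem_filter, Finset.mem_univ, true_and] at hx
            obtain ⟨i', hi', rfl⟩ := hx
            exact Finset.mem_erase.mpr ⟨Fin.succAbove_ne i₀ i', hi'⟩)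
        _ ≤ t := hi₀
    · intro i' hi'
      exact hZ _ (by simpa using hi')

theorem minorsIdeal_zero {κ : Type*} (Z : Set (κ → R)) : minorsIdeal Z 0 = ⊤ := by
  rw [Ideal.eq_top_iff_one]
  apply Ideal.subset_span
  exact ⟨fun b => b.elim0, fun b => b.elim0, fun b => b.elim0, by simp⟩

theorem D_le_minorsIdeal {n : ℕ} (x : Fin n → M) (k : ℕ) :
    D R x k ≤ minorsIdeal {z | IsRel x z} (n - k) := by
  apply Ideal.span_le.mpr
  rintro d ⟨a, S, hS, hrel, rfl⟩
  by_cases hk : k ≤ n
  · exact det_mem_minorsIdeal {z | IsRel x z} k n a id S hS hk hrel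
  · have h0 : n - k = 0 := by omega
    rw [h0, minorsIdeal_zero]
    trivial

theorem minorsIdeal_le_D {n : ℕ} (x : Fin n → M) (k : ℕ) :
    minorsIdeal {z | IsRel x z} (n - k) ≤ D R x k := by
  classical
  apply Ideal.span_le.mpr
  rintro d ⟨z, e, hz, rfl⟩
  by_cases he : Function.Injective e
  · let ε' : Fin (n - k) ⊕ {c : Fin n // c ∉ Set.range e} → Fin n := Sum.elim e Subtype.val
    have hε' : Function.Bijective ε' := by
      constructor
      · rintro (a | c) (a' | c') h
        · exact congrArg Sum.inl (he h)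
        · exact absurd ⟨a, h⟩ c'.2
        · exact absurd ⟨a', h.symm⟩ c.2
        · exact congrArg Sum.inr (Subtype.ext h)
      · intro i
        by_cases hi : i ∈ Set.range e
        · obtain ⟨a, rfl⟩ := hi
          exact ⟨Sum.inl a, rfl⟩
        · exact ⟨Sum.inr ⟨i, hi⟩, rfl⟩
    let ε : Fin (n - k) ⊕ {c : Fin n // c ∉ Set.range e} ≃ Fin n := Equiv.ofBijective ε' hε'
    have hcard : Fintype.card {c : Fin n // c ∉ Set.range e} ≤ k := by
      have h1 := Fintype.card_congr ε
      rw [Fintype.card_sum, Fintype.card_fin, Fintype.card_fin] at h1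
      omega
    rw [SetLike.mem_coe, ← D_comp_equiv (R := R) x ε k]
    apply Ideal.subset_span
    refine ⟨Matrix.fromBlocks (Matrix.of fun b a => z b (e a)) (Matrix.of fun b c => z b c.val) 0 1,
      Finset.univ.map ⟨Sum.inr, Sum.inr_injective⟩, ?_, ?_, ?_⟩
    · rw [Finset.card_map, Finset.card_univ]
      exact hcard
    · rintro (b | c) hi
      · unfold IsRel
        have h1 : ∀ s : Fin (n - k) ⊕ {c : Fin n // c ∉ Set.range e},
            (Matrix.fromBlocks (Matrix.of fun b a => z b (e a))
              (Matrix.of fun b (c : {c : Fin n // c ∉ Set.range e}) => z b c.val)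
              (0 : Matrix {c : Fin n // c ∉ Set.range e} (Fin (n - k)) R)
              (1 : Matrix {c : Fin n // c ∉ Set.range e} {c : Fin n // c ∉ Set.range e} R))
              (Sum.inl b) s = z b (ε s) := by
          rintro (a | c) <;> rfl
        simp only [h1, Function.comp]
        rw [Equiv.sum_comp ε (fun i => z b i • x i)]
        exact hz b
      · exact absurd (by simp) hi
    · rw [Matrix.det_fromBlocks_zero₂₁, Matrix.det_one, mul_one, ← Matrix.det_transpose]
      rfl
  · obtain ⟨a, a', hne, heq⟩ : ∃ a a', a ≠ a' ∧ e a = e a' := by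
      simp only [Function.Injective, not_forall] at he
      obtain ⟨a, a', h1, h2⟩ := he
      exact ⟨a, a', h2, h1⟩
    have h0 : (Matrix.of fun a b => z b (e a)).det = 0 :=
      Matrix.det_zero_of_row_eq hne (by funext b; simp [heq])
    rw [SetLike.mem_coe, h0]
    exact Ideal.zero_mem _

theorem exists_perm_avoiding {n : ℕ} (S : Finset (Fin n)) (k : ℕ) (hS : S.card ≤ k) :
    ∃ τ : Equiv.Perm (Fin n), ∀ i : Fin n, (i : ℕ) < n - k → τ i ∉ S := by
  classical
  have hc1 : Fintype.card {i : Fin n // (i : ℕ) < n - k} ≤ n - k := by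
    have := Fintype.card_le_of_injective
      (fun i : {i : Fin n // (i : ℕ) < n - k} => (⟨i.1, i.2⟩ : Fin (n - k)))
      (fun i j h => Subtype.ext (Fin.ext (by simpa using congrArg Fin.val h)))
    simpa using this
  have hc2 : n - k ≤ Fintype.card {j : Fin n // j ∉ S} := by
    rw [Fintype.card_subtype_compl]
    simp only [Fintype.card_fin, Fintype.card_coe]
    omega
  obtain ⟨f⟩ : Nonempty ({i : Fin n // (i : ℕ) < n - k} ↪ {j : Fin n // j ∉ S}) :=
    Function.Embedding.nonempty_of_card_le (hc1.trans hc2)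
  let g : {i : Fin n // (i : ℕ) < n - k} → Fin n := fun i => (f i).val
  have hg : Function.Injective g := fun i j h => f.injective (Subtype.ext h)
  let e : {i : Fin n // (i : ℕ) < n - k} ≃ {j : Fin n // j ∈ Set.range g} := Equiv.ofInjective g hg
  refine ⟨e.extendSubtype, fun i hi => ?_⟩
  rw [Equiv.extendSubtype_apply_of_mem e i hi]
  exact (f ⟨i, hi⟩).2

theorem D_le_fittIdeal {n : ℕ} (x : Fin n → M) (hx : Submodule.span R (Set.range x) = ⊤) (k : ℕ) :
    D R x k ≤ Fitt.ideal R M k := by
  classical
  apply Ideal.span_le.mpr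
  rintro d ⟨a, S, hS, hrel, rfl⟩
  obtain ⟨τ, hτ⟩ := exists_perm_avoiding S k hS
  apply Ideal.subset_span
  refine ⟨n, x ∘ τ, a.submatrix τ τ, ?_, ?_, (Matrix.det_submatrix_equiv_self τ a).symm⟩
  · rw [τ.surjective.range_comp]
    exact hx
  · intro i hi
    have h := hrel (τ i) (hτ i hi)
    unfold IsRel at h
    rw [← Equiv.sum_comp τ] at h
    simpa using h

theorem fittIdeal_le_D {n : ℕ} (x : Fin n → M) (hx : Submodule.span R (Set.range x) = ⊤) (k : ℕ) :
    Fitt.ideal R M k ≤ D R x k := by
  classical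
  apply Ideal.span_le.mpr
  rintro d ⟨n', y, a, hy, hrel, rfl⟩
  have h1 : a.det ∈ D R y k := by
    apply Ideal.subset_span
    refine ⟨a, Finset.univ.filter (fun i : Fin n' => ¬ (i : ℕ) < n' - k), ?_, ?_, rfl⟩
    · refine (Finset.card_le_card_of_injOn (fun i : Fin n' => (i : ℕ) - (n' - k)) ?_ ?_).trans
        (Finset.card_range k).le
      · intro i hi
        rw [Finset.mem_coe, Finset.mem_filter] at hi
        rw [Finset.mem_coe, Finset.mem_range]
        show (i : ℕ) - (n' - k) < k
        have := i.isLt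
        omega
      · intro i hi j hj h
        rw [Finset.mem_coe, Finset.mem_filter] at hi hj
        apply Fin.ext
        have h' : (i : ℕ) - (n' - k) = (j : ℕ) - (n' - k) := h
        omega
    · intro i hi
      have hi' : (i : ℕ) < n' - k := by
        by_contra hcon
        apply hi
        rw [Finset.mem_filter]
        exact ⟨Finset.mem_univ _, hcon⟩
      exact hrel i hi'
  exact D_indep x hx y hy k h1

/-- The Fitting ideal is computed by the minors of the relations among any generating tuple. -/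
theorem fittIdeal_eq_minorsIdeal {n : ℕ} (x : Fin n → M)
    (hx : Submodule.span R (Set.range x) = ⊤) (k : ℕ) :
    Fitt.ideal R M k = minorsIdeal {z | IsRel x z} (n - k) :=
  le_antisymm ((fittIdeal_le_D x hx k).trans (D_le_minorsIdeal x k))
    ((minorsIdeal_le_D x k).trans (D_le_fittIdeal x hx k))

theorem fittIdeal_eq_D {n : ℕ} (x : Fin n → M)
    (hx : Submodule.span R (Set.range x) = ⊤) (k : ℕ) :
    Fitt.ideal R M k = D R x k :=
  le_antisymm (fittIdeal_le_D x hx k) (D_le_fittIdeal x hx k)

end Groth.Agent.H34.Fit
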