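import Groth.Agent.H34.Fitting6

set_option autoImplicit false
universe u v w

namespace Groth.Agent.H34.Fit

open Matrix TensorProduct

variable {R : Type u} [CommRing R] {M : Type v} [AddCommGroup M] [Module R M]

/-- Fitting ideals of a localized module. -/
theorem fittIdeal_localizedModule [Module.Finite R M] (S : Submonoid R) (k : ℕ) :
    Fitt.ideal (Localization S) (LocalizedModule S M) k =
      (Fitt.ideal R M k).map (algebraMap R (Localization S)) := by
  rw [← fittIdeal_baseChange (Localization S) k]
  apply le_antisymm
  · exact fittIdeal_le_of_surjective (LocalizedModule.equivTensorProduct S M).toLinearMap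
      (LocalizedModule.equivTensorProduct S M).surjective k
  · exact fittIdeal_le_of_surjective (LocalizedModule.equivTensorProduct S M).symm.toLinearMap
      (LocalizedModule.equivTensorProduct S M).symm.surjective k

/-- Low Fitting ideals of a free module vanish. -/
theorem fittIdeal_eq_bot_of_basis {n : ℕ} (b : Module.Basis (Fin n) R M) {k : ℕ} (hk : k < n) :
    Fitt.ideal R M k = ⊥ := by
  classical
  have hb : Submodule.span R (Set.range (fun i => b i)) = ⊤ := b.span_eq
  rw [eq_bot_iff, fittIdeal_eq_minorsIdeal (fun i => b i) hb k]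
  apply Ideal.span_le.mpr
  rintro d ⟨z, e, hz, rfl⟩
  have hz0 : ∀ b', z b' = 0 := fun b' => by
    funext i
    exact Fintype.linearIndependent_iff.mp b.linearIndependent (z b') (hz b') i
  have : Nonempty (Fin (n - k)) := ⟨⟨0, by omega⟩⟩
  have h0 : (Matrix.of fun a b' => z b' (e a)) = 0 := by
    ext a b'
    simp [hz0 b']
  rw [h0, Matrix.det_zero]
  exact Ideal.zero_mem _

/-- If `r` elements generate and the Fitting ideals below `r` vanish, the generators are
linearly independent. -/
theorem linearIndependent_of_fittIdeal_eq_bot {r : ℕ} (g : Fin r → M)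
    (hg : Submodule.span R (Set.range g) = ⊤) (h : ∀ k, k < r → Fitt.ideal R M k = ⊥) :
    LinearIndependent R g := by
  classical
  rw [Fintype.linearIndependent_iff]
  intro z hz i
  have hr : 0 < r := i.pos
  have h1 := h (r - 1) (by omega)
  rw [fittIdeal_eq_minorsIdeal g hg (r - 1)] at h1
  have hq : r - (r - 1) = 1 := by omega
  have h2 : z i ∈ minorsIdeal {z | IsRel g z} (r - (r - 1)) := by
    apply Ideal.subset_span
    refine ⟨fun _ => z, fun _ => i, fun _ => hz, ?_⟩
    rw [Matrix.det_eq_elem_of_card_eq_one (by rw [Fintype.card_fin]; exact hq) ⟨0, by omega⟩]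
    rfl
  rw [h1] at h2
  exact (Submodule.mem_bot R).mp h2

theorem nontrivial_away_of_notMem (p : Ideal R) [p.IsPrime] (f : R) (hf : f ∉ p) :
    Nontrivial (Localization.Away f) := by
  rw [← not_subsingleton_iff_nontrivial]
  intro hsub
  have h01 : algebraMap R (Localization.Away f) 1 = 0 := Subsingleton.elim _ _
  obtain ⟨⟨c, N, rfl⟩, hc⟩ := (IsLocalization.map_eq_zero_iff (Submonoid.powers f)
    (Localization.Away f) 1).mp h01
  rw [mul_one] at hc
  have hc' : f ^ N = 0 := hc
  exact hf (Ideal.IsPrime.mem_of_pow_mem inferInstance N (hc' ▸ p.zero_mem))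

/-- Locally free of rank `r` in terms of Fitting ideals. -/
theorem locallyFree_iff_fittIdeal [Module.Finite R M] (r : ℕ) :
    (∀ (p : Ideal R) [p.IsPrime], ∃ f : R, f ∉ p ∧
      Module.Free (Localization.Away f) (LocalizedModule (Submonoid.powers f) M) ∧
        Module.finrank (Localization.Away f) (LocalizedModule (Submonoid.powers f) M) = r) ↔
    ((∀ k, k < r → Fitt.ideal R M k = ⊥) ∧ (∀ k, r ≤ k → Fitt.ideal R M k = ⊤)) := by
  classical
  constructor
  · intro H
    constructor
    · intro k hk
      rw [eq_bot_iff]
      intro d hd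
      rw [Ideal.mem_bot]
      by_contra hd0
      let I : Ideal R := LinearMap.ker (LinearMap.toSpanSingleton R R d)
      have hI : I ≠ ⊤ := by
        intro hI
        have h1 : (1 : R) ∈ I := by rw [hI]; trivial
        rw [LinearMap.mem_ker, LinearMap.toSpanSingleton_apply, one_smul] at h1
        exact hd0 h1
      obtain ⟨m, hm, hIm⟩ := Ideal.exists_le_maximal I hI
      have := hm.isPrime
      obtain ⟨f, hf, hfree, hrank⟩ := H m
      have := nontrivial_away_of_notMem m f hf
      let b := Module.finBasisOfFinrankEq (Localization.Away f)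
        (LocalizedModule (Submonoid.powers f) M) hrank
      have h2 := fittIdeal_eq_bot_of_basis b hk
      rw [fittIdeal_localizedModule] at h2
      have h3 : algebraMap R (Localization.Away f) d = 0 := by
        have h4 : algebraMap R (Localization.Away f) d ∈
            (Fitt.ideal R M k).map (algebraMap R (Localization.Away f)) :=
          Ideal.mem_map_of_mem _ hd
        rw [h2] at h4
        exact (Submodule.mem_bot _).mp h4
      obtain ⟨⟨c, N, rfl⟩, hc⟩ := (IsLocalization.map_eq_zero_iff (Submonoid.powers f)
        (Localization.Away f) d).mp h3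
      have hc' : f ^ N * d = 0 := hc
      have h5 : f ^ N ∈ I := by
        rw [LinearMap.mem_ker, LinearMap.toSpanSingleton_apply, smul_eq_mul, hc']
      exact hf (Ideal.IsPrime.mem_of_pow_mem inferInstance N (hIm h5))
    · intro k hk
      by_contra hne
      obtain ⟨m, hm, hIm⟩ := Ideal.exists_le_maximal _ hne
      have := hm.isPrime
      obtain ⟨f, hf, hfree, hrank⟩ := H m
      have := nontrivial_away_of_notMem m f hf
      let b := Module.finBasisOfFinrankEq (Localization.Away f)
        (LocalizedModule (Submonoid.powers f) M) hrank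
      obtain ⟨g, hg⟩ := exists_fin_generators_of_card_le (fun i => b i) b.span_eq k
        (by rw [Fintype.card_fin]; exact hk)
      exact (not_fittIdeal_le_iff_exists_away k m).mpr ⟨f, hf, g, hg⟩ hIm
  · rintro ⟨H1, H2⟩ p hp
    have h1 : ¬ Fitt.ideal R M r ≤ p := by
      rw [H2 r le_rfl, top_le_iff]
      exact hp.ne_top
    obtain ⟨f, hf, g, hg⟩ := (not_fittIdeal_le_iff_exists_away r p).mp h1
    have := nontrivial_away_of_notMem p f hf
    have hli : LinearIndependent (Localization.Away f) g := by
      apply linearIndependent_of_fittIdeal_eq_bot g hg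
      intro k hk
      rw [fittIdeal_localizedModule, H1 k hk, Ideal.map_bot]
    let b := Module.Basis.mk hli hg.ge
    refine ⟨f, hf, Module.Free.of_basis b, ?_⟩
    rw [Module.finrank_eq_card_basis b, Fintype.card_fin]

end Groth.Agent.H34.Fit
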