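import Mathlib
import Groth.Agent.H79.Lattice

set_option autoImplicit false
set_option linter.style.haveILetI false

/-!
# Relative lengths of lattices in a localization, and the order function of a finite subalgebra

For `A`-submodules `N, K` of a module `V`, `rl N K` is the length of `N / (K ∩ N)`.  For a
subalgebra `B` of an `A`-algebra `Q` and `a : Q`, `ordB B a` is the `A`-length of `B / aB`.
When `Q` is a localization of the one-dimensional Noetherian ring `A` at nonzerodivisors, `ordB`
is finite, additive, detects units of `B` and is independent of the finite subalgebra `B ∋ a`.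
-/

namespace Groth.Agent.H34.RelLen

section General

variable {A : Type*} [CommRing A] {V : Type*} [AddCommGroup V] [Module A V]

/-- The length of `N / (K ∩ N)`. -/
noncomputable def rl (N K : Submodule A V) : ℕ∞ := Module.length A (↥N ⧸ K.submoduleOf N)

theorem rl_add {K N P : Submodule A V} (h1 : K ≤ N) (h2 : N ≤ P) :
    rl P K = rl N K + rl P N :=
  Groth.Agent.H79.Lattice.length_add K N P h1 h2

theorem rl_eq_zero_iff {N K : Submodule A V} : rl N K = 0 ↔ N ≤ K := by
  unfold rl
  rw [Module.length_eq_zero_iff, Submodule.Quotient.subsingleton_iff, Submodule.submoduleOf,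
    Submodule.comap_subtype_eq_top]

theorem rl_map (f : V →ₗ[A] V) (hf : Function.Injective f) (N K : Submodule A V) :
    rl (N.map f) (K.map f) = rl N K := by
  unfold rl
  symm
  apply LinearEquiv.length_eq
  refine Submodule.Quotient.equiv _ _ (Submodule.equivMapOfInjective f hf N) ?_
  ext ⟨y, hy⟩
  constructor
  · rintro ⟨x, hx, hxy⟩
    have h1 : f x.1 = y := congrArg Subtype.val hxy
    exact ⟨x.1, hx, h1⟩
  · rintro ⟨k, hk, hky⟩
    obtain ⟨n, hn, hny⟩ := hy
    have hnk : n = k := hf (hny.trans hky.symm)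
    subst hnk
    exact ⟨⟨n, hn⟩, hk, Subtype.ext hky⟩

theorem rl_ne_top [IsNoetherianRing A] [Ring.KrullDimLE 1 A] (N K : Submodule A V) (hN : N.FG)
    (c : A) (hc : c ∈ nonZeroDivisors A) (h : ∀ x ∈ N, c • x ∈ K) : rl N K ≠ ⊤ := by
  unfold rl
  rw [Module.length_ne_top_iff]
  haveI : Module.Finite A ↥N := Module.Finite.iff_fg.2 hN
  apply Groth.Agent.H79.Lattice.isFiniteLength_of_smul_eq_zero c hc
  intro q
  obtain ⟨m, rfl⟩ := Submodule.Quotient.mk_surjective _ q
  rw [← Submodule.Quotient.mk_smul, Submodule.Quotient.mk_eq_zero]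
  exact h m.1 m.2

end General

section Ord

variable {A : Type*} [CommRing A] {Q : Type*} [CommRing Q] [Algebra A Q]

/-- The `A`-length of `B / aB`. -/
noncomputable def ordB (B : Subalgebra A Q) (a : Q) : ℕ∞ :=
  rl (Subalgebra.toSubmodule B) ((Subalgebra.toSubmodule B).map (LinearMap.mulLeft A a))

theorem mulLeft_injective {a : Q} (ha : IsUnit a) : Function.Injective (LinearMap.mulLeft A a) := by
  intro x y hxy
  exact ha.mul_right_injective hxy

theorem map_mulLeft_le {B : Subalgebra A Q} {a : Q} (ha : a ∈ B) :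
    (Subalgebra.toSubmodule B).map (LinearMap.mulLeft A a) ≤ Subalgebra.toSubmodule B := by
  rintro _ ⟨x, hx, rfl⟩
  exact B.mul_mem ha hx

theorem map_mulLeft_mono {B C : Subalgebra A Q} (h : B ≤ C) (a : Q) :
    (Subalgebra.toSubmodule B).map (LinearMap.mulLeft A a) ≤
      (Subalgebra.toSubmodule C).map (LinearMap.mulLeft A a) :=
  Submodule.map_mono h

theorem ordB_eq_zero_iff {B : Subalgebra A Q} {a : Q} :
    ordB B a = 0 ↔ ∃ b ∈ B, a * b = 1 := by
  unfold ordB
  rw [rl_eq_zero_iff]
  constructor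
  · intro h
    obtain ⟨b, hb, hab⟩ := h (B.one_mem)
    exact ⟨b, hb, hab⟩
  · rintro ⟨b, hb, hab⟩ x hx
    refine ⟨b * x, B.mul_mem hb hx, ?_⟩
    show a * (b * x) = x
    rw [← mul_assoc, hab, one_mul]

theorem ordB_mul {B : Subalgebra A Q} {a b : Q} (ha : a ∈ B) (hau : IsUnit a) (hb : b ∈ B) :
    ordB B (a * b) = ordB B a + ordB B b := by
  unfold ordB
  have h1 : (Subalgebra.toSubmodule B).map (LinearMap.mulLeft A (a * b)) =
      ((Subalgebra.toSubmodule B).map (LinearMap.mulLeft A b)).map (LinearMap.mulLeft A a) := by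
    rw [← Submodule.map_comp]
    congr 1
    ext x
    simp [mul_assoc]
  rw [h1, rl_add (Submodule.map_mono (map_mulLeft_le hb)) (map_mulLeft_le ha),
    rl_map _ (mulLeft_injective hau), add_comm]

end Ord

section Loc

variable {A : Type*} [CommRing A] {Q : Type*} [CommRing Q] [Algebra A Q]
  (M : Submonoid A) [IsLocalization M Q]

theorem exists_smul_mem_bot (N : Submodule A Q) (hN : N.FG) :
    ∃ c ∈ M, ∀ x ∈ N, ∃ z : A, algebraMap A Q z = c • x := by
  obtain ⟨sgen, rfl⟩ := hN
  obtain ⟨⟨c, hc⟩, hcs⟩ := IsLocalization.exist_integer_multiples_of_finset M sgen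
  refine ⟨c, hc, ?_⟩
  intro q hq
  induction hq using Submodule.span_induction with
  | mem y hy =>
    obtain ⟨z, hz⟩ := hcs y hy
    exact ⟨z, hz⟩
  | zero => exact ⟨0, by simp⟩
  | add y z _ _ hy hz =>
    obtain ⟨y', hy'⟩ := hy
    obtain ⟨z', hz'⟩ := hz
    exact ⟨y' + z', by rw [map_add, hy', hz', smul_add]⟩
  | smul r y _ hy =>
    obtain ⟨y', hy'⟩ := hy
    exact ⟨r * y', by rw [map_mul, hy', smul_comm, Algebra.smul_def r]⟩

variable [IsNoetherianRing A] [Ring.KrullDimLE 1 A]

include M in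
theorem rl_subalgebra_ne_top (hM : M ≤ nonZeroDivisors A) (B C : Subalgebra A Q)
    (hC : (Subalgebra.toSubmodule C).FG) :
    rl (Subalgebra.toSubmodule C) (Subalgebra.toSubmodule B) ≠ ⊤ := by
  obtain ⟨c, hc, h⟩ := exists_smul_mem_bot M _ hC
  refine rl_ne_top _ _ hC c (hM hc) ?_
  intro x hx
  obtain ⟨z, hz⟩ := h x hx
  rw [← hz]
  exact B.algebraMap_mem z

include M in
theorem ordB_ne_top (hM : M ≤ nonZeroDivisors A) (B : Subalgebra A Q)
    (hB : (Subalgebra.toSubmodule B).FG) {a : Q} (hau : IsUnit a) : ordB B a ≠ ⊤ := by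
  obtain ⟨a', haa'⟩ := hau.exists_right_inv
  obtain ⟨⟨r, s⟩, hrs⟩ := IsLocalization.surj M a'
  refine rl_ne_top _ _ hB (s : A) (hM s.2) ?_
  intro x hx
  refine ⟨algebraMap A Q r * x, B.mul_mem (B.algebraMap_mem r) hx, ?_⟩
  show a * (algebraMap A Q r * x) = (s : A) • x
  rw [← hrs, Algebra.smul_def]
  calc a * (a' * algebraMap A Q (s : A) * x) = (a * a') * (algebraMap A Q (s : A) * x) := by ring
    _ = algebraMap A Q (s : A) * x := by rw [haa', one_mul]

include M in
theorem ordB_eq_of_le (hM : M ≤ nonZeroDivisors A) {B C : Subalgebra A Q} (hBC : B ≤ C)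
    (hC : (Subalgebra.toSubmodule C).FG) {a : Q} (ha : a ∈ B) (hau : IsUnit a) :
    ordB C a = ordB B a := by
  have hfin := rl_subalgebra_ne_top M hM B C hC
  have hBC' : Subalgebra.toSubmodule B ≤ Subalgebra.toSubmodule C := hBC
  have e1 := rl_add (map_mulLeft_le ha) hBC'
  have e2 := rl_add (map_mulLeft_mono hBC a) (map_mulLeft_le (hBC ha))
  rw [rl_map _ (mulLeft_injective hau)] at e2
  rw [e1] at e2
  unfold ordB
  have e3 : rl (Subalgebra.toSubmodule C) (Subalgebra.toSubmodule B) +
      rl (Subalgebra.toSubmodule B) ((Subalgebra.toSubmodule B).map (LinearMap.mulLeft A a)) =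
      rl (Subalgebra.toSubmodule C) (Subalgebra.toSubmodule B) +
      rl (Subalgebra.toSubmodule C) ((Subalgebra.toSubmodule C).map (LinearMap.mulLeft A a)) := by
    rw [add_comm, e2]
  exact (ENat.add_right_injective_of_ne_top hfin e3).symm

end Loc

end Groth.Agent.H34.RelLen
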