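import Groth.Agent.H29.CM4
import Groth.Agent.H71.SkSupport
import Groth.Agent.H15.FlatLoc
import Mathlib.RingTheory.Ideal.Height
import Mathlib.RingTheory.KrullDimension.Basic

/-! Saturated chains of primes in the support of a Cohen–Macaulay module (helper34). -/

set_option autoImplicit false
universe u
open IsLocalRing

namespace Groth.Agent.H34.CMChain

theorem supportDim_eq_of_support_eq_univ {R : Type u} [CommRing R] {M : Type u} [AddCommGroup M]
    [Module R M] (h : Module.support R M = Set.univ) : Module.supportDim R M = ringKrullDim R := by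
  unfold Module.supportDim ringKrullDim
  rw [h]
  exact Order.krullDim_eq_of_orderIso (OrderIso.Set.univ)

theorem support_localized_eq_univ {R : Type u} [CommRing R] {M : Type u} [AddCommGroup M]
    [Module R M] (h : Module.support R M = Set.univ) (q : Ideal R) [q.IsPrime] :
    Module.support (Localization.AtPrime q) (LocalizedModule q.primeCompl M) = Set.univ := by
  rw [Set.eq_univ_iff_forall]
  intro Q
  rw [Groth.Agent.H71.SK.mem_support_localizedModule_iff, h]
  exact Set.mem_univ _

section Local

variable {A : Type u} [CommRing A] [IsLocalRing A] [IsNoetherianRing A] {N : Type u}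
  [AddCommGroup N] [Module A N] [Module.Finite A N]

/-- `ht P + dim A/P = dim A` for a CM module with full support. -/
theorem height_add_dim (hN : LocCoh.IsCohenMacaulayModule A N)
    (hsupp : Module.support A N = Set.univ) (P : Ideal A) [hP : P.IsPrime] :
    ringKrullDim (A ⧸ P) + (P.height : WithBot ℕ∞) = ringKrullDim A := by
  have hPs : (⟨P, hP⟩ : PrimeSpectrum A) ∈ Module.support A N := by rw [hsupp]; exact Set.mem_univ _
  obtain ⟨r, h1, h2, -⟩ := Groth.Agent.H29.CM.isCM_atPrime_aux hN ⟨P, hP⟩ hPs
  have h3 := Groth.Agent.H29.CM.supportDim_quotient_prime_smul_top (M := N) ⟨P, hP⟩ hPs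
  have h4 := supportDim_eq_of_support_eq_univ hsupp
  have h5 := supportDim_eq_of_support_eq_univ (support_localized_eq_univ hsupp P)
  have h6 := IsLocalization.AtPrime.ringKrullDim_eq_height P (Localization.AtPrime P)
  simp only at h1 h2 h3
  rw [h3, h4] at h1
  rw [h5, h6] at h2
  rw [h2]
  exact h1

/-- localization of a CM module with full support is CM. -/
theorem isCM_localized (hN : LocCoh.IsCohenMacaulayModule A N)
    (hsupp : Module.support A N = Set.univ) (q : Ideal A) [hq : q.IsPrime] :
    LocCoh.IsCohenMacaulayModule (Localization.AtPrime q) (LocalizedModule q.primeCompl N) := by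
  have hqs : (⟨q, hq⟩ : PrimeSpectrum A) ∈ Module.support A N := by rw [hsupp]; exact Set.mem_univ _
  obtain ⟨r, -, h2, h3⟩ := Groth.Agent.H29.CM.isCM_atPrime_aux hN ⟨q, hq⟩ hqs
  simp only at h2 h3
  rw [Groth.Agent.H29.CM.isCM_def, h2, h3]

omit [IsLocalRing A] [IsNoetherianRing A] in
/-- dimension of `A_q / pA_q` is at most one when `p ⋖ q`. -/
theorem dim_le_one_of_covBy (p q : Ideal A) [hp : p.IsPrime] [hq : q.IsPrime] (hpq : p < q)
    (hcov : ∀ c : Ideal A, c.IsPrime → p < c → c ≤ q → c = q) :
    ringKrullDim (Localization.AtPrime q ⧸ p.map (algebraMap A (Localization.AtPrime q))) ≤ 1 := by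
  have hdisj : Disjoint (q.primeCompl : Set A) (p : Set A) := by
    rw [Set.disjoint_left]
    intro x hx hxp
    exact hx (hpq.le hxp)
  have hPprime : (p.map (algebraMap A (Localization.AtPrime q))).IsPrime :=
    IsLocalization.isPrime_of_isPrime_disjoint q.primeCompl _ p hp hdisj
  have hcomapP : (p.map (algebraMap A (Localization.AtPrime q))).comap
      (algebraMap A (Localization.AtPrime q)) = p :=
    IsLocalization.under_map_of_isPrime_disjoint q.primeCompl _ hp hdisj
  have : Ring.KrullDimLE 1
      (Localization.AtPrime q ⧸ p.map (algebraMap A (Localization.AtPrime q))) := by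
    rw [Ring.krullDimLE_one_iff_of_noZeroDivisors]
    intro I hI0 hI
    have hsurj : Function.Surjective
        (Ideal.Quotient.mk (p.map (algebraMap A (Localization.AtPrime q)))) :=
      Ideal.Quotient.mk_surjective
    set I' := I.comap (Ideal.Quotient.mk (p.map (algebraMap A (Localization.AtPrime q)))) with hI'
    have hI'prime : I'.IsPrime := Ideal.comap_isPrime _ I
    have hPI' : p.map (algebraMap A (Localization.AtPrime q)) ≤ I' := by
      intro x hx
      rw [hI', Ideal.mem_comap, Ideal.Quotient.eq_zero_iff_mem.mpr hx]
      exact I.zero_mem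
    have hImap : I'.map (Ideal.Quotient.mk (p.map (algebraMap A (Localization.AtPrime q)))) = I :=
      Ideal.map_comap_of_surjective _ hsurj I
    set I'' := I'.comap (algebraMap A (Localization.AtPrime q)) with hI''
    have hI''prime : I''.IsPrime := Ideal.comap_isPrime _ I'
    have hI'map : I''.map (algebraMap A (Localization.AtPrime q)) = I' :=
      IsLocalization.map_under q.primeCompl _ I'
    have h1 : p ≤ I'' := by
      rw [← hcomapP]
      exact Ideal.comap_mono hPI'
    have h2 : p ≠ I'' := by
      intro heq
      apply hI0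
      rw [← hImap, ← hI'map, ← heq]
      exact Ideal.map_quotient_self _
    have h3 : I'' ≤ q := Groth.Agent.H15.FlatLoc.comap_le q I'
    have h4 : I'' = q := hcov I'' hI''prime (lt_of_le_of_ne h1 h2) h3
    have h5 : I' = maximalIdeal (Localization.AtPrime q) := by
      rw [← hI'map, h4]
      exact Localization.AtPrime.map_eq_maximalIdeal
    have h6 : I'.IsMaximal := by rw [h5]; infer_instance
    rcases Ideal.map_eq_top_or_isMaximal_of_surjective _ hsurj h6 with h7 | h7
    · rw [hImap] at h7
      exact absurd h7 hI.ne_top
    · rwa [hImap] at h7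
  exact Ring.krullDimLE_iff.mp this

/-- In the support of a CM module with full support, `p ⋖ q` implies `ht q = ht p + 1`. -/
theorem height_eq_succ_of_covBy (hN : LocCoh.IsCohenMacaulayModule A N)
    (hsupp : Module.support A N = Set.univ)
    (p q : Ideal A) [hp : p.IsPrime] [hq : q.IsPrime] (hpq : p < q)
    (hcov : ∀ c : Ideal A, c.IsPrime → p < c → c ≤ q → c = q) :
    q.height = p.height + 1 := by
  apply le_antisymm
  · have hdisj : Disjoint (q.primeCompl : Set A) (p : Set A) := by
      rw [Set.disjoint_left]
      intro x hx hxp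
      exact hx (hpq.le hxp)
    have hPprime : (p.map (algebraMap A (Localization.AtPrime q))).IsPrime :=
      IsLocalization.isPrime_of_isPrime_disjoint q.primeCompl _ p hp hdisj
    have h1 := height_add_dim (isCM_localized hN hsupp q) (support_localized_eq_univ hsupp q)
      (p.map (algebraMap A (Localization.AtPrime q)))
    rw [IsLocalization.height_map_of_disjoint q.primeCompl p hdisj,
      IsLocalization.AtPrime.ringKrullDim_eq_height q (Localization.AtPrime q)] at h1
    have h2 := dim_le_one_of_covBy p q hpq hcov
    have h3 : (q.height : WithBot ℕ∞) ≤ 1 + (p.height : WithBot ℕ∞) := by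
      rw [← h1]
      exact add_le_add_left h2 _
    have h4 : (q.height : WithBot ℕ∞) ≤ ((1 + p.height : ℕ∞) : WithBot ℕ∞) := by
      rw [WithBot.coe_add]
      exact h3
    rw [WithBot.coe_le_coe] at h4
    rw [add_comm]
    exact h4
  · exact Ideal.height_add_one_le_of_lt_of_isPrime hpq

/-- main theorem. -/
theorem main (hN : LocCoh.IsCohenMacaulayModule A N) (hsupp : Module.support A N = Set.univ)
    (s : LTSeries (PrimeSpectrum A))
    (hhead : s.head.asIdeal ∈ minimalPrimes A) (hlast : s.last.asIdeal = maximalIdeal A)
    (hsat : ∀ i : Fin s.length, s (Fin.castSucc i) ⋖ s (Fin.succ i)) :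
    (s.length : WithBot ℕ∞) = ringKrullDim A := by
  have key : ∀ i : Fin (s.length + 1), (s i).asIdeal.height = (i : ℕ) := by
    intro i
    induction i using Fin.induction with
    | zero =>
      have h0 : (s 0).asIdeal.height = 0 := by
        have := (s 0).isPrime
        rw [Ideal.height_eq_zero_iff]
        exact hhead
      simpa using h0
    | succ i ih =>
      have hc := hsat i
      have h1 : (s (Fin.castSucc i)).asIdeal < (s (Fin.succ i)).asIdeal := hc.lt
      have := (s (Fin.castSucc i)).isPrime
      have := (s (Fin.succ i)).isPrime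
      have h2 := height_eq_succ_of_covBy hN hsupp (s (Fin.castSucc i)).asIdeal
        (s (Fin.succ i)).asIdeal h1 (by
          intro c hcprime hpc hcq
          by_contra hne
          have hlt : c < (s (Fin.succ i)).asIdeal := lt_of_le_of_ne hcq hne
          exact hc.2 (c := ⟨c, hcprime⟩) hpc hlt)
      rw [h2, ih]
      simp
  have hl := key (Fin.last s.length)
  have h3 : (s (Fin.last s.length)).asIdeal = maximalIdeal A := hlast
  rw [h3] at hl
  rw [← IsLocalRing.maximalIdeal_height_eq_ringKrullDim, hl]
  simp

end Local

end Groth.Agent.H34.CMChain
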