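import Groth.Agent.H34.FibLoc
import Groth.Agent.H71.RegularDescent
import Groth.Agent.H13.FlatNormal
import Mathlib.RingTheory.RingHom.FaithfullyFlat
import Mathlib.RingTheory.IsTensorProduct

/-! Descent of regular / normal homomorphisms `A → B` along a faithfully flat `B → C` (helper34). -/

set_option autoImplicit false
universe u
open TensorProduct

namespace Groth.Agent.H34.RegDesc

section
variable (A B C : Type u) [CommRing A] [CommRing B] [CommRing C]
  [Algebra A B] [Algebra B C] [Algebra A C] [IsScalarTower A B C]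

/-- Flatness of `A → B` descends from flatness of `A → C` along faithfully flat `B → C`. -/
theorem flat_of_comp [Module.Flat A C] [Module.FaithfullyFlat B C] : Module.Flat A B := by
  rw [Module.Flat.iff_lTensor_preserves_injective_linearMap]
  intro N P _ _ _ _ f hf
  have h1 : Function.Injective (LinearMap.lTensor C f) :=
    Module.Flat.lTensor_preserves_injective_linearMap f hf
  have h2 : Function.Injective (f.baseChange B) := by
    rw [← Module.FaithfullyFlat.lTensor_injective_iff_injective B C]
    have key : ∀ x, (TensorProduct.AlgebraTensorModule.cancelBaseChange A B C C P)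
        ((LinearMap.lTensor C (f.baseChange B)) x) =
        (LinearMap.lTensor C f)
          ((TensorProduct.AlgebraTensorModule.cancelBaseChange A B C C N) x) := by
      intro x
      induction x using TensorProduct.induction_on with
      | zero => simp
      | tmul c y =>
        induction y using TensorProduct.induction_on with
        | zero => simp
        | tmul b n => simp
        | add y1 y2 h1 h2 => simp only [TensorProduct.tmul_add, map_add, h1, h2]
      | add x y hx hy => simp only [map_add, hx, hy]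
    intro x y hxy
    have h3 := congrArg (TensorProduct.AlgebraTensorModule.cancelBaseChange A B C C P) hxy
    rw [key, key] at h3
    exact (LinearEquiv.injective _) (h1 h3)
  exact h2

variable (T : Type u) [CommRing T] [Algebra A T]

attribute [local instance] Algebra.TensorProduct.rightAlgebra in
/-- `T ⊗_A B → T ⊗_A C` is faithfully flat when `B → C` is. -/
theorem faithfullyFlat_map [Module.FaithfullyFlat B C] :
    (Algebra.TensorProduct.map (AlgHom.id T T)
      (IsScalarTower.toAlgHom A B C)).toRingHom.FaithfullyFlat := by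
  let φ : T ⊗[A] B →ₐ[T] T ⊗[A] C :=
    Algebra.TensorProduct.map (AlgHom.id T T) (IsScalarTower.toAlgHom A B C)
  let a1 : Algebra (T ⊗[A] B) (T ⊗[A] C) := φ.toRingHom.toAlgebra
  let a2 : Algebra B (T ⊗[A] C) :=
    ((algebraMap C (T ⊗[A] C)).comp (algebraMap B C)).toAlgebra
  have t1 : IsScalarTower B C (T ⊗[A] C) := IsScalarTower.of_algebraMap_eq (fun _ => rfl)
  have t2 : IsScalarTower B (T ⊗[A] B) (T ⊗[A] C) := IsScalarTower.of_algebraMap_eq (fun b => by
    show (1 : T) ⊗ₜ[A] (algebraMap B C b) = φ ((1 : T) ⊗ₜ[A] b)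
    simp [φ])
  have t3 : IsScalarTower T (T ⊗[A] B) (T ⊗[A] C) :=
    IsScalarTower.of_algebraMap_eq (fun t => (φ.commutes t).symm)
  have t4 : IsScalarTower A (T ⊗[A] B) (T ⊗[A] C) := IsScalarTower.of_algebraMap_eq (fun a => by
    rw [IsScalarTower.algebraMap_apply A T (T ⊗[A] B),
      IsScalarTower.algebraMap_apply A T (T ⊗[A] C)]
    exact (φ.commutes _).symm)
  have h1 : Algebra.IsPushout A B T (T ⊗[A] B) := inferInstance
  have h2 : Algebra.IsPushout A C T (T ⊗[A] C) := inferInstance
  have h3 : Algebra.IsPushout B C (T ⊗[A] B) (T ⊗[A] C) :=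
    (Algebra.IsPushout.comp_iff A B T (S' := T ⊗[A] B) (T := C) (T' := T ⊗[A] C)).mp h2
  exact RingHom.FaithfullyFlat.isStableUnderBaseChange B C (T ⊗[A] B) (T ⊗[A] C)
    (RingHom.faithfullyFlat_algebraMap_iff.mpr inferInstance)

end

/-- Regularity descends along faithfully flat maps. -/
theorem isRegularRing_of_faithfullyFlat (R S : Type u) [CommRing R] [CommRing S] [Algebra R S]
    [Module.FaithfullyFlat R S] [IsRegularRing S] : IsRegularRing R := by
  have : IsNoetherianRing R := Groth.Agent.H1.isNoetherianRing_of_faithfullyFlat R S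
  rw [isRegularRing_iff]
  intro p hp
  obtain ⟨q, hq, hqp⟩ := Ideal.exists_isPrime_liesOver_of_faithfullyFlat (B := S) p
  exact Groth.Agent.H71.RD.regular_of_flat_liesOver R S p q

/-- Normality descends along faithfully flat maps. -/
theorem isNormalRing_of_faithfullyFlat (R S : Type u) [CommRing R] [CommRing S] [Algebra R S]
    [Module.FaithfullyFlat R S] (h : EGA4.IsNormalRing S) : EGA4.IsNormalRing R := by
  intro p hp
  obtain ⟨q, hq, hqp⟩ := Ideal.exists_isPrime_liesOver_of_faithfullyFlat (B := S) p
  obtain ⟨hd, hic⟩ := h q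
  let _ := Localization.AtPrime.algebraOfLiesOver p q
  have : IsLocalHom (algebraMap (Localization.AtPrime p) (Localization.AtPrime q)) :=
    Localization.isLocalHom_localRingHom _ _ _ _
  have hfl : Module.Flat (Localization.AtPrime p) (Localization.AtPrime q) := inferInstance
  exact Groth.Agent.H13.isDomain_isIntegrallyClosed_of_flat_of_isLocalHom
    (algebraMap (Localization.AtPrime p) (Localization.AtPrime q)) hfl

section
variable (A B C : Type u) [CommRing A] [CommRing B] [CommRing C]
  [Algebra A B] [Algebra B C] [Algebra A C] [IsScalarTower A B C]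

theorem isRegularHom_of_comp [Module.FaithfullyFlat B C] (hAC : CAlg.IsRegularHom A C) :
    CAlg.IsRegularHom A B := by
  obtain ⟨hflat, hfib⟩ := hAC
  refine ⟨flat_of_comp A B C, ?_⟩
  intro p hp
  refine ⟨?_, ?_⟩
  · have hff := faithfullyFlat_map A B C p.ResidueField
    let _ : Algebra (p.ResidueField ⊗[A] B) (p.ResidueField ⊗[A] C) :=
      (Algebra.TensorProduct.map (AlgHom.id p.ResidueField p.ResidueField)
        (IsScalarTower.toAlgHom A B C)).toRingHom.toAlgebra
    have : Module.FaithfullyFlat (p.ResidueField ⊗[A] B) (p.ResidueField ⊗[A] C) := hff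
    have : IsNoetherianRing (p.ResidueField ⊗[A] C) := (hfib p).1
    exact Groth.Agent.H1.isNoetherianRing_of_faithfullyFlat (p.ResidueField ⊗[A] B)
      (p.ResidueField ⊗[A] C)
  · intro k' _ _ hfin
    have hC : IsRegularRing (k' ⊗[p.ResidueField] (p.ResidueField ⊗[A] C)) := (hfib p).2 k' hfin
    let _ : Algebra A k' :=
      ((algebraMap p.ResidueField k').comp (algebraMap A p.ResidueField)).toAlgebra
    have : IsScalarTower A p.ResidueField k' := IsScalarTower.of_algebraMap_eq (fun _ => rfl)
    let eC : k' ⊗[p.ResidueField] (p.ResidueField ⊗[A] C) ≃ₐ[p.ResidueField] k' ⊗[A] C :=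
      Algebra.TensorProduct.cancelBaseChange A p.ResidueField p.ResidueField k' C
    let eB : k' ⊗[p.ResidueField] (p.ResidueField ⊗[A] B) ≃ₐ[p.ResidueField] k' ⊗[A] B :=
      Algebra.TensorProduct.cancelBaseChange A p.ResidueField p.ResidueField k' B
    have hC' : IsRegularRing (k' ⊗[A] C) :=
      @IsRegularRing.of_ringEquiv (k' ⊗[p.ResidueField] (p.ResidueField ⊗[A] C)) _
        (k' ⊗[A] C) _ eC.toRingEquiv hC
    have hff := faithfullyFlat_map A B C k'
    let _ : Algebra (k' ⊗[A] B) (k' ⊗[A] C) :=
      (Algebra.TensorProduct.map (AlgHom.id k' k')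
        (IsScalarTower.toAlgHom A B C)).toRingHom.toAlgebra
    have : Module.FaithfullyFlat (k' ⊗[A] B) (k' ⊗[A] C) := hff
    have hB' : IsRegularRing (k' ⊗[A] B) := isRegularRing_of_faithfullyFlat _ (k' ⊗[A] C)
    exact @IsRegularRing.of_ringEquiv (k' ⊗[A] B) _
      (k' ⊗[p.ResidueField] (p.ResidueField ⊗[A] B)) _ eB.symm.toRingEquiv hB'

theorem isNormalHom_of_comp [Module.FaithfullyFlat B C] (hAC : EGA4.IsNormalHom A C) :
    EGA4.IsNormalHom A B := by
  obtain ⟨hflat, hfib⟩ := hAC
  refine ⟨flat_of_comp A B C, ?_⟩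
  intro p hp k' _ _ hfin
  have hC : EGA4.IsNormalRing (k' ⊗[p.ResidueField] (p.ResidueField ⊗[A] C)) := hfib p k' hfin
  let _ : Algebra A k' :=
    ((algebraMap p.ResidueField k').comp (algebraMap A p.ResidueField)).toAlgebra
  have : IsScalarTower A p.ResidueField k' := IsScalarTower.of_algebraMap_eq (fun _ => rfl)
  let eC : k' ⊗[p.ResidueField] (p.ResidueField ⊗[A] C) ≃ₐ[p.ResidueField] k' ⊗[A] C :=
    Algebra.TensorProduct.cancelBaseChange A p.ResidueField p.ResidueField k' C
  let eB : k' ⊗[p.ResidueField] (p.ResidueField ⊗[A] B) ≃ₐ[p.ResidueField] k' ⊗[A] B :=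
    Algebra.TensorProduct.cancelBaseChange A p.ResidueField p.ResidueField k' B
  have hC' : EGA4.IsNormalRing (k' ⊗[A] C) :=
    Groth.Agent.H34.FibLoc.isNormalRing_of_ringEquiv eC.toRingEquiv hC
  have hff := faithfullyFlat_map A B C k'
  let _ : Algebra (k' ⊗[A] B) (k' ⊗[A] C) :=
    (Algebra.TensorProduct.map (AlgHom.id k' k')
      (IsScalarTower.toAlgHom A B C)).toRingHom.toAlgebra
  have : Module.FaithfullyFlat (k' ⊗[A] B) (k' ⊗[A] C) := hff
  have hB' : EGA4.IsNormalRing (k' ⊗[A] B) := isNormalRing_of_faithfullyFlat _ (k' ⊗[A] C) hC'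
  exact Groth.Agent.H34.FibLoc.isNormalRing_of_ringEquiv eB.symm.toRingEquiv hB'

end

end Groth.Agent.H34.RegDesc
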