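import Groth.Agent.H87.ComplIso
import Groth.Prelude.Def_EGA4b
import Mathlib.RingTheory.AdicCompletion.LocalRing
import Mathlib.RingTheory.AdicCompletion.Completeness
import Mathlib.RingTheory.TensorProduct.Maps
import Mathlib.RingTheory.Localization.AtPrime.Basic
import Mathlib.RingTheory.Localization.Ideal

/-! Completion of `B` versus completion of `(B ⊗_A Â)_{n'}` (helper34). -/

set_option autoImplicit false
universe u
open IsLocalRing TensorProduct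

namespace Groth.Agent.H34.CplBC

variable (A B : Type u) [CommRing A] [CommRing B] [IsNoetherianRing A] [IsLocalRing A]
  [IsLocalRing B] [Algebra A B] [IsLocalHom (algebraMap A B)]

/-- density of `A` in `Â`. -/
theorem density (k : ℕ) (c : EGA4.Cpl A) :
    ∃ a : A, c - algebraMap A (EGA4.Cpl A) a ∈
      (maximalIdeal A ^ k).map (algebraMap A (EGA4.Cpl A)) := by
  obtain ⟨a, ha⟩ := Submodule.mkQ_surjective _ (c.val k)
  refine ⟨a, ?_⟩
  have h1 : c - algebraMap A (EGA4.Cpl A) a ∈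
      (maximalIdeal A ^ k • ⊤ : Submodule A (EGA4.Cpl A)) := by
    rw [AdicCompletion.pow_smul_top_eq_ker_eval (maximalIdeal A).fg_of_isNoetherianRing,
      LinearMap.mem_ker, map_sub, sub_eq_zero]
    rw [AdicCompletion.algebraMap_apply]
    simp only [AdicCompletion.eval_apply, AdicCompletion.of_apply, Algebra.algebraMap_self,
      RingHom.id_apply]
    exact ha.symm
  have h2 := (Ideal.smul_top_eq_map (R := A) (S := EGA4.Cpl A) (maximalIdeal A ^ k))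
  rw [h2] at h1
  exact h1

omit [IsNoetherianRing A] in
theorem hle (k : ℕ) : maximalIdeal A ^ k ≤
    (maximalIdeal B ^ k).comap (Algebra.ofId A B) :=
  Groth.Agent.H87.ComplIso.pow_le_comap (maximalIdeal A) (maximalIdeal B) (Algebra.ofId A B)
    (by
      intro a ha
      exact (IsLocalRing.map_maximalIdeal_le (algebraMap A B)) (Ideal.mem_map_of_mem _ ha)) k

/-- the auxiliary map `B ⊗ Â → B / m_B^k`. -/
noncomputable def ρ (k : ℕ) : B ⊗[A] EGA4.Cpl A →ₐ[A] B ⧸ maximalIdeal B ^ k :=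
  Algebra.TensorProduct.lift (Ideal.Quotient.mkₐ A (maximalIdeal B ^ k))
    ((Ideal.quotientMapₐ (maximalIdeal B ^ k) (Algebra.ofId A B) (hle A B k)).comp
      (AdicCompletion.evalₐ (maximalIdeal A) k))
    (fun _ _ => Commute.all _ _)

theorem ρ_tmul_one (k : ℕ) (b : B) :
    ρ A B k (b ⊗ₜ[A] (1 : EGA4.Cpl A)) = Ideal.Quotient.mk (maximalIdeal B ^ k) b := by
  simp [ρ]

/-- the ideal `m_B^k · B'`. -/
noncomputable abbrev N (k : ℕ) : Ideal (B ⊗[A] EGA4.Cpl A) :=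
  (maximalIdeal B ^ k).map (algebraMap B (B ⊗[A] EGA4.Cpl A))

theorem tmul_mem (k : ℕ) (ε : EGA4.Cpl A)
    (hε : ε ∈ (maximalIdeal A ^ k).map (algebraMap A (EGA4.Cpl A))) (b : B) :
    b ⊗ₜ[A] ε ∈ N A B k := by
  revert b
  refine Submodule.span_induction (p := fun ε _ => ∀ b : B, b ⊗ₜ[A] ε ∈ N A B k)
    ?_ ?_ ?_ ?_ hε
  · rintro _ ⟨μ, hμ, rfl⟩ b
    have h1 : b ⊗ₜ[A] (algebraMap A (EGA4.Cpl A) μ) =
        algebraMap B (B ⊗[A] EGA4.Cpl A) (μ • b) := by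
      rw [Algebra.TensorProduct.algebraMap_apply, Algebra.algebraMap_self, RingHom.id_apply,
        Algebra.algebraMap_eq_smul_one, ← TensorProduct.smul_tmul]
    rw [h1]
    apply Ideal.mem_map_of_mem
    rw [Algebra.smul_def]
    exact Ideal.mul_mem_right _ _ (hle A B k hμ)
  · intro b
    rw [TensorProduct.tmul_zero]
    exact Ideal.zero_mem _
  · intro x y _ _ hx hy b
    rw [TensorProduct.tmul_add]
    exact Ideal.add_mem _ (hx b) (hy b)
  · intro c x _ hx b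
    have h1 : b ⊗ₜ[A] (c • x) = ((1 : B) ⊗ₜ[A] c) * (b ⊗ₜ[A] x) := by
      rw [Algebra.TensorProduct.tmul_mul_tmul, one_mul, smul_eq_mul]
    rw [h1]
    exact Ideal.mul_mem_left _ _ (hx b)

theorem surj (k : ℕ) (x : B ⊗[A] EGA4.Cpl A) :
    ∃ b : B, x - b ⊗ₜ[A] (1 : EGA4.Cpl A) ∈ N A B k := by
  induction x using TensorProduct.induction_on with
  | zero => exact ⟨0, by simp⟩
  | tmul b c =>
    obtain ⟨a, ha⟩ := density A k c
    refine ⟨a • b, ?_⟩
    have h1 : b ⊗ₜ[A] c - (a • b) ⊗ₜ[A] (1 : EGA4.Cpl A) =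
        b ⊗ₜ[A] (c - algebraMap A (EGA4.Cpl A) a) := by
      rw [TensorProduct.tmul_sub, TensorProduct.smul_tmul, Algebra.algebraMap_eq_smul_one]
    rw [h1]
    exact tmul_mem A B k _ ha b
  | add x y hx hy =>
    obtain ⟨bx, hbx⟩ := hx
    obtain ⟨by', hby⟩ := hy
    refine ⟨bx + by', ?_⟩
    have : x + y - (bx + by') ⊗ₜ[A] (1 : EGA4.Cpl A) =
        (x - bx ⊗ₜ[A] (1 : EGA4.Cpl A)) + (y - by' ⊗ₜ[A] (1 : EGA4.Cpl A)) := by
      rw [TensorProduct.add_tmul]; ring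
    rw [this]
    exact Ideal.add_mem _ hbx hby

theorem N_le_ker (k : ℕ) : N A B k ≤ RingHom.ker (ρ A B k).toRingHom := by
  rw [Ideal.map_le_iff_le_comap]
  intro b hb
  rw [Ideal.mem_comap, RingHom.mem_ker]
  show ρ A B k (algebraMap B (B ⊗[A] EGA4.Cpl A) b) = 0
  rw [Algebra.TensorProduct.algebraMap_apply, Algebra.algebraMap_self, RingHom.id_apply,
    ρ_tmul_one, Ideal.Quotient.eq_zero_iff_mem]
  exact hb

theorem mem_N_iff (k : ℕ) (x : B ⊗[A] EGA4.Cpl A) : x ∈ N A B k ↔ ρ A B k x = 0 := by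
  constructor
  · intro hx
    exact N_le_ker A B k hx
  · intro hx
    obtain ⟨b, hb⟩ := surj A B k x
    have h1 : ρ A B k (x - b ⊗ₜ[A] (1 : EGA4.Cpl A)) = 0 := N_le_ker A B k hb
    rw [map_sub, hx, zero_sub, neg_eq_zero, ρ_tmul_one, Ideal.Quotient.eq_zero_iff_mem] at h1
    have h2 : b ⊗ₜ[A] (1 : EGA4.Cpl A) ∈ N A B k := by
      have : b ⊗ₜ[A] (1 : EGA4.Cpl A) = algebraMap B (B ⊗[A] EGA4.Cpl A) b := by
        rw [Algebra.TensorProduct.algebraMap_apply, Algebra.algebraMap_self, RingHom.id_apply]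
      rw [this]
      exact Ideal.mem_map_of_mem _ h1
    have h3 : x = (x - b ⊗ₜ[A] (1 : EGA4.Cpl A)) + b ⊗ₜ[A] (1 : EGA4.Cpl A) := by ring
    rw [h3]
    exact Ideal.add_mem _ hb h2

variable (n' : Ideal (B ⊗[A] EGA4.Cpl A)) [n'.IsPrime]
  (h1 : n'.comap (algebraMap B (B ⊗[A] EGA4.Cpl A)) = maximalIdeal B)

include h1 in
theorem n'_eq : n' = (maximalIdeal B).map (algebraMap B (B ⊗[A] EGA4.Cpl A)) := by
  apply le_antisymm
  · intro x hx
    obtain ⟨b, hb⟩ := surj A B 1 x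
    have hN1 : N A B 1 = (maximalIdeal B).map (algebraMap B (B ⊗[A] EGA4.Cpl A)) := by
      unfold N; rw [pow_one]
    rw [hN1] at hb
    have hle' : (maximalIdeal B).map (algebraMap B (B ⊗[A] EGA4.Cpl A)) ≤ n' := by
      rw [Ideal.map_le_iff_le_comap, h1]
    have hb' : b ⊗ₜ[A] (1 : EGA4.Cpl A) ∈ n' := by
      have : b ⊗ₜ[A] (1 : EGA4.Cpl A) = x - (x - b ⊗ₜ[A] (1 : EGA4.Cpl A)) := by ring
      rw [this]
      exact Ideal.sub_mem _ hx (hle' hb)
    have hbm : b ∈ maximalIdeal B := by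
      rw [← h1, Ideal.mem_comap, Algebra.TensorProduct.algebraMap_apply, Algebra.algebraMap_self,
        RingHom.id_apply]
      exact hb'
    have h2 : b ⊗ₜ[A] (1 : EGA4.Cpl A) ∈
        (maximalIdeal B).map (algebraMap B (B ⊗[A] EGA4.Cpl A)) := by
      have : b ⊗ₜ[A] (1 : EGA4.Cpl A) = algebraMap B (B ⊗[A] EGA4.Cpl A) b := by
        rw [Algebra.TensorProduct.algebraMap_apply, Algebra.algebraMap_self, RingHom.id_apply]
      rw [this]
      exact Ideal.mem_map_of_mem _ hbm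
    have h3 : x = (x - b ⊗ₜ[A] (1 : EGA4.Cpl A)) + b ⊗ₜ[A] (1 : EGA4.Cpl A) := by ring
    rw [h3]
    exact Ideal.add_mem _ hb h2
  · rw [Ideal.map_le_iff_le_comap, h1]

include h1 in
theorem n'_pow (k : ℕ) : n' ^ k = N A B k := by
  unfold N
  rw [Ideal.map_pow, ← n'_eq A B n' h1]

include h1 in
theorem isUnit_ρ (k : ℕ) (hk : k ≠ 0) (τ : B ⊗[A] EGA4.Cpl A) (hτ : τ ∉ n') :
    IsUnit (ρ A B k τ) := by
  obtain ⟨c, hc⟩ := surj A B k τ
  have hc' : τ - c ⊗ₜ[A] (1 : EGA4.Cpl A) ∈ n' := by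
    have := (n'_pow A B n' h1 k) ▸ hc
    exact Ideal.pow_le_self hk this
  have hcu : IsUnit c := by
    by_contra hnu
    have hcm : c ∈ maximalIdeal B := (mem_maximalIdeal c).mpr hnu
    have h2 : c ⊗ₜ[A] (1 : EGA4.Cpl A) ∈ n' := by
      have : c ⊗ₜ[A] (1 : EGA4.Cpl A) = algebraMap B (B ⊗[A] EGA4.Cpl A) c := by
        rw [Algebra.TensorProduct.algebraMap_apply, Algebra.algebraMap_self, RingHom.id_apply]
      rw [this, ← Ideal.mem_comap, h1]
      exact hcm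
    apply hτ
    have : τ = (τ - c ⊗ₜ[A] (1 : EGA4.Cpl A)) + c ⊗ₜ[A] (1 : EGA4.Cpl A) := by ring
    rw [this]
    exact Ideal.add_mem _ hc' h2
  have h3 : ρ A B k τ = Ideal.Quotient.mk (maximalIdeal B ^ k) c := by
    have h4 : ρ A B k (τ - c ⊗ₜ[A] (1 : EGA4.Cpl A)) = 0 := N_le_ker A B k hc
    rw [map_sub, sub_eq_zero, ρ_tmul_one] at h4
    exact h4
  rw [h3]
  exact hcu.map _

omit [n'.IsPrime] in
include h1 in
theorem hmem (b : B) (hb : b ∈ maximalIdeal B) : b ⊗ₜ[A] (1 : EGA4.Cpl A) ∈ n' := by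
  have : b ⊗ₜ[A] (1 : EGA4.Cpl A) = algebraMap B (B ⊗[A] EGA4.Cpl A) b := by
    rw [Algebra.TensorProduct.algebraMap_apply, Algebra.algebraMap_self, RingHom.id_apply]
  rw [this, ← Ideal.mem_comap, h1]
  exact hb

omit [IsNoetherianRing A] [IsLocalRing B] [IsLocalHom (algebraMap A B)] in
theorem hφapply (b : B) : Algebra.ofId B (Localization.AtPrime n') b =
    algebraMap (B ⊗[A] EGA4.Cpl A) (Localization.AtPrime n') (b ⊗ₜ[A] (1 : EGA4.Cpl A)) := by
  show algebraMap B (Localization.AtPrime n') b = _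
  rw [IsScalarTower.algebraMap_apply B (B ⊗[A] EGA4.Cpl A) (Localization.AtPrime n'),
    Algebra.TensorProduct.algebraMap_apply, Algebra.algebraMap_self, RingHom.id_apply]

omit [IsNoetherianRing A] [IsLocalRing B] [IsLocalHom (algebraMap A B)] in
theorem hmax : maximalIdeal (Localization.AtPrime n') =
    n'.map (algebraMap (B ⊗[A] EGA4.Cpl A) (Localization.AtPrime n')) :=
  (Localization.AtPrime.map_eq_maximalIdeal).symm

set_option maxHeartbeats 800000 in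
include h1 in
theorem hsurj (k : ℕ) (s : Localization.AtPrime n') : ∃ p : B,
    s - Algebra.ofId B (Localization.AtPrime n') p ∈
      maximalIdeal (Localization.AtPrime n') ^ k := by
  rcases Nat.eq_zero_or_pos k with rfl | hkpos
  · exact ⟨0, by simp⟩
  obtain ⟨x, t, hs⟩ := IsLocalization.exists_mk'_eq n'.primeCompl s
  subst hs
  obtain ⟨bx, hbx⟩ := surj A B k x
  obtain ⟨bt, hbt⟩ := surj A B k (t : B ⊗[A] EGA4.Cpl A)
  rw [← n'_pow A B n' h1 k] at hbx hbt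
  have hbtu : IsUnit bt := by
    by_contra hnu
    have hcm : bt ∈ maximalIdeal B := (mem_maximalIdeal bt).mpr hnu
    apply t.2
    have : (t : B ⊗[A] EGA4.Cpl A) = ((t : B ⊗[A] EGA4.Cpl A) - bt ⊗ₜ[A] (1 : EGA4.Cpl A)) +
        bt ⊗ₜ[A] (1 : EGA4.Cpl A) := by ring
    rw [this]
    exact Ideal.add_mem _ (Ideal.pow_le_self hkpos.ne' hbt) (hmem A B n' h1 bt hcm)
  obtain ⟨u, hu⟩ := hbtu
  refine ⟨bx * ↑u⁻¹, ?_⟩
  rw [hφapply, hmax, ← Ideal.map_pow]
  -- key element of n'^k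
  have hkey : x - (t : B ⊗[A] EGA4.Cpl A) * ((bx * ↑u⁻¹) ⊗ₜ[A] (1 : EGA4.Cpl A)) ∈ n' ^ k := by
    have e1 : x - (t : B ⊗[A] EGA4.Cpl A) * ((bx * ↑u⁻¹) ⊗ₜ[A] (1 : EGA4.Cpl A)) =
        (x - bx ⊗ₜ[A] (1 : EGA4.Cpl A)) -
        ((bx * ↑u⁻¹) ⊗ₜ[A] (1 : EGA4.Cpl A)) *
          ((t : B ⊗[A] EGA4.Cpl A) - bt ⊗ₜ[A] (1 : EGA4.Cpl A)) := by
      have e2 : ((bx * ↑u⁻¹) ⊗ₜ[A] (1 : EGA4.Cpl A)) * (bt ⊗ₜ[A] (1 : EGA4.Cpl A)) =
          bx ⊗ₜ[A] (1 : EGA4.Cpl A) := by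
        rw [Algebra.TensorProduct.tmul_mul_tmul, mul_one, mul_assoc, ← hu, Units.inv_mul,
          mul_one]
      rw [mul_sub, e2]
      ring
    rw [e1]
    exact Ideal.sub_mem _ hbx (Ideal.mul_mem_left _ _ hbt)
  have hunit : IsUnit (algebraMap (B ⊗[A] EGA4.Cpl A) (Localization.AtPrime n')
      (t : B ⊗[A] EGA4.Cpl A)) := IsLocalization.map_units _ t
  have hspec : algebraMap (B ⊗[A] EGA4.Cpl A) (Localization.AtPrime n')
      (t : B ⊗[A] EGA4.Cpl A) * IsLocalization.mk' (Localization.AtPrime n') x t =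
      algebraMap (B ⊗[A] EGA4.Cpl A) (Localization.AtPrime n') x := by
    rw [mul_comm]
    exact IsLocalization.mk'_spec _ x t
  have e3 : IsLocalization.mk' (Localization.AtPrime n') x t -
      algebraMap (B ⊗[A] EGA4.Cpl A) (Localization.AtPrime n')
        ((bx * ↑u⁻¹) ⊗ₜ[A] (1 : EGA4.Cpl A)) =
      ↑hunit.unit⁻¹ * algebraMap (B ⊗[A] EGA4.Cpl A) (Localization.AtPrime n')
        (x - (t : B ⊗[A] EGA4.Cpl A) * ((bx * ↑u⁻¹) ⊗ₜ[A] (1 : EGA4.Cpl A))) := by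
    apply hunit.mul_left_cancel
    rw [← mul_assoc, IsUnit.mul_val_inv, one_mul, map_sub, map_mul, ← hspec]
    ring
  rw [e3]
  exact Ideal.mul_mem_left _ _ (Ideal.mem_map_of_mem _ hkey)

set_option maxHeartbeats 800000 in
include h1 in
theorem hinj (k : ℕ) (b : B)
    (hb : Algebra.ofId B (Localization.AtPrime n') b ∈
      maximalIdeal (Localization.AtPrime n') ^ k) :
    b ∈ maximalIdeal B ^ k := by
  rcases Nat.eq_zero_or_pos k with rfl | hkpos
  · simp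
  rw [hφapply, hmax, ← Ideal.map_pow,
    IsLocalization.mem_map_algebraMap_iff n'.primeCompl] at hb
  obtain ⟨⟨i, t⟩, hit⟩ := hb
  rw [← map_mul] at hit
  obtain ⟨t', ht'⟩ := (IsLocalization.eq_iff_exists n'.primeCompl _).mp hit
  -- τ * (b ⊗ 1) ∈ n'^k
  have hτ : ((t' : B ⊗[A] EGA4.Cpl A) * (t : B ⊗[A] EGA4.Cpl A)) *
      (b ⊗ₜ[A] (1 : EGA4.Cpl A)) ∈ n' ^ k := by
    have : ((t' : B ⊗[A] EGA4.Cpl A) * (t : B ⊗[A] EGA4.Cpl A)) *
        (b ⊗ₜ[A] (1 : EGA4.Cpl A)) = (t' : B ⊗[A] EGA4.Cpl A) * (i : B ⊗[A] EGA4.Cpl A) := by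
      rw [← ht']; ring
    rw [this]
    exact Ideal.mul_mem_left _ _ i.2
  rw [n'_pow A B n' h1 k, mem_N_iff, map_mul, ρ_tmul_one] at hτ
  have hτn : (t' : B ⊗[A] EGA4.Cpl A) * (t : B ⊗[A] EGA4.Cpl A) ∉ n' := by
    intro hmem'
    rcases (inferInstance : n'.IsPrime).mem_or_mem hmem' with h | h
    · exact t'.2 h
    · exact t.2 h
  have hu := isUnit_ρ A B n' h1 k hkpos.ne' _ hτn
  have := (hu.mul_right_eq_zero).mp hτ
  exact Ideal.Quotient.eq_zero_iff_mem.mp this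

set_option maxHeartbeats 1600000 in
include h1 in
theorem main : Nonempty (EGA4.Cpl B ≃+* EGA4.Cpl (Localization.AtPrime n')) := by
  have hφ : maximalIdeal B ≤
      (maximalIdeal (Localization.AtPrime n')).comap
        (Algebra.ofId B (Localization.AtPrime n')) := by
    intro b hb
    rw [Ideal.mem_comap, hφapply, hmax]
    exact Ideal.mem_map_of_mem _ (hmem A B n' h1 b hb)
  have hbij := Groth.Agent.H87.ComplIso.hatMap_bijective (R := B) (P := B)
    (S := Localization.AtPrime n') (maximalIdeal B)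
    (maximalIdeal (Localization.AtPrime n')) (Algebra.ofId B (Localization.AtPrime n'))
    hφ (hsurj A B n' h1) (hinj A B n' h1)
  exact ⟨RingEquiv.ofBijective _ hbij⟩

end Groth.Agent.H34.CplBC
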