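import Groth.Agent.H34.AdicFib
import Groth.Agent.S9126
import Mathlib.RingTheory.Localization.LocalizationLocalization
import Mathlib.RingTheory.EssentialFiniteness

/-! G-ring / J-2 / excellent pass to localizations; regularity of the completion map is invariant
under ring isomorphism (helper34). -/

set_option autoImplicit false
universe u
open IsLocalRing TensorProduct

namespace Groth.Agent.H34.GRingLoc

open Groth.Agent.H34.GenFib Groth.Agent.H34.AdicFib

/-- transfer of a regular homomorphism along an isomorphism of the target. -/
theorem isRegularHom_of_algEquiv {A C C' : Type u} [CommRing A] [CommRing C] [CommRing C']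
    [Algebra A C] [Algebra A C'] (e : C ≃ₐ[A] C') (h : CAlg.IsRegularHom A C) :
    CAlg.IsRegularHom A C' := by
  obtain ⟨hfl, hfib⟩ := h
  refine ⟨Module.Flat.of_linearEquiv e.symm.toLinearEquiv, fun p _ => ⟨?_, ?_⟩⟩
  · have := (hfib p).1
    let e1 : p.ResidueField ⊗[A] C ≃ₐ[p.ResidueField] p.ResidueField ⊗[A] C' :=
      Algebra.TensorProduct.congr AlgEquiv.refl e
    exact isNoetherianRing_of_ringEquiv _ e1.toRingEquiv
  · have h1 : GF (fun R _ => IsRegularRing R) (fun k k' _ _ _ => Module.Finite k k') A C :=
      fun p _ k' _ _ hf => (hfib p).2 k' hf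
    intro k' _ _ hf
    exact GF.of_algEquiv good_regular.iso e h1 p k' hf

section T1
variable {R R' : Type u} [CommRing R] [CommRing R'] [IsLocalRing R] [IsLocalRing R']

/-- regularity of the completion map is invariant under ring isomorphisms. -/
theorem isRegularHom_cpl_of_ringEquiv [IsNoetherianRing R] (e : R ≃+* R')
    (h : CAlg.IsRegularHom R (EGA4.Cpl R)) : CAlg.IsRegularHom R' (EGA4.Cpl R') := by
  have hN' : IsNoetherianRing R' := isNoetherianRing_of_ringEquiv R e
  let _ : Algebra R R' := e.toRingHom.toAlgebra
  have hmap : (maximalIdeal R).map e = maximalIdeal R' := IsLocalRing.map_ringEquiv_maximalIdeal e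
  have hφ : maximalIdeal R ≤ (maximalIdeal R').comap (Algebra.ofId R R') := by
    intro a ha
    rw [Ideal.mem_comap, ← hmap]
    exact Ideal.mem_map_of_mem _ ha
  have hsurj : ∀ (k : ℕ) (s : R'), ∃ a : R, s - Algebra.ofId R R' a ∈ maximalIdeal R' ^ k := by
    intro k s
    refine ⟨e.symm s, ?_⟩
    have : Algebra.ofId R R' (e.symm s) = s := e.apply_symm_apply s
    rw [this, sub_self]
    exact Ideal.zero_mem _
  have hinj : ∀ (k : ℕ) (a : R), Algebra.ofId R R' a ∈ maximalIdeal R' ^ k →
      a ∈ maximalIdeal R ^ k := by
    intro k a ha
    rw [← hmap, ← Ideal.map_pow] at ha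
    exact Ideal.apply_mem_of_equiv_iff.mp ha
  let E : EGA4.Cpl R ≃ₐ[R] EGA4.Cpl R' := AlgEquiv.ofBijective _
    (Groth.Agent.H87.ComplIso.hatMap_bijective (R := R) (P := R) (S := R') (maximalIdeal R)
      (maximalIdeal R') (Algebra.ofId R R') hφ hsurj hinj)
  have h1 : CAlg.IsRegularHom R (EGA4.Cpl R') := isRegularHom_of_algEquiv E h
  have hbij : Function.Bijective (algebraMap R R') := e.bijective
  have hloc : IsLocalization (IsUnit.submonoid R) R' :=
    IsLocalization.of_le_isUnit_of_bijective Algebra.algebraMapSubmonoid_isUnit_le_isUnit hbij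
  have hNC : IsNoetherianRing (EGA4.Cpl R') := inferInstance
  exact Groth.Agent.H34.FibLoc.isRegularHom_localization R (EGA4.Cpl R') (IsUnit.submonoid R) R'
    (EGA4.Cpl R') h1

end T1

/-- a localization of a G-ring is a G-ring. -/
theorem isGRing_localization (A : Type u) [CommRing A] (hA : CAlg.IsGRing A) (S : Submonoid A) :
    CAlg.IsGRing (Localization S) := by
  obtain ⟨hN, hA⟩ := hA
  refine ⟨inferInstance, fun p' _ => ?_⟩
  let e := IsLocalization.localizationLocalizationAtPrimeIsoLocalization S p'
  exact isRegularHom_cpl_of_ringEquiv e.toRingEquiv (hA (p'.comap (algebraMap A (Localization S))))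

/-- a localization of a J-2 ring is J-2. -/
theorem isJ2_localization (A : Type u) [CommRing A] (hA : EGA4.IsJ2 A) (S : Submonoid A) :
    EGA4.IsJ2 (Localization S) := by
  intro B' _ _ hft
  let _ : Algebra A B' := ((algebraMap (Localization S) B').comp (algebraMap A (Localization S))).toAlgebra
  have : IsScalarTower A (Localization S) B' := IsScalarTower.of_algebraMap_eq (fun _ => rfl)
  have h1 : Algebra.EssFiniteType A (Localization S) := Algebra.EssFiniteType.of_isLocalization _ S
  have h2 : Algebra.EssFiniteType (Localization S) B' := inferInstance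
  have h3 : Algebra.EssFiniteType A B' := Algebra.EssFiniteType.comp A (Localization S) B'
  have hopen := hA (Algebra.EssFiniteType.subalgebra A B') inferInstance
  have heq : EGA4.regLocus B' =
      (PrimeSpectrum.comap (algebraMap (Algebra.EssFiniteType.subalgebra A B') B')) ⁻¹'
        EGA4.regLocus (Algebra.EssFiniteType.subalgebra A B') := by
    ext q'
    have hloc : IsLocalization.AtPrime (Localization.AtPrime q'.asIdeal)
        (q'.asIdeal.comap (algebraMap (Algebra.EssFiniteType.subalgebra A B') B')) :=
      IsLocalization.isLocalization_isLocalization_atPrime_isLocalization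
        (Algebra.EssFiniteType.submonoid A B') (Localization.AtPrime q'.asIdeal) q'.asIdeal
    let e := IsLocalization.algEquiv
      (q'.asIdeal.comap (algebraMap (Algebra.EssFiniteType.subalgebra A B') B')).primeCompl
      (Localization.AtPrime
        (q'.asIdeal.comap (algebraMap (Algebra.EssFiniteType.subalgebra A B') B')))
      (Localization.AtPrime q'.asIdeal)
    constructor
    · intro h
      have : IsRegularLocalRing (Localization.AtPrime q'.asIdeal) := h
      exact IsRegularLocalRing.of_ringEquiv e.symm.toRingEquiv
    · intro h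
      have : IsRegularLocalRing (Localization.AtPrime
        (q'.asIdeal.comap (algebraMap (Algebra.EssFiniteType.subalgebra A B') B'))) := h
      exact IsRegularLocalRing.of_ringEquiv e.toRingEquiv
  rw [heq]
  exact hopen.preimage (PrimeSpectrum.continuous_comap _)

/-- a localization of an excellent ring is excellent. -/
theorem isExcellent_localization (A : Type u) [CommRing A] (hA : EGA4.IsExcellent A)
    (S : Submonoid A) : EGA4.IsExcellent (Localization S) := by
  obtain ⟨hN, hUC, hG, hJ⟩ := hA
  have : Algebra.EssFiniteType A (Localization S) := Algebra.EssFiniteType.of_isLocalization _ S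
  exact ⟨inferInstance, Groth.Agent.S9126.result A (Localization S) hUC,
    isGRing_localization A hG S, isJ2_localization A hJ S⟩

end Groth.Agent.H34.GRingLoc
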