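import Groth.Agent.H34.HensFormal

/-! Regularity of the formal fibres of the henselization (helper34). -/

set_option autoImplicit false
universe u
open TensorProduct IsLocalRing

namespace Groth.Agent.H34.HensRegular

open Groth.Agent.H34.HensFib Groth.Agent.H34.HensFormal

/-- every Noetherian local ring of `R` is regular. -/
def LR (R : Type u) [CommRing R] : Prop :=
  ∀ (Q : Ideal R) [Q.IsPrime], IsNoetherianRing (Localization.AtPrime Q) →
    IsRegularLocalRing (Localization.AtPrime Q)

theorem LR.of_ringEquiv {R R' : Type u} [CommRing R] [CommRing R'] (e : R ≃+* R') (h : LR R) :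
    LR R' := by
  intro Q' hQ' hN
  have hp : (Q'.comap e).IsPrime := Ideal.comap_isPrime _ _
  let e' : Localization.AtPrime (Q'.comap e) ≃+* Localization.AtPrime Q' :=
    IsLocalization.ringEquivOfRingEquiv (Localization.AtPrime (Q'.comap e))
      (Localization.AtPrime Q') e (e.map_primeCompl_comap_eq Q')
  have hN' : IsNoetherianRing (Localization.AtPrime (Q'.comap e)) :=
    isNoetherianRing_of_ringEquiv _ e'.symm
  have := h _ hN'
  exact IsRegularLocalRing.of_ringEquiv e'

theorem LR.of_isLocalization (R R' : Type u) [CommRing R] [CommRing R'] [Algebra R R']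
    (M : Submonoid R) [IsLocalization M R'] (h : LR R) : LR R' := by
  intro Q' hQ' hN
  have hloc : IsLocalization.AtPrime (Localization.AtPrime Q') (Q'.comap (algebraMap R R')) :=
    IsLocalization.isLocalization_isLocalization_atPrime_isLocalization M
      (Localization.AtPrime Q') Q'
  let e : Localization.AtPrime (Q'.comap (algebraMap R R')) ≃ₐ[R] Localization.AtPrime Q' :=
    IsLocalization.algEquiv (Q'.comap (algebraMap R R')).primeCompl _ _
  have hN' : IsNoetherianRing (Localization.AtPrime (Q'.comap (algebraMap R R'))) :=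
    isNoetherianRing_of_ringEquiv _ e.symm.toRingEquiv
  have := h _ hN'
  exact IsRegularLocalRing.of_ringEquiv e.toRingEquiv

theorem LR.isRegularRing {R : Type u} [CommRing R] [IsNoetherianRing R] (h : LR R) :
    IsRegularRing R :=
  isRegularRing_iff.mpr fun Q _ =>
    h Q (IsLocalization.isNoetherianRing Q.primeCompl _ inferInstance)

theorem LR.tensor {k F : Type u} [Field k] [CommRing F] [Algebra k F] [IsNoetherianRing F]
    (h : CAlg.IsGeometricallyRegular k F) (L : Type u) [Field L] [Algebra k L] :
    LR (L ⊗[k] F) := by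
  intro Q hQ hN
  have hp : (Q.comap (Algebra.TensorProduct.includeRight : F →ₐ[k] L ⊗[k] F).toRingHom).IsPrime :=
    Ideal.comap_isPrime _ _
  have := Groth.Agent.Lead.GeomRegBC.fs_tensor_localization
    (Q.comap (Algebra.TensorProduct.includeRight : F →ₐ[k] L ⊗[k] F).toRingHom)
    (Groth.Agent.Lead.GeomRegBC.locFS_of_geomRegular h _) L Q rfl
  exact Groth.Agent.Lead.GeomReg.regular_of_fs this

/-- a Noetherian von Neumann regular ring is regular. -/
theorem VN.isRegularRing {R : Type u} [CommRing R] [IsNoetherianRing R] (h : VN R) :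
    IsRegularRing R := by
  rw [isRegularRing_iff]
  intro Q hQ
  have hf : IsField (Localization.AtPrime Q) := by
    rw [IsLocalRing.isField_iff_maximalIdeal_eq, eq_bot_iff]
    intro x hx
    obtain ⟨⟨a, s⟩, rfl⟩ := IsLocalization.mk'_surjective Q.primeCompl x
    rw [IsLocalization.AtPrime.mk'_mem_maximal_iff (Localization.AtPrime Q) Q] at hx
    obtain ⟨y, hy⟩ := h a
    have h1 : (1 - a * y) * a = 0 := by
      have e : a * y * a = a ^ 2 * y := by ring
      rw [sub_mul, one_mul, sub_eq_zero, e]; exact hy
    have h2 : 1 - a * y ∉ Q := fun hmem => by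
      have : (1 : R) ∈ Q := by
        have := Q.add_mem hmem (Q.mul_mem_right y hx)
        simpa using this
      exact hQ.ne_top ((Ideal.eq_top_iff_one Q).mpr this)
    rw [Ideal.mem_bot, IsLocalization.mk'_eq_zero_iff]
    exact ⟨⟨1 - a * y, h2⟩, h1⟩
  let _ : Field (Localization.AtPrime Q) := hf.toField
  infer_instance

section noeth
variable (A S : Type u) [CommRing A] [IsLocalRing A] [IsNoetherianRing A] [CommRing S]
  [IsLocalRing S] [Algebra A S] [IsLocalHom (algebraMap A S)] [Hensel.IsHenselization A S]

/-- the henselization of a Noetherian local ring is a regular ring map. -/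
theorem isRegularHom_hens : CAlg.IsRegularHom A S := by
  have hN : IsNoetherianRing S := isNoetherianRing_hens A S
  have hff := Groth.Agent.S0509.result A S
  refine ⟨inferInstance, fun p _ =>
    ⟨Groth.Agent.H34.FibLoc.isNoetherianRing_fiber A S p, ?_⟩⟩
  intro k' _ _ hfin
  have hNo := Groth.Agent.H34.AdicFib.noeth_fibre A S p k' hfin
  let _ : Algebra A k' :=
    ((algebraMap p.ResidueField k').comp (algebraMap A p.ResidueField)).toAlgebra
  have : IsScalarTower A p.ResidueField k' := IsScalarTower.of_algebraMap_eq (fun _ => rfl)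
  have hvn := vn_tensor A S p k'
  let e1 : k' ⊗[p.ResidueField] (p.ResidueField ⊗[A] S) ≃ₐ[p.ResidueField] k' ⊗[A] S :=
    Algebra.TensorProduct.cancelBaseChange A p.ResidueField p.ResidueField k' S
  exact VN.isRegularRing (hvn.of_ringEquiv e1.symm.toRingEquiv)

/-- regular formal fibres pass to the henselization. -/
theorem isRegularHom_cpl_hens (hA : CAlg.IsRegularHom A (EGA4.Cpl A)) :
    CAlg.IsRegularHom S (EGA4.Cpl S) := by
  have hN : IsNoetherianRing S := isNoetherianRing_hens A S
  obtain ⟨e⟩ := nonempty_cplEquiv A S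
  have hA' : CAlg.IsRegularHom A (EGA4.Cpl S) :=
    Groth.Agent.H34.GRingLoc.isRegularHom_of_algEquiv e hA
  have hff := Groth.Agent.H34.ComplQuot.faithfullyFlat_cpl S
  refine ⟨inferInstance, fun q _ =>
    ⟨Groth.Agent.H34.FibLoc.isNoetherianRing_fiber S (EGA4.Cpl S) q, ?_⟩⟩
  intro k' _ _ hfin
  have hLR : LR (k' ⊗[q.ResidueField] q.Fiber (EGA4.Cpl S)) :=
    transfer A S (fun R _ => LR R) (fun _ _ _ _ e h => h.of_ringEquiv e)
      (fun R R' _ _ _ M _ h => LR.of_isLocalization R R' M h) (EGA4.Cpl S)
      (fun p _ L _ _ => by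
        have := (hA'.2 p).1
        exact LR.tensor (hA'.2 p).2 L) q k'
  have hNo : IsNoetherianRing (k' ⊗[q.ResidueField] q.Fiber (EGA4.Cpl S)) :=
    Groth.Agent.H34.AdicFib.noeth_fibre S (EGA4.Cpl S) q k' hfin
  exact hLR.isRegularRing

/-- regular formal fibres descend from the henselization. -/
theorem isRegularHom_cpl_of_hens (hS : CAlg.IsRegularHom S (EGA4.Cpl S)) :
    CAlg.IsRegularHom A (EGA4.Cpl A) := by
  have hN : IsNoetherianRing S := isNoetherianRing_hens A S
  obtain ⟨e⟩ := nonempty_cplEquiv A S
  have h1 : CAlg.IsRegularHom A (EGA4.Cpl S) :=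
    Groth.Agent.S9294.result A S (EGA4.Cpl S) (isRegularHom_hens A S) hS
      (fun p _ => Groth.Agent.H34.FibLoc.isNoetherianRing_fiber A (EGA4.Cpl S) p)
  exact Groth.Agent.H34.GRingLoc.isRegularHom_of_algEquiv e.symm h1

end noeth
end Groth.Agent.H34.HensRegular
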