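import Mathlib
import Groth.Agent.H34.GRingLoc
import Groth.Agent.H34.ComplQuot
import Groth.Agent.H20.FibBCGen
import Groth.Agent.H20.FormalFib

/-! G-rings and quotients: formal fibres of `A/Q` at `0` versus formal fibres of `A` at `Q`;
G-ring iff generic formal fibres of all `(R/q)_P` are geometrically regular (helper34). -/

set_option autoImplicit false
universe u
open IsLocalRing TensorProduct

namespace Groth.Agent.H34.GRingQuot

/-- transport of geometric regularity of a fibre along an equality of primes. -/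
theorem geomRegular_fibre_congr {A B : Type u} [CommRing A] [CommRing B] [Algebra A B]
    {Q Q' : Ideal A} [hQ : Q.IsPrime] [hQ' : Q'.IsPrime] (h : Q = Q')
    (hr : CAlg.IsGeometricallyRegular Q.ResidueField (Q.Fiber B)) :
    CAlg.IsGeometricallyRegular Q'.ResidueField (Q'.Fiber B) := by
  subst h; exact hr

section quot
variable (A : Type u) [CommRing A] [IsNoetherianRing A] [IsLocalRing A]

/-- the formal fibre of `A` at `Q` is geometrically regular if the generic formal fibre of `A/Q`
is. -/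
theorem geomRegular_formalFibre_of_quotient (Q : Ideal A) [Q.IsPrime]
    (h : CAlg.IsGeometricallyRegular (⊥ : Ideal (A ⧸ Q)).ResidueField
      (EGA4.formalFibre (A ⧸ Q) ⊥)) :
    CAlg.IsGeometricallyRegular Q.ResidueField (EGA4.formalFibre A Q) := by
  have hN : IsNoetherianRing ((⊥ : Ideal (A ⧸ Q)).Fiber (EGA4.Cpl (A ⧸ Q))) :=
    Groth.Agent.H34.FibLoc.isNoetherianRing_fiber (A ⧸ Q) (EGA4.Cpl (A ⧸ Q)) ⊥
  have s1 := (Groth.Agent.H20.FormalFib.geomRegular_fibre_of_algEquiv (A ⧸ Q)
    (EGA4.Cpl (A ⧸ Q)) ((A ⧸ Q) ⊗[A] EGA4.Cpl A)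
    (Groth.Agent.H34.ComplQuot.cplQuotEquivTensor A Q).symm ⊥ hN h).2
  have s2 := Groth.Agent.H20.FibBCGen.geomRegular_fibre_of_baseChange A (EGA4.Cpl A) (A ⧸ Q) ⊥ s1
  have hk : (⊥ : Ideal (A ⧸ Q)).comap (algebraMap A (A ⧸ Q)) = Q := by
    rw [← RingHom.ker_eq_comap_bot]; exact Ideal.mk_ker
  exact geomRegular_fibre_congr hk s2

/-- regularity of the completion map passes to quotients. -/
theorem isRegularHom_cpl_quotient (hA : CAlg.IsRegularHom A (EGA4.Cpl A)) (J : Ideal A)
    [Nontrivial (A ⧸ J)] : CAlg.IsRegularHom (A ⧸ J) (EGA4.Cpl (A ⧸ J)) := by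
  have h1 : CAlg.IsRegularHom (A ⧸ J) ((A ⧸ J) ⊗[A] EGA4.Cpl A) :=
    Groth.Agent.H20.FibBCGen.isRegularHom_baseChange_of_finiteType A (EGA4.Cpl A) (A ⧸ J) hA
  exact Groth.Agent.H34.GRingLoc.isRegularHom_of_algEquiv
    (Groth.Agent.H34.ComplQuot.cplQuotEquivTensor A J) h1

end quot

/-- invariance of geometric regularity of a formal fibre under a ring isomorphism (given as a
bijective algebra map). -/
theorem geomRegular_formalFibre_of_bijective (D T : Type u) [CommRing D] [CommRing T]
    [IsLocalRing D] [IsLocalRing T] [IsNoetherianRing D] [Algebra D T]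
    (hb : Function.Bijective (algebraMap D T)) (Q' : Ideal T) [Q'.IsPrime]
    (h : CAlg.IsGeometricallyRegular (Q'.comap (algebraMap D T)).ResidueField
      (EGA4.formalFibre D (Q'.comap (algebraMap D T)))) :
    CAlg.IsGeometricallyRegular Q'.ResidueField (EGA4.formalFibre T Q') := by
  let e : D ≃+* T := RingEquiv.ofBijective (algebraMap D T) hb
  have hN' : IsNoetherianRing T := isNoetherianRing_of_ringEquiv D e
  have hmap : (maximalIdeal D).map e = maximalIdeal T := IsLocalRing.map_ringEquiv_maximalIdeal e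
  have hφ : maximalIdeal D ≤ (maximalIdeal T).comap (Algebra.ofId D T) := by
    intro a ha
    rw [Ideal.mem_comap, ← hmap]
    exact Ideal.mem_map_of_mem _ ha
  have hsurj : ∀ (k : ℕ) (s : T), ∃ a : D, s - Algebra.ofId D T a ∈ maximalIdeal T ^ k := by
    intro k s
    refine ⟨e.symm s, ?_⟩
    have : Algebra.ofId D T (e.symm s) = s := e.apply_symm_apply s
    rw [this, sub_self]
    exact Ideal.zero_mem _
  have hinj : ∀ (k : ℕ) (a : D), Algebra.ofId D T a ∈ maximalIdeal T ^ k →
      a ∈ maximalIdeal D ^ k := by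
    intro k a ha
    rw [← hmap, ← Ideal.map_pow] at ha
    exact Ideal.apply_mem_of_equiv_iff.mp ha
  let E : EGA4.Cpl D ≃ₐ[D] EGA4.Cpl T := AlgEquiv.ofBijective _
    (Groth.Agent.H87.ComplIso.hatMap_bijective (R := D) (P := D) (S := T) (maximalIdeal D)
      (maximalIdeal T) (Algebra.ofId D T) hφ hsurj hinj)
  have hloc : IsLocalization (IsUnit.submonoid D) T :=
    IsLocalization.of_le_isUnit_of_bijective Algebra.algebraMapSubmonoid_isUnit_le_isUnit hb
  have hNC : IsNoetherianRing (EGA4.Cpl T) := inferInstance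
  have hN : IsNoetherianRing ((Q'.comap (algebraMap D T)).Fiber (EGA4.Cpl D)) :=
    Groth.Agent.H34.FibLoc.isNoetherianRing_fiber D (EGA4.Cpl D) _
  have s1 := (Groth.Agent.H20.FormalFib.geomRegular_fibre_of_algEquiv D (EGA4.Cpl D)
    (EGA4.Cpl T) E (Q'.comap (algebraMap D T)) hN h).2
  intro k' _ _ hfin
  obtain ⟨alg, hfin', ⟨e'⟩⟩ := Groth.Agent.H34.FibLoc.exists_ringEquiv D (EGA4.Cpl T)
    (IsUnit.submonoid D) T (EGA4.Cpl T) Q' k' hfin
  let := alg
  have h3 : IsRegularRing (k' ⊗[(Q'.comap (algebraMap D T)).ResidueField]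
      (Q'.comap (algebraMap D T)).Fiber (EGA4.Cpl T)) := s1 k' hfin'
  exact @IsRegularRing.of_ringEquiv (k' ⊗[(Q'.comap (algebraMap D T)).ResidueField]
      (Q'.comap (algebraMap D T)).Fiber (EGA4.Cpl T)) _ (k' ⊗[Q'.ResidueField]
      Q'.Fiber (EGA4.Cpl T)) _ e' h3

section loc
variable {R : Type u} [CommRing R] (I : Ideal R) (P : Ideal (R ⧸ I)) [P.IsPrime]

/-- the prime of `R` below `P`. -/
abbrev pp : Ideal R := P.comap (Ideal.Quotient.mk I)

/-- `R_p`. -/
abbrev AA : Type u := Localization.AtPrime (pp I P)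

/-- `I R_p`. -/
abbrev JJ : Ideal (AA I P) := I.map (algebraMap R (AA I P))

/-- `R_p / I R_p`. -/
abbrev TT : Type u := AA I P ⧸ JJ I P

noncomputable instance quotAlg : Algebra (R ⧸ I) (TT I P) :=
  (Ideal.quotientMap (JJ I P) (algebraMap R (AA I P)) Ideal.le_comap_map).toAlgebra

theorem algebraMap_mk (a : R) : algebraMap (R ⧸ I) (TT I P) (Ideal.Quotient.mk I a) =
    Ideal.Quotient.mk (JJ I P) (algebraMap R (AA I P) a) := rfl

omit [P.IsPrime] in
theorem le_pp : I ≤ pp I P := by
  intro a ha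
  show Ideal.Quotient.mk I a ∈ P
  rw [Ideal.Quotient.eq_zero_iff_mem.mpr ha]
  exact Ideal.zero_mem _

theorem JJ_le : JJ I P ≤ maximalIdeal (AA I P) := by
  rw [Ideal.map_le_iff_le_comap]
  have h := IsLocalization.AtPrime.under_maximalIdeal (AA I P) (pp I P)
  show I ≤ Ideal.under R (maximalIdeal (AA I P))
  rw [h]
  exact le_pp I P

instance nontrivial_TT : Nontrivial (TT I P) :=
  Ideal.Quotient.nontrivial_iff.mpr (fun h => by
    have := JJ_le I P
    rw [h, top_le_iff] at this
    exact (maximalIdeal.isMaximal (AA I P)).ne_top this)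

theorem isLocalization_TT : IsLocalization.AtPrime (TT I P) P := by
  refine ⟨?_, ?_, ?_⟩
  · rintro ⟨x, hx⟩
    obtain ⟨a, rfl⟩ := Ideal.Quotient.mk_surjective x
    have ha : a ∈ (pp I P).primeCompl := fun h => hx h
    rw [algebraMap_mk]
    exact (IsLocalization.map_units (AA I P) ⟨a, ha⟩).map _
  · intro z
    obtain ⟨y, rfl⟩ := Ideal.Quotient.mk_surjective z
    obtain ⟨a, s, rfl⟩ := IsLocalization.exists_mk'_eq (pp I P).primeCompl y
    refine ⟨(Ideal.Quotient.mk I a, ⟨Ideal.Quotient.mk I s, s.2⟩), ?_⟩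
    show Ideal.Quotient.mk _ _ * algebraMap (R ⧸ I) _ (Ideal.Quotient.mk I (s : R)) =
      algebraMap (R ⧸ I) _ (Ideal.Quotient.mk I a)
    rw [algebraMap_mk, algebraMap_mk, ← map_mul, IsLocalization.mk'_spec]
  · intro x y hxy
    obtain ⟨a, rfl⟩ := Ideal.Quotient.mk_surjective x
    obtain ⟨b, rfl⟩ := Ideal.Quotient.mk_surjective y
    rw [algebraMap_mk, algebraMap_mk, Ideal.Quotient.eq, ← map_sub,
      IsLocalization.algebraMap_mem_map_algebraMap_iff (pp I P).primeCompl] at hxy
    obtain ⟨s, hs, hsab⟩ := hxy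
    refine ⟨⟨Ideal.Quotient.mk I s, hs⟩, ?_⟩
    show Ideal.Quotient.mk I s * Ideal.Quotient.mk I a = Ideal.Quotient.mk I s * Ideal.Quotient.mk I b
    rw [← map_mul, ← map_mul, Ideal.Quotient.eq, ← mul_sub]; exact hsab

/-- the `R/I`-isomorphism `(R/I)_P ≃ R_p / I R_p`. -/
noncomputable def locEquiv : Localization.AtPrime P ≃ₐ[R ⧸ I] TT I P :=
  have := isLocalization_TT I P
  IsLocalization.algEquiv P.primeCompl (Localization.AtPrime P) (TT I P)

end loc

/-- a quotient of a G-ring is a G-ring. -/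
theorem isGRing_quotient (R : Type u) [CommRing R] (hR : CAlg.IsGRing R) (I : Ideal R) :
    CAlg.IsGRing (R ⧸ I) := by
  obtain ⟨hN, hR⟩ := hR
  refine ⟨inferInstance, fun P _ => ?_⟩
  have h1 := isRegularHom_cpl_quotient (AA I P) (hR (pp I P)) (JJ I P)
  exact Groth.Agent.H34.GRingLoc.isRegularHom_cpl_of_ringEquiv (locEquiv I P).symm.toRingEquiv h1

/-- key step for the converse: from the generic formal fibre of `(R/q)_P` to the formal fibre of
`R_p` at the prime `Q` over `q`. -/
theorem geomRegular_formalFibre_of_loc_quotient {R : Type u} [CommRing R] [IsNoetherianRing R]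
    (q : Ideal R) [q.IsPrime] (P : Ideal (R ⧸ q)) [P.IsPrime] (p : Ideal R) [p.IsPrime]
    (hp : pp q P = p) (Q : Ideal (Localization.AtPrime p)) [Q.IsPrime]
    (hQ : Q.comap (algebraMap R (Localization.AtPrime p)) = q)
    (hH : CAlg.IsGeometricallyRegular (⊥ : Ideal (Localization.AtPrime P)).ResidueField
      (EGA4.formalFibre (Localization.AtPrime P) (⊥ : Ideal (Localization.AtPrime P)))) :
    CAlg.IsGeometricallyRegular Q.ResidueField (EGA4.formalFibre (Localization.AtPrime p) Q) := by
  subst hp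
  have hQJ : JJ q P = Q := by
    have h1 := IsLocalization.map_under (pp q P).primeCompl (AA q P) Q
    have h2 : Ideal.under R Q = q := hQ
    rw [h2] at h1
    exact h1
  subst hQJ
  let _ : Algebra (Localization.AtPrime P) (TT q P) := (locEquiv q P).toRingEquiv.toRingHom.toAlgebra
  have hb : Function.Bijective (algebraMap (Localization.AtPrime P) (TT q P)) :=
    (locEquiv q P).bijective
  have hcomap : (⊥ : Ideal (TT q P)).comap (algebraMap (Localization.AtPrime P) (TT q P)) = ⊥ :=
    Ideal.comap_bot_of_injective _ hb.1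
  have h' := geomRegular_fibre_congr (B := EGA4.Cpl (Localization.AtPrime P)) hcomap.symm hH
  have s := geomRegular_formalFibre_of_bijective (Localization.AtPrime P) (TT q P) hb ⊥ h'
  exact geomRegular_formalFibre_of_quotient (AA q P) (JJ q P) s

/-- **G-ring criterion**: a Noetherian ring is a G-ring iff the generic formal fibres of all the
local domains `(R/q)_P` are geometrically regular. -/
theorem isGRing_iff (R : Type u) [CommRing R] [IsNoetherianRing R] :
    CAlg.IsGRing R ↔
      ∀ (q : Ideal R) [q.IsPrime] (P : Ideal (R ⧸ q)) [P.IsPrime],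
        CAlg.IsGeometricallyRegular (⊥ : Ideal (Localization.AtPrime P)).ResidueField
          (EGA4.formalFibre (Localization.AtPrime P) (⊥ : Ideal (Localization.AtPrime P))) := by
  constructor
  · intro hR q _ P _
    exact (((isGRing_quotient R hR q).2 P).2 ⊥).2
  · intro H
    refine ⟨inferInstance, fun p _ => ⟨inferInstance, fun Q _ => ?_⟩⟩
    refine ⟨Groth.Agent.H34.FibLoc.isNoetherianRing_fiber _ _ Q, ?_⟩
    -- the prime of `R` below `Q`
    let q : Ideal R := Q.comap (algebraMap R (Localization.AtPrime p))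
    have hqp : q ≤ p := by
      intro a ha
      have h1 : algebraMap R (Localization.AtPrime p) a ∈ maximalIdeal (Localization.AtPrime p) :=
        IsLocalRing.le_maximalIdeal (Ideal.IsPrime.ne_top inferInstance) ha
      rwa [IsLocalization.AtPrime.to_map_mem_maximal_iff (Localization.AtPrime p) p] at h1
    have hP : (p.map (Ideal.Quotient.mk q)).IsPrime :=
      Ideal.map_isPrime_of_surjective Ideal.Quotient.mk_surjective (by rwa [Ideal.mk_ker])
    have hpp : pp q (p.map (Ideal.Quotient.mk q)) = p := by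
      show (p.map (Ideal.Quotient.mk q)).comap (Ideal.Quotient.mk q) = p
      rw [Ideal.comap_map_of_surjective' _ Ideal.Quotient.mk_surjective, Ideal.mk_ker]
      exact sup_eq_left.mpr hqp
    exact geomRegular_formalFibre_of_loc_quotient q (p.map (Ideal.Quotient.mk q)) p hpp Q rfl
      (H q (p.map (Ideal.Quotient.mk q)))
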