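import Mathlib

/-! Extension of derivations `D : R → R` to localizations and adic completions (helper34;
the completion part generalizes helper87's `S18156.Dhat` from fields `k` to any base ring). -/

set_option autoImplicit false
universe u v

namespace Groth.Agent.H34.DerivExt

section loc

/-- A derivation of `R` extends to any localization `S` of `R`. -/
theorem exists_derivation_localization {R S : Type*} [CommRing R] [CommRing S] [Algebra R S]
    (M : Submonoid R) [IsLocalization M S] (D : Derivation ℤ R R) :
    ∃ D' : Derivation ℤ S S, ∀ r, D' (algebraMap R S r) = algebraMap R S (D r) := by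
  let φ : R →+* TrivSqZeroExt S S :=
    { toFun := fun r =>
        TrivSqZeroExt.inl (algebraMap R S r) + TrivSqZeroExt.inr (algebraMap R S (D r))
      map_one' := by
        ext
        · simp
        · simp
      map_mul' := fun a b => by
        ext
        · simp
        · simp [Derivation.leibniz]
          rw [Algebra.smul_def, Algebra.smul_def]
          ring
      map_zero' := by
        ext <;> simp
      map_add' := fun a b => by
        ext
        · simp
        · simp
          rw [Algebra.smul_def, Algebra.smul_def, mul_one, mul_one] }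
  have hφfst : ∀ r, (φ r).fst = algebraMap R S r := fun r => by simp [φ]
  have hφsnd : ∀ r, (φ r).snd = algebraMap R S (D r) := fun r => by
    simp [φ]
    rw [Algebra.smul_def, mul_one]
  have hu : ∀ y : M, IsUnit (φ y) := by
    intro y
    rw [TrivSqZeroExt.isUnit_iff_isUnit_fst, hφfst]
    exact IsLocalization.map_units S y
  let Φ : S →+* TrivSqZeroExt S S := IsLocalization.lift hu
  have hΦ : ∀ a, Φ (algebraMap R S a) = φ a := IsLocalization.lift_eq hu
  have hfst : ∀ z, (Φ z).fst = z := by
    have h : (TrivSqZeroExt.fstHom S S S).toRingHom.comp Φ = RingHom.id S := by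
      apply IsLocalization.ringHom_ext M
      ext a
      simp [hΦ, hφfst]
    intro z
    have := congrArg (fun f => f z) h
    simpa using this
  let d : S →ₗ[ℤ] S := AddMonoidHom.toIntLinearMap
    { toFun := fun z => (Φ z).snd
      map_zero' := by simp
      map_add' := fun x y => by simp [map_add] }
  refine ⟨Derivation.mk' d (fun x y => ?_), fun r => ?_⟩
  · show (Φ (x * y)).snd = x • (Φ y).snd + y • (Φ x).snd
    simp only [map_mul, TrivSqZeroExt.snd_mul, hfst]
    simp [mul_comm]
  · show (Φ (algebraMap R S r)).snd = _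
    rw [hΦ, hφsnd]

end loc

section cpl

variable {k : Type*} [CommRing k] {A : Type v} [CommRing A] [Algebra k A]

theorem D_mem_pow (D : Derivation k A A) (I : Ideal A) (n : ℕ) {x : A} (hx : x ∈ I ^ (n + 1)) :
    D x ∈ I ^ n := by
  induction n generalizing x with
  | zero => simp
  | succ n ih =>
    rw [pow_succ] at hx
    refine Submodule.mul_induction_on hx ?_ ?_
    · intro a ha b hb
      rw [Derivation.leibniz]
      refine Ideal.add_mem _ ?_ ?_
      · rw [smul_eq_mul]; exact Ideal.mul_mem_right _ _ ha
      · rw [smul_eq_mul, pow_succ']; exact Ideal.mul_mem_mul hb (ih ha)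
    · intro x y hx hy
      rw [map_add]; exact Ideal.add_mem _ hx hy

theorem D_sub_mem (D : Derivation k A A) (I : Ideal A) (n : ℕ) {a b : A}
    (h : (Submodule.mkQ (I ^ (n + 1) • ⊤ : Submodule A A)) a = Submodule.mkQ _ b) :
    (Submodule.mkQ (I ^ n • ⊤ : Submodule A A)) (D a) = Submodule.mkQ _ (D b) := by
  rw [Submodule.mkQ_apply, Submodule.mkQ_apply, Submodule.Quotient.eq] at h ⊢
  rw [← map_sub]
  have h1 : a - b ∈ I ^ (n + 1) := by simpa using h
  have h2 := D_mem_pow D I n h1
  simpa using h2

noncomputable def Dval (D : Derivation k A A) (I : Ideal A) (x : AdicCompletion I A) (n : ℕ) :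
    A ⧸ (I ^ n • ⊤ : Submodule A A) :=
  Submodule.mkQ _ (D (Classical.choose (Submodule.mkQ_surjective _ (x.val (n + 1)))))

theorem Dval_eq (D : Derivation k A A) (I : Ideal A) (x : AdicCompletion I A) (n : ℕ) (a : A)
    (ha : Submodule.mkQ (I ^ (n + 1) • ⊤ : Submodule A A) a = x.val (n + 1)) :
    Dval D I x n = Submodule.mkQ _ (D a) := by
  unfold Dval
  apply D_sub_mem
  rw [Classical.choose_spec (Submodule.mkQ_surjective _ (x.val (n + 1))), ha]

theorem transition_mkQ (I : Ideal A) {m n : ℕ} (h : m ≤ n) (a : A) :
    AdicCompletion.transitionMap I A h (Submodule.mkQ _ a) = Submodule.mkQ _ a := rfl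

theorem lift_down (I : Ideal A) (x : AdicCompletion I A) {m n : ℕ} (hmn : m ≤ n) (a : A)
    (ha : Submodule.mkQ (I ^ n • ⊤ : Submodule A A) a = x.val n) :
    Submodule.mkQ (I ^ m • ⊤ : Submodule A A) a = x.val m := by
  rw [← x.2 hmn, ← ha, transition_mkQ]

noncomputable def Dhat (D : Derivation k A A) (I : Ideal A) (x : AdicCompletion I A) :
    AdicCompletion I A :=
  ⟨fun n => Dval D I x n, by
    intro m n hmn
    obtain ⟨a, ha⟩ := Submodule.mkQ_surjective _ (x.val (n + 1))
    have ha' := lift_down I x (Nat.add_le_add_right hmn 1) a ha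
    show AdicCompletion.transitionMap I A hmn (Dval D I x n) = Dval D I x m
    rw [Dval_eq D I x n a ha, Dval_eq D I x m a ha', transition_mkQ]⟩

theorem Dhat_add (D : Derivation k A A) (I : Ideal A) (x y : AdicCompletion I A) :
    Dhat D I (x + y) = Dhat D I x + Dhat D I y := by
  apply AdicCompletion.ext
  intro n
  obtain ⟨a, ha⟩ := Submodule.mkQ_surjective _ (x.val (n + 1))
  obtain ⟨b, hb⟩ := Submodule.mkQ_surjective _ (y.val (n + 1))
  have hab : Submodule.mkQ (I ^ (n + 1) • ⊤ : Submodule A A) (a + b) = (x + y).val (n + 1) := by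
    rw [map_add, ha, hb]; rfl
  show Dval D I (x + y) n = Dval D I x n + Dval D I y n
  rw [Dval_eq D I _ n _ hab, Dval_eq D I x n a ha, Dval_eq D I y n b hb, map_add, map_add]

theorem Dhat_smul (D : Derivation k A A) (I : Ideal A) (c : k) (x : AdicCompletion I A) :
    Dhat D I (c • x) = c • Dhat D I x := by
  apply AdicCompletion.ext
  intro n
  obtain ⟨a, ha⟩ := Submodule.mkQ_surjective _ (x.val (n + 1))
  have hca : Submodule.mkQ (I ^ (n + 1) • ⊤ : Submodule A A) (c • a) = (c • x).val (n + 1) := by
    rw [AdicCompletion.val_smul_apply, ← ha]; rfl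
  show Dval D I (c • x) n = c • Dval D I x n
  rw [Dval_eq D I _ n _ hca, Dval_eq D I x n a ha, Derivation.map_smul]; rfl

theorem Dhat_mul (D : Derivation k A A) (I : Ideal A) (x y : AdicCompletion I A) :
    Dhat D I (x * y) = x * Dhat D I y + y * Dhat D I x := by
  apply AdicCompletion.ext
  intro n
  obtain ⟨a, ha⟩ := Submodule.mkQ_surjective _ (x.val (n + 1))
  obtain ⟨b, hb⟩ := Submodule.mkQ_surjective _ (y.val (n + 1))
  have hab : Submodule.mkQ (I ^ (n + 1) • ⊤ : Submodule A A) (a * b) = (x * y).val (n + 1) := by
    rw [AdicCompletion.val_mul, ← ha, ← hb]; rfl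
  have ha' := lift_down I x (Nat.le_succ n) a ha
  have hb' := lift_down I y (Nat.le_succ n) b hb
  show Dval D I (x * y) n = x.val n * Dval D I y n + y.val n * Dval D I x n
  rw [Dval_eq D I _ n _ hab, Dval_eq D I x n a ha, Dval_eq D I y n b hb, ← ha', ← hb',
    Derivation.leibniz, map_add, smul_eq_mul, smul_eq_mul]
  rfl

theorem Dhat_algebraMap (D : Derivation k A A) (I : Ideal A) (a : A) :
    Dhat D I (algebraMap A (AdicCompletion I A) a) = algebraMap A (AdicCompletion I A) (D a) := by
  apply AdicCompletion.ext
  intro n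
  have ha : Submodule.mkQ (I ^ (n + 1) • ⊤ : Submodule A A) a =
      (algebraMap A (AdicCompletion I A) a).val (n + 1) := rfl
  show Dval D I _ n = _
  rw [Dval_eq D I _ n a ha]
  rfl

/-- A derivation of `A` extends to the `I`-adic completion of `A`, for any ideal `I`. -/
theorem exists_derivation_adicCompletion (D : Derivation k A A) (I : Ideal A) :
    ∃ D' : Derivation k (AdicCompletion I A) (AdicCompletion I A),
      ∀ a : A, D' (algebraMap A (AdicCompletion I A) a) =
        algebraMap A (AdicCompletion I A) (D a) := by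
  refine ⟨Derivation.mk'
    { toFun := Dhat D I
      map_add' := Dhat_add D _
      map_smul' := Dhat_smul D _ } (fun x y => Dhat_mul D _ x y), fun a => ?_⟩
  exact Dhat_algebraMap D _ a

end cpl

/-- `ℤ`-version with the standard `ℤ`-algebra structure on the completion. -/
theorem exists_derivation_adicCompletion_int {A : Type v} [CommRing A] (D : Derivation ℤ A A)
    (I : Ideal A) :
    ∃ D' : @Derivation ℤ (AdicCompletion I A) (AdicCompletion I A) _ _ _
        (Ring.toIntAlgebra (AdicCompletion I A)) _ _,
      ∀ a : A, D' (algebraMap A (AdicCompletion I A) a) =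
        algebraMap A (AdicCompletion I A) (D a) := by
  let d : AdicCompletion I A →ₗ[ℤ] AdicCompletion I A := AddMonoidHom.toIntLinearMap
    (AddMonoidHom.mk' (Dhat D I) (Dhat_add D I))
  refine ⟨Derivation.mk' d (fun x y => ?_), fun a => Dhat_algebraMap D I a⟩
  show Dhat D I (x * y) = x • Dhat D I y + y • Dhat D I x
  rw [smul_eq_mul, smul_eq_mul]
  exact Dhat_mul D I x y

end Groth.Agent.H34.DerivExt
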