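import Mathlib
import Groth.Agent.H34.DerivExt
import Groth.Agent.H29.CplFinite
import Groth.Agent.S9227

/-! Key step for "complete local rings are G-rings": adjoining a `p`-th root keeps
`Cpl C₀ ⊗ E` regular, given a derivation (helper34). -/

set_option autoImplicit false
universe u
open TensorProduct Polynomial IsLocalRing

namespace Groth.Agent.H34.PthRootStep

section keystep
variable (C₀ : Type u) [CommRing C₀] [IsNoetherianRing C₀] [IsLocalRing C₀]
  (B : Type u) [CommRing B] [IsDomain B] [Algebra C₀ B] [Module.Finite C₀ B]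
  (E : Type u) [Field E] [Algebra B E] [IsFractionRing B E] [Algebra C₀ E] [IsScalarTower C₀ B E]

/-- **Key step.** `B` a domain finite over the Noetherian local ring `C₀`, with fraction field
`E`; `a ∈ B` and `D` a derivation of `B` with `D a ≠ 0`. If `Ĉ₀ ⊗ E` is regular then so is
`(Ĉ₀ ⊗ E)[z]/(z^p - a)`. -/
theorem keystep (p : ℕ) (a : B) (D : Derivation ℤ B B) (hD : D a ≠ 0)
    (hreg : IsRegularRing (EGA4.Cpl C₀ ⊗[C₀] E)) :
    IsRegularRing (AdjoinRoot (R := EGA4.Cpl C₀ ⊗[C₀] E)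
      (X ^ p - Polynomial.C ((1 : EGA4.Cpl C₀) ⊗ₜ[C₀] algebraMap B E a))) := by
  classical
  obtain ⟨θ⟩ := Groth.Agent.H29.CplFinite.nonempty_cplFiniteEquiv C₀ B
  obtain ⟨Dh, hDh⟩ := Groth.Agent.H34.DerivExt.exists_derivation_adicCompletion_int D
    ((⊥ : Ideal B).jacobson)
  let T : Submonoid (AdicCompletion ((⊥ : Ideal B).jacobson) B) :=
    Algebra.algebraMapSubmonoid (AdicCompletion ((⊥ : Ideal B).jacobson) B) (nonZeroDivisors B)
  obtain ⟨DW, hDW⟩ := Groth.Agent.H34.DerivExt.exists_derivation_localization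
    (S := Localization T) T Dh
  have hT : T.map θ.toRingEquiv.toMonoidHom =
      Algebra.algebraMapSubmonoid (B ⊗[C₀] EGA4.Cpl C₀) (nonZeroDivisors B) := by
    ext y
    constructor
    · rintro ⟨_, ⟨b, hb, rfl⟩, rfl⟩
      exact ⟨b, hb, (θ.commutes b).symm⟩
    · rintro ⟨b, hb, rfl⟩
      exact ⟨algebraMap B _ b, ⟨b, hb, rfl⟩, θ.commutes b⟩
  let ψ₁ : Localization T ≃+* (B ⊗[C₀] EGA4.Cpl C₀) ⊗[B] E :=
    IsLocalization.ringEquivOfRingEquiv (Localization T) ((B ⊗[C₀] EGA4.Cpl C₀) ⊗[B] E)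
      θ.toRingEquiv hT
  let ψ₂ : (B ⊗[C₀] EGA4.Cpl C₀) ⊗[B] E ≃ₐ[B] E ⊗[B] (B ⊗[C₀] EGA4.Cpl C₀) :=
    Algebra.TensorProduct.comm B _ E
  let ψ₃ : E ⊗[B] (B ⊗[C₀] EGA4.Cpl C₀) ≃ₐ[B] E ⊗[C₀] EGA4.Cpl C₀ :=
    Algebra.TensorProduct.cancelBaseChange C₀ B B E (EGA4.Cpl C₀)
  let ψ₄ : E ⊗[C₀] EGA4.Cpl C₀ ≃ₐ[C₀] EGA4.Cpl C₀ ⊗[C₀] E :=
    Algebra.TensorProduct.comm C₀ E (EGA4.Cpl C₀)
  let ψ : Localization T ≃+* EGA4.Cpl C₀ ⊗[C₀] E :=
    ψ₁.trans (ψ₂.toRingEquiv.trans (ψ₃.toRingEquiv.trans ψ₄.toRingEquiv))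
  have hψ : ∀ b : B, ψ (algebraMap _ (Localization T)
      (algebraMap B (AdicCompletion ((⊥ : Ideal B).jacobson) B) b)) =
      (1 : EGA4.Cpl C₀) ⊗ₜ[C₀] algebraMap B E b := by
    intro b
    show ψ₄ (ψ₃ (ψ₂ (ψ₁ _))) = _
    rw [IsLocalization.ringEquivOfRingEquiv_eq]
    have h1 : θ.toRingEquiv (algebraMap B (AdicCompletion ((⊥ : Ideal B).jacobson) B) b) =
        b ⊗ₜ[C₀] (1 : EGA4.Cpl C₀) := by
      show θ _ = _
      rw [θ.commutes, Algebra.TensorProduct.algebraMap_apply]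
      rfl
    rw [h1, Algebra.TensorProduct.algebraMap_apply]
    show ψ₄ (ψ₃ (ψ₂ ((b ⊗ₜ[C₀] (1 : EGA4.Cpl C₀)) ⊗ₜ[B] (1 : E)))) = _
    rw [Algebra.TensorProduct.comm_tmul, Algebra.TensorProduct.cancelBaseChange_tmul,
      Algebra.TensorProduct.comm_tmul, Algebra.smul_def, mul_one]
  have hregW : IsRegularRing (Localization T) := IsRegularRing.of_ringEquiv ψ.symm
  have hunit : IsUnit (DW (algebraMap _ (Localization T)
      (algebraMap B (AdicCompletion ((⊥ : Ideal B).jacobson) B) a))) := by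
    rw [hDW, show Dh (algebraMap B _ a) = algebraMap B _ (D a) from hDh a]
    exact IsLocalization.map_units (Localization T)
      (⟨algebraMap B _ (D a), ⟨D a, mem_nonZeroDivisors_of_ne_zero hD, rfl⟩⟩ : T)
  have h9 := Groth.Agent.S9227.result (Localization T) _ DW hunit (X ^ p : Polynomial ℤ)
  have h9' : IsRegularRing (AdjoinRoot
      (Polynomial.map (Int.castRingHom (Localization T)) (X ^ p : Polynomial ℤ) -
      Polynomial.C (algebraMap _ (Localization T)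
        (algebraMap B (AdicCompletion ((⊥ : Ideal B).jacobson) B) a)))) := h9
  let algWZ : Algebra (Localization T) (EGA4.Cpl C₀ ⊗[C₀] E) := ψ.toRingHom.toAlgebra
  let ψ' : Localization T ≃ₐ[Localization T] (EGA4.Cpl C₀ ⊗[C₀] E) :=
    AlgEquiv.ofRingEquiv (f := ψ) (fun x => rfl)
  have hq : Associated (Polynomial.map (ψ' : Localization T →+* _)
      (Polynomial.map (Int.castRingHom (Localization T)) (X ^ p : Polynomial ℤ) -
      Polynomial.C (algebraMap _ (Localization T)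
        (algebraMap B (AdicCompletion ((⊥ : Ideal B).jacobson) B) a))))
      (X ^ p - Polynomial.C ((1 : EGA4.Cpl C₀) ⊗ₜ[C₀] algebraMap B E a) :
        (EGA4.Cpl C₀ ⊗[C₀] E)[X]) := by
    convert Associated.refl _ using 1
    simp only [Polynomial.map_sub, Polynomial.map_pow, Polynomial.map_X, Polynomial.map_C]
    congr 2
    exact (hψ a).symm
  have e := AdjoinRoot.mapAlgEquiv ψ' _ _ hq
  exact IsRegularRing.of_ringEquiv e.toRingEquiv

end keystep

end Groth.Agent.H34.PthRootStep
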