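import Mathlib
import Groth.Agent.H34.PthRootStep
import Groth.Agent.S2048
import Groth.Agent.H11.LocalGlobalN2

/-! Existence of the data (finite algebra + derivation) needed for the key step (helper34). -/

set_option autoImplicit false
universe u
open TensorProduct Polynomial IsLocalRing

namespace Groth.Agent.H34.PthRootStep

section data
variable (R : Type u) [CommRing R] [IsLocalRing R] [IsNoetherianRing R]
  [IsAdicComplete (maximalIdeal R) R]
  (A : Type u) [CommRing A] [IsDomain A] [Algebra R A] [Algebra.FiniteType R A]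
  (p : ℕ) [Fact p.Prime] [CharP A p] (hN2 : CAlg.IsN2 A)
  (P : Ideal A) [P.IsPrime]
  (K₀ : Type u) [Field K₀] [Algebra A K₀] [IsFractionRing A K₀]
  (E : Type u) [Field E] [Algebra K₀ E] [FiniteDimensional K₀ E] [Algebra A E]
  [IsScalarTower A K₀ E]
  (C₀ : Type u) [CommRing C₀] [Algebra A C₀] [IsLocalization.AtPrime C₀ P] [IsLocalRing C₀]
  [IsNoetherianRing C₀]
  [Algebra C₀ E] [IsScalarTower A C₀ E]

include R hN2 K₀ P in
/-- For `aE ∈ E` which is not a `p`-th power there is `c ≠ 0` such that adjoining a `p`-th root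
of `c^p aE` keeps `Ĉ₀ ⊗ E` regular (`C₀ = A_P`). -/
theorem exists_step_data (aE : E) (hno : ∀ e : E, e ^ p ≠ aE) :
    ∃ c : E, c ≠ 0 ∧ (IsRegularRing (EGA4.Cpl C₀ ⊗[C₀] E) →
      IsRegularRing (AdjoinRoot (R := EGA4.Cpl C₀ ⊗[C₀] E)
        (X ^ p - Polynomial.C ((1 : EGA4.Cpl C₀) ⊗ₜ[C₀] (c ^ p * aE))))) := by
  classical
  have hp : p.Prime := Fact.out
  have hinjAK : Function.Injective (algebraMap A K₀) := IsFractionRing.injective A K₀
  have hinjAE : Function.Injective (algebraMap A E) := by
    rw [IsScalarTower.algebraMap_eq A K₀ E]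
    exact (algebraMap K₀ E).injective.comp hinjAK
  let B₀ : Subalgebra A E := integralClosure A E
  have hfinB : Module.Finite A B₀ :=
    Groth.Agent.H11.LocalGlobalN2.finite_integralClosure_of_isN2 hN2 K₀ E
  have hfrac : IsFractionRing B₀ E := integralClosure.isFractionRing_of_finite_extension K₀ E
  obtain ⟨b₁, b₂, hb₂, hb⟩ := IsFractionRing.div_surjective (A := B₀) aE
  have hc : algebraMap B₀ E b₂ ≠ 0 := IsFractionRing.to_map_ne_zero_of_mem_nonZeroDivisors hb₂
  have ha : algebraMap B₀ E (b₂ ^ (p - 1) * b₁) = (algebraMap B₀ E b₂) ^ p * aE := by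
    rw [← hb, map_mul, map_pow]
    have h1 : (algebraMap B₀ E b₂) ^ p = (algebraMap B₀ E b₂) ^ (p - 1) * algebraMap B₀ E b₂ := by
      rw [← pow_succ, Nat.sub_add_cancel hp.one_le]
    rw [h1]
    field_simp
  have hnoE : ∀ e : E, e ^ p ≠ algebraMap B₀ E (b₂ ^ (p - 1) * b₁) := by
    intro e he
    apply hno (e / algebraMap B₀ E b₂)
    rw [div_pow, he, ha]
    field_simp
  have hnoF : ∀ y : FractionRing B₀, y ^ p ≠
      algebraMap B₀ (FractionRing B₀) (b₂ ^ (p - 1) * b₁) := by
    intro y hy
    apply hnoE (FractionRing.algEquiv B₀ E y)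
    rw [← map_pow, hy, AlgEquiv.commutes]
  let _ : Algebra R B₀ := ((algebraMap A B₀).comp (algebraMap R A)).toAlgebra
  have : IsScalarTower R A B₀ := IsScalarTower.of_algebraMap_eq (fun _ => rfl)
  have hft : Algebra.FiniteType R B₀ := Algebra.FiniteType.trans (S := A) inferInstance inferInstance
  have hinjAB : Function.Injective (algebraMap A B₀) := fun x y h =>
    hinjAE (by simpa using congrArg Subtype.val h)
  have hchar : CharP B₀ p := charP_of_injective_algebraMap hinjAB p
  obtain ⟨D₀, hD₀⟩ := Groth.Agent.S2048.result (R := R) (B := B₀) p (b₂ ^ (p - 1) * b₁) hnoF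
  -- localize at `A ∖ P`
  have hle : Algebra.algebraMapSubmonoid B₀ P.primeCompl ≤ nonZeroDivisors B₀ := by
    rintro _ ⟨s, hs, rfl⟩
    apply mem_nonZeroDivisors_of_ne_zero
    intro h0
    have : s = 0 := hinjAB (by rw [h0, map_zero])
    exact hs (by rw [this]; exact P.zero_mem)
  let _ : Algebra C₀ (Localization (Algebra.algebraMapSubmonoid B₀ P.primeCompl)) :=
    localizationAlgebra P.primeCompl B₀
  have tow0 : IsScalarTower A C₀ (Localization (Algebra.algebraMapSubmonoid B₀ P.primeCompl)) :=
    isScalarTower_localizationAlgebra _ _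
  have hfinCB : Module.Finite C₀
      (Localization (Algebra.algebraMapSubmonoid B₀ P.primeCompl)) :=
    Module.Finite.of_isLocalization A B₀ P.primeCompl
  have hdom : IsDomain (Localization (Algebra.algebraMapSubmonoid B₀ P.primeCompl)) :=
    IsLocalization.isDomain_localization hle
  let _ : Algebra (Localization (Algebra.algebraMapSubmonoid B₀ P.primeCompl)) E :=
    IsLocalization.localizationAlgebraOfSubmonoidLe
      (Localization (Algebra.algebraMapSubmonoid B₀ P.primeCompl)) E
      (Algebra.algebraMapSubmonoid B₀ P.primeCompl) (nonZeroDivisors B₀) hle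
  have tow1 : IsScalarTower B₀ (Localization (Algebra.algebraMapSubmonoid B₀ P.primeCompl)) E :=
    IsLocalization.localization_isScalarTower_of_submonoid_le
      (Localization (Algebra.algebraMapSubmonoid B₀ P.primeCompl)) E
      (Algebra.algebraMapSubmonoid B₀ P.primeCompl) (nonZeroDivisors B₀) hle
  have hfrac' : IsFractionRing (Localization (Algebra.algebraMapSubmonoid B₀ P.primeCompl)) E :=
    IsFractionRing.isFractionRing_of_isDomain_of_isLocalization
      (Algebra.algebraMapSubmonoid B₀ P.primeCompl) _ E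
  have tow2 : IsScalarTower C₀
      (Localization (Algebra.algebraMapSubmonoid B₀ P.primeCompl)) E :=
    IsScalarTower.of_algebraMap_eq' (by
      apply IsLocalization.ringHom_ext P.primeCompl
      ext a
      simp only [RingHom.comp_apply]
      rw [← IsScalarTower.algebraMap_apply A C₀ E,
        ← IsScalarTower.algebraMap_apply A C₀
          (Localization (Algebra.algebraMapSubmonoid B₀ P.primeCompl)),
        IsScalarTower.algebraMap_apply A B₀
          (Localization (Algebra.algebraMapSubmonoid B₀ P.primeCompl)),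
        ← IsScalarTower.algebraMap_apply B₀
          (Localization (Algebra.algebraMapSubmonoid B₀ P.primeCompl)) E,
        ← IsScalarTower.algebraMap_apply A B₀ E])
  obtain ⟨D, hD⟩ := Groth.Agent.H34.DerivExt.exists_derivation_localization
    (S := Localization (Algebra.algebraMapSubmonoid B₀ P.primeCompl))
    (Algebra.algebraMapSubmonoid B₀ P.primeCompl) D₀
  have hDa : D (algebraMap B₀ _ (b₂ ^ (p - 1) * b₁)) ≠ 0 := by
    rw [hD]
    intro h0
    exact hD₀ (IsLocalization.injective _ hle (by rw [h0, map_zero]))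
  refine ⟨algebraMap B₀ E b₂, hc, fun hE => ?_⟩
  have key := keystep C₀
    (Localization (Algebra.algebraMapSubmonoid B₀ P.primeCompl)) E p
    (algebraMap B₀ _ (b₂ ^ (p - 1) * b₁)) D hDa hE
  rwa [← IsScalarTower.algebraMap_apply B₀ _ E, ha] at key

end data

end Groth.Agent.H34.PthRootStep
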