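import Mathlib
import Groth.Agent.H34.PthRootData

/-! Induction over towers of `p`-th roots: `Ĉ₀ ⊗ L` is regular for every finite purely inseparable
extension of exponent one (iterated) (helper34). -/

set_option autoImplicit false
universe u
open TensorProduct Polynomial IsLocalRing

namespace Groth.Agent.H34.PthRootStep

section ind
variable (R : Type u) [CommRing R] [IsLocalRing R] [IsNoetherianRing R]
  [IsAdicComplete (maximalIdeal R) R]
  (A : Type u) [CommRing A] [IsDomain A] [Algebra R A] [Algebra.FiniteType R A]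
  (p : ℕ) [Fact p.Prime] [CharP A p] (hN2 : CAlg.IsN2 A)
  (P : Ideal A) [P.IsPrime]
  (K₀ : Type u) [Field K₀] [Algebra A K₀] [IsFractionRing A K₀]
  (C₀ : Type u) [CommRing C₀] [Algebra A C₀] [IsLocalization.AtPrime C₀ P] [IsLocalRing C₀]
  [IsNoetherianRing C₀]

include R hN2 K₀ P in
theorem ind (n : ℕ) : ∀ (E : Type u) [Field E] [Algebra K₀ E] [FiniteDimensional K₀ E]
    [Algebra A E] [IsScalarTower A K₀ E] [Algebra C₀ E] [IsScalarTower A C₀ E]
    (_ : IsRegularRing (EGA4.Cpl C₀ ⊗[C₀] E))
    (L : Type u) [Field L] [Algebra E L] [FiniteDimensional E L]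
    (_ : ∀ x : L, x ^ p ∈ (algebraMap E L).range) (_ : Module.finrank E L = n)
    [Algebra C₀ L] [IsScalarTower C₀ E L], IsRegularRing (EGA4.Cpl C₀ ⊗[C₀] L) := by
  induction n using Nat.strong_induction_on with
  | _ n ih =>
  intro E _ _ _ _ _ _ _ hE L _ _ _ hL hn _ _
  by_cases hs : Function.Surjective (algebraMap E L)
  · let e : E ≃ₐ[C₀] L := AlgEquiv.ofBijective (IsScalarTower.toAlgHom C₀ E L)
      ⟨(algebraMap E L).injective, hs⟩
    exact IsRegularRing.of_ringEquiv
      (Algebra.TensorProduct.congr (AlgEquiv.refl : EGA4.Cpl C₀ ≃ₐ[C₀] EGA4.Cpl C₀) e).toRingEquiv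
  · have hp : p.Prime := Fact.out
    obtain ⟨x, hx⟩ : ∃ x : L, x ∉ (algebraMap E L).range := by
      by_contra hcon
      push_neg at hcon
      exact hs (fun y => hcon y)
    obtain ⟨aE, haE⟩ := hL x
    have hinjAE : Function.Injective (algebraMap A E) := by
      rw [IsScalarTower.algebraMap_eq A K₀ E]
      exact (algebraMap K₀ E).injective.comp (IsFractionRing.injective A K₀)
    have hcharE : CharP E p := charP_of_injective_algebraMap hinjAE p
    have hcharL : CharP L p := charP_of_injective_algebraMap (algebraMap E L).injective p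
    have hno : ∀ e : E, e ^ p ≠ aE := by
      intro e he
      apply hx
      refine ⟨e, ?_⟩
      have h1 : (algebraMap E L e - x) ^ p = 0 := by
        rw [sub_pow_char, ← map_pow, he, haE, sub_self]
      exact sub_eq_zero.mp (pow_eq_zero_iff hp.ne_zero |>.mp h1)
    obtain ⟨c, hc, hstep⟩ := exists_step_data R A p hN2 P K₀ E C₀ aE hno
    have hreg1 := hstep hE
    obtain ⟨a', ha'⟩ : ∃ a' : E, a' = c ^ p * aE := ⟨_, rfl⟩
    rw [← ha'] at hreg1
    have hno' : ∀ e : E, e ^ p ≠ a' := by
      intro e he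
      apply hno (e / c)
      rw [div_pow, he, ha']
      field_simp
    have hirr : Irreducible (X ^ p - Polynomial.C a' : E[X]) :=
      X_pow_sub_C_irreducible_of_prime hp hno'
    have hmonic : (X ^ p - Polynomial.C a' : E[X]).Monic := monic_X_pow_sub_C a' hp.ne_zero
    have hdeg : (X ^ p - Polynomial.C a' : E[X]).natDegree = p := natDegree_X_pow_sub_C
    have hmapf : (X ^ p - Polynomial.C a' : E[X]).map
        (Algebra.TensorProduct.includeRight : E →ₐ[C₀] EGA4.Cpl C₀ ⊗[C₀] E).toRingHom =
        X ^ p - Polynomial.C ((1 : EGA4.Cpl C₀) ⊗ₜ[C₀] a') := by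
      simp [Polynomial.map_sub, Polynomial.map_pow, Polynomial.map_X, Polynomial.map_C]
    have hx' : (algebraMap E L c * x) ^ p = algebraMap E L a' := by
      rw [mul_pow, ← map_pow, ← haE, ← map_mul, ha']
    obtain ⟨f, hf⟩ : ∃ f : E[X], f = X ^ p - Polynomial.C a' := ⟨_, rfl⟩
    rw [← hf] at hirr hmonic hdeg hmapf
    have hfact : Fact (Irreducible f) := ⟨hirr⟩
    have hfin1 : Module.Finite E (AdjoinRoot f) := hmonic.finite_adjoinRoot
    have hfinK : FiniteDimensional K₀ (AdjoinRoot f) := Module.Finite.trans E _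
    have hE₁ : IsRegularRing (EGA4.Cpl C₀ ⊗[C₀] AdjoinRoot f) := by
      have e := AdjoinRoot.tensorAlgEquiv (R := C₀) (T := EGA4.Cpl C₀) f _ hmapf
      exact IsRegularRing.of_ringEquiv e.symm.toRingEquiv
    have hroot : f.eval₂ (Algebra.ofId E L : E →ₐ[E] L) (algebraMap E L c * x) = 0 := by
      rw [hf, Polynomial.eval₂_sub, Polynomial.eval₂_pow, Polynomial.eval₂_X, Polynomial.eval₂_C,
        hx']
      exact sub_self _
    let φ : AdjoinRoot f →ₐ[E] L := AdjoinRoot.liftAlgHom f (Algebra.ofId E L) _ hroot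
    let _ : Algebra (AdjoinRoot f) L := φ.toRingHom.toAlgebra
    have tow1 : IsScalarTower E (AdjoinRoot f) L :=
      IsScalarTower.of_algebraMap_eq (fun e => (φ.commutes e).symm)
    have hfin2 : FiniteDimensional (AdjoinRoot f) L := Module.Finite.of_restrictScalars_finite E _ L
    have hL' : ∀ y : L, y ^ p ∈ (algebraMap (AdjoinRoot f) L).range := fun y => by
      obtain ⟨e, he⟩ := hL y
      exact ⟨algebraMap E _ e, by rw [← IsScalarTower.algebraMap_apply, he]⟩
    have tow2 : IsScalarTower C₀ (AdjoinRoot f) L := IsScalarTower.of_algebraMap_eq (fun c₀ => by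
      rw [IsScalarTower.algebraMap_apply C₀ E L, IsScalarTower.algebraMap_apply C₀ E (AdjoinRoot f),
        ← IsScalarTower.algebraMap_apply E (AdjoinRoot f) L])
    have hlt : Module.finrank (AdjoinRoot f) L < n := by
      have h1 := Module.finrank_mul_finrank E (AdjoinRoot f) L
      have h2 : Module.finrank E (AdjoinRoot f) = p := by
        rw [(AdjoinRoot.powerBasis' hmonic).finrank, AdjoinRoot.powerBasis'_dim, hdeg]
      have h3 : 0 < Module.finrank (AdjoinRoot f) L := Module.finrank_pos
      rw [h2, hn] at h1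
      have := hp.two_le
      nlinarith
    exact ih _ hlt (AdjoinRoot f) hE₁ L hL' rfl

end ind

end Groth.Agent.H34.PthRootStep
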