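import Mathlib
import Groth.Agent.H34.PthRootInd
import Groth.Agent.H34.FibLoc
import Groth.Agent.S0548
import Groth.Agent.H11.NagataFT
import Groth.Agent.H11.CompleteNagata
import Groth.Agent.H44.RegDescend
import Groth.Agent.Lead.GeomRegBC

/-! The generic formal fibre of a regular local ring of a finite type domain of characteristic `p`
over a complete Noetherian local ring is geometrically regular (Stacks 07PS core; helper34). -/

set_option autoImplicit false
universe u
open TensorProduct Polynomial IsLocalRing

namespace Groth.Agent.H34.PthRootCore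

/-- Geometric regularity over a field of exponential characteristic `p` may be tested on the finite
extensions `k'` with `k'^p ⊆ k`. -/
theorem geomRegular_of_pth {k S : Type u} [Field k] [CommRing S] [Algebra k S]
    [IsNoetherianRing S] (p : ℕ) [ExpChar k p]
    (h : ∀ (k' : Type u) [Field k'] [Algebra k k'], Module.Finite k k' →
        (∀ x : k', x ^ p ∈ (algebraMap k k').range) → IsRegularRing (k' ⊗[k] S)) :
    CAlg.IsGeometricallyRegular k S :=
  Groth.Agent.Lead.GeomRegBC.geomRegular_iff_locFS.mpr
    (fun q _ => Groth.Agent.Lead.GeomRegBC.locFS_of_forall_regular p h q)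

/-- A fraction field of a localization of a domain is a fraction field of the domain. -/
theorem isFractionRing_of_tower (A C K : Type*) [CommRing A] [CommRing C] [IsDomain C] [Field K]
    [Algebra A C] [Algebra C K] [Algebra A K] [IsScalarTower A C K] (M : Submonoid A)
    [IsLocalization M C] [IsFractionRing C K] (hinj : Function.Injective (algebraMap A C)) :
    IsFractionRing A K := by
  have hinjK : Function.Injective (algebraMap A K) := by
    rw [IsScalarTower.algebraMap_eq A C K]
    exact (IsFractionRing.injective C K).comp hinj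
  have : FaithfulSMul A K := (faithfulSMul_iff_algebraMap_injective A K).mpr hinjK
  refine IsFractionRing.of_field A K (fun z => ?_)
  obtain ⟨c, d, hd, rfl⟩ := IsFractionRing.div_surjective C z
  obtain ⟨a, s, rfl⟩ := IsLocalization.exists_mk'_eq M c
  obtain ⟨b, t, rfl⟩ := IsLocalization.exists_mk'_eq M d
  refine ⟨a * t, b * s, ?_⟩
  have hs : algebraMap C K (IsLocalization.mk' C a s) * algebraMap A K s = algebraMap A K a := by
    rw [IsScalarTower.algebraMap_apply A C K, ← map_mul, IsLocalization.mk'_spec,
      ← IsScalarTower.algebraMap_apply]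
  have ht : algebraMap C K (IsLocalization.mk' C b t) * algebraMap A K t = algebraMap A K b := by
    rw [IsScalarTower.algebraMap_apply A C K, ← map_mul, IsLocalization.mk'_spec,
      ← IsScalarTower.algebraMap_apply]
  have hs0 : algebraMap A K s ≠ 0 := by
    have hu : IsUnit (algebraMap A K s) := by
      rw [IsScalarTower.algebraMap_apply A C K]
      exact (IsLocalization.map_units C s).map _
    exact hu.ne_zero
  have ht0 : algebraMap A K t ≠ 0 := by
    have hu : IsUnit (algebraMap A K t) := by
      rw [IsScalarTower.algebraMap_apply A C K]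
      exact (IsLocalization.map_units C t).map _
    exact hu.ne_zero
  have hd0 : algebraMap C K (IsLocalization.mk' C b t) ≠ 0 := by
    intro h0
    exact (mem_nonZeroDivisors_iff_ne_zero.mp hd) (IsFractionRing.injective C K (by rw [h0, map_zero]))
  have hb0 : algebraMap A K b ≠ 0 := by
    rw [← ht]
    exact mul_ne_zero hd0 ht0
  rw [map_mul, map_mul, ← hs, ← ht]
  field_simp

/-- The generic fibre of the completion of a regular local domain is regular. -/
theorem regular_generic (C₀ : Type u) [CommRing C₀] [IsDomain C₀] [IsLocalRing C₀]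
    [IsNoetherianRing C₀] [IsRegularLocalRing C₀]
    (K₀ : Type u) [Field K₀] [Algebra C₀ K₀] [IsFractionRing C₀ K₀] :
    IsRegularRing (EGA4.Cpl C₀ ⊗[C₀] K₀) := by
  have h1 : IsRegularLocalRing (EGA4.Cpl C₀) := (Groth.Agent.S0548.result C₀).mp inferInstance
  have h2 : IsRegularRing (EGA4.Cpl C₀) :=
    Groth.Agent.H44.RegDescend.isRegularRing_of_isRegularLocalRing _
  have h3 : IsLocalization (Algebra.algebraMapSubmonoid (EGA4.Cpl C₀) (nonZeroDivisors C₀))
      (EGA4.Cpl C₀ ⊗[C₀] K₀) := IsLocalization.tensor (S := EGA4.Cpl C₀) K₀ (nonZeroDivisors C₀)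
  exact Groth.Agent.Lead.GeomRegBC.isRegularRing_of_isLocalization
    (Algebra.algebraMapSubmonoid (EGA4.Cpl C₀) (nonZeroDivisors C₀)) _

section core
variable (R : Type u) [CommRing R] [IsLocalRing R] [IsNoetherianRing R]
  [IsAdicComplete (maximalIdeal R) R]
  (A : Type u) [CommRing A] [IsDomain A] [Algebra R A] [Algebra.FiniteType R A]
  (p : ℕ) [Fact p.Prime] [CharP A p]
  (P : Ideal A) [P.IsPrime]
  (C₀ : Type u) [CommRing C₀] [IsDomain C₀] [Algebra A C₀] [IsLocalization.AtPrime C₀ P]
  [IsLocalRing C₀] [IsNoetherianRing C₀]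

include R A p P in
/-- **Core theorem**: if `A` is a domain of characteristic `p` of finite type over a complete
Noetherian local ring and `A_P` is regular, then the generic formal fibre of `A_P` is
geometrically regular. -/
theorem core [IsRegularLocalRing C₀] :
    CAlg.IsGeometricallyRegular (⊥ : Ideal C₀).ResidueField
      (EGA4.formalFibre C₀ (⊥ : Ideal C₀)) := by
  let _ : Algebra A (⊥ : Ideal C₀).ResidueField :=
    ((algebraMap C₀ (⊥ : Ideal C₀).ResidueField).comp (algebraMap A C₀)).toAlgebra
  have tow : IsScalarTower A C₀ (⊥ : Ideal C₀).ResidueField :=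
    IsScalarTower.of_algebraMap_eq (fun _ => rfl)
  have hfr : IsFractionRing A (⊥ : Ideal C₀).ResidueField :=
    isFractionRing_of_tower A C₀ _ P.primeCompl
      (IsLocalization.injective C₀ P.primeCompl_le_nonZeroDivisors)
  have hNag : CAlg.IsNagata A :=
    Groth.Agent.H11.NagataFT.isNagata_of_finiteType R
      (Groth.Agent.H11.CompleteNagata.isNagata_of_complete R) A
  have hN2 : CAlg.IsN2 A := Groth.Agent.H11.NagataFT.isN2_of_isNagata_domain A hNag
  have hNoethC : IsNoetherianRing (EGA4.Cpl C₀) :=
    Groth.Agent.Lead.isNoetherianRing_adicCompletion (maximalIdeal C₀)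
      (maximalIdeal C₀).fg_of_isNoetherianRing
  have hNoeth : IsNoetherianRing (EGA4.formalFibre C₀ (⊥ : Ideal C₀)) :=
    Groth.Agent.H34.FibLoc.isNoetherianRing_fiber C₀ (EGA4.Cpl C₀) ⊥
  have hinj : Function.Injective (algebraMap A (⊥ : Ideal C₀).ResidueField) :=
    IsFractionRing.injective A _
  have hchar : CharP (⊥ : Ideal C₀).ResidueField p := charP_of_injective_algebraMap hinj p
  have hexp : ExpChar (⊥ : Ideal C₀).ResidueField p := ExpChar.prime Fact.out
  have hbase : IsRegularRing (EGA4.Cpl C₀ ⊗[C₀] (⊥ : Ideal C₀).ResidueField) :=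
    regular_generic C₀ _
  refine geomRegular_of_pth p ?_
  intro k' _ _ hfin hpow
  let _ : Algebra C₀ k' :=
    ((algebraMap (⊥ : Ideal C₀).ResidueField k').comp
      (algebraMap C₀ (⊥ : Ideal C₀).ResidueField)).toAlgebra
  have tow2 : IsScalarTower C₀ (⊥ : Ideal C₀).ResidueField k' :=
    IsScalarTower.of_algebraMap_eq (fun _ => rfl)
  have hreg : IsRegularRing (EGA4.Cpl C₀ ⊗[C₀] k') :=
    Groth.Agent.H34.PthRootStep.ind R A p hN2 P (⊥ : Ideal C₀).ResidueField C₀ _
      (⊥ : Ideal C₀).ResidueField hbase k' hpow rfl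
  have e1 : k' ⊗[(⊥ : Ideal C₀).ResidueField] ((⊥ : Ideal C₀).ResidueField ⊗[C₀] EGA4.Cpl C₀)
      ≃ₐ[(⊥ : Ideal C₀).ResidueField] k' ⊗[C₀] EGA4.Cpl C₀ :=
    Algebra.TensorProduct.cancelBaseChange C₀ (⊥ : Ideal C₀).ResidueField
      (⊥ : Ideal C₀).ResidueField k' (EGA4.Cpl C₀)
  have e2 := Algebra.TensorProduct.comm C₀ k' (EGA4.Cpl C₀)
  exact IsRegularRing.of_ringEquiv (e1.toRingEquiv.trans e2.toRingEquiv).symm

end core

end Groth.Agent.H34.PthRootCore
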