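import Mathlib
import Groth.Agent.H34.PthRootCore
import Groth.Agent.H34.GRingQuot
import Groth.Agent.H34.ComplQuot
import Groth.Agent.S0581
import Groth.Agent.S9290
import Groth.Agent.H79.CIPres
import Groth.Agent.H61.PowerSeriesComplete
import Groth.Agent.H61.ObsDimMain
import Groth.Agent.H11.MvPSN2

/-! A complete Noetherian local ring is a G-ring (Stacks 07PS; helper34). -/

set_option autoImplicit false
universe u
open TensorProduct Polynomial IsLocalRing

namespace Groth.Agent.H34.CompleteGRing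

open Groth.Agent.H34.PthRootCore

/-- Characteristic zero: the generic formal fibre of a regular local domain is geometrically
regular. -/
theorem core0 (C₀ : Type u) [CommRing C₀] [IsDomain C₀] [IsLocalRing C₀] [IsNoetherianRing C₀]
    [IsRegularLocalRing C₀] [CharZero C₀] :
    CAlg.IsGeometricallyRegular (⊥ : Ideal C₀).ResidueField
      (EGA4.formalFibre C₀ (⊥ : Ideal C₀)) := by
  have hNoethC : IsNoetherianRing (EGA4.Cpl C₀) :=
    Groth.Agent.Lead.isNoetherianRing_adicCompletion (maximalIdeal C₀)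
      (maximalIdeal C₀).fg_of_isNoetherianRing
  have hNoeth : IsNoetherianRing (EGA4.formalFibre C₀ (⊥ : Ideal C₀)) :=
    Groth.Agent.H34.FibLoc.isNoetherianRing_fiber C₀ (EGA4.Cpl C₀) ⊥
  have hchar : CharZero (⊥ : Ideal C₀).ResidueField :=
    charZero_of_injective_algebraMap (IsFractionRing.injective C₀ _)
  have hexp : ExpChar (⊥ : Ideal C₀).ResidueField 1 := ExpChar.zero
  have hbase : IsRegularRing (EGA4.Cpl C₀ ⊗[C₀] (⊥ : Ideal C₀).ResidueField) :=
    regular_generic C₀ _
  have hbase' : IsRegularRing (EGA4.formalFibre C₀ (⊥ : Ideal C₀)) :=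
    IsRegularRing.of_ringEquiv
      (Algebra.TensorProduct.comm C₀ (EGA4.Cpl C₀) (⊥ : Ideal C₀).ResidueField).toRingEquiv
  refine geomRegular_of_pth 1 ?_
  intro k' _ _ hfin hpow
  have hsurj : Function.Surjective (algebraMap (⊥ : Ideal C₀).ResidueField k') := by
    intro x
    obtain ⟨y, hy⟩ := hpow x
    exact ⟨y, by rw [hy, pow_one]⟩
  let e : (⊥ : Ideal C₀).ResidueField ≃ₐ[(⊥ : Ideal C₀).ResidueField] k' :=
    AlgEquiv.ofBijective (Algebra.ofId _ k')
      ⟨(algebraMap (⊥ : Ideal C₀).ResidueField k').injective, hsurj⟩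
  have e2 : k' ⊗[(⊥ : Ideal C₀).ResidueField] EGA4.formalFibre C₀ (⊥ : Ideal C₀) ≃ₐ[
      (⊥ : Ideal C₀).ResidueField] EGA4.formalFibre C₀ (⊥ : Ideal C₀) :=
    (Algebra.TensorProduct.congr e.symm AlgEquiv.refl).trans
      (Algebra.TensorProduct.lid _ _)
  exact IsRegularRing.of_ringEquiv e2.symm.toRingEquiv

/-- The generic formal fibres of the local rings of a complete regular local domain are
geometrically regular. -/
theorem generic_regular_of_complete_regular (R₀ : Type u) [CommRing R₀] [IsDomain R₀]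
    [IsLocalRing R₀] [IsNoetherianRing R₀] [IsAdicComplete (maximalIdeal R₀) R₀]
    [IsRegularLocalRing R₀] (P₀ : Ideal R₀) [P₀.IsPrime] :
    CAlg.IsGeometricallyRegular (⊥ : Ideal (Localization.AtPrime P₀)).ResidueField
      (EGA4.formalFibre (Localization.AtPrime P₀) (⊥ : Ideal (Localization.AtPrime P₀))) := by
  have hRR : IsRegularRing R₀ :=
    Groth.Agent.H44.RegDescend.isRegularRing_of_isRegularLocalRing _
  obtain ⟨p, hp⟩ := CharP.exists R₀
  rcases CharP.char_is_prime_or_zero R₀ p with hp' | hp'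
  · have : Fact p.Prime := ⟨hp'⟩
    exact core R₀ R₀ p P₀ (Localization.AtPrime P₀)
  · subst hp'
    have h0 : CharZero R₀ := CharP.charP_to_charZero R₀
    have h1 : CharZero (Localization.AtPrime P₀) :=
      charZero_of_injective_algebraMap
        (IsLocalization.injective (Localization.AtPrime P₀) P₀.primeCompl_le_nonZeroDivisors)
    exact core0 (Localization.AtPrime P₀)

/-- A complete Noetherian local ring is a G-ring. -/
theorem isGRing_of_complete (R : Type u) [CommRing R] [IsLocalRing R] [IsNoetherianRing R]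
    [IsAdicComplete (maximalIdeal R) R] : CAlg.IsGRing R := by
  rw [Groth.Agent.H34.GRingQuot.isGRing_iff]
  intro q _ P _
  have hloc : IsLocalRing (R ⧸ q) :=
    IsLocalRing.of_surjective' (Ideal.Quotient.mk q) Ideal.Quotient.mk_surjective
  have hcompl : IsAdicComplete (maximalIdeal (R ⧸ q)) (R ⧸ q) :=
    Groth.Agent.H34.ComplQuot.isAdicComplete_quotient q
  obtain ⟨Λ, _, n, f, hΛ, hinj, hfin, -⟩ := Groth.Agent.S0581.result (R ⧸ q)
  have hreg : IsRegularLocalRing (MvPowerSeries (Fin n) Λ) :=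
    Groth.Agent.H79.CIPres.isRegularLocalRing_of_field_or_cohen Λ hΛ n
  have hdom : IsDomain (MvPowerSeries (Fin n) Λ) := by
    rcases hΛ with h | ⟨hd, -, -, -⟩
    · have := h.isDomain
      exact Groth.Agent.H11.MvPSN2.isDomain_mvPowerSeries Λ n
    · exact Groth.Agent.H11.MvPSN2.isDomain_mvPowerSeries Λ n
  have hcomplP : IsAdicComplete (maximalIdeal (MvPowerSeries (Fin n) Λ))
      (MvPowerSeries (Fin n) Λ) := by
    rcases hΛ with h | ⟨hd, hdvr, hc, -⟩
    · let _ := h.toField
      have := Groth.Agent.H61.Obs.field_isAdicComplete Λ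
      exact Groth.Agent.H61.PS.isAdicComplete
    · exact Groth.Agent.H61.PS.isAdicComplete
  let _ : Algebra (MvPowerSeries (Fin n) Λ) (R ⧸ q) := f.toAlgebra
  have hfin' : Module.Finite (MvPowerSeries (Fin n) Λ) (R ⧸ q) := hfin
  have hinj' : Function.Injective (algebraMap (MvPowerSeries (Fin n) Λ) (R ⧸ q)) := hinj
  have h1 := generic_regular_of_complete_regular (MvPowerSeries (Fin n) Λ)
    (P.comap (algebraMap (MvPowerSeries (Fin n) Λ) (R ⧸ q)))
  refine Groth.Agent.S9290.result (MvPowerSeries (Fin n) Λ) (R ⧸ q) P ⊥ ⊥ ?_ h1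
  have e1 : Ideal.comap (algebraMap (MvPowerSeries (Fin n) Λ) (Localization.AtPrime
      (Ideal.comap (algebraMap (MvPowerSeries (Fin n) Λ) (R ⧸ q)) P))) ⊥ = ⊥ := by
    rw [← RingHom.ker_eq_comap_bot]
    exact (RingHom.injective_iff_ker_eq_bot _).mp
      (IsLocalization.injective _ (Ideal.primeCompl_le_nonZeroDivisors
        (Ideal.comap (algebraMap (MvPowerSeries (Fin n) Λ) (R ⧸ q)) P)))
  have e2 : Ideal.comap (algebraMap (MvPowerSeries (Fin n) Λ) (Localization.AtPrime P)) ⊥ = ⊥ := by
    rw [← RingHom.ker_eq_comap_bot]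
    refine (RingHom.injective_iff_ker_eq_bot _).mp ?_
    rw [IsScalarTower.algebraMap_eq (MvPowerSeries (Fin n) Λ) (R ⧸ q) (Localization.AtPrime P)]
    exact (IsLocalization.injective (Localization.AtPrime P)
      P.primeCompl_le_nonZeroDivisors).comp hinj'
  rw [e1, e2]

end Groth.Agent.H34.CompleteGRing
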