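import Mathlib
import Groth.Agent.H34.HensRegular
import Groth.Agent.H34.GRingLoc
import Groth.Agent.H20.GRingLocal
import Groth.Agent.S0598

/-! Local G-rings: `R` local Noetherian is a G-ring iff `R → R^` is regular; the henselization of a
local G-ring is a G-ring (helper34). -/

set_option autoImplicit false
universe u
open TensorProduct IsLocalRing

namespace Groth.Agent.H34.HensGRing

/-- For a local G-ring the completion map is regular. -/
theorem isRegularHom_cpl_of_isGRing (R : Type u) [CommRing R] [IsLocalRing R]
    (hR : CAlg.IsGRing R) : CAlg.IsRegularHom R (EGA4.Cpl R) := by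
  have hN := hR.1
  have h := hR.2 (maximalIdeal R)
  let e : R ≃ₐ[R] Localization.AtPrime (maximalIdeal R) :=
    IsLocalization.atUnits R (maximalIdeal R).primeCompl
      (fun x hx => (IsUnit.mem_submonoid_iff x).mpr (IsLocalRing.notMem_maximalIdeal.mp hx))
  exact Groth.Agent.H34.GRingLoc.isRegularHom_cpl_of_ringEquiv e.symm.toRingEquiv h

/-- A Noetherian local ring whose completion map is regular is a G-ring (Matsumura 32.4, using that
complete local rings are G-rings). -/
theorem isGRing_of_isRegularHom_cpl (S : Type u) [CommRing S] [IsLocalRing S] [IsNoetherianRing S]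
    (h : CAlg.IsRegularHom S (EGA4.Cpl S)) : CAlg.IsGRing S := by
  have hN : IsNoetherianRing (EGA4.Cpl S) :=
    Groth.Agent.Lead.isNoetherianRing_adicCompletion (maximalIdeal S)
      (maximalIdeal S).fg_of_isNoetherianRing
  have hC := Groth.Agent.H20.GRingLocal.isAdicComplete_cpl S
  exact ⟨inferInstance, fun p _ =>
    Groth.Agent.H20.GRingLocal.isRegularHom_cpl_atPrime S h (Groth.Agent.S0598.result (EGA4.Cpl S)) p⟩

/-- The henselization of a Noetherian local G-ring is a G-ring. -/
theorem isGRing_hens (R S : Type u) [CommRing R] [IsLocalRing R] [IsNoetherianRing R]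
    (hR : CAlg.IsGRing R) [CommRing S] [IsLocalRing S] [Algebra R S] [IsLocalHom (algebraMap R S)]
    [Hensel.IsHenselization R S] : CAlg.IsGRing S := by
  have hN : IsNoetherianRing S := Groth.Agent.H34.HensFormal.isNoetherianRing_hens R S
  exact isGRing_of_isRegularHom_cpl S
    (Groth.Agent.H34.HensRegular.isRegularHom_cpl_hens R S (isRegularHom_cpl_of_isGRing R hR))

end Groth.Agent.H34.HensGRing
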