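import Mathlib
import Groth.Agent.S4542
import Groth.Agent.Lead.PiLocal

/-! Extension of derivations along adic formally smooth maps into complete rings
(Stacks 07PL; helper34). -/

set_option autoImplicit false
universe u

namespace Groth.Agent.H34.DerivFS

open TrivSqZeroExt

/-- Let `S` be a Noetherian `R`-algebra, `𝔫`-adically complete and formally smooth over `R` for
the `𝔫`-adic topology.  Then every derivation `D : R → R` extends to a derivation of `S`. -/
theorem exists_derivation_of_formallySmooth {R S : Type u} [CommRing R] [CommRing S] [Algebra R S]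
    [IsNoetherianRing S] (𝔫 : Ideal S) [IsAdicComplete 𝔫 S]
    (h : EGA41.IsFormallySmoothAdic R ⊥ S 𝔫) (D : Derivation ℤ R R) :
    ∃ D' : Derivation ℤ S S, ∀ r, D' (algebraMap R S r) = algebraMap R S (D r) := by
  classical
  let φ : R →+* TrivSqZeroExt S S :=
    { toFun := fun r =>
        TrivSqZeroExt.inl (algebraMap R S r) + TrivSqZeroExt.inr (algebraMap R S (D r))
      map_one' := by
        ext
        · simp
        · simp
      map_mul' := fun a b => by
        ext
        · simp
        · simp [Derivation.leibniz]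
          rw [Algebra.smul_def, Algebra.smul_def]
          ring
      map_zero' := by
        ext <;> simp
      map_add' := fun a b => by
        ext
        · simp
        · simp
          rw [Algebra.smul_def, Algebra.smul_def, mul_one, mul_one] }
  have hφfst : ∀ r, (φ r).fst = algebraMap R S r := fun r => by simp [φ]
  have hφsnd : ∀ r, (φ r).snd = algebraMap R S (D r) := fun r => by
    simp [φ]
    rw [Algebra.smul_def, mul_one]
  let algRC : Algebra R (TrivSqZeroExt S S) := φ.toAlgebra
  have halg : ∀ r, algebraMap R (TrivSqZeroExt S S) r = φ r := fun r => rfl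
  -- the ideals
  let 𝔠 : Ideal (TrivSqZeroExt S S) := 𝔫.map (algebraMap S (TrivSqZeroExt S S))
  let J : Ideal (TrivSqZeroExt S S) := RingHom.ker (TrivSqZeroExt.fstHom S S S).toRingHom
  have hJmem : ∀ x : TrivSqZeroExt S S, x ∈ J ↔ x.fst = 0 := fun x => by
    show (TrivSqZeroExt.fstHom S S S).toRingHom x = 0 ↔ _
    rfl
  have hfin : Module.Finite S (TrivSqZeroExt S S) := by
    show Module.Finite S (S × S)
    infer_instance
  have hc1 : IsAdicComplete 𝔫 (TrivSqZeroExt S S) :=
    Groth.Agent.Lead.isAdicComplete_of_finite 𝔫 (TrivSqZeroExt S S)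
  have hc : IsAdicComplete 𝔠 (TrivSqZeroExt S S) := (IsAdicComplete.map_algebraMap_iff _ _).mpr hc1
  have hJ2 : J ^ 2 ≤ 𝔠 := by
    rw [pow_two, Ideal.mul_le]
    intro x hx y hy
    rw [hJmem] at hx hy
    have : x * y = 0 := by
      ext
      · simp [hx]
      · simp [hx, hy]
    rw [this]
    exact Ideal.zero_mem _
  -- the quotient is `S`
  have hsurj : Function.Surjective (TrivSqZeroExt.fstHom S S S).toRingHom := fun s =>
    ⟨TrivSqZeroExt.inl s, by simp⟩
  let e : (TrivSqZeroExt S S ⧸ J) ≃+* S :=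
    RingHom.quotientKerEquivOfSurjective hsurj
  have he : ∀ x : TrivSqZeroExt S S, e (Ideal.Quotient.mk J x) = x.fst := fun x => rfl
  have hmap : (𝔠.map (Ideal.Quotient.mk J)).map (e : (TrivSqZeroExt S S ⧸ J) →+* S) = 𝔫 := by
    show ((𝔫.map (algebraMap S (TrivSqZeroExt S S))).map (Ideal.Quotient.mk J)).map
      (e : (TrivSqZeroExt S S ⧸ J) →+* S) = 𝔫
    rw [Ideal.map_map, Ideal.map_map]
    have : ((e : (TrivSqZeroExt S S ⧸ J) →+* S).comp (Ideal.Quotient.mk J)).comp
        (algebraMap S (TrivSqZeroExt S S)) = RingHom.id S := by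
      ext s
      simp only [RingHom.comp_apply, RingHom.id_apply]
      show e (Ideal.Quotient.mk J _) = s
      rw [he]
      simp [TrivSqZeroExt.algebraMap_eq_inl]
    rw [this, Ideal.map_id]
  have hHS : IsHausdorff 𝔫 S := inferInstance
  have hH : IsHausdorff (𝔠.map (Ideal.Quotient.mk J)) (TrivSqZeroExt S S ⧸ J) := by
    rw [← IsHausdorff.congr_ringEquiv (𝔠.map (Ideal.Quotient.mk J)) e]
    have : (𝔠.map (Ideal.Quotient.mk J)).map e = 𝔫 := hmap
    rw [this]
    exact hHS
  -- the map `u`
  let u : S →ₐ[R] TrivSqZeroExt S S ⧸ J :=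
    { toRingHom := (Ideal.Quotient.mk J).comp (algebraMap S (TrivSqZeroExt S S))
      commutes' := fun r => by
        show Ideal.Quotient.mk J (algebraMap S (TrivSqZeroExt S S) (algebraMap R S r)) =
          Ideal.Quotient.mk J (algebraMap R (TrivSqZeroExt S S) r)
        rw [Ideal.Quotient.eq, hJmem, halg]
        simp [hφfst, TrivSqZeroExt.algebraMap_eq_inl] }
  have hu : ∃ k : ℕ, (𝔫 ^ k).map u.toRingHom ≤ 𝔠.map (Ideal.Quotient.mk J) := by
    refine ⟨1, ?_⟩
    rw [pow_one]
    show 𝔫.map ((Ideal.Quotient.mk J).comp (algebraMap S (TrivSqZeroExt S S))) ≤ _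
    rw [← Ideal.map_map]
  obtain ⟨v, -, hv⟩ := Groth.Agent.S4542.result (A := R) (B := S) (C := TrivSqZeroExt S S)
    (⊥ : Ideal R) 𝔫 𝔠 h ⟨1, by rw [pow_one, Ideal.map_bot]; exact bot_le⟩ J ⟨2, hJ2⟩ u hu
  have hfst : ∀ s, (v s).fst = s := by
    intro s
    have h1 : Ideal.Quotient.mk J (v s) = u s := AlgHom.congr_fun hv s
    have h2 : e (Ideal.Quotient.mk J (v s)) = e (u s) := by rw [h1]
    rw [he] at h2
    rw [h2]
    show e (Ideal.Quotient.mk J (algebraMap S (TrivSqZeroExt S S) s)) = s
    rw [he]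
    simp [TrivSqZeroExt.algebraMap_eq_inl]
  let d : S →ₗ[ℤ] S := AddMonoidHom.toIntLinearMap
    { toFun := fun z => (v z).snd
      map_zero' := by simp
      map_add' := fun x y => by simp [map_add] }
  refine ⟨Derivation.mk' d (fun x y => ?_), fun r => ?_⟩
  · show (v (x * y)).snd = x • (v y).snd + y • (v x).snd
    simp only [map_mul, TrivSqZeroExt.snd_mul, hfst]
    simp [mul_comm]
  · show (v (algebraMap R S r)).snd = _
    rw [v.commutes, halg, hφsnd]

end Groth.Agent.H34.DerivFS
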