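import Mathlib
import Groth.Agent.H34.DerivExt
import Groth.Agent.S9227
import Groth.Agent.S2048
import Groth.Agent.H11.LocalGlobalN2

/-! Generic `p`-th root tower: for an `A`-algebra `T` such that derivations of finite `A`-algebras
extend to `B' ⊗[A] T`, the rings `T ⊗[A] L` stay regular along towers of `p`-th roots
(helper34; abstracts `PthRootStep/Data/Ind`). -/

set_option autoImplicit false
universe u
open TensorProduct Polynomial IsLocalRing

namespace Groth.Agent.H34.PthRootGen

section keystep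
variable (A : Type u) [CommRing A] (T : Type u) [CommRing T] [Algebra A T]
  (B : Type u) [CommRing B] [IsDomain B] [Algebra A B]
  (E : Type u) [Field E] [Algebra B E] [IsFractionRing B E] [Algebra A E] [IsScalarTower A B E]

/-- **Generic key step.** -/
theorem keystepG (p : ℕ) (a d : B) (hd : d ≠ 0) (D' : Derivation ℤ (B ⊗[A] T) (B ⊗[A] T))
    (hD' : D' (a ⊗ₜ[A] (1 : T)) = d ⊗ₜ[A] (1 : T))
    (hreg : IsRegularRing (T ⊗[A] E)) :
    IsRegularRing (AdjoinRoot (R := T ⊗[A] E)
      (X ^ p - Polynomial.C ((1 : T) ⊗ₜ[A] algebraMap B E a))) := by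
  classical
  let M : Submonoid (B ⊗[A] T) :=
    Algebra.algebraMapSubmonoid (B ⊗[A] T) (nonZeroDivisors B)
  obtain ⟨DW, hDW⟩ := Groth.Agent.H34.DerivExt.exists_derivation_localization
    (S := Localization M) M D'
  have hloc : IsLocalization M ((B ⊗[A] T) ⊗[B] E) :=
    IsLocalization.tensor (S := B ⊗[A] T) E (nonZeroDivisors B)
  let ψ₁ : Localization M ≃ₐ[B ⊗[A] T] (B ⊗[A] T) ⊗[B] E :=
    IsLocalization.algEquiv M (Localization M) ((B ⊗[A] T) ⊗[B] E)
  let ψ₂ : (B ⊗[A] T) ⊗[B] E ≃ₐ[B] E ⊗[B] (B ⊗[A] T) :=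
    Algebra.TensorProduct.comm B _ E
  let ψ₃ : E ⊗[B] (B ⊗[A] T) ≃ₐ[B] E ⊗[A] T :=
    Algebra.TensorProduct.cancelBaseChange A B B E T
  let ψ₄ : E ⊗[A] T ≃ₐ[A] T ⊗[A] E :=
    Algebra.TensorProduct.comm A E T
  let ψ : Localization M ≃+* T ⊗[A] E :=
    ψ₁.toRingEquiv.trans (ψ₂.toRingEquiv.trans (ψ₃.toRingEquiv.trans ψ₄.toRingEquiv))
  have hψ : ∀ b : B, ψ (algebraMap _ (Localization M) (b ⊗ₜ[A] (1 : T))) =
      (1 : T) ⊗ₜ[A] algebraMap B E b := by
    intro b
    show ψ₄ (ψ₃ (ψ₂ (ψ₁ _))) = _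
    rw [ψ₁.commutes, Algebra.TensorProduct.algebraMap_apply]
    show ψ₄ (ψ₃ (ψ₂ ((b ⊗ₜ[A] (1 : T)) ⊗ₜ[B] (1 : E)))) = _
    rw [Algebra.TensorProduct.comm_tmul, Algebra.TensorProduct.cancelBaseChange_tmul,
      Algebra.TensorProduct.comm_tmul, Algebra.smul_def, mul_one]
  have hregW : IsRegularRing (Localization M) := IsRegularRing.of_ringEquiv ψ.symm
  have hdM : (d ⊗ₜ[A] (1 : T) : B ⊗[A] T) ∈ M :=
    ⟨d, mem_nonZeroDivisors_of_ne_zero hd, by
      rw [Algebra.TensorProduct.algebraMap_apply]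
      rfl⟩
  have hunit : IsUnit (DW (algebraMap _ (Localization M) (a ⊗ₜ[A] (1 : T)))) := by
    have h3 : IsUnit (algebraMap (B ⊗[A] T) (Localization M) (d ⊗ₜ[A] (1 : T))) :=
      IsLocalization.map_units (Localization M) (⟨_, hdM⟩ : M)
    have h4 : DW (algebraMap _ (Localization M) (a ⊗ₜ[A] (1 : T))) =
        algebraMap (B ⊗[A] T) (Localization M) (d ⊗ₜ[A] (1 : T)) :=
      (hDW _).trans (congrArg _ hD')
    rw [h4]
    exact h3
  have h9 := Groth.Agent.S9227.result (Localization M) _ DW hunit (X ^ p : Polynomial ℤ)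
  have h9' : IsRegularRing (AdjoinRoot
      (Polynomial.map (Int.castRingHom (Localization M)) (X ^ p : Polynomial ℤ) -
      Polynomial.C (algebraMap _ (Localization M) (a ⊗ₜ[A] (1 : T))))) := h9
  let algWZ : Algebra (Localization M) (T ⊗[A] E) := ψ.toRingHom.toAlgebra
  let ψ' : Localization M ≃ₐ[Localization M] (T ⊗[A] E) :=
    AlgEquiv.ofRingEquiv (f := ψ) (fun x => rfl)
  have hq : Associated (Polynomial.map (ψ' : Localization M →+* _)
      (Polynomial.map (Int.castRingHom (Localization M)) (X ^ p : Polynomial ℤ) -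
      Polynomial.C (algebraMap _ (Localization M) (a ⊗ₜ[A] (1 : T)))))
      (X ^ p - Polynomial.C ((1 : T) ⊗ₜ[A] algebraMap B E a) : (T ⊗[A] E)[X]) := by
    convert Associated.refl _ using 1
    simp only [Polynomial.map_sub, Polynomial.map_pow, Polynomial.map_X, Polynomial.map_C]
    congr 2
    exact (hψ a).symm
  have e := AdjoinRoot.mapAlgEquiv ψ' _ _ hq
  exact IsRegularRing.of_ringEquiv e.toRingEquiv

end keystep

section data
variable (R : Type u) [CommRing R] [IsLocalRing R] [IsNoetherianRing R]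
  [IsAdicComplete (maximalIdeal R) R]
  (A : Type u) [CommRing A] [IsDomain A] [Algebra R A] [Algebra.FiniteType R A]
  (p : ℕ) [Fact p.Prime] [CharP A p] (hN2 : CAlg.IsN2 A)
  (K₀ : Type u) [Field K₀] [Algebra A K₀] [IsFractionRing A K₀]
  (T : Type u) [CommRing T] [Algebra A T]
  (hext : ∀ (B' : Type u) [CommRing B'] [IsDomain B'] [Algebra A B'] [Module.Finite A B']
      (D : Derivation ℤ B' B'),
      ∃ D' : Derivation ℤ (B' ⊗[A] T) (B' ⊗[A] T),
        ∀ b, D' (b ⊗ₜ[A] (1 : T)) = D b ⊗ₜ[A] (1 : T))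

section step
variable (E : Type u) [Field E] [Algebra K₀ E] [FiniteDimensional K₀ E] [Algebra A E]
  [IsScalarTower A K₀ E]

include R hN2 K₀ hext in
/-- For `aE ∈ E` which is not a `p`-th power there is `c ≠ 0` such that adjoining a `p`-th root
of `c^p aE` keeps `T ⊗ E` regular. -/
theorem exists_step_dataG (aE : E) (hno : ∀ e : E, e ^ p ≠ aE) :
    ∃ c : E, c ≠ 0 ∧ (IsRegularRing (T ⊗[A] E) →
      IsRegularRing (AdjoinRoot (R := T ⊗[A] E)
        (X ^ p - Polynomial.C ((1 : T) ⊗ₜ[A] (c ^ p * aE))))) := by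
  classical
  have hp : p.Prime := Fact.out
  have hinjAK : Function.Injective (algebraMap A K₀) := IsFractionRing.injective A K₀
  have hinjAE : Function.Injective (algebraMap A E) := by
    rw [IsScalarTower.algebraMap_eq A K₀ E]
    exact (algebraMap K₀ E).injective.comp hinjAK
  let B₀ : Subalgebra A E := integralClosure A E
  have hfinB : Module.Finite A B₀ :=
    Groth.Agent.H11.LocalGlobalN2.finite_integralClosure_of_isN2 hN2 K₀ E
  have hfrac : IsFractionRing B₀ E := integralClosure.isFractionRing_of_finite_extension K₀ E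
  obtain ⟨b₁, b₂, hb₂, hb⟩ := IsFractionRing.div_surjective (A := B₀) aE
  have hc : algebraMap B₀ E b₂ ≠ 0 := IsFractionRing.to_map_ne_zero_of_mem_nonZeroDivisors hb₂
  have ha : algebraMap B₀ E (b₂ ^ (p - 1) * b₁) = (algebraMap B₀ E b₂) ^ p * aE := by
    rw [← hb, map_mul, map_pow]
    have h1 : (algebraMap B₀ E b₂) ^ p = (algebraMap B₀ E b₂) ^ (p - 1) * algebraMap B₀ E b₂ := by
      rw [← pow_succ, Nat.sub_add_cancel hp.one_le]
    rw [h1]
    field_simp
  have hnoE : ∀ e : E, e ^ p ≠ algebraMap B₀ E (b₂ ^ (p - 1) * b₁) := by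
    intro e he
    apply hno (e / algebraMap B₀ E b₂)
    rw [div_pow, he, ha]
    field_simp
  have hnoF : ∀ y : FractionRing B₀, y ^ p ≠
      algebraMap B₀ (FractionRing B₀) (b₂ ^ (p - 1) * b₁) := by
    intro y hy
    apply hnoE (FractionRing.algEquiv B₀ E y)
    rw [← map_pow, hy, AlgEquiv.commutes]
  let _ : Algebra R B₀ := ((algebraMap A B₀).comp (algebraMap R A)).toAlgebra
  have : IsScalarTower R A B₀ := IsScalarTower.of_algebraMap_eq (fun _ => rfl)
  have hft : Algebra.FiniteType R B₀ := Algebra.FiniteType.trans (S := A) inferInstance inferInstance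
  have hinjAB : Function.Injective (algebraMap A B₀) := fun x y h =>
    hinjAE (by simpa using congrArg Subtype.val h)
  have hchar : CharP B₀ p := charP_of_injective_algebraMap hinjAB p
  obtain ⟨D₀, hD₀⟩ := Groth.Agent.S2048.result (R := R) (B := B₀) p (b₂ ^ (p - 1) * b₁) hnoF
  obtain ⟨D', hD'⟩ := hext B₀ D₀
  refine ⟨algebraMap B₀ E b₂, hc, fun hE => ?_⟩
  have key := keystepG A T B₀ E p (b₂ ^ (p - 1) * b₁) (D₀ (b₂ ^ (p - 1) * b₁)) hD₀ D'
    (hD' _) hE
  rwa [ha] at key

end step

include R hN2 hext in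
theorem indG (n : ℕ) : ∀ (E : Type u) [Field E] [Algebra K₀ E] [FiniteDimensional K₀ E]
    [Algebra A E] [IsScalarTower A K₀ E]
    (_ : IsRegularRing (T ⊗[A] E))
    (L : Type u) [Field L] [Algebra E L] [FiniteDimensional E L]
    (_ : ∀ x : L, x ^ p ∈ (algebraMap E L).range) (_ : Module.finrank E L = n)
    [Algebra A L] [IsScalarTower A E L], IsRegularRing (T ⊗[A] L) := by
  induction n using Nat.strong_induction_on with
  | _ n ih =>
  intro E _ _ _ _ _ hE L _ _ _ hL hn _ _
  by_cases hs : Function.Surjective (algebraMap E L)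
  · let e : E ≃ₐ[A] L := AlgEquiv.ofBijective (IsScalarTower.toAlgHom A E L)
      ⟨(algebraMap E L).injective, hs⟩
    exact IsRegularRing.of_ringEquiv
      (Algebra.TensorProduct.congr (AlgEquiv.refl : T ≃ₐ[A] T) e).toRingEquiv
  · have hp : p.Prime := Fact.out
    obtain ⟨x, hx⟩ : ∃ x : L, x ∉ (algebraMap E L).range := by
      by_contra hcon
      push_neg at hcon
      exact hs (fun y => hcon y)
    obtain ⟨aE, haE⟩ := hL x
    have hinjAE : Function.Injective (algebraMap A E) := by
      rw [IsScalarTower.algebraMap_eq A K₀ E]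
      exact (algebraMap K₀ E).injective.comp (IsFractionRing.injective A K₀)
    have hcharE : CharP E p := charP_of_injective_algebraMap hinjAE p
    have hcharL : CharP L p := charP_of_injective_algebraMap (algebraMap E L).injective p
    have hno : ∀ e : E, e ^ p ≠ aE := by
      intro e he
      apply hx
      refine ⟨e, ?_⟩
      have h1 : (algebraMap E L e - x) ^ p = 0 := by
        rw [sub_pow_char, ← map_pow, he, haE, sub_self]
      exact sub_eq_zero.mp (pow_eq_zero_iff hp.ne_zero |>.mp h1)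
    obtain ⟨c, hc, hstep⟩ := exists_step_dataG R A p hN2 K₀ T hext E aE hno
    have hreg1 := hstep hE
    obtain ⟨a', ha'⟩ : ∃ a' : E, a' = c ^ p * aE := ⟨_, rfl⟩
    rw [← ha'] at hreg1
    have hno' : ∀ e : E, e ^ p ≠ a' := by
      intro e he
      apply hno (e / c)
      rw [div_pow, he, ha']
      field_simp
    have hirr : Irreducible (X ^ p - Polynomial.C a' : E[X]) :=
      X_pow_sub_C_irreducible_of_prime hp hno'
    have hmonic : (X ^ p - Polynomial.C a' : E[X]).Monic := monic_X_pow_sub_C a' hp.ne_zero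
    have hdeg : (X ^ p - Polynomial.C a' : E[X]).natDegree = p := natDegree_X_pow_sub_C
    have hmapf : (X ^ p - Polynomial.C a' : E[X]).map
        (Algebra.TensorProduct.includeRight : E →ₐ[A] T ⊗[A] E).toRingHom =
        X ^ p - Polynomial.C ((1 : T) ⊗ₜ[A] a') := by
      simp [Polynomial.map_sub, Polynomial.map_pow, Polynomial.map_X, Polynomial.map_C]
    have hx' : (algebraMap E L c * x) ^ p = algebraMap E L a' := by
      rw [mul_pow, ← map_pow, ← haE, ← map_mul, ha']
    obtain ⟨f, hf⟩ : ∃ f : E[X], f = X ^ p - Polynomial.C a' := ⟨_, rfl⟩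
    rw [← hf] at hirr hmonic hdeg hmapf
    have hfact : Fact (Irreducible f) := ⟨hirr⟩
    have hfin1 : Module.Finite E (AdjoinRoot f) := hmonic.finite_adjoinRoot
    have hfinK : FiniteDimensional K₀ (AdjoinRoot f) := Module.Finite.trans E _
    have hE₁ : IsRegularRing (T ⊗[A] AdjoinRoot f) := by
      have e := AdjoinRoot.tensorAlgEquiv (R := A) (T := T) f _ hmapf
      exact IsRegularRing.of_ringEquiv e.symm.toRingEquiv
    have hroot : f.eval₂ (Algebra.ofId E L : E →ₐ[E] L) (algebraMap E L c * x) = 0 := by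
      rw [hf, Polynomial.eval₂_sub, Polynomial.eval₂_pow, Polynomial.eval₂_X, Polynomial.eval₂_C,
        hx']
      exact sub_self _
    let φ : AdjoinRoot f →ₐ[E] L := AdjoinRoot.liftAlgHom f (Algebra.ofId E L) _ hroot
    let _ : Algebra (AdjoinRoot f) L := φ.toRingHom.toAlgebra
    have tow1 : IsScalarTower E (AdjoinRoot f) L :=
      IsScalarTower.of_algebraMap_eq (fun e => (φ.commutes e).symm)
    have hfin2 : FiniteDimensional (AdjoinRoot f) L := Module.Finite.of_restrictScalars_finite E _ L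
    have hL' : ∀ y : L, y ^ p ∈ (algebraMap (AdjoinRoot f) L).range := fun y => by
      obtain ⟨e, he⟩ := hL y
      exact ⟨algebraMap E _ e, by rw [← IsScalarTower.algebraMap_apply, he]⟩
    have tow2 : IsScalarTower A (AdjoinRoot f) L := IsScalarTower.of_algebraMap_eq (fun c₀ => by
      rw [IsScalarTower.algebraMap_apply A E L, IsScalarTower.algebraMap_apply A E (AdjoinRoot f),
        ← IsScalarTower.algebraMap_apply E (AdjoinRoot f) L])
    have tow3 : IsScalarTower A K₀ (AdjoinRoot f) := IsScalarTower.of_algebraMap_eq (fun c₀ => by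
      rw [IsScalarTower.algebraMap_apply A E (AdjoinRoot f),
        IsScalarTower.algebraMap_apply A K₀ E,
        ← IsScalarTower.algebraMap_apply K₀ E (AdjoinRoot f)])
    have hlt : Module.finrank (AdjoinRoot f) L < n := by
      have h1 := Module.finrank_mul_finrank E (AdjoinRoot f) L
      have h2 : Module.finrank E (AdjoinRoot f) = p := by
        rw [(AdjoinRoot.powerBasis' hmonic).finrank, AdjoinRoot.powerBasis'_dim, hdeg]
      have h3 : 0 < Module.finrank (AdjoinRoot f) L := Module.finrank_pos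
      rw [h2, hn] at h1
      have := hp.two_le
      nlinarith
    exact ih _ hlt (AdjoinRoot f) hE₁ L hL' rfl

end data

end Groth.Agent.H34.PthRootGen
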