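import Mathlib
import Groth.Agent.H34.PthRootGen
import Groth.Agent.H34.PthRootCore
import Groth.Agent.H34.DerivFS
import Groth.Agent.S4535
import Groth.Agent.S4537
import Groth.Agent.S2038
import Groth.Agent.H15.FlatLoc
import Groth.Agent.H87.CIFibres
import Groth.Agent.Lead.GeomReg

/-! Formally smooth complete local algebras over a complete regular local ring have geometrically
regular generic fibre (Stacks 07PM, regular case; helper34). -/

set_option autoImplicit false
universe u
open TensorProduct Polynomial IsLocalRing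

namespace Groth.Agent.H34.FSRegular

open Groth.Agent.H34.PthRootCore

section ext
variable {A B : Type u} [CommRing A] [CommRing B] [Algebra A B] [IsLocalRing B]
  [IsNoetherianRing B] [IsAdicComplete (maximalIdeal B) B]

/-- Derivations of finite `A`-algebras `B'` extend to `B' ⊗[A] B` when `B` is complete and
formally smooth over `A`. -/
theorem exists_derivation_tensor (h : CAlgX.IsAdicFormallySmooth A B (maximalIdeal B))
    (B' : Type u) [CommRing B'] [Algebra A B'] [Module.Finite A B'] (D : Derivation ℤ B' B') :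
    ∃ D' : Derivation ℤ (B' ⊗[A] B) (B' ⊗[A] B),
      ∀ b, D' (b ⊗ₜ[A] (1 : B)) = D b ⊗ₜ[A] (1 : B) := by
  have hfin : Module.Finite B (B ⊗[A] B') := inferInstance
  have hN1 : IsNoetherianRing (B ⊗[A] B') := IsNoetherianRing.of_finite B (B ⊗[A] B')
  let e : B ⊗[A] B' ≃ₐ[A] B' ⊗[A] B := Algebra.TensorProduct.comm A B B'
  have hN : IsNoetherianRing (B' ⊗[A] B) := isNoetherianRing_of_ringEquiv _ e.toRingEquiv
  let 𝔫 : Ideal (B' ⊗[A] B) :=
    (maximalIdeal B).map (Algebra.TensorProduct.includeRight : B →ₐ[A] B' ⊗[A] B).toRingHom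
  have hc1 : IsAdicComplete (maximalIdeal B) (B ⊗[A] B') :=
    Groth.Agent.Lead.isAdicComplete_of_finite (maximalIdeal B) (B ⊗[A] B')
  have hc2 : IsAdicComplete ((maximalIdeal B).map (algebraMap B (B ⊗[A] B'))) (B ⊗[A] B') :=
    (IsAdicComplete.map_algebraMap_iff _ _).mpr hc1
  have hmap : ((maximalIdeal B).map (algebraMap B (B ⊗[A] B'))).map e.toRingEquiv = 𝔫 := by
    show ((maximalIdeal B).map (algebraMap B (B ⊗[A] B'))).map
      (e.toRingEquiv : B ⊗[A] B' →+* B' ⊗[A] B) = 𝔫
    rw [Ideal.map_map]
    have hcomp : (e.toRingEquiv : B ⊗[A] B' →+* B' ⊗[A] B).comp (algebraMap B (B ⊗[A] B')) =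
        (Algebra.TensorProduct.includeRight : B →ₐ[A] B' ⊗[A] B).toRingHom := by
      ext b
      simp only [RingHom.comp_apply]
      show e (algebraMap B (B ⊗[A] B') b) = (1 : B') ⊗ₜ[A] b
      rw [Algebra.TensorProduct.algebraMap_apply]
      show e (b ⊗ₜ[A] (1 : B')) = _
      exact Algebra.TensorProduct.comm_tmul A b 1
    rw [hcomp]
  have hc : IsAdicComplete 𝔫 (B' ⊗[A] B) := by
    rw [← hmap]
    exact (IsAdicComplete.congr_ringEquiv _ e.toRingEquiv).mpr hc2
  have hfs : EGA41.IsFormallySmoothAdic B' ⊥ (B' ⊗[A] B) 𝔫 := by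
    have h1 := Groth.Agent.S4535.result (A := A) (B := B) (A' := B') ⊥ (maximalIdeal B) ⊥
      ⟨1, by rw [pow_one, Ideal.map_bot]⟩ ((Groth.Agent.S4537.result _).1 h)
    rw [Ideal.map_bot, bot_sup_eq] at h1
    exact h1
  obtain ⟨D', hD'⟩ := Groth.Agent.H34.DerivFS.exists_derivation_of_formallySmooth 𝔫 hfs D
  refine ⟨D', fun b => ?_⟩
  have h2 := hD' b
  rw [Algebra.TensorProduct.algebraMap_apply, Algebra.TensorProduct.algebraMap_apply] at h2
  exact h2

end ext

section generic
variable (A : Type u) [CommRing A] [IsDomain A] [IsLocalRing A] [IsNoetherianRing A]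
  [IsAdicComplete (maximalIdeal A) A] [IsRegularLocalRing A]
  (B : Type u) [CommRing B] [IsLocalRing B] [IsNoetherianRing B]
  [IsAdicComplete (maximalIdeal B) B] [Algebra A B] [IsLocalHom (algebraMap A B)]

include A in
/-- `B` is regular. -/
theorem isRegularLocalRing_of_fs (h : CAlgX.IsAdicFormallySmooth A B (maximalIdeal B)) :
    IsRegularLocalRing B := by
  have hflat : Module.Flat A B := ((Groth.Agent.S2038.result (A := A) (B := B)).mpr h).1
  have h1 := Groth.Agent.H87.CIFibres.fs_quotient (maximalIdeal A) (maximalIdeal B) h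
  let hfld : Field (A ⧸ maximalIdeal A) := Ideal.Quotient.field _
  have hmax : (maximalIdeal B).map (Ideal.Quotient.mk ((maximalIdeal A).map (algebraMap A B))) =
      maximalIdeal (EGA4.FibRing A B) :=
    IsLocalRing.map_maximalIdeal_of_surjective _ Ideal.Quotient.mk_surjective
  rw [hmax] at h1
  have hF : IsRegularLocalRing (EGA4.FibRing A B) :=
    Groth.Agent.Lead.GeomReg.regular_of_fs (k := A ⧸ maximalIdeal A) h1
  exact Groth.Agent.H15.FlatLoc.isRegularLocalRing_of_flat inferInstance hF

/-- **Regular case**: the generic fibre of a formally smooth complete local algebra over a complete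
regular local ring is geometrically regular. -/
theorem geomRegular_generic (h : CAlgX.IsAdicFormallySmooth A B (maximalIdeal B)) :
    CAlg.IsGeometricallyRegular (⊥ : Ideal A).ResidueField ((⊥ : Ideal A).Fiber B) := by
  have hBreg : IsRegularLocalRing B := isRegularLocalRing_of_fs A B h
  have hBR : IsRegularRing B := Groth.Agent.H44.RegDescend.isRegularRing_of_isRegularLocalRing B
  have hNoeth : IsNoetherianRing ((⊥ : Ideal A).Fiber B) :=
    Groth.Agent.H34.FibLoc.isNoetherianRing_fiber A B ⊥
  have hloc : IsLocalization (Algebra.algebraMapSubmonoid B (nonZeroDivisors A))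
      (B ⊗[A] (⊥ : Ideal A).ResidueField) :=
    IsLocalization.tensor (S := B) (⊥ : Ideal A).ResidueField (nonZeroDivisors A)
  have hbase : IsRegularRing (B ⊗[A] (⊥ : Ideal A).ResidueField) :=
    Groth.Agent.Lead.GeomRegBC.isRegularRing_of_isLocalization
      (Algebra.algebraMapSubmonoid B (nonZeroDivisors A)) _
  obtain ⟨p, hp⟩ := CharP.exists A
  rcases CharP.char_is_prime_or_zero A p with hp' | hp'
  · have : Fact p.Prime := ⟨hp'⟩
    have hinj : Function.Injective (algebraMap A (⊥ : Ideal A).ResidueField) :=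
      IsFractionRing.injective A _
    have hchar : CharP (⊥ : Ideal A).ResidueField p := charP_of_injective_algebraMap hinj p
    have hexp : ExpChar (⊥ : Ideal A).ResidueField p := ExpChar.prime Fact.out
    have hNag : CAlg.IsNagata A := Groth.Agent.H11.CompleteNagata.isNagata_of_complete A
    have hN2 : CAlg.IsN2 A := Groth.Agent.H11.NagataFT.isN2_of_isNagata_domain A hNag
    refine geomRegular_of_pth p ?_
    intro k' _ _ hfin hpow
    let _ : Algebra A k' :=
      ((algebraMap (⊥ : Ideal A).ResidueField k').comp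
        (algebraMap A (⊥ : Ideal A).ResidueField)).toAlgebra
    have tow2 : IsScalarTower A (⊥ : Ideal A).ResidueField k' :=
      IsScalarTower.of_algebraMap_eq (fun _ => rfl)
    have hreg : IsRegularRing (B ⊗[A] k') :=
      Groth.Agent.H34.PthRootGen.indG A A p hN2 (⊥ : Ideal A).ResidueField B
        (fun B' _ _ _ _ D => exists_derivation_tensor h B' D) _
        (⊥ : Ideal A).ResidueField hbase k' hpow rfl
    have e1 : k' ⊗[(⊥ : Ideal A).ResidueField] ((⊥ : Ideal A).ResidueField ⊗[A] B)
        ≃ₐ[(⊥ : Ideal A).ResidueField] k' ⊗[A] B :=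
      Algebra.TensorProduct.cancelBaseChange A (⊥ : Ideal A).ResidueField
        (⊥ : Ideal A).ResidueField k' B
    have e2 := Algebra.TensorProduct.comm A k' B
    exact IsRegularRing.of_ringEquiv (e1.toRingEquiv.trans e2.toRingEquiv).symm
  · subst hp'
    have h0 : CharZero A := CharP.charP_to_charZero A
    have hchar : CharZero (⊥ : Ideal A).ResidueField :=
      charZero_of_injective_algebraMap (IsFractionRing.injective A _)
    have hexp : ExpChar (⊥ : Ideal A).ResidueField 1 := ExpChar.zero
    have hbase' : IsRegularRing ((⊥ : Ideal A).Fiber B) :=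
      IsRegularRing.of_ringEquiv
        (Algebra.TensorProduct.comm A B (⊥ : Ideal A).ResidueField).toRingEquiv
    refine geomRegular_of_pth 1 ?_
    intro k' _ _ hfin hpow
    have hsurj : Function.Surjective (algebraMap (⊥ : Ideal A).ResidueField k') := by
      intro x
      obtain ⟨y, hy⟩ := hpow x
      exact ⟨y, by rw [hy, pow_one]⟩
    let e : (⊥ : Ideal A).ResidueField ≃ₐ[(⊥ : Ideal A).ResidueField] k' :=
      AlgEquiv.ofBijective (Algebra.ofId _ k')
        ⟨(algebraMap (⊥ : Ideal A).ResidueField k').injective, hsurj⟩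
    have e2 : k' ⊗[(⊥ : Ideal A).ResidueField] (⊥ : Ideal A).Fiber B ≃ₐ[
        (⊥ : Ideal A).ResidueField] (⊥ : Ideal A).Fiber B :=
      (Algebra.TensorProduct.congr e.symm AlgEquiv.refl).trans
        (Algebra.TensorProduct.lid _ _)
    exact IsRegularRing.of_ringEquiv e2.symm.toRingEquiv

end generic

end Groth.Agent.H34.FSRegular
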