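import Mathlib
import Groth.Agent.H29.CplFinite
import Groth.Agent.Lead.PiLocal
import Groth.Agent.H87.FlatLift

/-! Base change of a complete local algebra `T` along a finite local extension `A₀ → A` with trivial
residue field extension: `A ⊗[A₀] T` is again a complete Noetherian local ring (helper34). -/

set_option autoImplicit false
universe u
open TensorProduct IsLocalRing

namespace Groth.Agent.H34.FinBC

section ideal
theorem sup_pow_le {R : Type*} [CommRing R] (I J : Ideal R) (n : ℕ) : (I ⊔ J) ^ n ≤ I ^ n ⊔ J := by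
  induction n with
  | zero => simp
  | succ n ih =>
    have h1 : (I ⊔ J) ^ (n + 1) = (I ⊔ J) ^ n * (I ⊔ J) := pow_succ _ _
    rw [h1]
    refine (Ideal.mul_mono_left ih).trans ?_
    rw [Ideal.mul_le]
    intro x hx y hy
    obtain ⟨x₁, hx₁, x₂, hx₂, rfl⟩ := Submodule.mem_sup.mp hx
    obtain ⟨y₁, hy₁, y₂, hy₂, rfl⟩ := Submodule.mem_sup.mp hy
    have h2 : (x₁ + x₂) * (y₁ + y₂) = x₁ * y₁ + (x₁ * y₂ + x₂ * y₁ + x₂ * y₂) := by ring
    rw [h2]
    refine Submodule.add_mem_sup ?_ ?_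
    · rw [pow_succ]
      exact Ideal.mul_mem_mul hx₁ hy₁
    · exact Ideal.add_mem _ (Ideal.add_mem _ (Ideal.mul_mem_left _ _ hy₂)
        (Ideal.mul_mem_right _ _ hx₂)) (Ideal.mul_mem_right _ _ hx₂)
end ideal

section basic
variable {A₀ A T : Type u} [CommRing A₀] [CommRing A] [CommRing T]
  [IsLocalRing A₀] [IsLocalRing A] [IsLocalRing T] [Algebra A₀ A] [Algebra A₀ T]

/-- every element of `A ⊗ T` is congruent to some `1 ⊗ t` modulo `m_A`. -/
theorem exists_sub_mem (hres : Function.Surjective ((residue A).comp (algebraMap A₀ A)))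
    (y : A ⊗[A₀] T) :
    ∃ t : T, y - (1 : A) ⊗ₜ[A₀] t ∈ (maximalIdeal A).map (algebraMap A (A ⊗[A₀] T)) := by
  induction y using TensorProduct.induction_on with
  | zero => exact ⟨0, by simp⟩
  | tmul a t =>
    obtain ⟨c, hc⟩ := hres (residue A a)
    have hmem : a - algebraMap A₀ A c ∈ maximalIdeal A := by
      rw [← residue_eq_zero_iff, map_sub, ← hc]
      simp
    refine ⟨c • t, ?_⟩
    have h1 : a ⊗ₜ[A₀] t - (1 : A) ⊗ₜ[A₀] (c • t) =
        algebraMap A (A ⊗[A₀] T) (a - algebraMap A₀ A c) * ((1 : A) ⊗ₜ[A₀] t) := by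
      rw [Algebra.TensorProduct.algebraMap_apply, Algebra.TensorProduct.tmul_mul_tmul, mul_one,
        one_mul, Algebra.algebraMap_self, RingHom.id_apply, TensorProduct.sub_tmul,
        ← TensorProduct.smul_tmul, Algebra.smul_def, mul_one]
    rw [h1]
    exact Ideal.mul_mem_right _ _ (Ideal.mem_map_of_mem _ hmem)
  | add x y hx hy =>
    obtain ⟨t₁, h₁⟩ := hx
    obtain ⟨t₂, h₂⟩ := hy
    refine ⟨t₁ + t₂, ?_⟩
    have : x + y - (1 : A) ⊗ₜ[A₀] (t₁ + t₂) =
        (x - (1 : A) ⊗ₜ[A₀] t₁) + (y - (1 : A) ⊗ₜ[A₀] t₂) := by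
      rw [TensorProduct.tmul_add]
      ring
    rw [this]
    exact Ideal.add_mem _ h₁ h₂

/-- `m_A^k ⊆ m₀ A` for a finite local extension. -/
theorem exists_pow_le [IsNoetherianRing A] [Module.Finite A₀ A] :
    ∃ k : ℕ, maximalIdeal A ^ k ≤ (maximalIdeal A₀).map (algebraMap A₀ A) := by
  apply Ideal.exists_pow_le_of_le_radical_of_fg_radical _ (Ideal.fg_of_isNoetherianRing _)
  rw [Ideal.radical_eq_sInf]
  refine le_sInf ?_
  rintro P ⟨hP, hPp⟩
  have hle : maximalIdeal A₀ ≤ P.comap (algebraMap A₀ A) := Ideal.map_le_iff_le_comap.mp hP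
  have hne : P.comap (algebraMap A₀ A) ≠ ⊤ := (Ideal.comap_isPrime (algebraMap A₀ A) P).ne_top
  have heq : P.comap (algebraMap A₀ A) = maximalIdeal A₀ :=
    ((maximalIdeal.isMaximal A₀).eq_of_le hne hle).symm
  have hmax : (P.comap (algebraMap A₀ A)).IsMaximal := heq ▸ maximalIdeal.isMaximal A₀
  have hPmax : P.IsMaximal := Ideal.isMaximal_of_isIntegral_of_isMaximal_comap P hmax
  exact (IsLocalRing.eq_maximalIdeal hPmax).ge

end basic

section main
variable {A₀ A T : Type u} [CommRing A₀] [CommRing A] [CommRing T]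
  [IsLocalRing A₀] [IsLocalRing A] [IsLocalRing T] [Algebra A₀ A] [Algebra A₀ T]
  [IsNoetherianRing A] [Module.Finite A₀ A] [IsLocalHom (algebraMap A₀ T)]
  [IsNoetherianRing T] [IsAdicComplete (maximalIdeal T) T]

variable (A₀ A T) in
/-- the ideal `m_T (A ⊗ T)`. -/
noncomputable def cc : Ideal (A ⊗[A₀] T) :=
  (maximalIdeal T).map (Algebra.TensorProduct.includeRight : T →ₐ[A₀] A ⊗[A₀] T).toRingHom

variable (A₀ A T) in
theorem isNoetherianRing_tensor : IsNoetherianRing (A ⊗[A₀] T) := by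
  have hfin : Module.Finite T (T ⊗[A₀] A) := inferInstance
  have hN1 : IsNoetherianRing (T ⊗[A₀] A) := IsNoetherianRing.of_finite T (T ⊗[A₀] A)
  exact isNoetherianRing_of_ringEquiv _ (Algebra.TensorProduct.comm A₀ T A).toRingEquiv

variable (A₀ A T) in
theorem isAdicComplete_cc : IsAdicComplete (cc A₀ A T) (A ⊗[A₀] T) := by
  let e : T ⊗[A₀] A ≃ₐ[A₀] A ⊗[A₀] T := Algebra.TensorProduct.comm A₀ T A
  have hc1 : IsAdicComplete (maximalIdeal T) (T ⊗[A₀] A) :=
    Groth.Agent.Lead.isAdicComplete_of_finite (maximalIdeal T) (T ⊗[A₀] A)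
  have hc2 : IsAdicComplete ((maximalIdeal T).map (algebraMap T (T ⊗[A₀] A))) (T ⊗[A₀] A) :=
    (IsAdicComplete.map_algebraMap_iff _ _).mpr hc1
  have hmap : ((maximalIdeal T).map (algebraMap T (T ⊗[A₀] A))).map e.toRingEquiv =
      cc A₀ A T := by
    show ((maximalIdeal T).map (algebraMap T (T ⊗[A₀] A))).map
      (e.toRingEquiv : T ⊗[A₀] A →+* A ⊗[A₀] T) = cc A₀ A T
    rw [Ideal.map_map]
    have hcomp : (e.toRingEquiv : T ⊗[A₀] A →+* A ⊗[A₀] T).comp (algebraMap T (T ⊗[A₀] A)) =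
        (Algebra.TensorProduct.includeRight : T →ₐ[A₀] A ⊗[A₀] T).toRingHom := by
      ext b
      simp only [RingHom.comp_apply]
      show e (algebraMap T (T ⊗[A₀] A) b) = (1 : A) ⊗ₜ[A₀] b
      rw [Algebra.TensorProduct.algebraMap_apply]
      show e (b ⊗ₜ[A₀] (1 : A)) = _
      exact Algebra.TensorProduct.comm_tmul A₀ b 1
    rw [hcomp]
    rfl
  rw [← hmap]
  exact (IsAdicComplete.congr_ringEquiv _ e.toRingEquiv).mpr hc2

variable (A₀ A T) in
theorem map_maximalIdeal_le_cc :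
    ((maximalIdeal A₀).map (algebraMap A₀ A)).map (algebraMap A (A ⊗[A₀] T)) ≤ cc A₀ A T := by
  rw [Ideal.map_map, Ideal.map_le_iff_le_comap]
  intro c hc
  rw [Ideal.mem_comap]
  have h1 : ((algebraMap A (A ⊗[A₀] T)).comp (algebraMap A₀ A)) c =
      (Algebra.TensorProduct.includeRight : T →ₐ[A₀] A ⊗[A₀] T).toRingHom (algebraMap A₀ T c) := by
    show algebraMap A (A ⊗[A₀] T) (algebraMap A₀ A c) = (1 : A) ⊗ₜ[A₀] (algebraMap A₀ T c)
    rw [Algebra.TensorProduct.algebraMap_apply, Algebra.algebraMap_self, RingHom.id_apply,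
      Algebra.algebraMap_eq_smul_one, Algebra.algebraMap_eq_smul_one, TensorProduct.smul_tmul]
  rw [h1]
  apply Ideal.mem_map_of_mem
  exact fun hu => hc (isUnit_of_map_unit (algebraMap A₀ T) c hu)

variable (A₀ A T) in
theorem sup_le_jacobson :
    (maximalIdeal A).map (algebraMap A (A ⊗[A₀] T)) ⊔ cc A₀ A T ≤
      (⊥ : Ideal (A ⊗[A₀] T)).jacobson := by
  have hc := isAdicComplete_cc A₀ A T
  have h1 : cc A₀ A T ≤ (⊥ : Ideal (A ⊗[A₀] T)).jacobson := IsAdicComplete.le_jacobson_bot _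
  refine sup_le ?_ h1
  obtain ⟨k, hk⟩ := exists_pow_le (A₀ := A₀) (A := A)
  rw [Ideal.map_le_iff_le_comap]
  intro a ha
  rw [Ideal.mem_comap]
  have h2 : algebraMap A (A ⊗[A₀] T) a ^ k ∈ (⊥ : Ideal (A ⊗[A₀] T)).jacobson := by
    rw [← map_pow]
    apply h1
    apply map_maximalIdeal_le_cc A₀ A T
    exact Ideal.mem_map_of_mem _ (hk (Ideal.pow_mem_pow ha k))
  rw [Ideal.jacobson, Ideal.mem_sInf] at h2 ⊢
  intro M hM
  have hMp : M.IsPrime := hM.2.isPrime
  exact hMp.mem_of_pow_mem k (h2 hM)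

variable [Module.Flat A₀ T]

variable (A₀ A T) in
theorem mem_or_isUnit (hres : Function.Surjective ((residue A).comp (algebraMap A₀ A)))
    (y : A ⊗[A₀] T) :
    y ∈ (maximalIdeal A).map (algebraMap A (A ⊗[A₀] T)) ⊔ cc A₀ A T ∨ IsUnit y := by
  obtain ⟨t, ht⟩ := exists_sub_mem hres y
  by_cases htm : t ∈ maximalIdeal T
  · left
    have : y = (y - (1 : A) ⊗ₜ[A₀] t) + (1 : A) ⊗ₜ[A₀] t := by ring
    rw [this]
    refine Ideal.add_mem _ (Ideal.mem_sup_left ht) (Ideal.mem_sup_right ?_)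
    exact Ideal.mem_map_of_mem _ htm
  · right
    have htu : IsUnit t := IsLocalRing.notMem_maximalIdeal.mp htm
    have hu : IsUnit ((1 : A) ⊗ₜ[A₀] t : A ⊗[A₀] T) :=
      htu.map (Algebra.TensorProduct.includeRight : T →ₐ[A₀] A ⊗[A₀] T)
    obtain ⟨u, hu'⟩ := hu
    have hjac : (y - (1 : A) ⊗ₜ[A₀] t) ∈ (⊥ : Ideal (A ⊗[A₀] T)).jacobson :=
      sup_le_jacobson A₀ A T (Ideal.mem_sup_left ht)
    have h3 := Ideal.mem_jacobson_bot.mp hjac (↑u⁻¹)
    have h4 : y = ↑u * ((y - (1 : A) ⊗ₜ[A₀] t) * ↑u⁻¹ + 1) := by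
      rw [← hu']
      have : (↑u : A ⊗[A₀] T) * ↑u⁻¹ = 1 := Units.mul_inv u
      linear_combination (-(y - ↑u)) * this
    rw [h4]
    exact u.isUnit.mul h3

variable (A₀ A T) in
theorem sup_ne_top :
    (maximalIdeal A).map (algebraMap A (A ⊗[A₀] T)) ⊔ cc A₀ A T ≠ ⊤ := by
  have hnt : Nontrivial (A ⊗[A₀] T) := Groth.Agent.H87.FlatLift.nontrivial_tensor
  intro h
  have h1 := sup_le_jacobson A₀ A T
  rw [h, top_le_iff] at h1
  have h2 : (1 : A ⊗[A₀] T) ∈ (⊥ : Ideal (A ⊗[A₀] T)).jacobson := by rw [h1]; trivial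
  have h3 := Ideal.mem_jacobson_bot.mp h2 (-1)
  simp at h3

variable (A₀ A T) in
theorem isLocalRing_tensor (hres : Function.Surjective ((residue A).comp (algebraMap A₀ A))) :
    IsLocalRing (A ⊗[A₀] T) := by
  have hnt : Nontrivial (A ⊗[A₀] T) := Groth.Agent.H87.FlatLift.nontrivial_tensor
  refine IsLocalRing.of_nonunits_add ?_
  intro a b ha hb
  have ha' := (mem_or_isUnit A₀ A T hres a).resolve_right ha
  have hb' := (mem_or_isUnit A₀ A T hres b).resolve_right hb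
  intro hu
  apply sup_ne_top A₀ A T
  exact Ideal.eq_top_of_isUnit_mem _ (Ideal.add_mem _ ha' hb') hu

variable (A₀ A T) in
theorem maximalIdeal_tensor [IsLocalRing (A ⊗[A₀] T)]
    (hres : Function.Surjective ((residue A).comp (algebraMap A₀ A))) :
    maximalIdeal (A ⊗[A₀] T) =
      (maximalIdeal A).map (algebraMap A (A ⊗[A₀] T)) ⊔ cc A₀ A T := by
  apply le_antisymm
  · intro y hy
    exact (mem_or_isUnit A₀ A T hres y).resolve_right hy
  · exact IsLocalRing.le_maximalIdeal (sup_ne_top A₀ A T)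

variable (A₀ A T) in
theorem isAdicComplete_tensor [IsLocalRing (A ⊗[A₀] T)]
    (hres : Function.Surjective ((residue A).comp (algebraMap A₀ A))) :
    IsAdicComplete (maximalIdeal (A ⊗[A₀] T)) (A ⊗[A₀] T) := by
  have hc := isAdicComplete_cc A₀ A T
  obtain ⟨k, hk⟩ := exists_pow_le (A₀ := A₀) (A := A)
  have hle : cc A₀ A T ≤ maximalIdeal (A ⊗[A₀] T) := by
    rw [maximalIdeal_tensor A₀ A T hres]
    exact le_sup_right
  have hsup := fun n : ℕ => sup_pow_le ((maximalIdeal A).map (algebraMap A (A ⊗[A₀] T)))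
    (cc A₀ A T) n
  have hpow : maximalIdeal (A ⊗[A₀] T) ^ k ≤ cc A₀ A T := by
    rw [maximalIdeal_tensor A₀ A T hres]
    refine (hsup k).trans (sup_le ?_ le_rfl)
    rw [← Ideal.map_pow]
    exact (Ideal.map_mono hk).trans (map_maximalIdeal_le_cc A₀ A T)
  exact Groth.Agent.H29.CplFinite.isAdicComplete_of_pow_le hle k hpow

variable (A₀ A T) in
theorem isLocalHom_tensor [IsLocalRing (A ⊗[A₀] T)] :
    IsLocalHom (algebraMap A (A ⊗[A₀] T)) := by
  refine ⟨fun a ha => ?_⟩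
  by_contra hna
  have h1 : algebraMap A (A ⊗[A₀] T) a ∈
      (maximalIdeal A).map (algebraMap A (A ⊗[A₀] T)) ⊔ cc A₀ A T :=
    Ideal.mem_sup_left (Ideal.mem_map_of_mem _ hna)
  exact sup_ne_top A₀ A T (Ideal.eq_top_of_isUnit_mem _ h1 ha)

end main

section aug
variable {A₀ A T B₀ : Type u} [CommRing A₀] [CommRing A] [CommRing T] [CommRing B₀]
  [IsLocalRing A₀] [IsLocalRing A] [IsLocalRing T] [Algebra A₀ A] [Algebra A₀ T]
  [IsLocalHom (algebraMap A₀ A)]
  [Algebra A B₀] [Algebra A₀ B₀] [IsScalarTower A₀ A B₀]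

/-- the augmentation `A ⊗ T → B₀`. -/
noncomputable def aug (ψ : T →ₐ[A₀] B₀) : A ⊗[A₀] T →ₐ[A] B₀ :=
  Algebra.TensorProduct.lift (Algebra.ofId A B₀) ψ (fun _ _ => Commute.all _ _)

theorem aug_tmul (ψ : T →ₐ[A₀] B₀) (a : A) (t : T) :
    aug ψ (a ⊗ₜ[A₀] t) = algebraMap A B₀ a * ψ t := by
  simp [aug, Algebra.ofId_apply]

theorem aug_surjective (ψ : T →ₐ[A₀] B₀) (hψ : Function.Surjective ψ) :
    Function.Surjective (aug (A := A) ψ) := by
  intro b
  obtain ⟨t, rfl⟩ := hψ b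
  exact ⟨(1 : A) ⊗ₜ[A₀] t, by rw [aug_tmul, map_one, one_mul]⟩

theorem ker_aug (hres : Function.Surjective ((residue A).comp (algebraMap A₀ A)))
    (ψ : T →ₐ[A₀] B₀)
    (hker : RingHom.ker ψ.toRingHom = (maximalIdeal A₀).map (algebraMap A₀ T))
    (h0 : ∀ a ∈ maximalIdeal A, algebraMap A B₀ a = 0) :
    RingHom.ker (aug (A := A) ψ).toRingHom =
      (maximalIdeal A).map (algebraMap A (A ⊗[A₀] T)) := by
  apply le_antisymm
  · intro y hy
    obtain ⟨t, ht⟩ := exists_sub_mem hres y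
    have hmapker : (maximalIdeal A).map (algebraMap A (A ⊗[A₀] T)) ≤
        RingHom.ker (aug (A := A) ψ).toRingHom := by
      rw [Ideal.map_le_iff_le_comap]
      intro a ha
      rw [Ideal.mem_comap, RingHom.mem_ker]
      show aug ψ (algebraMap A (A ⊗[A₀] T) a) = 0
      rw [AlgHom.commutes]
      exact h0 a ha
    have h1 : aug (A := A) ψ ((1 : A) ⊗ₜ[A₀] t) = 0 := by
      have h2 : aug (A := A) ψ (y - (1 : A) ⊗ₜ[A₀] t) = 0 := hmapker ht
      have h3 : aug (A := A) ψ y = 0 := hy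
      rw [map_sub, h3, zero_sub, neg_eq_zero] at h2
      exact h2
    rw [aug_tmul, map_one, one_mul] at h1
    have h4 : t ∈ RingHom.ker ψ.toRingHom := h1
    rw [hker] at h4
    have h5 : (1 : A) ⊗ₜ[A₀] t ∈ (maximalIdeal A).map (algebraMap A (A ⊗[A₀] T)) := by
      have h6 : (Algebra.TensorProduct.includeRight : T →ₐ[A₀] A ⊗[A₀] T).toRingHom t ∈
          ((maximalIdeal A₀).map (algebraMap A₀ T)).map
            (Algebra.TensorProduct.includeRight : T →ₐ[A₀] A ⊗[A₀] T).toRingHom :=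
        Ideal.mem_map_of_mem _ h4
      rw [Ideal.map_map] at h6
      have h7 : ((Algebra.TensorProduct.includeRight : T →ₐ[A₀] A ⊗[A₀] T).toRingHom).comp
          (algebraMap A₀ T) = (algebraMap A (A ⊗[A₀] T)).comp (algebraMap A₀ A) := by
        ext c
        simp only [RingHom.comp_apply]
        show (1 : A) ⊗ₜ[A₀] (algebraMap A₀ T c) = algebraMap A (A ⊗[A₀] T) (algebraMap A₀ A c)
        rw [Algebra.TensorProduct.algebraMap_apply, Algebra.algebraMap_self, RingHom.id_apply,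
          Algebra.algebraMap_eq_smul_one, Algebra.algebraMap_eq_smul_one, TensorProduct.smul_tmul]
      rw [h7, ← Ideal.map_map] at h6
      refine Ideal.map_mono ?_ h6
      exact IsLocalRing.map_maximalIdeal_le (algebraMap A₀ A) |>.trans le_rfl
    have : y = (y - (1 : A) ⊗ₜ[A₀] t) + (1 : A) ⊗ₜ[A₀] t := by ring
    rw [this]
    exact Ideal.add_mem _ ht h5
  · rw [Ideal.map_le_iff_le_comap]
    intro a ha
    rw [Ideal.mem_comap, RingHom.mem_ker]
    show aug ψ (algebraMap A (A ⊗[A₀] T) a) = 0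
    rw [AlgHom.commutes]
    exact h0 a ha

end aug

end Groth.Agent.H34.FinBC
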