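import Mathlib
import Groth.Agent.H34.FSRegular
import Groth.Agent.H34.FinBC
import Groth.Agent.H34.ComplQuot
import Groth.Agent.H87.IsoFlat
import Groth.Agent.H87.LiftNC
import Groth.Agent.H20.FibBCGen
import Groth.Agent.H20.FormalFib
import Groth.Agent.S0581
import Groth.Agent.H79.CIPres
import Groth.Agent.H61.PowerSeriesComplete
import Groth.Agent.H61.ObsDimMain
import Groth.Agent.H11.MvPSN2

/-! Formally smooth complete local algebras over a complete local domain have geometrically regular
generic fibre (Stacks 07PM, reduction to the regular case via Cohen; helper34). -/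

set_option autoImplicit false
universe u
open TensorProduct IsLocalRing

namespace Groth.Agent.H34.FSGeneric

/-- the regular case at any prime equal to zero (to avoid dependent-type issues). -/
theorem geomRegular_generic' (A : Type u) [CommRing A] [IsDomain A] [IsLocalRing A]
    [IsNoetherianRing A] [IsAdicComplete (maximalIdeal A) A] [IsRegularLocalRing A]
    (B : Type u) [CommRing B] [IsLocalRing B] [IsNoetherianRing B]
    [IsAdicComplete (maximalIdeal B) B] [Algebra A B] [IsLocalHom (algebraMap A B)]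
    (h : CAlgX.IsAdicFormallySmooth A B (maximalIdeal B)) (p : Ideal A) [p.IsPrime] (hp : p = ⊥) :
    CAlg.IsGeometricallyRegular p.ResidueField (p.Fiber B) := by
  subst hp
  exact Groth.Agent.H34.FSRegular.geomRegular_generic A B h

section step
variable (A₀ : Type u) [CommRing A₀] [IsDomain A₀] [IsLocalRing A₀]
  [IsNoetherianRing A₀] [IsAdicComplete (maximalIdeal A₀) A₀] [IsRegularLocalRing A₀]
  (A : Type u) [CommRing A] [IsDomain A] [IsLocalRing A] [IsNoetherianRing A]
  [Algebra A₀ A] [Module.Finite A₀ A]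
  (B : Type u) [CommRing B] [IsLocalRing B] [IsNoetherianRing B]
  [IsAdicComplete (maximalIdeal B) B] [Algebra A B] [IsLocalHom (algebraMap A B)]

include A₀ in
/-- Reduction to the regular case along a Cohen subring. -/
theorem geomRegular_generic_of_cohen
    (hinj : Function.Injective (algebraMap A₀ A))
    (hres : Function.Surjective ((residue A).comp (algebraMap A₀ A)))
    (h : CAlgX.IsAdicFormallySmooth A B (maximalIdeal B)) :
    CAlg.IsGeometricallyRegular (⊥ : Ideal A).ResidueField ((⊥ : Ideal A).Fiber B) := by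
  classical
  have hlocA : IsLocalHom (algebraMap A₀ A) :=
    RingHom.IsIntegral.isLocalHom (algebraMap_isIntegral_iff.mpr inferInstance) hinj
  have hflat : Module.Flat A B := ((Groth.Agent.S2038.result (A := A) (B := B)).mpr h).1
  -- the closed fibre
  have h1 := Groth.Agent.H87.CIFibres.fs_quotient (maximalIdeal A) (maximalIdeal B) h
  let hfld : Field (A ⧸ maximalIdeal A) := Ideal.Quotient.field _
  have hmax : (maximalIdeal B).map (Ideal.Quotient.mk ((maximalIdeal A).map (algebraMap A B))) =
      maximalIdeal (EGA4.FibRing A B) :=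
    IsLocalRing.map_maximalIdeal_of_surjective _ Ideal.Quotient.mk_surjective
  rw [hmax] at h1
  have hF : IsRegularLocalRing (EGA4.FibRing A B) :=
    Groth.Agent.Lead.GeomReg.regular_of_fs (k := A ⧸ maximalIdeal A) h1
  have hFc : IsAdicComplete (maximalIdeal (EGA4.FibRing A B)) (EGA4.FibRing A B) :=
    Groth.Agent.H34.ComplQuot.isAdicComplete_quotient _
  have hκ : Function.Surjective (algebraMap A₀ (A ⧸ maximalIdeal A)) := hres
  let algF : Algebra A₀ (EGA4.FibRing A B) :=
    ((algebraMap A (EGA4.FibRing A B)).comp (algebraMap A₀ A)).toAlgebra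
  have tow1 : IsScalarTower A₀ A (EGA4.FibRing A B) := IsScalarTower.of_algebraMap_eq (fun _ => rfl)
  have tow2 : IsScalarTower A₀ (A ⧸ maximalIdeal A) (EGA4.FibRing A B) :=
    IsScalarTower.of_algebraMap_eq (fun _ => rfl)
  obtain ⟨T, _, _, _, hN, hC, hL, hFl, ⟨ψ, hψ, hkψ⟩, hfsT⟩ :=
    Groth.Agent.H87.LiftNC.exists_lift' (A := A₀) (κ := A ⧸ maximalIdeal A)
      (EGA4.FibRing A B) hκ
  have hfsT' := hfsT h1
  have hT : CAlgX.IsAdicFormallySmooth A₀ T (maximalIdeal T) :=
    (Groth.Agent.S4537.result _).2 hfsT'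
  -- the base change `Y = A ⊗ T`
  have hYloc : IsLocalRing (A ⊗[A₀] T) := Groth.Agent.H34.FinBC.isLocalRing_tensor A₀ A T hres
  have hYN : IsNoetherianRing (A ⊗[A₀] T) := Groth.Agent.H34.FinBC.isNoetherianRing_tensor A₀ A T
  have hYc : IsAdicComplete (maximalIdeal (A ⊗[A₀] T)) (A ⊗[A₀] T) :=
    Groth.Agent.H34.FinBC.isAdicComplete_tensor A₀ A T hres
  have hYl : IsLocalHom (algebraMap A (A ⊗[A₀] T)) :=
    Groth.Agent.H34.FinBC.isLocalHom_tensor A₀ A T
  have h0 : ∀ a ∈ maximalIdeal A, algebraMap A (EGA4.FibRing A B) a = 0 := by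
    intro a ha
    show Ideal.Quotient.mk _ (algebraMap A B a) = 0
    rw [Ideal.Quotient.eq_zero_iff_mem]
    exact Ideal.mem_map_of_mem _ ha
  obtain ⟨e⟩ := Groth.Agent.H87.IsoFlat.iso_of_fs_flat (A := A) (X := B) (Y := A ⊗[A₀] T)
    (B₀ := EGA4.FibRing A B) ((Groth.Agent.S4537.result _).1 h)
    (Ideal.Quotient.mkₐ A ((maximalIdeal A).map (algebraMap A B)))
    (Ideal.Quotient.mkₐ_surjective A _)
    (by
      show RingHom.ker (Ideal.Quotient.mk ((maximalIdeal A).map (algebraMap A B))) = _
      exact Ideal.mk_ker)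
    (Groth.Agent.H34.FinBC.aug ψ) (Groth.Agent.H34.FinBC.aug_surjective ψ hψ)
    (Groth.Agent.H34.FinBC.ker_aug hres ψ hkψ h0)
  -- the generic fibre of `A → A ⊗ T`
  have hNY : IsNoetherianRing ((⊥ : Ideal A).Fiber (A ⊗[A₀] T)) :=
    Groth.Agent.H34.FibLoc.isNoetherianRing_fiber A (A ⊗[A₀] T) ⊥
  have hcomap : (⊥ : Ideal A).comap (algebraMap A₀ A) = ⊥ := by
    rw [← RingHom.ker_eq_comap_bot]
    exact (RingHom.injective_iff_ker_eq_bot _).mp hinj
  have hgen := geomRegular_generic' A₀ T hT ((⊥ : Ideal A).comap (algebraMap A₀ A)) hcomap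
  have hNT : IsNoetherianRing (((⊥ : Ideal A).comap (algebraMap A₀ A)).Fiber T) :=
    Groth.Agent.H34.FibLoc.isNoetherianRing_fiber A₀ T _
  have hY : CAlg.IsGeometricallyRegular (⊥ : Ideal A).ResidueField
      ((⊥ : Ideal A).Fiber (A ⊗[A₀] T)) := by
    intro k' _ _ hfin
    obtain ⟨alg, -, hess, ⟨E⟩⟩ := Groth.Agent.H20.FibBCGen.core A₀ T A (⊥ : Ideal A) k'
    have hess' := hess inferInstance inferInstance
    have hreg := Groth.Agent.Lead.GeomRegBC.regular_tensor_of_geomRegular hgen k'
    exact IsRegularRing.of_ringEquiv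
      (R := k' ⊗[((⊥ : Ideal A).comap (algebraMap A₀ A)).ResidueField]
        ((⊥ : Ideal A).comap (algebraMap A₀ A)).Fiber T) E
  exact (Groth.Agent.H20.FormalFib.geomRegular_fibre_of_algEquiv A (A ⊗[A₀] T) B e.symm ⊥ hNY
    hY).2

end step

/-- **Generic fibre**: for a complete Noetherian local domain `A` and a complete Noetherian local
`A`-algebra `B` formally smooth over `A`, the generic fibre is geometrically regular. -/
theorem geomRegular_generic (A : Type u) [CommRing A] [IsDomain A] [IsLocalRing A]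
    [IsNoetherianRing A] [IsAdicComplete (maximalIdeal A) A]
    (B : Type u) [CommRing B] [IsLocalRing B] [IsNoetherianRing B]
    [IsAdicComplete (maximalIdeal B) B] [Algebra A B] [IsLocalHom (algebraMap A B)]
    (h : CAlgX.IsAdicFormallySmooth A B (maximalIdeal B)) :
    CAlg.IsGeometricallyRegular (⊥ : Ideal A).ResidueField ((⊥ : Ideal A).Fiber B) := by
  obtain ⟨Λ, _, n, f, hΛ, hinj, hfin, hres⟩ := Groth.Agent.S0581.result A
  have hreg : IsRegularLocalRing (MvPowerSeries (Fin n) Λ) :=
    Groth.Agent.H79.CIPres.isRegularLocalRing_of_field_or_cohen Λ hΛ n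
  have hdom : IsDomain (MvPowerSeries (Fin n) Λ) := by
    rcases hΛ with h | ⟨hd, -, -, -⟩
    · have := h.isDomain
      exact Groth.Agent.H11.MvPSN2.isDomain_mvPowerSeries Λ n
    · exact Groth.Agent.H11.MvPSN2.isDomain_mvPowerSeries Λ n
  have hcomplP : IsAdicComplete (maximalIdeal (MvPowerSeries (Fin n) Λ))
      (MvPowerSeries (Fin n) Λ) := by
    rcases hΛ with h | ⟨hd, hdvr, hc, -⟩
    · let _ := h.toField
      have := Groth.Agent.H61.Obs.field_isAdicComplete Λ
      exact Groth.Agent.H61.PS.isAdicComplete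
    · exact Groth.Agent.H61.PS.isAdicComplete
  let _ : Algebra (MvPowerSeries (Fin n) Λ) A := f.toAlgebra
  have hfin' : Module.Finite (MvPowerSeries (Fin n) Λ) A := hfin
  exact geomRegular_generic_of_cohen (MvPowerSeries (Fin n) Λ) A B hinj hres h

end Groth.Agent.H34.FSGeneric
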