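import Mathlib
import Groth.Agent.H34.FSGeneric
import Groth.Agent.H34.ComplQuot
import Groth.Agent.H87.FlatLift
import Groth.Agent.H20.FibBCGen

/-! A formally smooth local homomorphism of complete Noetherian local rings is regular
(Stacks 07PM; helper34). -/

set_option autoImplicit false
universe u
open TensorProduct IsLocalRing

namespace Groth.Agent.H34.FSRegularHom

theorem geomRegular_fibre_congr' {A B : Type u} [CommRing A] [CommRing B] [Algebra A B]
    (q p : Ideal A) [q.IsPrime] [p.IsPrime] (hqp : q = p)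
    (h : CAlg.IsGeometricallyRegular q.ResidueField (q.Fiber B)) :
    CAlg.IsGeometricallyRegular p.ResidueField (p.Fiber B) := by
  subst hqp
  exact h

/-- **Stacks 07PM**: formally smooth local homomorphisms of complete Noetherian local rings are
regular. -/
theorem isRegularHom_of_fs (A B : Type u) [CommRing A] [CommRing B]
    [IsLocalRing A] [IsLocalRing B] [IsNoetherianRing A] [IsNoetherianRing B]
    [IsAdicComplete (maximalIdeal A) A] [IsAdicComplete (maximalIdeal B) B]
    [Algebra A B] [IsLocalHom (algebraMap A B)]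
    (h : CAlgX.IsAdicFormallySmooth A B (maximalIdeal B)) : CAlg.IsRegularHom A B := by
  have hflat : Module.Flat A B := ((Groth.Agent.S2038.result (A := A) (B := B)).mpr h).1
  refine ⟨hflat, fun p _ => ⟨Groth.Agent.H34.FibLoc.isNoetherianRing_fiber A B p, ?_⟩⟩
  have hPA : Function.Surjective (algebraMap A (A ⧸ p)) := Ideal.Quotient.mk_surjective
  have hloc : IsLocalRing (A ⧸ p) :=
    IsLocalRing.of_surjective' (Ideal.Quotient.mk p) Ideal.Quotient.mk_surjective
  have hcompl : IsAdicComplete (maximalIdeal (A ⧸ p)) (A ⧸ p) :=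
    Groth.Agent.H34.ComplQuot.isAdicComplete_quotient p
  have hYloc : IsLocalRing ((A ⧸ p) ⊗[A] B) := Groth.Agent.H87.FlatLift.isLocalRing_tensor hPA
  have hYN : IsNoetherianRing ((A ⧸ p) ⊗[A] B) :=
    Groth.Agent.H87.FlatLift.isNoetherianRing_tensor hPA
  have hYc : IsAdicComplete (maximalIdeal ((A ⧸ p) ⊗[A] B)) ((A ⧸ p) ⊗[A] B) :=
    Groth.Agent.H87.FlatLift.isAdicComplete_tensor hPA
  have hYl : IsLocalHom (algebraMap (A ⧸ p) ((A ⧸ p) ⊗[A] B)) :=
    Groth.Agent.H87.FlatLift.isLocalHom_tensor hPA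
  have hYfs : CAlgX.IsAdicFormallySmooth (A ⧸ p) ((A ⧸ p) ⊗[A] B)
      (maximalIdeal ((A ⧸ p) ⊗[A] B)) := Groth.Agent.H87.FlatLift.smooth_tensor hPA h
  have hgen := Groth.Agent.H34.FSGeneric.geomRegular_generic (A ⧸ p) ((A ⧸ p) ⊗[A] B) hYfs
  have h1 := Groth.Agent.H20.FibBCGen.geomRegular_fibre_of_baseChange A B (A ⧸ p)
    (⊥ : Ideal (A ⧸ p)) hgen
  refine geomRegular_fibre_congr' _ p ?_ h1
  rw [← RingHom.ker_eq_comap_bot]
  exact Ideal.mk_ker

end Groth.Agent.H34.FSRegularHom
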