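import Groth.Agent.H34.RegDesc
import Groth.Agent.H34.ComplQuot
import Groth.Agent.S9250
import Groth.Agent.S2644
import Groth.Agent.H15.FlatLoc
import Mathlib.RingTheory.Flat.Localization
import Mathlib.RingTheory.Jacobson.Ideal

/-! Localization at `1 + J` versus `J`-adic completion (helper34). -/

set_option autoImplicit false
universe u

namespace Groth.Agent.H34.OnePlus

/-- Ascent of normality along a normal homomorphism of Noetherian rings. -/
theorem isNormalRing_of_isNormalHom (E D : Type u) [CommRing E] [CommRing D] [Algebra E D]
    [IsNoetherianRing E] [IsNoetherianRing D] (h : EGA4.IsNormalHom E D)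
    (hE : EGA4.IsNormalRing E) : EGA4.IsNormalRing D := by
  obtain ⟨hflat, hfib⟩ := h
  intro Q hQ
  obtain ⟨hd, hic⟩ := hE (Q.comap (algebraMap E D))
  exact Groth.Agent.H15.FlatLoc.normal_of_flat E D
    (fun Q' _ => Groth.Agent.S2644.fibLoc_normal_of_isGeomNormal E D Q'
      (hfib (Q'.comap (algebraMap E D)))) Q

variable (A : Type u) [CommRing A] [IsNoetherianRing A] (J : Ideal A) (T : Submonoid A)
  (hT : T = MonoidHom.mker (Ideal.Quotient.mk J))

include hT in
omit [IsNoetherianRing A] in
theorem sub_one_mem {t : A} (ht : t ∈ T) : t - 1 ∈ J := by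
  rw [hT, MonoidHom.mem_mker] at ht
  rw [← Ideal.Quotient.eq_zero_iff_mem, map_sub, ht, map_one, sub_self]

include hT in
omit [IsNoetherianRing A] in
theorem mem_of_sub_one_mem {t : A} (ht : t - 1 ∈ J) : t ∈ T := by
  rw [hT, MonoidHom.mem_mker]
  have := Ideal.Quotient.eq_zero_iff_mem.mpr ht
  rw [map_sub, map_one, sub_eq_zero] at this
  exact this

include hT in
theorem isUnit_algebraMap {t : A} (ht : t ∈ T) :
    IsUnit (algebraMap A (AdicCompletion J A) t) := by
  have hc : IsAdicComplete (J.map (algebraMap A (AdicCompletion J A))) (AdicCompletion J A) :=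
    AdicCompletion.isAdicComplete_self J J.fg_of_isNoetherianRing
  have hjac : J.map (algebraMap A (AdicCompletion J A)) ≤ (⊥ : Ideal (AdicCompletion J A)).jacobson :=
    IsAdicComplete.le_jacobson_bot _
  have h1 : algebraMap A (AdicCompletion J A) (t - 1) ∈
      (⊥ : Ideal (AdicCompletion J A)).jacobson :=
    hjac (Ideal.mem_map_of_mem _ (sub_one_mem A J T hT ht))
  have h2 := Ideal.mem_jacobson_bot.mp h1 1
  rw [mul_one, map_sub, map_one, sub_add_cancel] at h2
  exact h2

theorem isNoetherianRing_adic : IsNoetherianRing (AdicCompletion J A) :=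
  Groth.Agent.Lead.isNoetherianRing_adicCompletion J J.fg_of_isNoetherianRing

section generic

variable (A' : Type u) [CommRing A'] [Algebra A A'] [IsLocalization T A']
  [Algebra A' (AdicCompletion J A)] [IsScalarTower A A' (AdicCompletion J A)]

include hT in
theorem faithfullyFlat : Module.FaithfullyFlat A' (AdicCompletion J A) := by
  have hflat : Module.Flat A' (AdicCompletion J A) :=
    (Module.flat_iff_of_isLocalization A' T (AdicCompletion J A)).mpr inferInstance
  refine { toFlat := hflat, submodule_ne_top := ?_ }
  intro m hm htop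
  set m' := m.comap (algebraMap A A') with hm'
  have hmprime : m.IsPrime := hm.isPrime
  have hdisj : Disjoint (T : Set A) (m' : Set A) :=
    ((IsLocalization.isPrime_iff_isPrime_disjoint T A' m).mp hmprime).2
  have hmap : m'.map (algebraMap A A') = m := IsLocalization.map_under T A' m
  have h1 : (1 : AdicCompletion J A) ∈ (m • ⊤ : Submodule A' (AdicCompletion J A)) :=
    by rw [htop]; exact Submodule.mem_top
  rw [Ideal.smul_top_eq_map] at h1
  have h2 : (1 : AdicCompletion J A) ∈ m.map (algebraMap A' (AdicCompletion J A)) := h1
  rw [← hmap, Ideal.map_map, ← IsScalarTower.algebraMap_eq] at h2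
  have h3 : (AdicCompletion.evalOneₐ J).toRingHom (1 : AdicCompletion J A) ∈
      (m'.map (algebraMap A (AdicCompletion J A))).map (AdicCompletion.evalOneₐ J).toRingHom :=
    Ideal.mem_map_of_mem _ h2
  rw [Ideal.map_map, AdicCompletion.evalOneₐ_comp_algebraMap_eq_mk, map_one] at h3
  have h4 : (1 : A) ∈ (m'.map (Ideal.Quotient.mk J)).comap (Ideal.Quotient.mk J) := by
    rw [Ideal.mem_comap, map_one]
    exact h3
  rw [Ideal.comap_map_of_surjective' _ Ideal.Quotient.mk_surjective, Ideal.mk_ker] at h4
  obtain ⟨a, ha, j, hj, h5⟩ := Submodule.mem_sup.mp h4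
  have haT : a ∈ T := by
    apply mem_of_sub_one_mem A J T hT
    have : a - 1 = -j := by rw [← h5]; ring
    rw [this]
    exact neg_mem hj
  exact Set.disjoint_left.mp hdisj haT ha

include hT in
theorem isLocalization_self :
    IsLocalization (Algebra.algebraMapSubmonoid (AdicCompletion J A) T) (AdicCompletion J A) := by
  apply IsLocalization.of_le_isUnit
  rintro _ ⟨t, ht, rfl⟩
  exact isUnit_algebraMap A J T hT ht

include hT in
theorem regular_iff (hf : CAlg.IsRegularHom A (AdicCompletion J A)) :
    IsRegularRing A' ↔ IsRegularRing (AdicCompletion J A) := by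
  have hN := isNoetherianRing_adic A J
  have hff := faithfullyFlat A J T hT A'
  constructor
  · intro hreg
    have hloc := isLocalization_self A J T hT
    have h1 : CAlg.IsRegularHom A' (AdicCompletion J A) :=
      Groth.Agent.H34.FibLoc.isRegularHom_localization A (AdicCompletion J A) T A'
        (AdicCompletion J A) hf
    exact Groth.Agent.S9250.result A' (AdicCompletion J A) h1
  · intro hreg
    exact Groth.Agent.H34.RegDesc.isRegularRing_of_faithfullyFlat A' (AdicCompletion J A)

include hT in
theorem normal_iff (hf : EGA4.IsNormalHom A (AdicCompletion J A)) :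
    EGA4.IsNormalRing A' ↔ EGA4.IsNormalRing (AdicCompletion J A) := by
  have hN := isNoetherianRing_adic A J
  have hff := faithfullyFlat A J T hT A'
  have hNA' : IsNoetherianRing A' := IsLocalization.isNoetherianRing T A' inferInstance
  constructor
  · intro hnor
    have hloc := isLocalization_self A J T hT
    have h1 : EGA4.IsNormalHom A' (AdicCompletion J A) :=
      Groth.Agent.H34.FibLoc.isNormalHom_localization A (AdicCompletion J A) T A'
        (AdicCompletion J A) hf
    exact isNormalRing_of_isNormalHom A' (AdicCompletion J A) h1 hnor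
  · intro hnor
    exact Groth.Agent.H34.RegDesc.isNormalRing_of_faithfullyFlat A' (AdicCompletion J A) hnor

end generic

include hT in
theorem regular_iff_localization (hf : CAlg.IsRegularHom A (AdicCompletion J A)) :
    IsRegularRing (Localization T) ↔ IsRegularRing (AdicCompletion J A) := by
  have hunits : ∀ t : T, IsUnit (algebraMap A (AdicCompletion J A) t) :=
    fun t => isUnit_algebraMap A J T hT t.2
  let alg : Algebra (Localization T) (AdicCompletion J A) :=
    (IsLocalization.lift (M := T) hunits).toAlgebra
  have : IsScalarTower A (Localization T) (AdicCompletion J A) :=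
    IsScalarTower.of_algebraMap_eq (fun a => (IsLocalization.lift_eq hunits a).symm)
  exact regular_iff A J T hT (Localization T) hf

include hT in
theorem normal_iff_localization (hf : EGA4.IsNormalHom A (AdicCompletion J A)) :
    EGA4.IsNormalRing (Localization T) ↔ EGA4.IsNormalRing (AdicCompletion J A) := by
  have hunits : ∀ t : T, IsUnit (algebraMap A (AdicCompletion J A) t) :=
    fun t => isUnit_algebraMap A J T hT t.2
  let alg : Algebra (Localization T) (AdicCompletion J A) :=
    (IsLocalization.lift (M := T) hunits).toAlgebra
  have : IsScalarTower A (Localization T) (AdicCompletion J A) :=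
    IsScalarTower.of_algebraMap_eq (fun a => (IsLocalization.lift_eq hunits a).symm)
  exact normal_iff A J T hT (Localization T) hf

end Groth.Agent.H34.OnePlus
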