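import Groth.Agent.H34.GenFib
import Groth.Agent.H34.ComplQuot
import Groth.Agent.H34.OnePlus
import Mathlib.RingTheory.Nilpotent.GeometricallyReduced
import Mathlib.RingTheory.Flat.FaithfullyFlat.Algebra

/-! `A → AdicCompletion I A` inherits regular / normal / geometrically reduced fibres from the
formal fibres of the local rings of `A` (EGA IV 7.4.6) (helper34). -/

set_option autoImplicit false
universe u
open TensorProduct

namespace Groth.Agent.H34.AdicFib

open Groth.Agent.H34.GenFib

section generic
variable {P : ∀ (R : Type u) [CommRing R], Prop}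
  {𝓚 : ∀ (k k' : Type u) [Field k] [Field k'] [Algebra k k'], Prop}

theorem main (hg : Good P 𝓚) (N : ∀ (R : Type u) [CommRing R], Prop)
    (hNiso : ∀ (R R' : Type u) [CommRing R] [CommRing R'], (R ≃+* R') → N R → N R')
    (hcov : CovDesc P N) (A : Type u) [CommRing A] [IsNoetherianRing A] (I : Ideal A)
    (hN : ∀ (p : Ideal A) [p.IsPrime] (k' : Type u) [Field k'] [Algebra p.ResidueField k'],
      𝓚 p.ResidueField k' → N (k' ⊗[p.ResidueField] p.Fiber (AdicCompletion I A)))
    (hA : ∀ (m : Ideal A) [m.IsMaximal],
      GF P 𝓚 (Localization.AtPrime m) (EGA4.Cpl (Localization.AtPrime m))) :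
    GF P 𝓚 A (AdicCompletion I A) := by
  have hNB : IsNoetherianRing (AdicCompletion I A) :=
    Groth.Agent.H34.OnePlus.isNoetherianRing_adic A I
  apply GF.of_localizations_maximal hg.iso N hNiso hcov A (AdicCompletion I A) hN
  intro M hM
  have hm := Groth.Agent.H34.CplAdicMax.comap_isMaximal A I M
  obtain ⟨e, he⟩ := Groth.Agent.H34.CplAdicMax.exists_ringEquiv A I M
  have h1 : GF P 𝓚 A
      (EGA4.Cpl (Localization.AtPrime (M.comap (algebraMap A (AdicCompletion I A))))) :=
    GF.of_localization A (M.comap (algebraMap A (AdicCompletion I A))).primeCompl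
      (Localization.AtPrime (M.comap (algebraMap A (AdicCompletion I A)))) _ hg
      (hA (M.comap (algebraMap A (AdicCompletion I A))))
  let e' : EGA4.Cpl (Localization.AtPrime (M.comap (algebraMap A (AdicCompletion I A)))) ≃ₐ[A]
      EGA4.Cpl (Localization.AtPrime M) := AlgEquiv.ofRingEquiv (f := e) he
  have h2 : GF P 𝓚 A (EGA4.Cpl (Localization.AtPrime M)) := GF.of_algEquiv hg.iso e' h1
  have : Module.FaithfullyFlat (Localization.AtPrime M) (EGA4.Cpl (Localization.AtPrime M)) :=
    Groth.Agent.H34.ComplQuot.faithfullyFlat_cpl _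
  exact GF.of_faithfullyFlat hg A (Localization.AtPrime M) (EGA4.Cpl (Localization.AtPrime M)) h2

end generic

theorem finite_transport (k₁ k₂ k' : Type u) [Field k₁] [Field k₂] [Field k'] [Algebra k₁ k']
    [Algebra k₂ k'] (σ : k₁ →+* k₂) (hσ : Function.Bijective σ)
    (h : (algebraMap k₂ k').comp σ = algebraMap k₁ k') (hf : Module.Finite k₁ k') :
    Module.Finite k₂ k' :=
  Module.Finite.of_equiv_equiv (RingEquiv.ofBijective σ hσ) (RingEquiv.refl k') (by
    rw [← h]; rfl)

theorem not_isPrime_of_subsingleton (R : Type u) [CommRing R] [Subsingleton R] (p : Ideal R)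
    [hp : p.IsPrime] : False :=
  hp.ne_top ((Ideal.eq_top_iff_one p).mpr (by rw [Subsingleton.elim (1 : R) 0]; exact zero_mem p))

/-! ### normal -/

theorem good_normal : Good (fun R _ => EGA4.IsNormalRing R)
    (fun k k' _ _ _ => Module.Finite k k') where
  iso := fun _ _ _ _ e h => Groth.Agent.H34.FibLoc.isNormalRing_of_ringEquiv e h
  triv := fun R _ _ p _ => (not_isPrime_of_subsingleton R p).elim
  transport := fun k₁ k₂ k' _ _ _ _ _ σ hσ h hf => finite_transport k₁ k₂ k' σ hσ h hf
  desc := fun R S _ _ _ _ h => Groth.Agent.H34.RegDesc.isNormalRing_of_faithfullyFlat R S h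

theorem cov_normal : CovDesc (fun R _ => EGA4.IsNormalRing R) (fun _ _ => True) := by
  intro R _ _ hc Q hQ
  obtain ⟨S, _, _, hfl, hS, q, hq, hqQ⟩ := hc Q
  have : q.LiesOver Q := ⟨hqQ.symm⟩
  obtain ⟨hd, hic⟩ := hS q
  let _ := Localization.AtPrime.algebraOfLiesOver Q q
  have : IsLocalHom (algebraMap (Localization.AtPrime Q) (Localization.AtPrime q)) :=
    Localization.isLocalHom_localRingHom _ _ _ _
  have hfl' : Module.Flat (Localization.AtPrime Q) (Localization.AtPrime q) := inferInstance
  exact Groth.Agent.H13.isDomain_isIntegrallyClosed_of_flat_of_isLocalHom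
    (algebraMap (Localization.AtPrime Q) (Localization.AtPrime q)) hfl'

theorem normal (A : Type u) [CommRing A] [IsNoetherianRing A]
    (hA : ∀ (p : Ideal A) [p.IsPrime],
      EGA4.HasGeomNormalFormalFibres (Localization.AtPrime p)) (I : Ideal A) :
    EGA4.IsNormalHom A (AdicCompletion I A) := by
  refine ⟨inferInstance, ?_⟩
  exact main good_normal (fun _ _ => True) (fun _ _ _ _ _ _ => trivial) cov_normal A I
    (fun _ _ _ _ _ _ => trivial) (fun m _ => hA m)

/-! ### regular -/

theorem good_regular : Good (fun R _ => IsRegularRing R)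
    (fun k k' _ _ _ => Module.Finite k k') where
  iso := fun R R' _ _ e h => @IsRegularRing.of_ringEquiv R _ R' _ e h
  triv := fun R _ _ => by
    have : IsNoetherianRing R := inferInstance
    rw [isRegularRing_iff]
    intro p hp
    exact (not_isPrime_of_subsingleton R p).elim
  transport := fun k₁ k₂ k' _ _ _ _ _ σ hσ h hf => finite_transport k₁ k₂ k' σ hσ h hf
  desc := fun R S _ _ _ _ h => by
    have : IsRegularRing S := h
    exact Groth.Agent.H34.RegDesc.isRegularRing_of_faithfullyFlat R S

theorem cov_regular : CovDesc (fun R _ => IsRegularRing R) (fun R _ => IsNoetherianRing R) := by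
  intro R _ hN hc
  have : IsNoetherianRing R := hN
  rw [isRegularRing_iff]
  intro Q hQ
  obtain ⟨S, _, _, hfl, hS, q, hq, hqQ⟩ := hc Q
  have : q.LiesOver Q := ⟨hqQ.symm⟩
  have : IsRegularRing S := hS
  have : IsRegularLocalRing (Localization.AtPrime q) := inferInstance
  exact Groth.Agent.H71.RD.regular_of_flat_liesOver R S Q q

attribute [local instance] Algebra.TensorProduct.rightAlgebra in
theorem noeth_fibre (A B : Type u) [CommRing A] [CommRing B] [Algebra A B] [IsNoetherianRing B]
    (p : Ideal A) [p.IsPrime] (k' : Type u) [Field k'] [Algebra p.ResidueField k']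
    (hf : Module.Finite p.ResidueField k') :
    IsNoetherianRing (k' ⊗[p.ResidueField] p.Fiber B) := by
  have h1 : IsNoetherianRing (p.Fiber B) := Groth.Agent.H34.FibLoc.isNoetherianRing_fiber A B p
  have h2 : Module.Finite (p.Fiber B) (p.Fiber B ⊗[p.ResidueField] k') := inferInstance
  have h3 : IsNoetherianRing (p.Fiber B ⊗[p.ResidueField] k') :=
    IsNoetherianRing.of_finite (p.Fiber B) _
  exact isNoetherianRing_of_ringEquiv _
    (Algebra.TensorProduct.comm p.ResidueField (p.Fiber B) k').toRingEquiv

theorem regular (A : Type u) [CommRing A] (hA : CAlg.IsGRing A) (I : Ideal A) :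
    CAlg.IsRegularHom A (AdicCompletion I A) := by
  obtain ⟨hN, hA⟩ := hA
  have hNB : IsNoetherianRing (AdicCompletion I A) :=
    Groth.Agent.H34.OnePlus.isNoetherianRing_adic A I
  have key : GF (fun R _ => IsRegularRing R) (fun k k' _ _ _ => Module.Finite k k') A
      (AdicCompletion I A) :=
    main good_regular (fun R _ => IsNoetherianRing R)
      (fun _ _ _ _ e h => by
        have := h
        exact isNoetherianRing_of_ringEquiv _ e) cov_regular A I
      (fun p _ k' _ _ hf => noeth_fibre A (AdicCompletion I A) p k' hf)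
      (fun m _ p' _ k' _ _ hf => ((hA m).2 p').2 k' hf)
  refine ⟨inferInstance, fun p _ => ⟨Groth.Agent.H34.FibLoc.isNoetherianRing_fiber A _ p, ?_⟩⟩
  intro k' _ _ hf
  exact key p k' hf

/-! ### reduced -/

theorem good_reduced : Good (fun R _ => IsReduced R)
    (fun k k' _ _ _ => Algebra.IsAlgebraic k k') where
  iso := fun _ _ _ _ e h => by
    have := h
    exact isReduced_of_injective e.symm.toRingHom e.symm.injective
  triv := fun R _ _ => ⟨fun x _ => Subsingleton.elim x 0⟩
  transport := fun k₁ k₂ k' _ _ _ _ _ σ hσ h hf => by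
    have := hf
    exact Algebra.IsAlgebraic.ringHom_of_comp_eq σ (RingHom.id k') hσ.1
      Function.surjective_id (by
        refine RingHom.ext fun x => ?_
        exact DFunLike.congr_fun h x)
  desc := fun R S _ _ _ _ h => by
    have := h
    exact isReduced_of_injective (algebraMap R S) (FaithfulSMul.algebraMap_injective R S)

theorem cov_reduced : CovDesc (fun R _ => IsReduced R) (fun _ _ => True) := by
  intro R _ _ hc
  constructor
  intro x hx
  by_contra hne
  have hI : (Submodule.span R {x}).annihilator ≠ ⊤ := by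
    intro h
    have h1 : (1 : R) ∈ (Submodule.span R {x}).annihilator := by rw [h]; trivial
    rw [Submodule.mem_annihilator_span_singleton, one_smul] at h1
    exact hne h1
  obtain ⟨Q, hQ, hIQ⟩ := Ideal.exists_le_maximal _ hI
  have hQp : Q.IsPrime := hQ.isPrime
  obtain ⟨S, _, _, hfl, hS, q, hq, hqQ⟩ := hc Q
  have : q.LiesOver Q := ⟨hqQ.symm⟩
  have hS' : IsReduced S := hS
  have hx0 : algebraMap R S x = 0 := (hx.map (algebraMap R S)).eq_zero
  let _ := Localization.AtPrime.algebraOfLiesOver Q q
  have : IsLocalHom (algebraMap (Localization.AtPrime Q) (Localization.AtPrime q)) :=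
    Localization.isLocalHom_localRingHom _ _ _ _
  have hfl' : Module.Flat (Localization.AtPrime Q) (Localization.AtPrime q) := inferInstance
  have hff : Module.FaithfullyFlat (Localization.AtPrime Q) (Localization.AtPrime q) :=
    Module.FaithfullyFlat.of_flat_of_isLocalHom
  have hinj := FaithfulSMul.algebraMap_injective (Localization.AtPrime Q) (Localization.AtPrime q)
  have h1 : algebraMap (Localization.AtPrime Q) (Localization.AtPrime q)
      (algebraMap R (Localization.AtPrime Q) x) = 0 := by
    rw [← IsScalarTower.algebraMap_apply R (Localization.AtPrime Q) (Localization.AtPrime q),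
      IsScalarTower.algebraMap_apply R S (Localization.AtPrime q), hx0, map_zero]
  have h2 : algebraMap R (Localization.AtPrime Q) x = 0 := hinj (by rw [h1, map_zero])
  rw [IsLocalization.map_eq_zero_iff Q.primeCompl] at h2
  obtain ⟨s, hs⟩ := h2
  apply s.2
  apply hIQ
  rw [Submodule.mem_annihilator_span_singleton]
  exact hs

theorem reduced (A : Type u) [CommRing A] [IsNoetherianRing A]
    (hA : ∀ (p : Ideal A) [p.IsPrime],
      EGA4.HasGeomReducedFormalFibres (Localization.AtPrime p)) (I : Ideal A) :
    Module.Flat A (AdicCompletion I A) ∧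
      ∀ (p : Ideal A) [p.IsPrime],
        Algebra.IsGeometricallyReduced p.ResidueField (p.Fiber (AdicCompletion I A)) := by
  refine ⟨inferInstance, ?_⟩
  have key : GF (fun R _ => IsReduced R) (fun k k' _ _ _ => Algebra.IsAlgebraic k k') A
      (AdicCompletion I A) :=
    main good_reduced (fun _ _ => True) (fun _ _ _ _ _ _ => trivial) cov_reduced A I
      (fun _ _ _ _ _ _ => trivial)
      (fun m _ p' _ k' _ _ hf => by
        have := hA m p'
        have := hf
        infer_instance)
  intro p _
  rw [Algebra.isGeometricallyReduced_field_iff]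
  exact key p (AlgebraicClosure p.ResidueField) inferInstance

end Groth.Agent.H34.AdicFib
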