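import Mathlib

namespace Groth.Agent.H34.FPColim

universe u

section abstract

variable {R : Type u} [CommRing R] {M : Type u} [AddCommGroup M] [Module R M]
  {F : Type u} [AddCommGroup F] [Module R F] (π : F →ₗ[R] M) (S : Finset M → Submodule R F)

/-- index type -/
def Idx : Type u :=
  {i : Finset M × Submodule R F // i.2.FG ∧ i.2 ≤ LinearMap.ker π ∧ i.2 ≤ S i.1}

instance : Preorder (Idx π S) :=
  inferInstanceAs (Preorder {i : Finset M × Submodule R F //
    i.2.FG ∧ i.2 ≤ LinearMap.ker π ∧ i.2 ≤ S i.1})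

variable {π S}

/-- the modules of the system -/
abbrev G (i : Idx π S) : Type u :=
  ↥(S i.1.1) ⧸ (i.1.2.comap (S i.1.1).subtype)

theorem le_iff (i j : Idx π S) : i ≤ j ↔ i.1.1 ⊆ j.1.1 ∧ i.1.2 ≤ j.1.2 := Iff.rfl

variable (hS : Monotone S)

/-- transition maps -/
noncomputable def tr (i j : Idx π S) (h : i ≤ j) : G i →ₗ[R] G j :=
  Submodule.mapQ _ _
    (Submodule.inclusion (hS ((le_iff i j).mp h).1))
    (fun x hx => ((le_iff i j).mp h).2 (show (x : F) ∈ i.1.2 from hx))

theorem tr_mk (i j : Idx π S) (h : i ≤ j) (x : ↥(S i.1.1)) :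
    tr hS i j h (Submodule.Quotient.mk x) =
      Submodule.Quotient.mk (Submodule.inclusion (hS ((le_iff i j).mp h).1) x) := rfl

instance : DirectedSystem (G (π := π) (S := S)) (fun i j h => tr hS i j h) where
  map_self i x := by
    obtain ⟨x, rfl⟩ := Submodule.mkQ_surjective _ x
    rfl
  map_map i j k hij hjk x := by
    obtain ⟨x, rfl⟩ := Submodule.mkQ_surjective _ x
    rfl

theorem fp (hfp : ∀ s, Module.FinitePresentation R ↥(S s)) (i : Idx π S) :
    Module.FinitePresentation R (G i) := by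
  have := hfp i.1.1
  refine Module.finitePresentation_of_surjective (Submodule.mkQ _) (Submodule.mkQ_surjective _) ?_
  rw [Submodule.ker_mkQ]
  have : Module.Finite R ↥i.1.2 := Module.Finite.iff_fg.mpr i.2.1
  exact Module.Finite.iff_fg.mp
    (Module.Finite.equiv (Submodule.comapSubtypeEquivOfLe i.2.2.2).symm)

/-- the maps to `M` -/
noncomputable def toM (i : Idx π S) : G i →ₗ[R] M :=
  Submodule.liftQ _ (π ∘ₗ (S i.1.1).subtype)
    (fun x hx => i.2.2.1 (show (x : F) ∈ i.1.2 from hx))

theorem toM_mk (i : Idx π S) (x : ↥(S i.1.1)) :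
    toM i (Submodule.Quotient.mk x) = π (x : F) := rfl

include hS in
theorem isDirected : IsDirected (Idx π S) (· ≤ ·) := by
  classical
  exact ⟨fun i j => ⟨⟨(i.1.1 ∪ j.1.1, i.1.2 ⊔ j.1.2), i.2.1.sup j.2.1, sup_le i.2.2.1 j.2.2.1,
    sup_le (i.2.2.2.trans (hS Finset.subset_union_left))
      (j.2.2.2.trans (hS Finset.subset_union_right))⟩,
    (le_iff _ _).mpr ⟨Finset.subset_union_left, le_sup_left⟩,
    (le_iff _ _).mpr ⟨Finset.subset_union_right, le_sup_right⟩⟩⟩

instance : Nonempty (Idx π S) := ⟨⟨(∅, ⊥), Submodule.fg_bot, bot_le, bot_le⟩⟩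

include hS in
theorem abstract_main (hfp : ∀ s, Module.FinitePresentation R ↥(S s))
    (hcov : ∀ m : M, ∃ s, ∃ x ∈ S s, π x = m) :
    ∃ (ι : Type u) (_ : Preorder ι) (_ : IsDirected ι (· ≤ ·)) (_ : Nonempty ι)
    (_ : DecidableEq ι) (G : ι → Type u) (_ : ∀ i, AddCommGroup (G i)) (_ : ∀ i, Module R (G i))
    (f : ∀ i j, i ≤ j → G i →ₗ[R] G j) (_ : DirectedSystem G fun i j h => f i j h),
    (∀ i, Module.FinitePresentation R (G i)) ∧ Nonempty (Module.DirectLimit G f ≃ₗ[R] M) := by
  classical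
  have := isDirected (π := π) hS
  refine ⟨Idx π S, inferInstance, inferInstance, inferInstance, Classical.decEq _, G,
    fun i => inferInstance, fun i => inferInstance, tr hS, inferInstance, fp hfp, ?_⟩
  have Hg : ∀ (i j : Idx π S) (hij : i ≤ j) (x : G i), toM j (tr hS i j hij x) = toM i x := by
    intro i j hij x
    obtain ⟨x, rfl⟩ := Submodule.mkQ_surjective _ x
    rfl
  let Φ : Module.DirectLimit G (tr hS) →ₗ[R] M :=
    Module.DirectLimit.lift R (Idx π S) G (tr hS) toM Hg
  have hinj : Function.Injective Φ := by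
    rw [injective_iff_map_eq_zero]
    intro z hz
    obtain ⟨i, x, rfl⟩ := Module.DirectLimit.exists_of z
    obtain ⟨x, rfl⟩ := Submodule.mkQ_surjective _ x
    have hz' : π (x : F) = 0 := by
      have := hz
      simp only [Φ, Module.DirectLimit.lift_of] at this
      exact this
    let j : Idx π S := ⟨(i.1.1, i.1.2 ⊔ Submodule.span R {(x : F)}),
      i.2.1.sup (Submodule.fg_span_singleton _),
      sup_le i.2.2.1 ((Submodule.span_singleton_le_iff_mem _ _).mpr (LinearMap.mem_ker.mpr hz')),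
      sup_le i.2.2.2 ((Submodule.span_singleton_le_iff_mem _ _).mpr x.2)⟩
    have hij : i ≤ j := (le_iff _ _).mpr ⟨Finset.Subset.refl _, le_sup_left⟩
    have h0 : tr hS i j hij (Submodule.mkQ _ x) = 0 := by
      change tr hS i j hij (Submodule.Quotient.mk x) = 0
      rw [tr_mk, Submodule.Quotient.mk_eq_zero]
      change (x : F) ∈ i.1.2 ⊔ Submodule.span R {(x : F)}
      exact Submodule.mem_sup_right (Submodule.mem_span_singleton_self _)
    rw [← Module.DirectLimit.of_f (hij := hij), h0, map_zero]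
  have hsurj : Function.Surjective Φ := by
    intro m
    obtain ⟨s, x, hxs, hxm⟩ := hcov m
    let i₀ : Idx π S := ⟨(s, ⊥), Submodule.fg_bot, bot_le, bot_le⟩
    refine ⟨Module.DirectLimit.of R (Idx π S) G (tr hS) i₀
      (Submodule.Quotient.mk ⟨x, hxs⟩), ?_⟩
    simp only [Φ, Module.DirectLimit.lift_of]
    rw [toM_mk]
    exact hxm
  exact ⟨LinearEquiv.ofBijective Φ ⟨hinj, hsurj⟩⟩

end abstract

theorem main (R : Type u) [CommRing R] (M : Type u) [AddCommGroup M] [Module R M] :
    ∃ (ι : Type u) (_ : Preorder ι) (_ : IsDirected ι (· ≤ ·)) (_ : Nonempty ι)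
    (_ : DecidableEq ι) (G : ι → Type u) (_ : ∀ i, AddCommGroup (G i)) (_ : ∀ i, Module R (G i))
    (f : ∀ i j, i ≤ j → G i →ₗ[R] G j) (_ : DirectedSystem G fun i j h => f i j h),
    (∀ i, Module.FinitePresentation R (G i)) ∧ Nonempty (Module.DirectLimit G f ≃ₗ[R] M) := by
  refine abstract_main (π := Finsupp.linearCombination R (id : M → M))
    (S := fun s => Finsupp.supported R R (s : Set M))
    (fun s t hst => Finsupp.supported_mono (Finset.coe_subset.mpr hst)) ?_ ?_
  · intro s
    have : Finite ↥(s : Set M) := (Finset.finite_toSet s).to_subtype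
    have : Module.Free R ↥(Finsupp.supported R R (s : Set M)) :=
      Module.Free.of_equiv (Finsupp.supportedEquivFinsupp (s : Set M)).symm
    have : Module.Finite R ↥(Finsupp.supported R R (s : Set M)) :=
      Module.Finite.equiv (Finsupp.supportedEquivFinsupp (s : Set M)).symm
    exact Module.finitePresentation_of_projective R ↥(Finsupp.supported R R (s : Set M))
  · intro m
    exact ⟨{m}, Finsupp.single m 1, Finsupp.single_mem_supported R 1 (by simp), by simp⟩

end Groth.Agent.H34.FPColim
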