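import Mathlib

set_option autoImplicit false
open CategoryTheory CategoryTheory.Limits
universe v u

namespace Groth.Agent.H34

variable {A : Type u} [Category.{v} A] [Abelian A]

theorem factors_iff_comp_cokernel_zero {X T : A} (S : Subobject X) (x : T ⟶ X) :
    S.Factors x ↔ x ≫ cokernel.π S.arrow = 0 := by
  constructor
  · intro h
    rw [← S.factorThru_arrow x h, Category.assoc, cokernel.condition, comp_zero]
  · intro h
    rw [Subobject.factors_iff]
    exact ⟨Abelian.monoLift S.arrow x h, Abelian.monoLift_comp S.arrow x h⟩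

theorem factors_of_epi_comp {X T T' : A} (S : Subobject X) (π : T' ⟶ T) [Epi π] (x : T ⟶ X)
    (h : S.Factors (π ≫ x)) : S.Factors x := by
  rw [factors_iff_comp_cokernel_zero] at h ⊢
  rw [← cancel_epi π, comp_zero, ← Category.assoc, h]

theorem imageSubobject_factors_iff {X Y T : A} (f : X ⟶ Y) (x : T ⟶ Y) :
    (imageSubobject f).Factors x ↔
      ∃ (T' : A) (π : T' ⟶ T) (_ : Epi π) (y : T' ⟶ X), π ≫ x = y ≫ f := by
  constructor
  · intro h
    obtain ⟨T', π, hπ, y, hy⟩ :=
      surjective_up_to_refinements_of_epi (factorThruImageSubobject f)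
        ((imageSubobject f).factorThru x h)
    refine ⟨T', π, hπ, y, ?_⟩
    rw [← (imageSubobject f).factorThru_arrow x h, ← Category.assoc, hy, Category.assoc,
      imageSubobject_arrow_comp]
  · rintro ⟨T', π, hπ, y, hy⟩
    apply factors_of_epi_comp _ π
    rw [hy]
    exact imageSubobject_factors_comp_self f y

theorem subobject_le_of_forall_factors {X : A} (S S' : Subobject X)
    (h : ∀ (T : A) (x : T ⟶ X), S.Factors x → S'.Factors x) : S ≤ S' :=
  Subobject.le_of_factors (h _ _ S.factors_self)

theorem subobject_ext_factors {X : A} (S S' : Subobject X)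
    (h : ∀ (T : A) (x : T ⟶ X), S.Factors x ↔ S'.Factors x) : S = S' :=
  le_antisymm (subobject_le_of_forall_factors _ _ fun T x => (h T x).1)
    (subobject_le_of_forall_factors _ _ fun T x => (h T x).2)

end Groth.Agent.H34
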