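import Groth.Agent.H95.C1Cap
import Groth.Agent.H95.CycZero

/-!
# Definitions for the key formula `c₁(N) ∩ div_L(s) ∼ c₁(L) ∩ div_N(t)` (S1920)

* `tameExt R a₁ a₂ b₁ b₂ = ∂(a₁,b₁) ∂(a₂,b₂) / (∂(a₁,b₂) ∂(a₂,b₁))`;
* `tameFrac R K ψ χ`: the tame symbol extended to fractions `ψ = a₁/a₂`, `χ = b₁/b₂` of `K`;
* `gOf ξ ψs ψt φu φv`: the rational function on the closure of `ξ` whose divisors make up the
  difference of the two sides of the key formula;
* `GData`, `gFun`: local generator data at a point and the function obtained from a choice.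
-/

set_option autoImplicit false
set_option linter.style.haveILetI false

universe u v

open CategoryTheory AlgebraicGeometry TopologicalSpace Opposite

namespace Groth.Agent.H34.Key

open Groth.Agent.H18.TensorGen (IsGen exists_isGen exists_isGen_pair)

/-- The tame symbol of the "fractions" `a₁/a₂` and `b₁/b₂`. -/
noncomputable def tameExt (R : Type u) [CommRing R] [IsLocalRing R] (a₁ a₂ b₁ b₂ : R) :
    IsLocalRing.ResidueField R :=
  CycAlg.tameSymbol R a₁ b₁ * CycAlg.tameSymbol R a₂ b₂ *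
    (CycAlg.tameSymbol R a₁ b₂ * CycAlg.tameSymbol R a₂ b₁)⁻¹

open Classical in
/-- The tame symbol extended to the fraction field: `∂(ψ, χ)` for `ψ = a₁/a₂`, `χ = b₁/b₂`
(any representation by nonzero elements; `1` if there is none). -/
noncomputable def tameFrac (R : Type u) [CommRing R] [IsLocalRing R] (K : Type v) [Field K]
    [Algebra R K] (ψ χ : K) : IsLocalRing.ResidueField R :=
  if h : ∃ p : R × R × R × R, p.1 ≠ 0 ∧ p.2.1 ≠ 0 ∧ p.2.2.1 ≠ 0 ∧ p.2.2.2 ≠ 0 ∧
      ψ * algebraMap R K p.2.1 = algebraMap R K p.1 ∧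
      χ * algebraMap R K p.2.2.2 = algebraMap R K p.2.2.1 then
    tameExt R h.choose.1 h.choose.2.1 h.choose.2.2.1 h.choose.2.2.2
  else 1

variable {X : Scheme.{u}} [IsIntegral X]

/-- The extended tame symbol of the local ring at `ξ`, with values in `κ(ξ)`. -/
noncomputable def tameFracX (ξ : X) (ψ χ : X.functionField) : X.residueField ξ :=
  tameFrac (X.presheaf.stalk ξ) X.functionField ψ χ

/-- `ψ` is (the image of) a unit of the local ring at `ξ`. -/
def UnitAt (ξ : X) (ψ : X.functionField) : Prop :=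
  ∃ c : X.presheaf.stalk ξ, IsUnit c ∧ algebraMap (X.presheaf.stalk ξ) X.functionField c = ψ

/-- The function attached to local data at `ξ`: `∂_{O_ξ}(ψs, ψt) · φ̄u^{ord ψs} · φ̄v^{-ord ψt}`. -/
noncomputable def gOf (ξ : X) (ψs ψt : X.functionField) (φu φv : X.presheaf.stalk ξ) :
    X.residueField ξ :=
  tameFracX ξ ψs ψt *
    (X.residue ξ φu) ^ (CycAlg.ordFrac (X.presheaf.stalk ξ) X.functionField ψs) *
    ((X.residue ξ φv) ^ (CycAlg.ordFrac (X.presheaf.stalk ξ) X.functionField ψt))⁻¹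

/-- Local generator data at `ξ` for `s ∈ L(η)`, `t ∈ N(η)`, `u ∈ N(ξ)`, `v ∈ L(ξ)`. -/
structure GData (L N : X.Modules) (s : Cyc.secFibre L (genericPoint X))
    (t : Cyc.secFibre N (genericPoint X)) (ξ : X) (u : Cyc.secFibre N ξ)
    (v : Cyc.secFibre L ξ) where
  V : X.Opens
  hξ : ξ ∈ V
  hη : genericPoint X ∈ V
  τ : Γ(L, V)
  ν : Γ(N, V)
  hτ : IsGen L V τ
  hν : IsGen N V ν
  ψs : X.functionField
  ψt : X.functionField
  φu : X.presheaf.stalk ξ
  φv : X.presheaf.stalk ξ
  hs : s = ψs • (Submodule.Quotient.mk (L.presheaf.germ V (genericPoint X) hη τ) :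
    Cyc.secFibre L (genericPoint X))
  ht : t = ψt • (Submodule.Quotient.mk (N.presheaf.germ V (genericPoint X) hη ν) :
    Cyc.secFibre N (genericPoint X))
  hu : u = φu • (Submodule.Quotient.mk (N.presheaf.germ V ξ hξ ν) : Cyc.secFibre N ξ)
  hv : v = φv • (Submodule.Quotient.mk (L.presheaf.germ V ξ hξ τ) : Cyc.secFibre L ξ)

/-- The function attached to a datum. -/
noncomputable def GData.val {L N : X.Modules} {s : Cyc.secFibre L (genericPoint X)}
    {t : Cyc.secFibre N (genericPoint X)} {ξ : X} {u : Cyc.secFibre N ξ}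
    {v : Cyc.secFibre L ξ} (D : GData L N s t ξ u v) : X.residueField ξ :=
  gOf ξ D.ψs D.ψt D.φu D.φv

theorem nonempty_gData {L N : X.Modules} (hL : PicF.IsInvertible L) (hN : PicF.IsInvertible N)
    (s : Cyc.secFibre L (genericPoint X)) (t : Cyc.secFibre N (genericPoint X)) (ξ : X)
    (u : Cyc.secFibre N ξ) (v : Cyc.secFibre L ξ) : Nonempty (GData L N s t ξ u v) := by
  obtain ⟨V, τ, ν, hξV, hτ, hν⟩ := exists_isGen_pair hL hN ξ
  have hηV : genericPoint X ∈ V := (genericPoint_specializes ξ).mem_open V.2 hξV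
  obtain ⟨ψs, hψs⟩ := Groth.Agent.H95.SecOrd.exists_eq_smul_mk hτ (genericPoint X) hηV s
  obtain ⟨ψt, hψt⟩ := Groth.Agent.H95.SecOrd.exists_eq_smul_mk hν (genericPoint X) hηV t
  obtain ⟨φu, hφu⟩ := Groth.Agent.H95.SecOrd.exists_eq_smul_mk hν ξ hξV u
  obtain ⟨φv, hφv⟩ := Groth.Agent.H95.SecOrd.exists_eq_smul_mk hτ ξ hξV v
  exact ⟨⟨V, hξV, hηV, τ, ν, hτ, hν, ψs, ψt, φu, φv, hψs, hψt, hφu, hφv⟩⟩

/-- The function `g_ξ` obtained from a choice of local generator data at each point. -/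
noncomputable def gFun {L N : X.Modules} (hL : PicF.IsInvertible L) (hN : PicF.IsInvertible N)
    (s : Cyc.secFibre L (genericPoint X)) (t : Cyc.secFibre N (genericPoint X))
    (u : (ξ : X) → Cyc.secFibre N ξ) (v : (ξ : X) → Cyc.secFibre L ξ) (ξ : X) :
    X.residueField ξ :=
  (Classical.choice (nonempty_gData hL hN s t ξ (u ξ) (v ξ))).val

end Groth.Agent.H34.Key
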