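import Mathlib
import Groth.Agent.H34.RelLen
import Groth.Agent.H15.ComFac2

set_option autoImplicit false
set_option linter.style.haveILetI false

/-!
# Local monomial factorizations in finite extensions of one-dimensional local rings (S1836)

Global Euclidean algorithm inside a localization `Q` of a one-dimensional Noetherian local ring `A`
at nonzerodivisors: for finitely many units `a₁, …, a_r` of `Q` lying in a finite `A`-subalgebra `B`
there is a finite subalgebra `D ⊇ B` such that at each maximal ideal of `D` all `a_i` are unit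
multiples of powers of one nonzerodivisor.
-/

namespace Groth.Agent.H34.Euclid1

open Polynomial IsLocalRing
open Groth.Agent.H34.RelLen

universe u

section LocalMon

variable {L : Type*} [CommRing L]

/-- `x` is a unit times a power of `π`. -/
def IsMon (π x : L) : Prop := ∃ (v : Lˣ) (e : ℕ), x = (v : L) * π ^ e

theorem IsMon.mul {π x y : L} (hx : IsMon π x) (hy : IsMon π y) : IsMon π (x * y) := by
  obtain ⟨v, e, rfl⟩ := hx
  obtain ⟨w, f, rfl⟩ := hy
  exact ⟨v * w, e + f, by push_cast; ring⟩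

theorem isMon_of_isUnit {π x : L} (hx : IsUnit x) : IsMon π x := by
  obtain ⟨v, rfl⟩ := hx
  exact ⟨v, 0, by simp⟩

theorem isMon_self (π : L) : IsMon π π := ⟨1, 1, by simp⟩

theorem IsMon.of_mul_left {π x y : L} (hx : IsUnit x) (h : IsMon π (x * y)) : IsMon π y := by
  obtain ⟨u, rfl⟩ := hx
  obtain ⟨v, e, hv⟩ := h
  refine ⟨u⁻¹ * v, e, ?_⟩
  push_cast
  rw [mul_assoc, ← hv, ← mul_assoc, Units.inv_mul, one_mul]

theorem isMon_of_coprime [IsLocalRing L] {π x y g₁ g₂ : L} (h : g₁ * x + g₂ * y = 1)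
    (hxy : IsMon π (x * y)) : IsMon π x ∧ IsMon π y := by
  rcases IsLocalRing.isUnit_or_isUnit_of_add_one h with h1 | h1
  · have hx : IsUnit x := isUnit_of_mul_isUnit_right h1
    exact ⟨isMon_of_isUnit hx, IsMon.of_mul_left hx hxy⟩
  · have hy : IsUnit y := isUnit_of_mul_isUnit_right h1
    rw [mul_comm] at hxy
    exact ⟨IsMon.of_mul_left hy hxy, isMon_of_isUnit hy⟩

end LocalMon

section Step

variable {A : Type u} [CommRing A] [IsNoetherianRing A] [IsLocalRing A] {Q : Type u} [CommRing Q]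
  [Algebra A Q] (M : Submonoid A) [IsLocalization M Q]

/-- Every element of `Q` is a root of a polynomial over `A` having a coefficient `1`. -/
theorem exists_poly (hA : ringKrullDim A = 1) (hM : M ≤ nonZeroDivisors A) (x : Q) :
    ∃ (p : A[X]) (i : ℕ), aeval x p = 0 ∧ p.coeff i = 1 := by
  classical
  obtain ⟨⟨b, a⟩, hab⟩ := IsLocalization.surj M x
  set ι := algebraMap A Q with hι
  have hua : IsUnit (ι (a : A)) := IsLocalization.map_units Q a
  obtain ⟨d, i, e, hid, hrel⟩ :=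
    Groth.Agent.H15.ComFac.exists_relation A hA (a : A) b (hM a.2)
  have hax : ι (a : A) * x = ι b := by rw [mul_comm]; exact hab
  have hmon : ∀ k ≤ d, ι (a : A) ^ d * x ^ k = ι ((a : A) ^ (d - k) * b ^ k) := by
    intro k hk
    have h1 : ι (a : A) ^ d = ι (a : A) ^ (d - k) * ι (a : A) ^ k := by
      rw [← pow_add]
      congr 1
      omega
    rw [h1, mul_assoc, ← mul_pow, hax, map_mul, map_pow, map_pow]
  set p : A[X] := X ^ i - ∑ k ∈ (Finset.range (d + 1)).erase i, C (e k) * X ^ k with hpdef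
  have hp : aeval x p = 0 := by
    have h1 : ι (a : A) ^ d * aeval x p = 0 := by
      simp only [p, map_sub, map_pow, aeval_X, map_sum, map_mul, aeval_C]
      rw [mul_sub, Finset.mul_sum, hmon i hid, hrel, map_sum, sub_eq_zero]
      refine Finset.sum_congr rfl fun k hk => ?_
      have hk' : k ≤ d := by
        have := Finset.mem_range.mp (Finset.mem_of_mem_erase hk)
        omega
      rw [map_mul, ← hmon k hk']
      ring
    exact (hua.pow d).mul_right_eq_zero.mp h1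
  have hpi : p.coeff i = 1 := by
    rw [hpdef, coeff_sub, coeff_X_pow_self, finsetSum_coeff, Finset.sum_eq_zero, sub_zero]
    intro k hk
    rw [coeff_C_mul_X_pow, if_neg (Ne.symm (Finset.ne_of_mem_erase hk))]
  exact ⟨p, i, hp, hpi⟩

/-- The common factor step inside `Q`. -/
theorem step (hA : ringKrullDim A = 1) (hM : M ≤ nonZeroDivisors A) (a b : Q) (ha : IsUnit a)
    (hb : IsUnit b) :
    ∃ C : Subalgebra A Q, (Subalgebra.toSubmodule C).FG ∧ ∃ t β₁ β₂ γ₁ γ₂ : Q,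
      β₁ ∈ C ∧ β₂ ∈ C ∧ γ₁ ∈ C ∧ γ₂ ∈ C ∧ IsUnit t ∧ IsUnit β₁ ∧ IsUnit β₂ ∧
      a = t * β₁ ∧ b = t * β₂ ∧ γ₁ * β₁ + γ₂ * β₂ = 1 ∧ t = a * γ₁ + b * γ₂ := by
  obtain ⟨ua, rfl⟩ := ha
  obtain ⟨x, hx⟩ : ∃ x : Q, x = b * ↑ua⁻¹ := ⟨_, rfl⟩
  have hax : (ua : Q) * x = b := by rw [hx, mul_left_comm, Units.mul_inv, mul_one]
  obtain ⟨p, i, hp, hpi⟩ := exists_poly M hA hM x
  obtain ⟨C, hCfg, s, β₁, β₂, γ₁, γ₂, h1, h2, h3⟩ :=
    Groth.Agent.H15.ComFac.exists_subalgebra_principal M x p hp i hpi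
  have hsu : IsUnit s := IsUnit.of_mul_eq_one (β₁ : Q) (by rw [mul_comm]; exact h1)
  have hxu : IsUnit x := by rw [hx]; exact hb.mul (ua⁻¹).isUnit
  refine ⟨C, hCfg, ua * s, β₁, β₂, γ₁, γ₂, β₁.2, β₂.2, γ₁.2, γ₂.2, ua.isUnit.mul hsu,
    IsUnit.of_mul_eq_one s h1, ?_, ?_, ?_, ?_, ?_⟩
  · have : IsUnit ((β₂ : Q) * s) := by rw [h2]; exact hxu
    exact isUnit_of_mul_isUnit_left this
  · rw [mul_assoc, mul_comm s, h1, mul_one]
  · rw [mul_assoc, mul_comm s, h2, hax]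
  · apply hsu.mul_left_injective
    show ((γ₁ : Q) * (β₁ : Q) + (γ₂ : Q) * (β₂ : Q)) * s = 1 * s
    calc ((γ₁ : Q) * (β₁ : Q) + (γ₂ : Q) * (β₂ : Q)) * s
        = (γ₁ : Q) * ((β₁ : Q) * s) + (γ₂ : Q) * ((β₂ : Q) * s) := by ring
      _ = 1 * s := by rw [h1, h2, mul_one, h3, one_mul]
  · rw [← h3, ← hax]
    ring

end Step

section Main

variable {A : Type u} [CommRing A] {Q : Type u} [CommRing Q] [Algebra A Q]

/-- At every maximal ideal of `D`, all members of `l` (lying in `D`) are unit multiples of powers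
of a common nonzerodivisor. -/
def Mono (D : Subalgebra A Q) (l : List Q) : Prop :=
  ∀ q : MaximalSpectrum D, ∃ π : Localization.AtPrime q.asIdeal,
    π ∈ nonZeroDivisors (Localization.AtPrime q.asIdeal) ∧
    ∀ α ∈ l, ∀ h : α ∈ D, IsMon π (algebraMap D (Localization.AtPrime q.asIdeal) ⟨α, h⟩)

theorem mono_of_coprime {D : Subalgebra A Q} {a b g₁ g₂ : Q} (rest : List Q) (ha : a ∈ D)
    (hb : b ∈ D) (hg₁ : g₁ ∈ D) (hg₂ : g₂ ∈ D) (h : g₁ * a + g₂ * b = 1)
    (hm : Mono D ((a * b) :: rest)) : Mono D (a :: b :: rest) := by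
  intro q
  obtain ⟨π, hπ, hmon⟩ := hm q
  refine ⟨π, hπ, ?_⟩
  set φ := algebraMap D (Localization.AtPrime q.asIdeal) with hφ
  have hab := hmon (a * b) (List.mem_cons_self) (D.mul_mem ha hb)
  have h1 : φ ⟨g₁, hg₁⟩ * φ ⟨a, ha⟩ + φ ⟨g₂, hg₂⟩ * φ ⟨b, hb⟩ = 1 := by
    rw [← map_mul, ← map_mul, ← map_add, ← map_one φ]
    congr 1
    exact Subtype.ext h
  have h2 : IsMon π (φ ⟨a, ha⟩ * φ ⟨b, hb⟩) := by
    rw [← map_mul]
    exact hab
  obtain ⟨hma, hmb⟩ := isMon_of_coprime h1 h2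
  intro α hα hαD
  rw [List.mem_cons] at hα
  rcases hα with rfl | hα
  · exact hma
  rw [List.mem_cons] at hα
  rcases hα with rfl | hα
  · exact hmb
  · exact hmon α (List.mem_cons_of_mem _ hα) hαD

theorem mono_of_factor {D : Subalgebra A Q} {t β₁ β₂ g₁ g₂ : Q} (rest : List Q) (ht : t ∈ D)
    (hβ₁ : β₁ ∈ D) (hβ₂ : β₂ ∈ D) (hg₁ : g₁ ∈ D) (hg₂ : g₂ ∈ D) (h : g₁ * β₁ + g₂ * β₂ = 1)
    (hm : Mono D (t :: (β₁ * β₂) :: rest)) : Mono D ((t * β₁) :: (t * β₂) :: rest) := by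
  intro q
  obtain ⟨π, hπ, hmon⟩ := hm q
  refine ⟨π, hπ, ?_⟩
  set φ := algebraMap D (Localization.AtPrime q.asIdeal) with hφ
  have htm := hmon t (List.mem_cons_self) ht
  have hab := hmon (β₁ * β₂) (List.mem_cons_of_mem _ List.mem_cons_self) (D.mul_mem hβ₁ hβ₂)
  have h1 : φ ⟨g₁, hg₁⟩ * φ ⟨β₁, hβ₁⟩ + φ ⟨g₂, hg₂⟩ * φ ⟨β₂, hβ₂⟩ = 1 := by
    rw [← map_mul, ← map_mul, ← map_add, ← map_one φ]
    congr 1
    exact Subtype.ext h
  have h2 : IsMon π (φ ⟨β₁, hβ₁⟩ * φ ⟨β₂, hβ₂⟩) := by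
    rw [← map_mul]
    exact hab
  obtain ⟨hma, hmb⟩ := isMon_of_coprime h1 h2
  intro α hα hαD
  rw [List.mem_cons] at hα
  rcases hα with rfl | hα
  · have : φ ⟨t * β₁, hαD⟩ = φ ⟨t, ht⟩ * φ ⟨β₁, hβ₁⟩ := by rw [← map_mul]; rfl
    rw [this]
    exact htm.mul hma
  rw [List.mem_cons] at hα
  rcases hα with rfl | hα
  · have : φ ⟨t * β₂, hαD⟩ = φ ⟨t, ht⟩ * φ ⟨β₂, hβ₂⟩ := by rw [← map_mul]; rfl
    rw [this]
    exact htm.mul hmb
  · exact hmon α (List.mem_cons_of_mem _ (List.mem_cons_of_mem _ hα)) hαD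

theorem mono_mono {D : Subalgebra A Q} {l : List Q} (hm : Mono D l) : True := trivial

variable [IsNoetherianRing A] [IsLocalRing A] (M : Submonoid A) [IsLocalization M Q]

theorem fg_sup {B C : Subalgebra A Q} (hB : (Subalgebra.toSubmodule B).FG)
    (hC : (Subalgebra.toSubmodule C).FG) : (Subalgebra.toSubmodule (B ⊔ C)).FG := by
  rw [← Subalgebra.mul_toSubmodule]
  exact hB.mul hC

/-- The inner induction on the sum of the orders of the first two entries. -/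
theorem inner (hA : ringKrullDim A = 1) (hM : M ≤ nonZeroDivisors A) (rest : List Q)
    (IH : ∀ (l : List Q), l.length = rest.length + 1 → ∀ B : Subalgebra A Q,
      (Subalgebra.toSubmodule B).FG → (∀ α ∈ l, α ∈ B ∧ IsUnit α) →
      ∃ D : Subalgebra A Q, B ≤ D ∧ (Subalgebra.toSubmodule D).FG ∧ Mono D l) :
    ∀ (k : ℕ) (B : Subalgebra A Q) (a b : Q), (Subalgebra.toSubmodule B).FG → a ∈ B → IsUnit a →
      b ∈ B → IsUnit b → (∀ α ∈ rest, α ∈ B ∧ IsUnit α) → ordB B a + ordB B b ≤ (k : ℕ∞) →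
      ∃ D : Subalgebra A Q, B ≤ D ∧ (Subalgebra.toSubmodule D).FG ∧ Mono D (a :: b :: rest) := by
  haveI : Ring.KrullDimLE 1 A := Ring.krullDimLE_iff.mpr (by rw [hA, Nat.cast_one])
  intro k
  induction k using Nat.strong_induction_on with
  | _ k ih =>
  intro B a b hB ha hau hb hbu hrest hk
  obtain ⟨C', hC'fg, t, β₁, β₂, γ₁, γ₂, hβ₁C, hβ₂C, hγ₁C, hγ₂C, htu, hβ₁u, hβ₂u, hat, hbt, hcop,
    htdef⟩ := step M hA hM a b hau hbu
  set C : Subalgebra A Q := B ⊔ C' with hCdef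
  have hBC : B ≤ C := le_sup_left
  have hC'C : C' ≤ C := le_sup_right
  have hCfg : (Subalgebra.toSubmodule C).FG := fg_sup hB hC'fg
  have haC : a ∈ C := hBC ha
  have hbC : b ∈ C := hBC hb
  have hβ₁ := hC'C hβ₁C
  have hβ₂ := hC'C hβ₂C
  have hγ₁ := hC'C hγ₁C
  have hγ₂ := hC'C hγ₂C
  have htC : t ∈ C := by
    rw [htdef]
    exact C.add_mem (C.mul_mem haC hγ₁) (C.mul_mem hbC hγ₂)
  have hrestC : ∀ α ∈ rest, α ∈ C ∧ IsUnit α := fun α hα => ⟨hBC (hrest α hα).1, (hrest α hα).2⟩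
  by_cases hunit : ∃ t' ∈ C, t * t' = 1
  · -- `a` and `b` are coprime in `C`
    obtain ⟨t', ht'C, htt'⟩ := hunit
    have hcop' : (γ₁ * t') * a + (γ₂ * t') * b = 1 := by
      calc (γ₁ * t') * a + (γ₂ * t') * b = (γ₁ * β₁ + γ₂ * β₂) * (t * t') := by
            rw [hat, hbt]; ring
        _ = 1 := by rw [hcop, htt', one_mul]
    obtain ⟨D, hCD, hDfg, hD⟩ := IH ((a * b) :: rest) (by simp) C hCfg (by
      intro α hα
      rw [List.mem_cons] at hα
      rcases hα with rfl | hα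
      · exact ⟨C.mul_mem haC hbC, hau.mul hbu⟩
      · exact hrestC α hα)
    refine ⟨D, hBC.trans hCD, hDfg, ?_⟩
    exact mono_of_coprime rest (hCD haC) (hCD hbC) (hCD (C.mul_mem hγ₁ ht'C))
      (hCD (C.mul_mem hγ₂ ht'C)) hcop' hD
  · -- `t` is not a unit of `C`
    have h0 : ordB C t ≠ 0 := fun h => hunit (ordB_eq_zero_iff.mp h)
    have e1 : ordB C a = ordB C t + ordB C β₁ := by rw [hat]; exact ordB_mul htC htu hβ₁
    have e2 : ordB C b = ordB C t + ordB C β₂ := by rw [hbt]; exact ordB_mul htC htu hβ₂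
    have e3 : ordB C (β₁ * β₂) = ordB C β₁ + ordB C β₂ := ordB_mul hβ₁ hβ₁u hβ₂
    have e4 : ordB C a = ordB B a := ordB_eq_of_le M hM hBC hCfg ha hau
    have e5 : ordB C b = ordB B b := ordB_eq_of_le M hM hBC hCfg hb hbu
    have f1 : ordB C t ≠ ⊤ := ordB_ne_top M hM C hCfg htu
    have f2 : ordB C β₁ ≠ ⊤ := ordB_ne_top M hM C hCfg hβ₁u
    have f3 : ordB C β₂ ≠ ⊤ := ordB_ne_top M hM C hCfg hβ₂u
    rw [← e4, ← e5, e1, e2] at hk
    obtain ⟨x, hx⟩ := ENat.ne_top_iff_exists.mp f1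
    obtain ⟨y, hy⟩ := ENat.ne_top_iff_exists.mp f2
    obtain ⟨z, hz⟩ := ENat.ne_top_iff_exists.mp f3
    rw [← hx] at h0
    rw [← hx, ← hy, ← hz] at hk
    have hx0 : x ≠ 0 := by
      intro h
      apply h0
      rw [h]
      rfl
    have hk' : x + y + (x + z) ≤ k := by exact_mod_cast hk
    have hlt : x + (y + z) < k := by omega
    obtain ⟨D, hCD, hDfg, hD⟩ := ih (x + (y + z)) hlt C t (β₁ * β₂) hCfg htC htu
      (C.mul_mem hβ₁ hβ₂) (hβ₁u.mul hβ₂u) hrestC (by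
        rw [e3, ← hx, ← hy, ← hz]
        exact_mod_cast le_rfl)
    refine ⟨D, hBC.trans hCD, hDfg, ?_⟩
    have := mono_of_factor rest (hCD htC) (hCD hβ₁) (hCD hβ₂) (hCD hγ₁) (hCD hγ₂) hcop hD
    rwa [← hat, ← hbt] at this

/-- **Main theorem**: local monomial factorizations in a finite extension. -/
theorem main (hA : ringKrullDim A = 1) (hM : M ≤ nonZeroDivisors A) :
    ∀ (n : ℕ) (l : List Q), l.length = n → ∀ B : Subalgebra A Q,
      (Subalgebra.toSubmodule B).FG → (∀ α ∈ l, α ∈ B ∧ IsUnit α) →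
      ∃ D : Subalgebra A Q, B ≤ D ∧ (Subalgebra.toSubmodule D).FG ∧ Mono D l := by
  haveI : Ring.KrullDimLE 1 A := Ring.krullDimLE_iff.mpr (by rw [hA, Nat.cast_one])
  intro n
  induction n using Nat.strong_induction_on with
  | _ n IH =>
  intro l hl B hB hlB
  match l, hl, hlB with
  | [], _, _ =>
    exact ⟨B, le_rfl, hB, fun q => ⟨1, one_mem _, fun α hα => absurd hα List.not_mem_nil⟩⟩
  | [a], _, hlB =>
    refine ⟨B, le_rfl, hB, fun q => ?_⟩
    have haB : a ∈ B := (hlB a List.mem_cons_self).1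
    have hau : IsUnit a := (hlB a List.mem_cons_self).2
    have hnzd : (⟨a, haB⟩ : B) ∈ nonZeroDivisors B :=
      mem_nonZeroDivisors_of_injective (f := algebraMap B Q) Subtype.val_injective
        (show a ∈ nonZeroDivisors Q from hau.mem_nonZeroDivisors)
    refine ⟨algebraMap B (Localization.AtPrime q.asIdeal) ⟨a, haB⟩, ?_, ?_⟩
    · exact IsLocalization.map_nonZeroDivisors_le q.asIdeal.primeCompl _
        ⟨_, hnzd, rfl⟩
    · intro α hα hαB
      rw [List.mem_singleton] at hα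
      subst hα
      exact isMon_self _
  | a :: b :: rest, hl, hlB =>
    have hlen : rest.length + 1 < n := by
      simp only [List.length_cons] at hl
      omega
    have haB := hlB a List.mem_cons_self
    have hbB := hlB b (List.mem_cons_of_mem _ List.mem_cons_self)
    have hrest : ∀ α ∈ rest, α ∈ B ∧ IsUnit α := fun α hα =>
      hlB α (List.mem_cons_of_mem _ (List.mem_cons_of_mem _ hα))
    have hfin : ordB B a + ordB B b ≠ ⊤ :=
      WithTop.add_ne_top.mpr ⟨ordB_ne_top M hM B hB haB.2, ordB_ne_top M hM B hB hbB.2⟩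
    obtain ⟨k, hk⟩ := ENat.ne_top_iff_exists.mp hfin
    exact inner M hA hM rest (fun l' hl' => IH _ hlen l' hl') k B a b hB haB.1 haB.2 hbB.1 hbB.2
      hrest (le_of_eq hk.symm)

end Main

end Groth.Agent.H34.Euclid1
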