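import Mathlib
import Groth.Prelude.Def_Tame

set_option autoImplicit false
set_option linter.style.haveILetI false

/-!
# Local computations for the tame symbol (S1847)

* uniqueness of monomial factorizations `u π ^ e` for a non-unit nonzerodivisor `π`;
* the symbol `(-1)^(e₁e₂) ū₁^e₂ ū₂^(-e₁)` under monomial substitution;
* norms in towers of residue fields;
* the local factor of a local extension in which `π` becomes a monomial.
-/

namespace Groth.Agent.H34.TameLoc

open IsLocalRing

universe u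

section Uniq

variable {R : Type*} [CommRing R]

/-- For a nonzerodivisor `π` which is not a unit, `u π ^ e` determines `e` and `u`. -/
theorem eq_of_monomial_eq {π : R} (hπ : π ∈ nonZeroDivisors R) (hnu : ¬ IsUnit π) {u v : Rˣ}
    {e f : ℕ} (h : (u : R) * π ^ e = (v : R) * π ^ f) : e = f ∧ u = v := by
  have key : ∀ {u v : Rˣ} {e f : ℕ}, e ≤ f → (u : R) * π ^ e = (v : R) * π ^ f → e = f ∧ u = v := by
    intro u v e f hef h
    obtain ⟨k, rfl⟩ := Nat.exists_eq_add_of_le hef
    have h1 : ((u : R) - (v : R) * π ^ k) * π ^ e = 0 := by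
      rw [sub_mul, h, pow_add]; ring
    have h2 : (u : R) - (v : R) * π ^ k = 0 :=
      (mul_right_mem_nonZeroDivisors_eq_zero_iff (pow_mem hπ e)).mp h1
    have h3 : (u : R) = (v : R) * π ^ k := sub_eq_zero.mp h2
    rcases Nat.eq_zero_or_pos k with hk | hk
    · subst hk
      refine ⟨rfl, Units.ext ?_⟩
      rw [h3, pow_zero, mul_one]
    · exfalso
      apply hnu
      have h4 : IsUnit ((v : R) * π ^ k) := h3 ▸ u.isUnit
      have h5 : IsUnit (π ^ k) := isUnit_of_mul_isUnit_right h4
      exact (isUnit_pow_iff (Nat.pos_iff_ne_zero.mp hk)).mp h5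
  rcases le_total e f with hef | hef
  · exact key hef h
  · obtain ⟨h1, h2⟩ := key hef h.symm
    exact ⟨h1.symm, h2.symm⟩

end Uniq

section Sym

variable {K : Type*} [Field K]

/-- The symbol attached to units `U₁, U₂` and exponents `e₁, e₂`. -/
def symK (U₁ U₂ : K) (e₁ e₂ : ℕ) : K := (-1) ^ (e₁ * e₂) * U₁ ^ e₂ * (U₂ ^ e₁)⁻¹

theorem neg_one_pow_sq_mul (c n : ℕ) : ((-1 : K)) ^ (c * c * n) = (-1) ^ (c * n) := by
  rcases Nat.even_or_odd c with hc | hc
  · have h1 : Even (c * c * n) := (hc.mul_right c).mul_right n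
    have h2 : Even (c * n) := hc.mul_right n
    rw [h1.neg_one_pow, h2.neg_one_pow]
  · rcases Nat.even_or_odd n with hn | hn
    · have h1 : Even (c * c * n) := hn.mul_left _
      have h2 : Even (c * n) := hn.mul_left _
      rw [h1.neg_one_pow, h2.neg_one_pow]
    · have h1 : Odd (c * c * n) := (hc.mul hc).mul hn
      have h2 : Odd (c * n) := hc.mul hn
      rw [h1.neg_one_pow, h2.neg_one_pow]

theorem symK_monomial (U₁ U₂ W : K) (hU₂ : U₂ ≠ 0) (hW : W ≠ 0) (e₁ e₂ c : ℕ) :
    symK (U₁ * W ^ e₁) (U₂ * W ^ e₂) (c * e₁) (c * e₂) = symK U₁ U₂ e₁ e₂ ^ c := by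
  unfold symK
  have h1 : ((-1 : K)) ^ (c * e₁ * (c * e₂)) = ((-1) ^ (e₁ * e₂)) ^ c := by
    rw [← pow_mul, show c * e₁ * (c * e₂) = c * c * (e₁ * e₂) by ring, neg_one_pow_sq_mul,
      mul_comm c]
  rw [h1, mul_pow, mul_pow, mul_pow, mul_pow, inv_pow]
  have hW1 : W ^ (e₁ * (c * e₂)) ≠ 0 := pow_ne_zero _ hW
  have hU : U₂ ^ (c * e₁) ≠ 0 := pow_ne_zero _ hU₂
  rw [← pow_mul, ← pow_mul, ← pow_mul, ← pow_mul, ← pow_mul]
  have hexp : e₂ * (c * e₁) = e₁ * (c * e₂) := by ring
  rw [hexp, mul_inv]
  have hU' : U₂ ^ (e₁ * c) ≠ 0 := pow_ne_zero _ hU₂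
  rw [show e₂ * c = c * e₂ by ring, show e₁ * c = c * e₁ by ring]
  field_simp

end Sym

section Norm

/-- Norm of the image of an element of an intermediate field. -/
theorem norm_map_eq_pow {K F L : Type*} [Field K] [Field F] [Field L] [Algebra K F] [Algebra K L]
    [Module.Finite K F] [Module.Finite K L] (φ : F →+* L)
    (hφ : φ.comp (algebraMap K F) = algebraMap K L) (y : F) :
    Algebra.norm K (φ y) =
      Algebra.norm K y ^ (@Module.finrank F L _ _ φ.toAlgebra.toModule) := by
  letI := φ.toAlgebra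
  haveI : IsScalarTower K F L := IsScalarTower.of_algebraMap_eq (fun x => by
    rw [RingHom.algebraMap_toAlgebra]
    exact (RingHom.congr_fun hφ x).symm)
  haveI : Module.Finite F L := Module.Finite.of_restrictScalars_finite K F L
  have h1 : φ y = algebraMap F L y := rfl
  rw [h1, ← Algebra.norm_norm (R := K) (S := F), Algebra.norm_algebraMap, map_pow]

theorem finrank_mul_eq {K F L : Type*} [Field K] [Field F] [Field L] [Algebra K F] [Algebra K L]
    [Module.Finite K F] [Module.Finite K L] (φ : F →+* L)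
    (hφ : φ.comp (algebraMap K F) = algebraMap K L) :
    Module.finrank K F * (@Module.finrank F L _ _ φ.toAlgebra.toModule) = Module.finrank K L := by
  letI := φ.toAlgebra
  haveI : IsScalarTower K F L := IsScalarTower.of_algebraMap_eq (fun x => by
    rw [RingHom.algebraMap_toAlgebra]
    exact (RingHom.congr_fun hφ x).symm)
  haveI : Module.Finite F L := Module.Finite.of_restrictScalars_finite K F L
  exact Module.finrank_mul_finrank K F L

end Norm

section LocFac

variable {A : Type u} [CommRing A] [IsLocalRing A]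

/-- The residue symbol `(-1)^(e₁e₂) ū₁^e₂ ū₂^(-e₁)` of a local ring. -/
noncomputable def sym (R : Type u) [CommRing R] [IsLocalRing R] (u₁ u₂ : Rˣ) (e₁ e₂ : ℕ) :
    ResidueField R :=
  symK (residue R (u₁ : R)) (residue R (u₂ : R)) e₁ e₂

/-- The local factor of the tame symbol at a local `A`-algebra `R`. -/
noncomputable def lf (R : Type u) [CommRing R] [IsLocalRing R] [Algebra A R]
    [IsLocalHom (algebraMap A R)] (π : R) (u₁ u₂ : Rˣ) (e₁ e₂ : ℕ) : ResidueField A :=
  (Algebra.norm (ResidueField A) (sym R u₁ u₂ e₁ e₂)) ^ (Ring.ord R π).toNat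

theorem residue_unit_ne_zero {R : Type u} [CommRing R] [IsLocalRing R] (u : Rˣ) :
    residue R (u : R) ≠ 0 := (residue_ne_zero_iff_isUnit _).mpr u.isUnit

theorem map_symK {K L : Type*} [Field K] [Field L] (φ : K →+* L) (U₁ U₂ : K) (e₁ e₂ : ℕ) :
    φ (symK U₁ U₂ e₁ e₂) = symK (φ U₁) (φ U₂) e₁ e₂ := by
  unfold symK
  rw [map_mul, map_mul, map_pow, map_pow, map_neg, map_one, map_inv₀, map_pow]

theorem map_comp_algebraMap {R R' : Type u} [CommRing R] [IsLocalRing R] [CommRing R']
    [IsLocalRing R'] [Algebra A R] [IsLocalHom (algebraMap A R)] [Algebra A R']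
    [IsLocalHom (algebraMap A R')] (g : R →+* R') [IsLocalHom g]
    (hg : ∀ a : A, g (algebraMap A R a) = algebraMap A R' a) :
    (ResidueField.map g).comp (algebraMap (ResidueField A) (ResidueField R)) =
      algebraMap (ResidueField A) (ResidueField R') := by
  apply RingHom.ext
  intro x
  obtain ⟨a, rfl⟩ := residue_surjective x
  rw [RingHom.comp_apply, ResidueField.algebraMap_residue, ResidueField.map_residue, hg,
    ResidueField.algebraMap_residue]

theorem lf_eq_of_monomial {R R' : Type u} [CommRing R] [IsLocalRing R] [CommRing R']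
    [IsLocalRing R'] [Algebra A R] [IsLocalHom (algebraMap A R)] [Algebra A R']
    [IsLocalHom (algebraMap A R')] [Module.Finite (ResidueField A) (ResidueField R)]
    [Module.Finite (ResidueField A) (ResidueField R')] (g : R →+* R') [IsLocalHom g]
    (hg : ∀ a : A, g (algebraMap A R a) = algebraMap A R' a) (a₁ a₂ : R) (π : R) (u₁ u₂ : Rˣ)
    (e₁ e₂ : ℕ) (h1 : a₁ = u₁ * π ^ e₁) (h2 : a₂ = u₂ * π ^ e₂) (θ : R')
    (hθ : θ ∈ nonZeroDivisors R') (u₁' u₂' : R'ˣ) (e₁' e₂' : ℕ) (h1' : g a₁ = u₁' * θ ^ e₁')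
    (h2' : g a₂ = u₂' * θ ^ e₂') (w : R'ˣ) (c : ℕ) (hw : g π = w * θ ^ c) :
    lf (A := A) R' θ u₁' u₂' e₁' e₂' =
      (Algebra.norm (ResidueField A) (sym R u₁ u₂ e₁ e₂)) ^
        ((@Module.finrank (ResidueField R) (ResidueField R') _ _
          (ResidueField.map g).toAlgebra.toModule) * (Ring.ord R' (g π)).toNat) := by
  unfold lf
  by_cases hθu : IsUnit θ
  · have h0 : Ring.ord R' θ = 0 := Ring.ord_of_isUnit hθu
    have h0' : Ring.ord R' (g π) = 0 := by
      rw [hw]
      exact Ring.ord_of_isUnit (w.isUnit.mul (hθu.pow c))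
    rw [h0, h0']
    simp
  · -- exponents and units are determined
    have k1 : ((Units.map (g : R →* R') u₁ * w ^ e₁ : R'ˣ) : R') * θ ^ (c * e₁) =
        (u₁' : R') * θ ^ e₁' := by
      rw [← h1', h1, map_mul, map_pow, hw]
      push_cast
      rw [mul_pow, pow_mul]
      simp only [Units.coe_map, MonoidHom.coe_coe]
      ring
    have k2 : ((Units.map (g : R →* R') u₂ * w ^ e₂ : R'ˣ) : R') * θ ^ (c * e₂) =
        (u₂' : R') * θ ^ e₂' := by
      rw [← h2', h2, map_mul, map_pow, hw]
      push_cast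
      rw [mul_pow, pow_mul]
      simp only [Units.coe_map, MonoidHom.coe_coe]
      ring
    obtain ⟨he1, hu1⟩ := eq_of_monomial_eq hθ hθu k1
    obtain ⟨he2, hu2⟩ := eq_of_monomial_eq hθ hθu k2
    subst he1 he2 hu1 hu2
    set φ := ResidueField.map g with hφ
    have hsym : sym R' (Units.map (g : R →* R') u₁ * w ^ e₁) (Units.map (g : R →* R') u₂ * w ^ e₂)
        (c * e₁) (c * e₂) = φ (sym R u₁ u₂ e₁ e₂) ^ c := by
      unfold sym
      have hne : residue R' (g (u₂ : R)) ≠ 0 :=
        residue_unit_ne_zero (Units.map (g : R →* R') u₂)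
      rw [map_symK, hφ, ResidueField.map_residue, ResidueField.map_residue,
        ← symK_monomial _ _ (residue R' (w : R')) hne (residue_unit_ne_zero w)]
      push_cast
      simp only [Units.coe_map, MonoidHom.coe_coe, map_mul, map_pow]
    have hcomp : φ.comp (algebraMap (ResidueField A) (ResidueField R)) =
        algebraMap (ResidueField A) (ResidueField R') := by
      apply RingHom.ext
      intro x
      obtain ⟨a, rfl⟩ := residue_surjective x
      rw [RingHom.comp_apply, ResidueField.algebraMap_residue, hφ, ResidueField.map_residue, hg,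
        ResidueField.algebraMap_residue]
    have hord : Ring.ord R' (g π) = (c : ℕ∞) * Ring.ord R' θ := by
      rw [hw, Ring.ord_mul_of_isUnit_left w.isUnit, Ring.ord_pow hθ, nsmul_eq_mul]
    rw [hsym, map_pow, norm_map_eq_pow φ hcomp, hord, ENat.toNat_mul, ENat.toNat_coe, ← pow_mul,
      ← pow_mul]

end LocFac

end Groth.Agent.H34.TameLoc
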