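import Mathlib
import Groth.Prelude.Def_Tame
import Groth.Agent.H34.TameLoc
import Groth.Agent.H87.LenFinsum
import Groth.Agent.H74.LenInj
import Groth.Agent.H15.ComFac

set_option autoImplicit false
set_option linter.style.haveILetI false

/-!
# Comparison of tame data along a finite injective extension (S1847)
-/

namespace Groth.Agent.H34.TameCmp

open IsLocalRing CycAlg Function
open Groth.Agent.H34.TameLoc
open Groth.Agent.H87.LenFinsum Groth.Agent.H74.LenInj

universe u

section Rep

/-- Global representative of a local element: equal to it up to a unit at `q`, and a unit at all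
other maximal ideals. -/
theorem exists_global_rep {B : Type u} [CommRing B] [Finite (MaximalSpectrum B)]
    (q : MaximalSpectrum B) (β : Localization.AtPrime q.asIdeal) (k : ℕ)
    (hβ : ∀ y ∈ q.asIdeal ^ k, ∃ z ∈ maximalIdeal (Localization.AtPrime q.asIdeal),
      algebraMap B (Localization.AtPrime q.asIdeal) y = β * z) :
    ∃ (b : B) (v : (Localization.AtPrime q.asIdeal)ˣ),
      algebraMap B (Localization.AtPrime q.asIdeal) b = β * v ∧
      ∀ q₂ : MaximalSpectrum B, q₂ ≠ q → b ∉ q₂.asIdeal := by
  classical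
  obtain ⟨b₀, s, hβs⟩ := IsLocalization.exists_mk'_eq q.asIdeal.primeCompl β
  set I : MaximalSpectrum B → Ideal B := fun q₂ => if q₂ = q then q.asIdeal ^ k else q₂.asIdeal
    with hI
  have hcop : Pairwise (IsCoprime on I) := by
    intro q₁ q₂ h12
    show IsCoprime (I q₁) (I q₂)
    have hmax : ∀ q₃ : MaximalSpectrum B, q₃ ≠ q → IsCoprime (q.asIdeal ^ k) q₃.asIdeal := by
      intro q₃ h3
      apply IsCoprime.pow_left
      rw [Ideal.isCoprime_iff_sup_eq]
      exact Ideal.IsMaximal.coprime_of_ne q.isMaximal q₃.isMaximal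
        (fun h => h3 (MaximalSpectrum.ext h.symm))
    simp only [hI]
    by_cases h1 : q₁ = q
    · have h2 : q₂ ≠ q := fun h => h12 (h1.trans h.symm)
      rw [if_pos h1, if_neg h2]
      exact hmax q₂ h2
    · rw [if_neg h1]
      by_cases h2 : q₂ = q
      · rw [if_pos h2]
        exact (hmax q₁ h1).symm
      · rw [if_neg h2, Ideal.isCoprime_iff_sup_eq]
        exact Ideal.IsMaximal.coprime_of_ne q₁.isMaximal q₂.isMaximal
          (fun h => h12 (MaximalSpectrum.ext h))
  obtain ⟨b, hb⟩ := Ideal.exists_forall_sub_mem_ideal hcop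
    (fun q₂ => if q₂ = q then b₀ else 1)
  have hbq : b - b₀ ∈ q.asIdeal ^ k := by
    have := hb q
    simpa [hI] using this
  obtain ⟨z, hz, hyz⟩ := hβ _ hbq
  have hs : IsUnit (algebraMap B (Localization.AtPrime q.asIdeal) (s : B)) :=
    IsLocalization.map_units _ s
  have hb₀ : algebraMap B (Localization.AtPrime q.asIdeal) b₀ =
      β * algebraMap B (Localization.AtPrime q.asIdeal) (s : B) := by
    rw [← hβs, IsLocalization.mk'_spec]
  have hu : IsUnit (algebraMap B (Localization.AtPrime q.asIdeal) (s : B) + z) := by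
    by_contra hnu
    have h1 : algebraMap B (Localization.AtPrime q.asIdeal) (s : B) + z ∈
        maximalIdeal (Localization.AtPrime q.asIdeal) := (mem_maximalIdeal _).mpr hnu
    have h2 := (maximalIdeal (Localization.AtPrime q.asIdeal)).sub_mem h1 hz
    rw [add_sub_cancel_right] at h2
    exact ((mem_maximalIdeal _).mp h2) hs
  refine ⟨b, hu.unit, ?_, ?_⟩
  · have : b = b₀ + (b - b₀) := by ring
    rw [this, map_add, hb₀, hyz, IsUnit.unit_spec]
    ring
  · intro q₂ h2 hmem
    have := hb q₂
    simp only [hI, if_neg h2] at this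
    have h1 : (1 : B) ∈ q₂.asIdeal := by
      have h3 := q₂.asIdeal.sub_mem hmem this
      simpa using h3
    exact q₂.isMaximal.ne_top ((Ideal.eq_top_iff_one _).mpr h1)

end Rep

section Cmp

variable {A : Type u} [CommRing A] [IsLocalRing A]
variable {B B' : Type u} [CommRing B] [CommRing B'] [Algebra A B] [Algebra A B']

theorem isIntegral_of_finite [Module.Finite A B'] (f : B →ₐ[A] B') : f.toRingHom.IsIntegral := by
  intro y
  obtain ⟨p, hp, hpy⟩ := Algebra.IsIntegral.isIntegral (R := A) y
  refine ⟨p.map (algebraMap A B), hp.map _, ?_⟩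
  rw [Polynomial.eval₂_map]
  have : f.toRingHom.comp (algebraMap A B) = algebraMap A B' := f.comp_algebraMap
  rw [this]
  exact hpy

variable [Module.Finite A B']

/-- The map on maximal spectra induced by `f`. -/
noncomputable def cm (f : B →ₐ[A] B') (q' : MaximalSpectrum B') : MaximalSpectrum B :=
  ⟨q'.asIdeal.comap f.toRingHom,
    Ideal.isMaximal_comap_of_isIntegral_of_isMaximal' f.toRingHom (isIntegral_of_finite f)
      q'.asIdeal⟩

/-- The local homomorphism induced by `f`. -/
noncomputable def lh (f : B →ₐ[A] B') (q' : MaximalSpectrum B') :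
    Localization.AtPrime (cm f q').asIdeal →+* Localization.AtPrime q'.asIdeal :=
  Localization.localRingHom (cm f q').asIdeal q'.asIdeal f.toRingHom rfl

instance (f : B →ₐ[A] B') (q' : MaximalSpectrum B') : IsLocalHom (lh f q') :=
  Localization.isLocalHom_localRingHom _ _ _ rfl

theorem lh_algebraMap (f : B →ₐ[A] B') (q' : MaximalSpectrum B') (b : B) :
    lh f q' (algebraMap B _ b) = algebraMap B' _ (f b) :=
  Localization.localRingHom_to_map _ _ _ rfl b

theorem lh_algebraMap_base (f : B →ₐ[A] B') (q' : MaximalSpectrum B') (a : A) :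
    lh f q' (algebraMap A _ a) = algebraMap A _ a := by
  rw [IsScalarTower.algebraMap_apply A B (Localization.AtPrime (cm f q').asIdeal), lh_algebraMap,
    f.commutes, ← IsScalarTower.algebraMap_apply]

variable [IsNoetherianRing A] [Ring.KrullDimLE 1 A] [Module.Finite A B]
variable [hloc : ∀ q : MaximalSpectrum B,
    IsLocalHom (algebraMap A (Localization.AtPrime q.asIdeal))]
variable [hloc' : ∀ q : MaximalSpectrum B',
    IsLocalHom (algebraMap A (Localization.AtPrime q.asIdeal))]

open Classical in
/-- The per-point length identity. -/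
theorem pq [Fintype (MaximalSpectrum B')] (f : B →ₐ[A] B') (hf : Function.Injective f) (c : A)
    (hc : c ∈ nonZeroDivisors A) (hcB : ∀ y : B', ∃ z : B, f z = c • y)
    (β : (q : MaximalSpectrum B) → Localization.AtPrime q.asIdeal) (q : MaximalSpectrum B) (b : B)
    (hb1 : ∃ v : (Localization.AtPrime q.asIdeal)ˣ,
      algebraMap B (Localization.AtPrime q.asIdeal) b = β q * v)
    (hb2 : ∀ q₂ : MaximalSpectrum B, q₂ ≠ q → b ∉ q₂.asIdeal)
    (hb3 : IsFiniteLength A (B ⧸ Ideal.span {b})) (hb4 : f b ∈ nonZeroDivisors B') :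
    (Module.finrank (ResidueField A) (ResidueField (Localization.AtPrime q.asIdeal)) : ℕ∞) *
        Ring.ord (Localization.AtPrime q.asIdeal) (β q) =
      ∑ q' ∈ Finset.univ.filter (fun q' : MaximalSpectrum B' => cm f q' = q),
        (Module.finrank (ResidueField A) (ResidueField (Localization.AtPrime q'.asIdeal)) : ℕ∞) *
          Ring.ord (Localization.AtPrime q'.asIdeal) (lh f q' (β (cm f q'))) ∧
    (Module.finrank (ResidueField A) (ResidueField (Localization.AtPrime q.asIdeal)) : ℕ∞) *
        Ring.ord (Localization.AtPrime q.asIdeal) (β q) ≠ ⊤ := by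
  have e1 := length_quot_eq_finsum (A := A) b hb3
  have e2 := length_quot_eq_of_injective f hf c hc hcB b hb4
  have hfin' : IsFiniteLength A (B' ⧸ Ideal.span {f b}) := by
    rw [← Module.length_ne_top_iff, ← e2, Module.length_ne_top_iff]
    exact hb3
  have e3 := length_quot_eq_finsum (A := A) (f b) hfin'
  have key : ∀ q₁ : MaximalSpectrum B, q₁ = q → ∃ v : (Localization.AtPrime q₁.asIdeal)ˣ,
      algebraMap B (Localization.AtPrime q₁.asIdeal) b = β q₁ * v := by
    rintro q₁ rfl
    exact hb1
  -- the left side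
  rw [finsum_eq_single _ q] at e1
  swap
  · intro q₂ hq₂
    have hu : IsUnit (algebraMap B (Localization.AtPrime q₂.asIdeal) b) :=
      IsLocalization.map_units (M := q₂.asIdeal.primeCompl) _ ⟨b, hb2 q₂ hq₂⟩
    rw [Ring.ord_of_isUnit hu, mul_zero]
  obtain ⟨v, hv⟩ := hb1
  rw [hv, Ring.ord_mul_of_isUnit_right v.isUnit] at e1
  refine ⟨?_, by rw [← e1, Module.length_ne_top_iff]; exact hb3⟩
  rw [← e1, e2, e3, finsum_eq_sum_of_fintype]
  rw [← Finset.sum_filter_of_ne (p := fun q' : MaximalSpectrum B' => cm f q' = q)]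
  · refine Finset.sum_congr rfl fun q' hq' => ?_
    have hq'' : cm f q' = q := (Finset.mem_filter.mp hq').2
    obtain ⟨v', hv'⟩ := key (cm f q') hq''
    rw [← lh_algebraMap, hv', map_mul,
      Ring.ord_mul_of_isUnit_right ((v'.isUnit).map (lh f q'))]
  · intro q' _ hne
    by_contra hcm
    apply hne
    have hnot : f b ∉ q'.asIdeal := by
      intro hmem
      have h1 : b ∈ (cm f q').asIdeal := hmem
      exact hb2 (cm f q') hcm h1
    have hu : IsUnit (algebraMap B' (Localization.AtPrime q'.asIdeal) (f b)) :=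
      IsLocalization.map_units (M := q'.asIdeal.primeCompl) _ ⟨f b, hnot⟩
    rw [Ring.ord_of_isUnit hu, mul_zero]

end Cmp

end Groth.Agent.H34.TameCmp
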