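import Mathlib
import Groth.Prelude.Def_Tame
import Groth.Agent.H34.TameCmp

set_option autoImplicit false
set_option linter.style.haveILetI false

/-!
# Compatible tame data have the same value (S1847)
-/

namespace Groth.Agent.H34.TameCL

open IsLocalRing CycAlg Function
open Groth.Agent.H34.TameLoc Groth.Agent.H34.TameCmp Groth.Agent.H87.LenFinsum

universe u

variable {A : Type u} [CommRing A] [IsLocalRing A] {a₁ a₂ : A}

instance instFinite (D : TameData A a₁ a₂) : Module.Finite A D.B := D.isFinExt.2.1

instance instLocalHom (D : TameData A a₁ a₂) (q : MaximalSpectrum D.B) :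
    IsLocalHom (algebraMap A (Localization.AtPrime q.asIdeal)) := D.isLocalHom q

theorem finite_maximalSpectrum (B : Type u) [CommRing B] [Algebra A B] [Module.Finite A B] :
    Finite (MaximalSpectrum B) := by
  have h := Groth.Agent.H15.ComFac.finite_setOf_isMaximal_of_finite A B
  haveI := h.to_subtype
  exact Finite.of_injective
    (fun q : MaximalSpectrum B => (⟨q.asIdeal, q.isMaximal⟩ : {I : Ideal B | I.IsMaximal}))
    (fun q₁ q₂ h12 => MaximalSpectrum.ext (congrArg Subtype.val h12))

theorem localFactor_eq (D : TameData A a₁ a₂) (q : MaximalSpectrum D.B) :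
    D.localFactor q = lf (A := A) (Localization.AtPrime q.asIdeal) (D.π q) (D.u₁ q) (D.u₂ q)
      (D.e₁ q) (D.e₂ q) := rfl

variable [IsNoetherianRing A] [Ring.KrullDimLE 1 A]

open Classical in
theorem value_eq_of_compat (D D'' : TameData A a₁ a₂) (f : D.B →ₐ[A] D''.B)
    (hf : Function.Injective f) (c : A) (hc : c ∈ nonZeroDivisors A)
    (hcB : ∀ y : D''.B, ∃ z : D.B, f z = c • y)
    (hrep : ∀ q : MaximalSpectrum D.B, ∃ b : D.B,
      (∃ v : (Localization.AtPrime q.asIdeal)ˣ,
        algebraMap D.B (Localization.AtPrime q.asIdeal) b = D.π q * v) ∧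
      (∀ q₂ : MaximalSpectrum D.B, q₂ ≠ q → b ∉ q₂.asIdeal) ∧
      IsFiniteLength A (D.B ⧸ Ideal.span {b}) ∧ f b ∈ nonZeroDivisors D''.B)
    (hcompat : ∀ q'' : MaximalSpectrum D''.B, ∃ (w : (Localization.AtPrime q''.asIdeal)ˣ) (k : ℕ),
      lh f q'' (D.π (cm f q'')) = w * D''.π q'' ^ k) :
    D.value = D''.value := by
  haveI := finite_maximalSpectrum (A := A) D.B
  haveI := finite_maximalSpectrum (A := A) D''.B
  letI := Fintype.ofFinite (MaximalSpectrum D.B)
  letI := Fintype.ofFinite (MaximalSpectrum D''.B)
  haveI hfinres : ∀ q : MaximalSpectrum D.B,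
      Module.Finite (ResidueField A) (ResidueField (Localization.AtPrime q.asIdeal)) :=
    fun q => finite_residueField q
  haveI hfinres'' : ∀ q : MaximalSpectrum D''.B,
      Module.Finite (ResidueField A) (ResidueField (Localization.AtPrime q.asIdeal)) :=
    fun q => finite_residueField q
  unfold TameData.value
  rw [finprod_eq_prod_of_fintype, finprod_eq_prod_of_fintype]
  -- notation
  set G : MaximalSpectrum D.B → ResidueField A := fun q =>
    Algebra.norm (ResidueField A)
      (sym (Localization.AtPrime q.asIdeal) (D.u₁ q) (D.u₂ q) (D.e₁ q) (D.e₂ q)) with hG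
  set n : MaximalSpectrum D.B → ℕ := fun q =>
    (Ring.ord (Localization.AtPrime q.asIdeal) (D.π q)).toNat with hn
  set d : MaximalSpectrum D''.B → ℕ := fun q'' =>
    @Module.finrank (ResidueField (Localization.AtPrime (cm f q'').asIdeal))
      (ResidueField (Localization.AtPrime q''.asIdeal)) _ _
      (ResidueField.map (lh f q'')).toAlgebra.toModule with hd
  set n'' : MaximalSpectrum D''.B → ℕ := fun q'' =>
    (Ring.ord (Localization.AtPrime q''.asIdeal) (lh f q'' (D.π (cm f q'')))).toNat with hn''
  have hL : ∀ q, D.localFactor q = G q ^ n q := fun q => rfl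
  have hR : ∀ q'', D''.localFactor q'' = G (cm f q'') ^ (d q'' * n'' q'') := by
    intro q''
    obtain ⟨w, k, hw⟩ := hcompat q''
    rw [localFactor_eq]
    exact lf_eq_of_monomial (A := A) (lh f q'') (lh_algebraMap_base f q'')
      (algebraMap A _ a₁) (algebraMap A _ a₂) (D.π (cm f q'')) (D.u₁ _) (D.u₂ _) (D.e₁ _) (D.e₂ _)
      (D.fac₁ _) (D.fac₂ _) (D''.π q'') (D''.π_mem q'') (D''.u₁ q'') (D''.u₂ q'') (D''.e₁ q'')
      (D''.e₂ q'') (by rw [lh_algebraMap_base]; exact D''.fac₁ q'')
      (by rw [lh_algebraMap_base]; exact D''.fac₂ q'') w k hw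
  -- the exponent identity
  have hexp : ∀ q : MaximalSpectrum D.B,
      ∑ q'' ∈ Finset.univ.filter (fun q'' : MaximalSpectrum D''.B => cm f q'' = q),
        d q'' * n'' q'' = n q := by
    intro q
    obtain ⟨b, hb1, hb2, hb3, hb4⟩ := hrep q
    obtain ⟨hpq, hne⟩ := pq f hf c hc hcB D.π q b hb1 hb2 hb3 hb4
    set Dq : ℕ := Module.finrank (ResidueField A) (ResidueField (Localization.AtPrime q.asIdeal))
      with hDq
    have hDqpos : 0 < Dq := Module.finrank_pos
    have hordq : Ring.ord (Localization.AtPrime q.asIdeal) (D.π q) ≠ ⊤ := by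
      intro h
      apply hne
      rw [h, ENat.mul_top]
      exact_mod_cast hDqpos.ne'
    have hterm : ∀ q'' ∈ Finset.univ.filter (fun q'' : MaximalSpectrum D''.B => cm f q'' = q),
        (Module.finrank (ResidueField A) (ResidueField (Localization.AtPrime q''.asIdeal)) : ℕ∞) *
          Ring.ord (Localization.AtPrime q''.asIdeal) (lh f q'' (D.π (cm f q''))) =
        ((Dq * (d q'' * n'' q'') : ℕ) : ℕ∞) := by
      intro q'' hq''
      have hq : cm f q'' = q := (Finset.mem_filter.mp hq'').2
      have hdeg : Module.finrank (ResidueField A)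
          (ResidueField (Localization.AtPrime q''.asIdeal)) = Dq * d q'' := by
        have h1 := finrank_mul_eq (K := ResidueField A) (ResidueField.map (lh f q''))
          (map_comp_algebraMap (A := A) (lh f q'') (lh_algebraMap_base f q''))
        have h2 : ∀ q₁ : MaximalSpectrum D.B, q₁ = q → Module.finrank (ResidueField A)
            (ResidueField (Localization.AtPrime q₁.asIdeal)) = Dq := by
          rintro q₁ rfl
          rfl
        rw [← h1, h2 _ hq]
      have hfin'' : Ring.ord (Localization.AtPrime q''.asIdeal) (lh f q'' (D.π (cm f q''))) ≠ ⊤ := by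
        intro h
        apply hne
        rw [hpq]
        apply ne_of_gt at hDqpos
        have hpos : (Module.finrank (ResidueField A)
            (ResidueField (Localization.AtPrime q''.asIdeal)) : ℕ∞) ≠ 0 := by
          rw [hdeg]
          have : 0 < d q'' := by
            rcases Nat.eq_zero_or_pos (d q'') with h0 | h0
            · exfalso
              have h3 : 0 < Module.finrank (ResidueField A)
                  (ResidueField (Localization.AtPrime q''.asIdeal)) := Module.finrank_pos
              rw [hdeg, h0, mul_zero] at h3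
              exact lt_irrefl _ h3
            · exact h0
          exact_mod_cast (Nat.mul_pos (Nat.pos_of_ne_zero hDqpos) this).ne'
        rw [eq_top_iff]
        calc (⊤ : ℕ∞) = (Module.finrank (ResidueField A)
              (ResidueField (Localization.AtPrime q''.asIdeal)) : ℕ∞) *
              Ring.ord (Localization.AtPrime q''.asIdeal) (lh f q'' (D.π (cm f q''))) := by
                rw [h, ENat.mul_top hpos]
          _ ≤ _ := Finset.single_le_sum (f := fun q'' : MaximalSpectrum D''.B =>
              (Module.finrank (ResidueField A)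
                (ResidueField (Localization.AtPrime q''.asIdeal)) : ℕ∞) *
              Ring.ord (Localization.AtPrime q''.asIdeal) (lh f q'' (D.π (cm f q''))))
              (fun _ _ => zero_le) hq''
      rw [hdeg, ← ENat.coe_toNat hfin'']
      push_cast
      ring
    rw [Finset.sum_congr rfl hterm, ← ENat.coe_toNat hordq] at hpq
    have hpq' : Dq * n q = ∑ q'' ∈ Finset.univ.filter
        (fun q'' : MaximalSpectrum D''.B => cm f q'' = q), Dq * (d q'' * n'' q'') := by
      exact_mod_cast hpq
    rw [← Finset.mul_sum] at hpq'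
    exact (Nat.eq_of_mul_eq_mul_left hDqpos hpq').symm
  -- assemble
  rw [Finset.prod_congr rfl (fun q _ => hL q), Finset.prod_congr rfl (fun q'' _ => hR q''),
    ← Finset.prod_fiberwise Finset.univ (cm f)]
  refine Finset.prod_congr rfl fun q _ => ?_
  rw [← hexp q, ← Finset.prod_pow_eq_pow_sum]
  refine Finset.prod_congr rfl fun q'' hq'' => ?_
  rw [(Finset.mem_filter.mp hq'').2]

end Groth.Agent.H34.TameCL
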