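import Mathlib
import Groth.Prelude.Def_Tame
import Groth.Agent.H34.TameCL
import Groth.Agent.H79.Lattice

set_option autoImplicit false
set_option linter.style.haveILetI false

/-!
# Global representatives of the local parameters of tame data (S1847)
-/

namespace Groth.Agent.H34.TameRep

open IsLocalRing CycAlg Function
open Groth.Agent.H34.TameLoc Groth.Agent.H34.TameCmp Groth.Agent.H34.TameCL

universe u

section General

variable {A : Type u} [CommRing A] [IsLocalRing A] {B : Type u} [CommRing B] [Algebra A B]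
  [Module.Finite A B]

/-- Localizations of a finite algebra over a local ring at maximal ideals are local over the
base. -/
theorem isLocalHom_of_finite (q : MaximalSpectrum B) :
    IsLocalHom (algebraMap A (Localization.AtPrime q.asIdeal)) := by
  constructor
  intro a ha
  by_contra hna
  have h1 : a ∈ maximalIdeal A := (mem_maximalIdeal a).mpr hna
  rw [← Groth.Agent.H87.LenFinsum.comap_eq_maximalIdeal q] at h1
  have h2 : algebraMap B (Localization.AtPrime q.asIdeal) (algebraMap A B a) ∈
      maximalIdeal (Localization.AtPrime q.asIdeal) :=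
    (IsLocalization.AtPrime.to_map_mem_maximal_iff _ q.asIdeal _).mpr h1
  rw [← IsScalarTower.algebraMap_apply] at h2
  exact ((mem_maximalIdeal _).mp h2) ha

/-- An element which is a nonzerodivisor at all maximal ideals is a nonzerodivisor. -/
theorem mem_nonZeroDivisors_of_localization {R : Type*} [CommRing R] (b : R)
    (h : ∀ (J : Ideal R) (_ : J.IsMaximal),
      algebraMap R (Localization.AtPrime J) b ∈ nonZeroDivisors (Localization.AtPrime J)) :
    b ∈ nonZeroDivisors R := by
  rw [mem_nonZeroDivisors_iff_right]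
  intro y hy
  apply eq_zero_of_localization
  intro J hJ
  have h1 : algebraMap R (Localization.AtPrime J) y * algebraMap R (Localization.AtPrime J) b =
      0 := by
    rw [← map_mul, hy, map_zero]
  exact (mul_right_mem_nonZeroDivisors_eq_zero_iff (h J hJ)).mp h1

variable [IsNoetherianRing A] [Ring.KrullDimLE 1 A]

/-- A power of the maximal ideal of `B_q` is contained in the ideal generated by a
nonzerodivisor of `A`. -/
theorem exists_pow_le_span (x : A) (hx : x ∈ nonZeroDivisors A) (q : MaximalSpectrum B) :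
    ∃ k : ℕ, maximalIdeal (Localization.AtPrime q.asIdeal) ^ k ≤
      Ideal.span {algebraMap A (Localization.AtPrime q.asIdeal) x} := by
  haveI : IsNoetherianRing B := IsNoetherianRing.of_finite A B
  haveI : Algebra.IsIntegral A B := Algebra.IsIntegral.of_finite A B
  apply Ideal.exists_pow_le_of_le_radical_of_fg _ (IsNoetherian.noetherian _)
  rw [Ideal.radical_eq_sInf]
  refine le_sInf ?_
  rintro P ⟨hxP, hP⟩
  haveI := hP
  set P₀ : Ideal B := P.comap (algebraMap B (Localization.AtPrime q.asIdeal)) with hP₀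
  haveI : P₀.IsPrime := Ideal.comap_isPrime _ P
  set P₁ : Ideal A := P₀.comap (algebraMap A B) with hP₁
  haveI : P₁.IsPrime := Ideal.comap_isPrime _ P₀
  have hxP₁ : x ∈ P₁ := by
    show algebraMap B (Localization.AtPrime q.asIdeal) (algebraMap A B x) ∈ P
    rw [← IsScalarTower.algebraMap_apply]
    exact hxP (Ideal.mem_span_singleton_self _)
  have hmax : P₁.IsMaximal := by
    rcases (Ring.krullDimLE_one_iff.mp ‹Ring.KrullDimLE 1 A›) P₁ inferInstance with hmin | hmax
    · exact absurd hx (notMem_nonZeroDivisors_of_mem_mem_minimalPrimes hxP₁ hmin)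
    · exact hmax
  have hP₀max : P₀.IsMaximal := Ideal.isMaximal_of_isIntegral_of_isMaximal_comap P₀ hmax
  have hle : P₀ ≤ q.asIdeal := by
    have h1 : P ≤ maximalIdeal (Localization.AtPrime q.asIdeal) :=
      IsLocalRing.le_maximalIdeal hP.ne_top
    have h2 := Ideal.comap_mono (f := algebraMap B (Localization.AtPrime q.asIdeal)) h1
    rwa [show (maximalIdeal (Localization.AtPrime q.asIdeal)).comap
      (algebraMap B (Localization.AtPrime q.asIdeal)) = q.asIdeal from
      Localization.AtPrime.under_maximalIdeal] at h2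
  have heq : P₀ = q.asIdeal := hP₀max.eq_of_le q.isMaximal.ne_top hle
  have : P = maximalIdeal (Localization.AtPrime q.asIdeal) :=
    Localization.AtPrime.eq_maximalIdeal_iff_under_eq.mp heq
  rw [this]

end General

section Rep

variable {A : Type u} [CommRing A] [IsLocalRing A] [IsNoetherianRing A] [Ring.KrullDimLE 1 A]
  {a₁ a₂ : A}

/-- `π_q` divides `a₁ a₂` in `B_q` with quotient in the maximal ideal... more precisely
`a₁ a₂ = π_q * z₀`, when `a₁ a₂` is not a unit. -/
theorem exists_eq_pi_mul (D : TameData A a₁ a₂) (hx : ¬ IsUnit (a₁ * a₂))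
    (q : MaximalSpectrum D.B) :
    ∃ z₀ : Localization.AtPrime q.asIdeal,
      algebraMap A (Localization.AtPrime q.asIdeal) (a₁ * a₂) = D.π q * z₀ := by
  have h1 := D.fac₁ q
  have h2 := D.fac₂ q
  rcases Nat.eq_zero_or_pos (D.e₁ q + D.e₂ q) with h0 | hpos
  · exfalso
    have he1 : D.e₁ q = 0 := by omega
    have he2 : D.e₂ q = 0 := by omega
    rw [he1, pow_zero, mul_one] at h1
    rw [he2, pow_zero, mul_one] at h2
    have hu : IsUnit (algebraMap A (Localization.AtPrime q.asIdeal) (a₁ * a₂)) := by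
      rw [map_mul, h1, h2]
      exact (D.u₁ q).isUnit.mul (D.u₂ q).isUnit
    exact hx (isUnit_of_map_unit (algebraMap A (Localization.AtPrime q.asIdeal)) _ hu)
  · refine ⟨(D.u₁ q : Localization.AtPrime q.asIdeal) * (D.u₂ q : Localization.AtPrime q.asIdeal) *
      D.π q ^ (D.e₁ q + D.e₂ q - 1), ?_⟩
    rw [map_mul, h1, h2]
    have : D.π q ^ (D.e₁ q + D.e₂ q) = D.π q * D.π q ^ (D.e₁ q + D.e₂ q - 1) := by
      rw [← pow_succ']
      congr 1
      omega
    calc (D.u₁ q : Localization.AtPrime q.asIdeal) * D.π q ^ D.e₁ q *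
          ((D.u₂ q : Localization.AtPrime q.asIdeal) * D.π q ^ D.e₂ q)
        = (D.u₁ q : Localization.AtPrime q.asIdeal) * (D.u₂ q : Localization.AtPrime q.asIdeal) *
          D.π q ^ (D.e₁ q + D.e₂ q) := by rw [pow_add]; ring
      _ = _ := by rw [this]; ring

/-- Global representatives of the local parameters. -/
theorem exists_rep (D : TameData A a₁ a₂) (h₁ : a₁ ∈ nonZeroDivisors A)
    (h₂ : a₂ ∈ nonZeroDivisors A) (hx : ¬ IsUnit (a₁ * a₂)) (q : MaximalSpectrum D.B) :
    ∃ b t : D.B, (∃ v : (Localization.AtPrime q.asIdeal)ˣ,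
        algebraMap D.B (Localization.AtPrime q.asIdeal) b = D.π q * v) ∧
      (∀ q₂ : MaximalSpectrum D.B, q₂ ≠ q → b ∉ q₂.asIdeal) ∧
      b * t = algebraMap A D.B (a₁ * a₂) := by
  haveI := finite_maximalSpectrum (A := A) D.B
  have hxnzd : a₁ * a₂ ∈ nonZeroDivisors A := mul_mem h₁ h₂
  obtain ⟨z₀, hz₀⟩ := exists_eq_pi_mul D hx q
  obtain ⟨k, hk⟩ := exists_pow_le_span (B := D.B) (a₁ * a₂) hxnzd q
  have hβ : ∀ y ∈ q.asIdeal ^ (k + 1), ∃ z ∈ maximalIdeal (Localization.AtPrime q.asIdeal),
      algebraMap D.B (Localization.AtPrime q.asIdeal) y = D.π q * z := by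
    intro y hy
    have h1 : algebraMap D.B (Localization.AtPrime q.asIdeal) y ∈
        maximalIdeal (Localization.AtPrime q.asIdeal) ^ (k + 1) := by
      rw [← Localization.AtPrime.map_eq_maximalIdeal, ← Ideal.map_pow]
      exact Ideal.mem_map_of_mem _ hy
    rw [pow_succ] at h1
    have h2 : maximalIdeal (Localization.AtPrime q.asIdeal) ^ k *
        maximalIdeal (Localization.AtPrime q.asIdeal) ≤
        Ideal.span {algebraMap A (Localization.AtPrime q.asIdeal) (a₁ * a₂)} *
        maximalIdeal (Localization.AtPrime q.asIdeal) := Ideal.mul_mono_left hk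
    obtain ⟨z', hz', hzz'⟩ := Ideal.mem_span_singleton_mul.mp (h2 h1)
    refine ⟨z₀ * z', Ideal.mul_mem_left _ _ hz', ?_⟩
    rw [← hzz', hz₀]
    ring
  obtain ⟨b, v, hbv, hb2⟩ := exists_global_rep q (D.π q) (k + 1) hβ
  have hmem : algebraMap A D.B (a₁ * a₂) ∈ Ideal.span {b} := by
    apply Ideal.mem_of_localization_maximal
    intro P hP
    by_cases hPq : P = q.asIdeal
    · subst hPq
      rw [Ideal.map_span, Set.image_singleton, Ideal.mem_span_singleton']
      refine ⟨(v⁻¹ : (Localization.AtPrime q.asIdeal)ˣ) * z₀, ?_⟩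
      rw [← IsScalarTower.algebraMap_apply, hz₀, hbv]
      calc ((v⁻¹ : (Localization.AtPrime q.asIdeal)ˣ) : Localization.AtPrime q.asIdeal) * z₀ *
            (D.π q * v) = D.π q * z₀ * ((v⁻¹ : (Localization.AtPrime q.asIdeal)ˣ) * v) := by ring
        _ = D.π q * z₀ := by rw [Units.inv_mul, mul_one]
    · have hbP : b ∉ P := by
        have := hb2 ⟨P, hP⟩ (fun h => hPq (congrArg MaximalSpectrum.asIdeal h))
        exact this
      have hu : IsUnit (algebraMap D.B (Localization.AtPrime P) b) :=
        IsLocalization.map_units (M := P.primeCompl) _ ⟨b, hbP⟩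
      have htop : Ideal.map (algebraMap D.B (Localization.AtPrime P)) (Ideal.span {b}) = ⊤ := by
        rw [Ideal.map_span, Set.image_singleton]
        exact Ideal.span_singleton_eq_top.mpr hu
      rw [htop]
      trivial
  obtain ⟨t, ht⟩ := Ideal.mem_span_singleton'.mp hmem
  exact ⟨b, t, ⟨v, hbv⟩, hb2, by rw [mul_comm]; exact ht⟩

/-- Consequence: finite length of `B / b`. -/
theorem isFiniteLength_quot_of_mul_eq (D : TameData A a₁ a₂) (h₁ : a₁ ∈ nonZeroDivisors A)
    (h₂ : a₂ ∈ nonZeroDivisors A) (b t : D.B) (hbt : b * t = algebraMap A D.B (a₁ * a₂)) :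
    IsFiniteLength A (D.B ⧸ Ideal.span {b}) := by
  apply Groth.Agent.H79.Lattice.isFiniteLength_of_smul_eq_zero (a₁ * a₂) (mul_mem h₁ h₂)
  intro m
  obtain ⟨y, rfl⟩ := Ideal.Quotient.mk_surjective m
  rw [← Ideal.Quotient.mk_eq_mk, ← Submodule.Quotient.mk_smul, Submodule.Quotient.mk_eq_zero,
    Algebra.smul_def, ← hbt]
  exact Ideal.mem_span_singleton'.mpr ⟨t * y, by ring⟩

/-- `a₁ a₂` is a nonzerodivisor on the ring of a tame datum. -/
theorem algebraMap_mem_nonZeroDivisors (D : TameData A a₁ a₂) :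
    algebraMap A D.B (a₁ * a₂) ∈ nonZeroDivisors D.B := by
  apply mem_nonZeroDivisors_of_localization
  intro J hJ
  have h1 := D.fac₁ ⟨J, hJ⟩
  have h2 := D.fac₂ ⟨J, hJ⟩
  rw [← IsScalarTower.algebraMap_apply, map_mul]
  have hπ := D.π_mem ⟨J, hJ⟩
  show algebraMap A (Localization.AtPrime J) a₁ * algebraMap A (Localization.AtPrime J) a₂ ∈ _
  have e1 : algebraMap A (Localization.AtPrime J) a₁ = _ := h1
  have e2 : algebraMap A (Localization.AtPrime J) a₂ = _ := h2
  rw [e1, e2]
  exact mul_mem (mul_mem (D.u₁ ⟨J, hJ⟩).isUnit.mem_nonZeroDivisors (pow_mem hπ _))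
    (mul_mem (D.u₂ ⟨J, hJ⟩).isUnit.mem_nonZeroDivisors (pow_mem hπ _))

end Rep

end Groth.Agent.H34.TameRep
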