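import Mathlib
import Groth.Prelude.Def_Tame
import Groth.Agent.H34.TameRep
import Groth.Agent.H34.Euclid1
import Groth.Agent.H32.FinExtEmb

set_option autoImplicit false
set_option linter.style.haveILetI false

/-!
# The tame symbol is well defined (S1847)
-/

namespace Groth.Agent.H34.TameRef

open IsLocalRing CycAlg Function
open Groth.Agent.H34.TameLoc Groth.Agent.H34.TameCmp Groth.Agent.H34.TameCL
open Groth.Agent.H34.TameRep Groth.Agent.H34.Euclid1 Groth.Agent.H34.RelLen

universe u

section Sub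

variable {A : Type u} [CommRing A] [IsLocalRing A] [IsNoetherianRing A] {Q : Type u} [CommRing Q]
  [Algebra A Q] (M : Submonoid A) [IsLocalization M Q]

include M in
/-- A finite subalgebra of a localization at nonzerodivisors is a finite extension in the sense of
`CycAlg.IsFinExt`. -/
theorem isFinExt_of_fg [Ring.KrullDimLE 1 A] (hM : M ≤ nonZeroDivisors A) (E : Subalgebra A Q)
    (hE : (Subalgebra.toSubmodule E).FG) : IsFinExt A E (maximalIdeal A) := by
  have hιinj : Function.Injective (algebraMap A Q) := IsLocalization.injective Q hM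
  refine ⟨?_, Module.Finite.of_fg hE, ?_⟩
  · intro x y hxy
    exact hιinj (congrArg Subtype.val hxy)
  · obtain ⟨c, hc, hcD⟩ := exists_smul_mem_bot M _ hE
    have hrad : maximalIdeal A ≤ (Ideal.span {c}).radical := by
      rw [Ideal.radical_eq_sInf]
      refine le_sInf ?_
      rintro P ⟨hcP, hP⟩
      have hcP' : c ∈ P := hcP (Ideal.mem_span_singleton_self _)
      rcases (Ring.krullDimLE_one_iff.mp ‹Ring.KrullDimLE 1 A›) P hP with hmin | hmax
      · exact absurd (hM hc) (notMem_nonZeroDivisors_of_mem_mem_minimalPrimes hcP' hmin)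
      · rw [eq_maximalIdeal hmax]
    obtain ⟨n, hn⟩ := Ideal.exists_pow_le_of_le_radical_of_fg hrad (IsNoetherian.noetherian _)
    refine ⟨n, fun r hr y => ?_⟩
    obtain ⟨r', hr'⟩ := Ideal.mem_span_singleton'.mp (hn hr)
    obtain ⟨z, hz⟩ := hcD (y : Q) y.2
    refine ⟨r' * z, Subtype.ext ?_⟩
    show algebraMap A Q (r' * z) = r • (y : Q)
    rw [map_mul, hz, ← hr', Algebra.smul_def, Algebra.smul_def, map_mul]
    ring

variable {a₁ a₂ : A}

/-- Tame data on a finite subalgebra with local monomial factorizations. -/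
noncomputable def mkTame [Ring.KrullDimLE 1 A] (hM : M ≤ nonZeroDivisors A) (E : Subalgebra A Q)
    (hE : (Subalgebra.toSubmodule E).FG) (l : List Q) (hmono : Mono E l)
    (h1 : algebraMap A Q a₁ ∈ l) (h2 : algebraMap A Q a₂ ∈ l) : TameData A a₁ a₂ where
  B := E
  isFinExt := isFinExt_of_fg M hM E hE
  isLocalHom := fun q => by
    haveI : Module.Finite A E := Module.Finite.of_fg hE
    exact isLocalHom_of_finite q
  π := fun q => (hmono q).choose
  π_mem := fun q => (hmono q).choose_spec.1
  u₁ := fun q => ((hmono q).choose_spec.2 _ h1 (E.algebraMap_mem a₁)).choose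
  u₂ := fun q => ((hmono q).choose_spec.2 _ h2 (E.algebraMap_mem a₂)).choose
  e₁ := fun q => ((hmono q).choose_spec.2 _ h1 (E.algebraMap_mem a₁)).choose_spec.choose
  e₂ := fun q => ((hmono q).choose_spec.2 _ h2 (E.algebraMap_mem a₂)).choose_spec.choose
  fac₁ := fun q => by
    rw [IsScalarTower.algebraMap_apply A E (Localization.AtPrime q.asIdeal)]
    exact ((hmono q).choose_spec.2 _ h1 (E.algebraMap_mem a₁)).choose_spec.choose_spec
  fac₂ := fun q => by
    rw [IsScalarTower.algebraMap_apply A E (Localization.AtPrime q.asIdeal)]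
    exact ((hmono q).choose_spec.2 _ h2 (E.algebraMap_mem a₂)).choose_spec.choose_spec

theorem mkTame_isMon [Ring.KrullDimLE 1 A] (hM : M ≤ nonZeroDivisors A) (E : Subalgebra A Q)
    (hE : (Subalgebra.toSubmodule E).FG) (l : List Q) (hmono : Mono E l)
    (h1 : algebraMap A Q a₁ ∈ l) (h2 : algebraMap A Q a₂ ∈ l) (q : MaximalSpectrum E) (α : Q)
    (hα : α ∈ l) (hαE : α ∈ E) :
    IsMon ((mkTame M hM E hE l hmono h1 h2).π q)
      (algebraMap E (Localization.AtPrime q.asIdeal) ⟨α, hαE⟩) :=
  (hmono q).choose_spec.2 α hα hαE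

end Sub

section Units

variable {A : Type u} [CommRing A] [IsLocalRing A] {a₁ a₂ : A}

/-- If both elements are units, every tame datum has value one. -/
theorem value_eq_one_of_isUnit (hu₁ : IsUnit a₁) (hu₂ : IsUnit a₂) (D : TameData A a₁ a₂) :
    D.value = 1 := by
  unfold TameData.value
  apply finprod_eq_one_of_forall_eq_one
  intro q
  rw [localFactor_eq]
  unfold lf
  by_cases hπ : IsUnit (D.π q)
  · rw [Ring.ord_of_isUnit hπ]
    simp
  · have key : ∀ (a : A) (u : (Localization.AtPrime q.asIdeal)ˣ) (e : ℕ), IsUnit a →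
        algebraMap A (Localization.AtPrime q.asIdeal) a =
          (u : Localization.AtPrime q.asIdeal) * D.π q ^ e → e = 0 := by
      intro a u e ha h
      by_contra he
      apply hπ
      have h1 : IsUnit ((u : Localization.AtPrime q.asIdeal) * D.π q ^ e) := h ▸ ha.map _
      have h2 : IsUnit (D.π q ^ e) := isUnit_of_mul_isUnit_right h1
      exact (isUnit_pow_iff he).mp h2
    have he1 := key a₁ (D.u₁ q) (D.e₁ q) hu₁ (D.fac₁ q)
    have he2 := key a₂ (D.u₂ q) (D.e₂ q) hu₂ (D.fac₂ q)
    unfold sym symK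
    rw [he1, he2]
    simp

end Units

section Main

variable {A : Type u} [CommRing A] [IsLocalRing A] [IsNoetherianRing A] [Ring.KrullDimLE 1 A]
  {a₁ a₂ : A} {Q : Type u} [CommRing Q] [Algebra A Q] (M : Submonoid A) [IsLocalization M Q]

/-- A tame datum has the same value as any refinement by a finite subalgebra of `Q` in which
global representatives of its local parameters become monomial. -/
theorem value_eq_mkTame (hM : M ≤ nonZeroDivisors A) (h₁ : a₁ ∈ nonZeroDivisors A)
    (h₂ : a₂ ∈ nonZeroDivisors A) (D : TameData A a₁ a₂) (j : D.B →ₐ[A] Q)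
    (hj : Function.Injective j) (rep t : MaximalSpectrum D.B → D.B)
    (hrep1 : ∀ q : MaximalSpectrum D.B, ∃ v : (Localization.AtPrime q.asIdeal)ˣ,
      algebraMap D.B (Localization.AtPrime q.asIdeal) (rep q) = D.π q * v)
    (hrep2 : ∀ q : MaximalSpectrum D.B, ∀ q₂ : MaximalSpectrum D.B, q₂ ≠ q → rep q ∉ q₂.asIdeal)
    (hrep3 : ∀ q : MaximalSpectrum D.B, rep q * t q = algebraMap A D.B (a₁ * a₂))
    (hunit : IsUnit (algebraMap A Q (a₁ * a₂)))
    (E : Subalgebra A Q) (hE : (Subalgebra.toSubmodule E).FG) (hjE : ∀ b, j b ∈ E) (l : List Q)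
    (hmono : Mono E l) (h1 : algebraMap A Q a₁ ∈ l) (h2 : algebraMap A Q a₂ ∈ l)
    (hl : ∀ q : MaximalSpectrum D.B, j (rep q) ∈ l) :
    D.value = (mkTame M hM E hE l hmono h1 h2).value := by
  set D'' := mkTame M hM E hE l hmono h1 h2 with hD''
  let f : D.B →ₐ[A] D''.B := j.codRestrict E hjE
  have hf : Function.Injective f := by
    intro x y hxy
    exact hj (congrArg Subtype.val hxy)
  obtain ⟨c, hc, hcE⟩ := exists_smul_mem_bot M _ hE
  have hrepunit : ∀ q, IsUnit (j (rep q)) := by
    intro q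
    have h3 : j (rep q) * j (t q) = algebraMap A Q (a₁ * a₂) := by
      rw [← map_mul, hrep3, j.commutes]
    exact isUnit_of_mul_isUnit_left (h3 ▸ hunit)
  refine value_eq_of_compat D D'' f hf c (hM hc) ?_ ?_ ?_
  · intro y
    obtain ⟨z, hz⟩ := hcE (Subtype.val (y : ↥E)) (Subtype.property (y : ↥E))
    refine ⟨algebraMap A D.B z, ?_⟩
    rw [f.commutes]
    exact Subtype.ext hz
  · intro q
    refine ⟨rep q, hrep1 q, hrep2 q, isFiniteLength_quot_of_mul_eq D h₁ h₂ _ _ (hrep3 q), ?_⟩
    exact mem_nonZeroDivisors_of_injective (f := algebraMap E Q) Subtype.val_injective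
      (show j (rep q) ∈ nonZeroDivisors Q from (hrepunit q).mem_nonZeroDivisors)
  · intro q''
    obtain ⟨v, hv⟩ := hrep1 (cm f q'')
    obtain ⟨w₀, k, hw₀⟩ := mkTame_isMon M hM E hE l hmono h1 h2 q'' (j (rep (cm f q'')))
      (hl _) (hjE _)
    refine ⟨w₀ * Units.map (lh f q'' : _ →* _) v⁻¹, k, ?_⟩
    have h3 : D.π (cm f q'') = algebraMap D.B _ (rep (cm f q'')) *
        ((v⁻¹ : (Localization.AtPrime (cm f q'').asIdeal)ˣ) :
          Localization.AtPrime (cm f q'').asIdeal) := by
      rw [hv, mul_assoc, Units.mul_inv, mul_one]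
    rw [h3, map_mul, lh_algebraMap]
    have h4 : algebraMap D''.B (Localization.AtPrime q''.asIdeal) (f (rep (cm f q''))) =
        (w₀ : Localization.AtPrime q''.asIdeal) * D''.π q'' ^ k := hw₀
    rw [h4]
    push_cast
    simp only [Units.coe_map, MonoidHom.coe_coe]
    ring

end Main

end Groth.Agent.H34.TameRef
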