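import Mathlib
import Groth.Prelude.Def_Tame
import Groth.Agent.H34.TameRef

set_option autoImplicit false
set_option linter.style.haveILetI false

/-!
# S1847: the value of tame data is independent of the choice
-/

namespace Groth.Agent.H34.TameRef

open IsLocalRing CycAlg Function
open Groth.Agent.H34.TameLoc Groth.Agent.H34.TameCmp Groth.Agent.H34.TameCL
open Groth.Agent.H34.TameRep Groth.Agent.H34.Euclid1 Groth.Agent.H34.RelLen

universe u

theorem fg_range {A : Type u} [CommRing A] {B Q : Type u} [CommRing B] [CommRing Q] [Algebra A B]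
    [Algebra A Q] [Module.Finite A B] (j : B →ₐ[A] Q) : (Subalgebra.toSubmodule j.range).FG := by
  have h : Subalgebra.toSubmodule j.range = LinearMap.range j.toLinearMap := by
    ext y
    simp [AlgHom.mem_range]
  rw [h]
  exact Module.Finite.iff_fg.mp (Module.Finite.range _)

theorem value_eq (A : Type u) [CommRing A] [IsNoetherianRing A] [IsLocalRing A]
    (hA : ringKrullDim A = 1) (a₁ a₂ : A) (h₁ : a₁ ∈ nonZeroDivisors A)
    (h₂ : a₂ ∈ nonZeroDivisors A) (D D' : TameData A a₁ a₂) : D.value = D'.value := by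
  classical
  haveI : Ring.KrullDimLE 1 A := Ring.krullDimLE_iff.mpr (by rw [hA, Nat.cast_one])
  by_cases hu : IsUnit (a₁ * a₂)
  · have hu₁ : IsUnit a₁ := isUnit_of_mul_isUnit_left hu
    have hu₂ : IsUnit a₂ := isUnit_of_mul_isUnit_right hu
    rw [value_eq_one_of_isUnit hu₁ hu₂ D, value_eq_one_of_isUnit hu₁ hu₂ D']
  · obtain ⟨x, hx⟩ : ∃ x : A, x = a₁ * a₂ := ⟨_, rfl⟩
    have hxm : x ∈ maximalIdeal A := by rw [hx]; exact (mem_maximalIdeal _).mpr hu
    have hxn : x ∈ nonZeroDivisors A := by rw [hx]; exact mul_mem h₁ h₂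
    set M : Submonoid A := Submonoid.powers x with hMdef
    have hM : M ≤ nonZeroDivisors A := Submonoid.powers_le.mpr hxn
    obtain ⟨j, hj⟩ := Groth.Agent.H32.FinExtEmb.exists_embedding (maximalIdeal A) D.isFinExt x hxm
      (by rw [hx]; exact algebraMap_mem_nonZeroDivisors D)
    obtain ⟨j', hj'⟩ := Groth.Agent.H32.FinExtEmb.exists_embedding (maximalIdeal A) D'.isFinExt x
      hxm (by rw [hx]; exact algebraMap_mem_nonZeroDivisors D')
    choose rep t hrep1 hrep2 hrep3 using fun q => exists_rep D h₁ h₂ hu q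
    choose rep' t' hrep1' hrep2' hrep3' using fun q => exists_rep D' h₁ h₂ hu q
    haveI := finite_maximalSpectrum (A := A) D.B
    haveI := finite_maximalSpectrum (A := A) D'.B
    letI := Fintype.ofFinite (MaximalSpectrum D.B)
    letI := Fintype.ofFinite (MaximalSpectrum D'.B)
    set ι := algebraMap A (Localization.Away x) with hι
    set l : List (Localization.Away x) := ι a₁ :: ι a₂ ::
      (((Finset.univ : Finset (MaximalSpectrum D.B)).toList.map (fun q => j (rep q))) ++
        ((Finset.univ : Finset (MaximalSpectrum D'.B)).toList.map (fun q => j' (rep' q)))) with hl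
    set B₀ : Subalgebra A (Localization.Away x) := j.range ⊔ j'.range with hB₀
    have hfg : (Subalgebra.toSubmodule B₀).FG := fg_sup (fg_range j) (fg_range j')
    have hunit : IsUnit (ι (a₁ * a₂)) := by
      rw [← hx]
      exact IsLocalization.Away.algebraMap_isUnit x
    have hu1 : IsUnit (ι a₁) := by
      rw [map_mul] at hunit
      exact isUnit_of_mul_isUnit_left hunit
    have hu2 : IsUnit (ι a₂) := by
      rw [map_mul] at hunit
      exact isUnit_of_mul_isUnit_right hunit
    have hrepu : ∀ q, IsUnit (j (rep q)) := by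
      intro q
      have h3 : j (rep q) * j (t q) = ι (a₁ * a₂) := by
        rw [← map_mul, hrep3, j.commutes]
      exact isUnit_of_mul_isUnit_left (h3 ▸ hunit)
    have hrepu' : ∀ q, IsUnit (j' (rep' q)) := by
      intro q
      have h3 : j' (rep' q) * j' (t' q) = ι (a₁ * a₂) := by
        rw [← map_mul, hrep3', j'.commutes]
      exact isUnit_of_mul_isUnit_left (h3 ▸ hunit)
    have hjB₀ : ∀ b, j b ∈ B₀ := fun b => (le_sup_left : j.range ≤ B₀) ⟨b, rfl⟩
    have hj'B₀ : ∀ b, j' b ∈ B₀ := fun b => (le_sup_right : j'.range ≤ B₀) ⟨b, rfl⟩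
    have hlB : ∀ α ∈ l, α ∈ B₀ ∧ IsUnit α := by
      intro α hα
      rw [hl, List.mem_cons, List.mem_cons, List.mem_append, List.mem_map, List.mem_map] at hα
      rcases hα with rfl | rfl | ⟨q, -, rfl⟩ | ⟨q, -, rfl⟩
      · exact ⟨B₀.algebraMap_mem _, hu1⟩
      · exact ⟨B₀.algebraMap_mem _, hu2⟩
      · exact ⟨hjB₀ _, hrepu q⟩
      · exact ⟨hj'B₀ _, hrepu' q⟩
    obtain ⟨E, hB₀E, hEfg, hmono⟩ := main M hA hM l.length l rfl B₀ hfg hlB
    have hm1 : ι a₁ ∈ l := by rw [hl]; exact List.mem_cons_self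
    have hm2 : ι a₂ ∈ l := by rw [hl]; exact List.mem_cons_of_mem _ List.mem_cons_self
    have hmrep : ∀ q, j (rep q) ∈ l := by
      intro q
      rw [hl]
      refine List.mem_cons_of_mem _ (List.mem_cons_of_mem _ (List.mem_append_left _ ?_))
      exact List.mem_map.mpr ⟨q, Finset.mem_toList.mpr (Finset.mem_univ q), rfl⟩
    have hmrep' : ∀ q, j' (rep' q) ∈ l := by
      intro q
      rw [hl]
      refine List.mem_cons_of_mem _ (List.mem_cons_of_mem _ (List.mem_append_right _ ?_))
      exact List.mem_map.mpr ⟨q, Finset.mem_toList.mpr (Finset.mem_univ q), rfl⟩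
    have e1 := value_eq_mkTame M hM h₁ h₂ D j hj rep t hrep1 hrep2 hrep3 hunit E hEfg
      (fun b => hB₀E (hjB₀ b)) l hmono hm1 hm2 hmrep
    have e2 := value_eq_mkTame M hM h₁ h₂ D' j' hj' rep' t' hrep1' hrep2' hrep3' hunit E hEfg
      (fun b => hB₀E (hj'B₀ b)) l hmono hm1 hm2 hmrep'
    rw [e1, e2]

end Groth.Agent.H34.TameRef
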