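import Mathlib
import Groth.Prelude.Def_Tame
import Groth.Agent.H34.TameMain

set_option autoImplicit false
set_option linter.style.haveILetI false

/-!
# Tools for the laws of the tame symbol (S1848)
-/

namespace Groth.Agent.H34.TameLaws

open IsLocalRing CycAlg Function
open Groth.Agent.H34.TameLoc Groth.Agent.H34.TameCmp Groth.Agent.H34.TameCL
open Groth.Agent.H34.TameRep Groth.Agent.H34.TameRef Groth.Agent.H34.Euclid1 Groth.Agent.H34.RelLen

universe u

section SymK

variable {K : Type*} [Field K]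

theorem symK_mul_left (U U' V : K) (e e' f : ℕ) :
    symK (U * U') V (e + e') f = symK U V e f * symK U' V e' f := by
  unfold symK
  rw [add_mul, pow_add, mul_pow, pow_add, mul_inv]
  ring

theorem symK_mul_right (U V V' : K) (e f f' : ℕ) :
    symK U (V * V') e (f + f') = symK U V e f * symK U V' e f' := by
  unfold symK
  rw [mul_add, pow_add, mul_pow, pow_add, mul_inv]
  ring

theorem symK_self (U : K) (hU : U ≠ 0) (e : ℕ) : symK U U e e = (-1) ^ e := by
  unfold symK
  rw [mul_assoc, mul_inv_cancel₀ (pow_ne_zero _ hU), mul_one]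
  rcases Nat.even_or_odd e with he | he
  · rw [he.neg_one_pow, (he.mul_right e).neg_one_pow]
  · rw [he.neg_one_pow, (he.mul he).neg_one_pow]

theorem symK_zero_left (U V : K) (f : ℕ) : symK U V 0 f = U ^ f := by
  unfold symK
  simp

theorem symK_ne_zero (U V : K) (hU : U ≠ 0) (hV : V ≠ 0) (e f : ℕ) : symK U V e f ≠ 0 := by
  unfold symK
  exact mul_ne_zero (mul_ne_zero (pow_ne_zero _ (neg_ne_zero.mpr one_ne_zero)) (pow_ne_zero _ hU))
    (inv_ne_zero (pow_ne_zero _ hV))

end SymK

section Lf

variable {A : Type u} [CommRing A] [IsLocalRing A] {R : Type u} [CommRing R] [IsLocalRing R]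
  [Algebra A R] [IsLocalHom (algebraMap A R)]

theorem lf_indep {π : R} (hπ : π ∈ nonZeroDivisors R) {u u' v v' : Rˣ} {e e' f f' : ℕ}
    (h1 : (u : R) * π ^ e = (u' : R) * π ^ e') (h2 : (v : R) * π ^ f = (v' : R) * π ^ f') :
    lf (A := A) R π u v e f = lf (A := A) R π u' v' e' f' := by
  by_cases hu : IsUnit π
  · unfold lf
    rw [Ring.ord_of_isUnit hu]
    simp
  · obtain ⟨rfl, rfl⟩ := eq_of_monomial_eq hπ hu h1
    obtain ⟨rfl, rfl⟩ := eq_of_monomial_eq hπ hu h2
    rfl

theorem lf_mul_left (π : R) (u u' v : Rˣ) (e e' f : ℕ) :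
    lf (A := A) R π (u * u') v (e + e') f = lf (A := A) R π u v e f * lf (A := A) R π u' v e' f := by
  unfold lf sym
  push_cast
  rw [map_mul, symK_mul_left, map_mul, mul_pow]

theorem lf_mul_right (π : R) (u v v' : Rˣ) (e f f' : ℕ) :
    lf (A := A) R π u (v * v') e (f + f') = lf (A := A) R π u v e f * lf (A := A) R π u v' e f' := by
  unfold lf sym
  push_cast
  rw [map_mul, symK_mul_right, map_mul, mul_pow]

theorem lf_ne_zero [Module.Finite (ResidueField A) (ResidueField R)] (π : R) (u v : Rˣ)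
    (e f : ℕ) : lf (A := A) R π u v e f ≠ 0 := by
  unfold lf
  apply pow_ne_zero
  rw [Ne, Algebra.norm_eq_zero_iff]
  exact symK_ne_zero _ _ (residue_unit_ne_zero u) (residue_unit_ne_zero v) e f

/-- Multiplicativity in the first variable, with arbitrary choices of factorizations. -/
theorem lf_mul_left' {π : R} (hπ : π ∈ nonZeroDivisors R) {x x' y : R} {u u' u₀ v v' v₀ : Rˣ}
    {e e' e₀ f f' f₀ : ℕ} (hx : x = (u : R) * π ^ e) (hx' : x' = (u' : R) * π ^ e')
    (hxx' : x * x' = (u₀ : R) * π ^ e₀) (hy : y = (v : R) * π ^ f) (hy' : y = (v' : R) * π ^ f')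
    (hy₀ : y = (v₀ : R) * π ^ f₀) :
    lf (A := A) R π u₀ v₀ e₀ f₀ = lf (A := A) R π u v e f * lf (A := A) R π u' v' e' f' := by
  have h1 : lf (A := A) R π u₀ v₀ e₀ f₀ = lf (A := A) R π (u * u') v (e + e') f := by
    refine lf_indep hπ ?_ (hy₀.symm.trans hy)
    rw [← hxx', hx, hx']
    push_cast
    ring
  have h2 : lf (A := A) R π u' v e' f = lf (A := A) R π u' v' e' f' :=
    lf_indep hπ rfl (hy.symm.trans hy')
  rw [h1, lf_mul_left, h2]

/-- Multiplicativity in the second variable, with arbitrary choices of factorizations. -/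
theorem lf_mul_right' {π : R} (hπ : π ∈ nonZeroDivisors R) {x x' y : R} {u u' u₀ v v' v₀ : Rˣ}
    {e e' e₀ f f' f₀ : ℕ} (hx : x = (u : R) * π ^ e) (hx' : x' = (u' : R) * π ^ e')
    (hxx' : x * x' = (u₀ : R) * π ^ e₀) (hy : y = (v : R) * π ^ f) (hy' : y = (v' : R) * π ^ f')
    (hy₀ : y = (v₀ : R) * π ^ f₀) :
    lf (A := A) R π v₀ u₀ f₀ e₀ = lf (A := A) R π v u f e * lf (A := A) R π v' u' f' e' := by
  have h1 : lf (A := A) R π v₀ u₀ f₀ e₀ = lf (A := A) R π v (u * u') f (e + e') := by
    refine lf_indep hπ (hy₀.symm.trans hy) ?_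
    rw [← hxx', hx, hx']
    push_cast
    ring
  have h2 : lf (A := A) R π v u' f e' = lf (A := A) R π v' u' f' e' :=
    lf_indep hπ (hy.symm.trans hy') rfl
  rw [h1, lf_mul_right, h2]

theorem ord_toNat_of_eq {π : R} (hπ : π ∈ nonZeroDivisors R) {y : R} {u : Rˣ} {e : ℕ}
    (hy : y = (u : R) * π ^ e) : (Ring.ord R y).toNat = e * (Ring.ord R π).toNat := by
  rw [hy, Ring.ord_mul_of_isUnit_left u.isUnit, Ring.ord_pow hπ, nsmul_eq_mul, ENat.toNat_mul,
    ENat.toNat_coe]

/-- The local factor of `(y, y)`. -/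
theorem lf_self' [Module.Finite (ResidueField A) (ResidueField R)] {π : R}
    (hπ : π ∈ nonZeroDivisors R) {y : R} {u u' : Rˣ} {e e' : ℕ} (hy : y = (u : R) * π ^ e)
    (hy' : y = (u' : R) * π ^ e') :
    lf (A := A) R π u u' e e' =
      (-1) ^ (Module.finrank (ResidueField A) (ResidueField R) * (Ring.ord R y).toNat) := by
  rw [lf_indep (A := A) hπ rfl (hy'.symm.trans hy), ord_toNat_of_eq hπ hy]
  unfold lf sym
  rw [symK_self _ (residue_unit_ne_zero _)]
  have h1 : ((-1 : ResidueField R)) ^ e =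
      algebraMap (ResidueField A) (ResidueField R) ((-1) ^ e) := by
    rw [map_pow, map_neg, map_one]
  rw [h1, Algebra.norm_algebraMap, ← pow_mul, ← pow_mul]
  congr 1
  ring

/-- The local factor of `(c, y)` for a unit `c` of `A`. -/
theorem lf_unit' [Module.Finite (ResidueField A) (ResidueField R)] {π : R}
    (hπ : π ∈ nonZeroDivisors R) (c : Aˣ) {y : R} {u v : Rˣ} {e f : ℕ}
    (hc : algebraMap A R (c : A) = (u : R) * π ^ e) (hy : y = (v : R) * π ^ f) :
    lf (A := A) R π u v e f =
      residue A (c : A) ^ (Module.finrank (ResidueField A) (ResidueField R) *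
        (Ring.ord R y).toNat) := by
  rw [ord_toNat_of_eq hπ hy]
  by_cases hπu : IsUnit π
  · unfold lf
    rw [Ring.ord_of_isUnit hπu]
    simp
  · set cu : Rˣ := Units.map (algebraMap A R : A →* R) c with hcu
    have h0 : (u : R) * π ^ e = (cu : R) * π ^ 0 := by
      rw [← hc, pow_zero, mul_one]
      rfl
    obtain ⟨he, hu⟩ := eq_of_monomial_eq hπ hπu h0
    unfold lf sym
    rw [he, hu, symK_zero_left]
    have h1 : residue R (cu : R) = algebraMap (ResidueField A) (ResidueField R)
        (residue A (c : A)) := by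
      rw [ResidueField.algebraMap_residue]
      rfl
    rw [h1, ← map_pow (algebraMap (ResidueField A) (ResidueField R)), Algebra.norm_algebraMap,
      ← pow_mul, ← pow_mul]
    congr 1
    ring

end Lf

section Symbol

variable {A : Type u} [CommRing A] [IsLocalRing A] [IsNoetherianRing A]

theorem tameSymbol_eq (hA : ringKrullDim A = 1) {a b : A} (ha : a ∈ nonZeroDivisors A)
    (hb : b ∈ nonZeroDivisors A) (D : TameData A a b) : tameSymbol A a b = D.value := by
  unfold tameSymbol
  rw [dif_pos ⟨D⟩]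
  exact value_eq A hA a b ha hb _ D

/-- Existence of a finite subalgebra of the total ring of fractions with local monomial
factorizations of a given list of nonzerodivisors. -/
theorem exists_mono (hA : ringKrullDim A = 1) (cs : List A) (hcs : ∀ c ∈ cs, c ∈ nonZeroDivisors A) :
    ∃ E : Subalgebra A (Localization (nonZeroDivisors A)), (Subalgebra.toSubmodule E).FG ∧
      Mono E (cs.map (algebraMap A (Localization (nonZeroDivisors A)))) := by
  have hbotfg : (Subalgebra.toSubmodule (⊥ : Subalgebra A (Localization (nonZeroDivisors A)))).FG := by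
    rw [Algebra.toSubmodule_bot, Submodule.one_eq_span]
    exact Submodule.fg_span_singleton _
  obtain ⟨E, -, hE, hmono⟩ := main (nonZeroDivisors A) hA (le_refl _) _ _ rfl ⊥ hbotfg (by
    intro α hα
    obtain ⟨c, hc, rfl⟩ := List.mem_map.mp hα
    exact ⟨Subalgebra.algebraMap_mem _ _,
      IsLocalization.map_units (Localization (nonZeroDivisors A)) (⟨c, hcs c hc⟩ : nonZeroDivisors A)⟩)
  exact ⟨E, hE, hmono⟩

end Symbol

end Groth.Agent.H34.TameLaws
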