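import Mathlib
import Groth.Prelude.Def_Tame
import Groth.Agent.H34.TameLaws

set_option autoImplicit false
set_option linter.style.haveILetI false

/-!
# Local factors on a fixed refinement and their laws (S1848)
-/

namespace Groth.Agent.H34.TameLaws

open IsLocalRing CycAlg Function
open Groth.Agent.H34.TameLoc Groth.Agent.H34.TameCmp Groth.Agent.H34.TameCL
open Groth.Agent.H34.TameRep Groth.Agent.H34.TameRef Groth.Agent.H34.Euclid1 Groth.Agent.H34.RelLen

universe u

section Fixed

variable {A : Type u} [CommRing A] [IsLocalRing A]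

variable {Q : Type u} [CommRing Q] [Algebra A Q] {E : Subalgebra A Q} [Module.Finite A E]
  [hloc : ∀ q : MaximalSpectrum E, IsLocalHom (algebraMap A (Localization.AtPrime q.asIdeal))]
  {l : List Q} (hmono : Mono E l)

/-- The chosen local parameter. -/
noncomputable def piOf (q : MaximalSpectrum E) : Localization.AtPrime q.asIdeal := (hmono q).choose

theorem piOf_mem (q : MaximalSpectrum E) :
    piOf hmono q ∈ nonZeroDivisors (Localization.AtPrime q.asIdeal) := (hmono q).choose_spec.1

/-- The chosen unit of the factorization of `c`. -/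
noncomputable def uOf (q : MaximalSpectrum E) (c : A)
    (hc : algebraMap A Q c ∈ l) :
    (Localization.AtPrime q.asIdeal)ˣ :=
  ((hmono q).choose_spec.2 _ hc (E.algebraMap_mem c)).choose

/-- The chosen exponent of the factorization of `c`. -/
noncomputable def eOf (q : MaximalSpectrum E) (c : A)
    (hc : algebraMap A Q c ∈ l) : ℕ :=
  ((hmono q).choose_spec.2 _ hc (E.algebraMap_mem c)).choose_spec.choose

theorem fac_of (q : MaximalSpectrum E) (c : A)
    (hc : algebraMap A Q c ∈ l) :
    algebraMap A (Localization.AtPrime q.asIdeal) c =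
      (uOf hmono q c hc : Localization.AtPrime q.asIdeal) * piOf hmono q ^ eOf hmono q c hc := by
  rw [IsScalarTower.algebraMap_apply A E (Localization.AtPrime q.asIdeal)]
  exact ((hmono q).choose_spec.2 _ hc (E.algebraMap_mem c)).choose_spec.choose_spec

/-- The local factor of the pair `(c, d)` at `q`. -/
noncomputable def LF (q : MaximalSpectrum E) (c d : A)
    (hc : algebraMap A Q c ∈ l)
    (hd : algebraMap A Q d ∈ l) : ResidueField A :=
  lf (A := A) (Localization.AtPrime q.asIdeal) (piOf hmono q) (uOf hmono q c hc) (uOf hmono q d hd)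
    (eOf hmono q c hc) (eOf hmono q d hd)

theorem LF_mul_left (q : MaximalSpectrum E) (a a' b : A)
    (haa' : algebraMap A Q (a * a') ∈ l)
    (ha : algebraMap A Q a ∈ l)
    (ha' : algebraMap A Q a' ∈ l)
    (hb : algebraMap A Q b ∈ l) :
    LF hmono q (a * a') b haa' hb = LF hmono q a b ha hb * LF hmono q a' b ha' hb :=
  lf_mul_left' (A := A) (piOf_mem hmono q) (fac_of hmono q a ha) (fac_of hmono q a' ha')
    ((map_mul (algebraMap A (Localization.AtPrime q.asIdeal)) a a').symm.trans
      (fac_of hmono q (a * a') haa')) (fac_of hmono q b hb)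
    (fac_of hmono q b hb) (fac_of hmono q b hb)

theorem LF_mul_right (q : MaximalSpectrum E) (a a' b : A)
    (haa' : algebraMap A Q (a * a') ∈ l)
    (ha : algebraMap A Q a ∈ l)
    (ha' : algebraMap A Q a' ∈ l)
    (hb : algebraMap A Q b ∈ l) :
    LF hmono q b (a * a') hb haa' = LF hmono q b a hb ha * LF hmono q b a' hb ha' :=
  lf_mul_right' (A := A) (piOf_mem hmono q) (fac_of hmono q a ha) (fac_of hmono q a' ha')
    ((map_mul (algebraMap A (Localization.AtPrime q.asIdeal)) a a').symm.trans
      (fac_of hmono q (a * a') haa')) (fac_of hmono q b hb)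
    (fac_of hmono q b hb) (fac_of hmono q b hb)

theorem LF_ne_zero (q : MaximalSpectrum E) (c d : A)
    (hc : algebraMap A Q c ∈ l)
    (hd : algebraMap A Q d ∈ l) : LF hmono q c d hc hd ≠ 0 := by
  haveI : Module.Finite (ResidueField A) (ResidueField (Localization.AtPrime q.asIdeal)) :=
    Groth.Agent.H87.LenFinsum.finite_residueField q
  exact lf_ne_zero _ _ _ _ _

/-- `∂(b, b)` locally. -/
theorem LF_self (q : MaximalSpectrum E) (b : A)
    (hb hb' : algebraMap A Q b ∈ l) :
    LF hmono q b b hb hb' = (-1) ^
      (Module.finrank (ResidueField A) (ResidueField (Localization.AtPrime q.asIdeal)) *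
        (Ring.ord (Localization.AtPrime q.asIdeal)
          (algebraMap A (Localization.AtPrime q.asIdeal) b)).toNat) := by
  haveI : Module.Finite (ResidueField A) (ResidueField (Localization.AtPrime q.asIdeal)) :=
    Groth.Agent.H87.LenFinsum.finite_residueField q
  exact lf_self' (A := A) (piOf_mem hmono q) (fac_of hmono q b hb) (fac_of hmono q b hb')

/-- `∂(c, b)` locally, for a unit `c` of `A`. -/
theorem LF_unit (q : MaximalSpectrum E) (c : Aˣ) (b : A)
    (hc : algebraMap A Q (c : A) ∈ l)
    (hb : algebraMap A Q b ∈ l) :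
    LF hmono q (c : A) b hc hb = residue A (c : A) ^
      (Module.finrank (ResidueField A) (ResidueField (Localization.AtPrime q.asIdeal)) *
        (Ring.ord (Localization.AtPrime q.asIdeal)
          (algebraMap A (Localization.AtPrime q.asIdeal) b)).toNat) := by
  haveI : Module.Finite (ResidueField A) (ResidueField (Localization.AtPrime q.asIdeal)) :=
    Groth.Agent.H87.LenFinsum.finite_residueField q
  exact lf_unit' (A := A) (piOf_mem hmono q) c (fac_of hmono q (c : A) hc) (fac_of hmono q b hb)

end Fixed

end Groth.Agent.H34.TameLaws
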