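import Mathlib
import Groth.Prelude.Def_Tame
import Groth.Agent.H34.TameLaws2

set_option autoImplicit false
set_option linter.style.haveILetI false

/-!
# Global laws of the tame symbol on a fixed refinement (S1848)
-/

namespace Groth.Agent.H34.TameLaws

open IsLocalRing CycAlg Function
open Groth.Agent.H34.TameLoc Groth.Agent.H34.TameCmp Groth.Agent.H34.TameCL
open Groth.Agent.H34.TameRep Groth.Agent.H34.TameRef Groth.Agent.H34.Euclid1 Groth.Agent.H34.RelLen

universe u

section Global

variable {A : Type u} [CommRing A] [IsLocalRing A] [IsNoetherianRing A]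
variable {Q : Type u} [CommRing Q] [Algebra A Q] (M : Submonoid A) [IsLocalization M Q]
variable {E : Subalgebra A Q} (hE : (Subalgebra.toSubmodule E).FG) [Module.Finite A E]
  [hloc : ∀ q : MaximalSpectrum E, IsLocalHom (algebraMap A (Localization.AtPrime q.asIdeal))]
  {l : List Q} (hmono : Mono E l)

include M hE in
theorem tameSymbol_eq_finprod (hA : ringKrullDim A = 1) (hM : M ≤ nonZeroDivisors A) {c d : A}
    (hcn : c ∈ nonZeroDivisors A) (hdn : d ∈ nonZeroDivisors A) (hc : algebraMap A Q c ∈ l)
    (hd : algebraMap A Q d ∈ l) :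
    tameSymbol A c d = ∏ᶠ q : MaximalSpectrum E, LF hmono q c d hc hd := by
  haveI : Ring.KrullDimLE 1 A := Ring.krullDimLE_iff.mpr (by rw [hA, Nat.cast_one])
  rw [tameSymbol_eq hA hcn hdn (mkTame M hM E hE l hmono hc hd)]
  rfl

omit [IsNoetherianRing A] in
theorem finite_ms : Finite (MaximalSpectrum E) := finite_maximalSpectrum (A := A) E

omit [IsNoetherianRing A] in
theorem finprod_LF_ne_zero {c d : A} (hc : algebraMap A Q c ∈ l) (hd : algebraMap A Q d ∈ l) :
    ∏ᶠ q : MaximalSpectrum E, LF hmono q c d hc hd ≠ 0 := by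
  haveI := finite_ms (A := A) (E := E)
  letI := Fintype.ofFinite (MaximalSpectrum E)
  rw [finprod_eq_prod_of_fintype, Finset.prod_ne_zero_iff]
  intro q _
  exact LF_ne_zero hmono q c d hc hd

omit [IsNoetherianRing A] in
theorem finprod_LF_mul_left {a a' b : A} (haa' : algebraMap A Q (a * a') ∈ l)
    (ha : algebraMap A Q a ∈ l) (ha' : algebraMap A Q a' ∈ l) (hb : algebraMap A Q b ∈ l) :
    ∏ᶠ q : MaximalSpectrum E, LF hmono q (a * a') b haa' hb =
      (∏ᶠ q : MaximalSpectrum E, LF hmono q a b ha hb) *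
        ∏ᶠ q : MaximalSpectrum E, LF hmono q a' b ha' hb := by
  haveI := finite_ms (A := A) (E := E)
  rw [← finprod_mul_distrib (Set.toFinite _) (Set.toFinite _)]
  exact finprod_congr fun q => LF_mul_left hmono q a a' b haa' ha ha' hb

omit [IsNoetherianRing A] in
theorem finprod_LF_mul_right {a a' b : A} (haa' : algebraMap A Q (a * a') ∈ l)
    (ha : algebraMap A Q a ∈ l) (ha' : algebraMap A Q a' ∈ l) (hb : algebraMap A Q b ∈ l) :
    ∏ᶠ q : MaximalSpectrum E, LF hmono q b (a * a') hb haa' =
      (∏ᶠ q : MaximalSpectrum E, LF hmono q b a hb ha) *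
        ∏ᶠ q : MaximalSpectrum E, LF hmono q b a' hb ha' := by
  haveI := finite_ms (A := A) (E := E)
  rw [← finprod_mul_distrib (Set.toFinite _) (Set.toFinite _)]
  exact finprod_congr fun q => LF_mul_right hmono q a a' b haa' ha ha' hb

include M hE in
/-- The sum of the local orders of `b` weighted by residue degrees is the colength of `b`. -/
theorem sum_finrank_mul_ord [Ring.KrullDimLE 1 A] [Fintype (MaximalSpectrum E)]
    (hM : M ≤ nonZeroDivisors A) (b : A) (hb : b ∈ nonZeroDivisors A) :
    ∑ q : MaximalSpectrum E,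
      Module.finrank (ResidueField A) (ResidueField (Localization.AtPrime q.asIdeal)) *
        (Ring.ord (Localization.AtPrime q.asIdeal)
          (algebraMap A (Localization.AtPrime q.asIdeal) b)).toNat =
      (Module.length A (A ⧸ Ideal.span {b})).toNat := by
  classical
  have hfinA : IsFiniteLength A (A ⧸ Ideal.span {b}) := isFiniteLength_quotient_span_singleton A hb
  obtain ⟨c, hc, hcE⟩ := exists_smul_mem_bot M _ hE
  have hinj : Function.Injective (Algebra.ofId A E) := by
    intro x y hxy
    exact IsLocalization.injective Q hM (congrArg Subtype.val hxy)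
  have hbE : (Algebra.ofId A E) b ∈ nonZeroDivisors E := by
    refine mem_nonZeroDivisors_of_injective (f := algebraMap E Q) Subtype.val_injective ?_
    exact IsLocalization.map_nonZeroDivisors_le M Q ⟨b, hb, rfl⟩
  have e2 := Groth.Agent.H74.LenInj.length_quot_eq_of_injective (Algebra.ofId A E) hinj c (hM hc)
    (fun y => by
      obtain ⟨z, hz⟩ := hcE (y : Q) y.2
      exact ⟨z, Subtype.ext hz⟩) b hbE
  have hfinE : IsFiniteLength A (E ⧸ Ideal.span {(Algebra.ofId A E) b}) := by
    rw [← Module.length_ne_top_iff, ← e2, Module.length_ne_top_iff]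
    exact hfinA
  have e3 := Groth.Agent.H87.LenFinsum.length_quot_eq_finsum (A := A) ((Algebra.ofId A E) b) hfinE
  rw [finsum_eq_sum_of_fintype] at e3
  have hL : Module.length A (A ⧸ Ideal.span {b}) ≠ ⊤ := Module.length_ne_top_iff.mpr hfinA
  rw [← e2] at e3
  have hterm : ∀ q : MaximalSpectrum E,
      (Module.finrank (ResidueField A) (ResidueField (Localization.AtPrime q.asIdeal)) : ℕ∞) *
        Ring.ord (Localization.AtPrime q.asIdeal)
          (algebraMap E (Localization.AtPrime q.asIdeal) ((Algebra.ofId A E) b)) ≠ ⊤ := by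
    intro q
    apply ne_top_of_le_ne_top hL
    rw [e3]
    exact Finset.single_le_sum (f := fun q : MaximalSpectrum E =>
      (Module.finrank (ResidueField A) (ResidueField (Localization.AtPrime q.asIdeal)) : ℕ∞) *
        Ring.ord (Localization.AtPrime q.asIdeal)
          (algebraMap E (Localization.AtPrime q.asIdeal) ((Algebra.ofId A E) b)))
      (fun _ _ => zero_le) (Finset.mem_univ q)
  rw [e3, ENat.toNat_sum (fun q _ => hterm q)]
  refine Finset.sum_congr rfl fun q _ => ?_
  rw [ENat.toNat_mul, ENat.toNat_coe]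
  rfl

include M hE in
theorem finprod_LF_self (hA : ringKrullDim A = 1) (hM : M ≤ nonZeroDivisors A) {b : A}
    (hbn : b ∈ nonZeroDivisors A) (hb : algebraMap A Q b ∈ l) :
    ∏ᶠ q : MaximalSpectrum E, LF hmono q b b hb hb =
      (-1) ^ (Module.length A (A ⧸ Ideal.span {b})).toNat := by
  haveI : Ring.KrullDimLE 1 A := Ring.krullDimLE_iff.mpr (by rw [hA, Nat.cast_one])
  haveI := finite_ms (A := A) (E := E)
  letI := Fintype.ofFinite (MaximalSpectrum E)
  rw [finprod_eq_prod_of_fintype, ← sum_finrank_mul_ord M hE hM b hbn,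
    ← Finset.prod_pow_eq_pow_sum]
  exact Finset.prod_congr rfl fun q _ => LF_self hmono q b hb hb

include M hE in
theorem finprod_LF_unit (hA : ringKrullDim A = 1) (hM : M ≤ nonZeroDivisors A) (c : Aˣ) {b : A}
    (hbn : b ∈ nonZeroDivisors A) (hc : algebraMap A Q (c : A) ∈ l) (hb : algebraMap A Q b ∈ l) :
    ∏ᶠ q : MaximalSpectrum E, LF hmono q (c : A) b hc hb =
      residue A (c : A) ^ (Module.length A (A ⧸ Ideal.span {b})).toNat := by
  haveI : Ring.KrullDimLE 1 A := Ring.krullDimLE_iff.mpr (by rw [hA, Nat.cast_one])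
  haveI := finite_ms (A := A) (E := E)
  letI := Fintype.ofFinite (MaximalSpectrum E)
  rw [finprod_eq_prod_of_fintype, ← sum_finrank_mul_ord M hE hM b hbn,
    ← Finset.prod_pow_eq_pow_sum]
  exact Finset.prod_congr rfl fun q _ => LF_unit hmono q c b hc hb

end Global

end Groth.Agent.H34.TameLaws
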