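import Mathlib
import Groth.Agent.H34.TameLoc

set_option autoImplicit false
set_option linter.style.haveILetI false

/-!
# The local Steinberg-type relation for the tame symbol
-/

namespace Groth.Agent.H34.TameStein

open IsLocalRing Groth.Agent.H34.TameLoc

section Field

variable {K : Type*} [Field K]

theorem X_sq (n : ℕ) : ((-1 : K)) ^ n * (-1) ^ n = 1 := by
  rw [← mul_pow]
  simp

theorem X_inv (n : ℕ) : (((-1 : K)) ^ n)⁻¹ = (-1) ^ n :=
  inv_eq_of_mul_eq_one_left (X_sq n)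

theorem X_mul_self (e : ℕ) : ((-1 : K)) ^ (e * e) = (-1) ^ e := by
  rcases Nat.even_or_odd e with he | he
  · rw [he.neg_one_pow, (he.mul_right e).neg_one_pow]
  · rw [he.neg_one_pow, (he.mul he).neg_one_pow]

/-- Case `e < f`: `w̄ = -ū`, `g = e`. -/
theorem case_lt (a b : K) (ha : a ≠ 0) (hb : b ≠ 0) (e f : ℕ) :
    symK a (-a) e e * symK b b f f = symK b (-a) f e * symK a b e f := by
  unfold symK
  have h1 : (-a) ^ e = (-1) ^ e * a ^ e := by rw [neg_pow]
  have h2 : (-a) ^ f = (-1) ^ f * a ^ f := by rw [neg_pow]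
  rw [h1, h2, mul_inv, mul_inv, X_inv, X_inv, X_mul_self, X_mul_self, mul_comm f e]
  have ha1 : a ^ e ≠ 0 := pow_ne_zero _ ha
  have ha2 : a ^ f ≠ 0 := pow_ne_zero _ ha
  have hb1 : b ^ e ≠ 0 := pow_ne_zero _ hb
  have hb2 : b ^ f ≠ 0 := pow_ne_zero _ hb
  calc (-1 : K) ^ e * a ^ e * ((-1) ^ e * (a ^ e)⁻¹) * ((-1) ^ f * b ^ f * (b ^ f)⁻¹)
      = ((-1 : K) ^ e * (-1) ^ e) * (a ^ e * (a ^ e)⁻¹) * (b ^ f * (b ^ f)⁻¹) * (-1) ^ f := by ring
    _ = (-1) ^ f := by rw [X_sq, mul_inv_cancel₀ ha1, mul_inv_cancel₀ hb2]; ring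
    _ = ((-1 : K) ^ (e * f) * (-1) ^ (e * f)) * (b ^ e * (b ^ e)⁻¹) * (a ^ f * (a ^ f)⁻¹) *
          (-1) ^ f := by rw [X_sq, mul_inv_cancel₀ hb1, mul_inv_cancel₀ ha2]; ring
    _ = _ := by ring

/-- Case `e = f`, `g = e + k`. -/
theorem case_eq (a b w : K) (ha : a ≠ 0) (hb : b ≠ 0) (e k : ℕ) (hk : k ≠ 0 → a = b) :
    symK a w e (e + k) * symK b b e e = symK b w e (e + k) * symK a b e e := by
  unfold symK
  rw [X_mul_self]
  have hb1 : b ^ e ≠ 0 := pow_ne_zero _ hb
  have key : a ^ (e + k) = b ^ (e + k) * a ^ e * (b ^ e)⁻¹ := by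
    rcases Nat.eq_zero_or_pos k with h0 | hpos
    · subst h0
      rw [add_zero]
      field_simp
    · rw [hk hpos.ne']
      field_simp
  rw [key]
  field_simp

end Field

theorem steinberg_local {R : Type*} [CommRing R] [IsLocalRing R] (π : R)
    (hπ : π ∈ nonZeroDivisors R) (hπu : ¬ IsUnit π) (u v w : Rˣ) (e f g : ℕ)
    (h : (v : R) * π ^ f - (u : R) * π ^ e = (w : R) * π ^ g) :
    symK (residue R (u : R)) (residue R (w : R)) e g *
        symK (residue R (v : R)) (residue R (v : R)) f f =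
      symK (residue R (v : R)) (residue R (w : R)) f g *
        symK (residue R (u : R)) (residue R (v : R)) e f := by
  have hπm : π ∈ maximalIdeal R := (mem_maximalIdeal π).mpr hπu
  have hres : ∀ k : ℕ, k ≠ 0 → residue R (π ^ k) = 0 := by
    intro k hk
    rw [residue_eq_zero_iff]
    exact Ideal.pow_mem_of_mem _ hπm k (Nat.pos_of_ne_zero hk)
  have hu0 : residue R (u : R) ≠ 0 := residue_unit_ne_zero u
  have hv0 : residue R (v : R) ≠ 0 := residue_unit_ne_zero v
  rcases lt_trichotomy e f with hef | hef | hef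
  · -- `e < f`
    obtain ⟨k, rfl⟩ := Nat.exists_eq_add_of_lt hef
    have hk : k + 1 ≠ 0 := Nat.succ_ne_zero k
    have hw'u : IsUnit ((v : R) * π ^ (k + 1) - (u : R)) := by
      by_contra hnu
      have h1 : (v : R) * π ^ (k + 1) - (u : R) ∈ maximalIdeal R := (mem_maximalIdeal _).mpr hnu
      have h2 : (v : R) * π ^ (k + 1) ∈ maximalIdeal R :=
        Ideal.mul_mem_left _ _ (Ideal.pow_mem_of_mem _ hπm _ (Nat.succ_pos k))
      have h3 := (maximalIdeal R).sub_mem h2 h1
      rw [sub_sub_cancel] at h3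
      exact ((mem_maximalIdeal _).mp h3) u.isUnit
    have h4 : (hw'u.unit : R) * π ^ e = (w : R) * π ^ g := by
      rw [IsUnit.unit_spec, ← h, pow_add, pow_add]
      ring
    obtain ⟨rfl, hw⟩ := eq_of_monomial_eq hπ hπu h4
    have hwres : residue R (w : R) = -residue R (u : R) := by
      rw [← hw, IsUnit.unit_spec, map_sub, map_mul, hres _ hk, mul_zero, zero_sub]
    rw [hwres, show e + k + 1 = e + (k + 1) by ring]
    exact case_lt _ _ hu0 hv0 e (e + (k + 1))
  · -- `e = f`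
    subst hef
    have h5 : ((v : R) - (u : R)) * π ^ e = (w : R) * π ^ g := by rw [← h]; ring
    have hge : e ≤ g := by
      by_contra hlt
      push Not at hlt
      obtain ⟨k, rfl⟩ := Nat.exists_eq_add_of_lt hlt
      have h6 : (((v : R) - (u : R)) * π ^ (k + 1) - (w : R)) * π ^ g = 0 := by
        rw [sub_mul, ← h5, pow_add, pow_add]; ring
      have h7 := (mul_right_mem_nonZeroDivisors_eq_zero_iff (pow_mem hπ g)).mp h6
      have h8 : (w : R) = ((v : R) - (u : R)) * π ^ (k + 1) := (sub_eq_zero.mp h7).symm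
      have h9 : (w : R) ∈ maximalIdeal R := by
        rw [h8]
        exact Ideal.mul_mem_left _ _ (Ideal.pow_mem_of_mem _ hπm _ (Nat.succ_pos k))
      exact ((mem_maximalIdeal _).mp h9) w.isUnit
    obtain ⟨k, rfl⟩ := Nat.exists_eq_add_of_le hge
    have h6 : ((v : R) - (u : R) - (w : R) * π ^ k) * π ^ e = 0 := by
      rw [sub_mul, h5, pow_add]; ring
    have h7 := (mul_right_mem_nonZeroDivisors_eq_zero_iff (pow_mem hπ e)).mp h6
    have h8 : (v : R) - (u : R) = (w : R) * π ^ k := sub_eq_zero.mp h7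
    apply case_eq _ _ _ hu0 hv0 e k
    intro hk
    have h9 := congrArg (residue R) h8
    rw [map_sub, map_mul, hres k hk, mul_zero, sub_eq_zero] at h9
    exact h9.symm
  · -- `f < e`
    obtain ⟨k, rfl⟩ := Nat.exists_eq_add_of_lt hef
    have hk : k + 1 ≠ 0 := Nat.succ_ne_zero k
    have hw'u : IsUnit ((v : R) - (u : R) * π ^ (k + 1)) := by
      by_contra hnu
      have h1 : (v : R) - (u : R) * π ^ (k + 1) ∈ maximalIdeal R := (mem_maximalIdeal _).mpr hnu
      have h2 : (u : R) * π ^ (k + 1) ∈ maximalIdeal R :=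
        Ideal.mul_mem_left _ _ (Ideal.pow_mem_of_mem _ hπm _ (Nat.succ_pos k))
      have h3 := (maximalIdeal R).add_mem h1 h2
      rw [sub_add_cancel] at h3
      exact ((mem_maximalIdeal _).mp h3) v.isUnit
    have h4 : (hw'u.unit : R) * π ^ f = (w : R) * π ^ g := by
      rw [IsUnit.unit_spec, ← h, pow_add, pow_add]
      ring
    obtain ⟨rfl, hw⟩ := eq_of_monomial_eq hπ hπu h4
    have hwres : residue R (w : R) = residue R (v : R) := by
      rw [← hw, IsUnit.unit_spec, map_sub, map_mul, hres _ hk, mul_zero, sub_zero]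
    rw [hwres]
    exact mul_comm _ _

end Groth.Agent.H34.TameStein
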