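import Mathlib
import Groth.Prelude.Def_Tame
import Groth.Agent.H34.TameLaws3
import Groth.Agent.H34.TameStein

set_option autoImplicit false
set_option linter.style.haveILetI false

/-!
# The Steinberg-type relation and the final assembly for S1848
-/

namespace Groth.Agent.H34.TameLaws

open IsLocalRing CycAlg Function
open Groth.Agent.H34.TameLoc Groth.Agent.H34.TameCmp Groth.Agent.H34.TameCL
open Groth.Agent.H34.TameRep Groth.Agent.H34.TameRef Groth.Agent.H34.Euclid1 Groth.Agent.H34.RelLen
open Groth.Agent.H34.TameStein

universe u

section LfStein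

variable {A : Type u} [CommRing A] [IsLocalRing A] {R : Type u} [CommRing R] [IsLocalRing R]
  [Algebra A R] [IsLocalHom (algebraMap A R)]

theorem lf_steinberg' {π : R} (hπ : π ∈ nonZeroDivisors R) {x y : R} {u v w : Rˣ} {e f g : ℕ}
    (hx : x = (u : R) * π ^ e) (hy : y = (v : R) * π ^ f) (hyx : y - x = (w : R) * π ^ g) :
    lf (A := A) R π u w e g * lf (A := A) R π v v f f =
      lf (A := A) R π v w f g * lf (A := A) R π u v e f := by
  by_cases hπu : IsUnit π
  · unfold lf
    rw [Ring.ord_of_isUnit hπu]
    simp
  · unfold lf sym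
    rw [← mul_pow, ← mul_pow, ← map_mul, ← map_mul,
      steinberg_local π hπ hπu u v w e f g (by rw [← hx, ← hy]; exact hyx)]

end LfStein

section Fixed

variable {A : Type u} [CommRing A] [IsLocalRing A]
variable {Q : Type u} [CommRing Q] [Algebra A Q] {E : Subalgebra A Q} [Module.Finite A E]
  [hloc : ∀ q : MaximalSpectrum E, IsLocalHom (algebraMap A (Localization.AtPrime q.asIdeal))]
  {l : List Q} (hmono : Mono E l)

theorem LF_steinberg (q : MaximalSpectrum E) (a b : A) (ha : algebraMap A Q a ∈ l)
    (hb : algebraMap A Q b ∈ l) (hba : algebraMap A Q (b - a) ∈ l) :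
    LF hmono q a (b - a) ha hba * LF hmono q b b hb hb =
      LF hmono q b (b - a) hb hba * LF hmono q a b ha hb :=
  lf_steinberg' (A := A) (piOf_mem hmono q) (fac_of hmono q a ha) (fac_of hmono q b hb)
    ((map_sub (algebraMap A (Localization.AtPrime q.asIdeal)) b a).symm.trans
      (fac_of hmono q (b - a) hba))

theorem finprod_LF_steinberg {a b : A} (ha : algebraMap A Q a ∈ l)
    (hb : algebraMap A Q b ∈ l) (hba : algebraMap A Q (b - a) ∈ l) :
    (∏ᶠ q : MaximalSpectrum E, LF hmono q a (b - a) ha hba) *
        ∏ᶠ q : MaximalSpectrum E, LF hmono q b b hb hb =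
      (∏ᶠ q : MaximalSpectrum E, LF hmono q b (b - a) hb hba) *
        ∏ᶠ q : MaximalSpectrum E, LF hmono q a b ha hb := by
  haveI := finite_ms (A := A) (E := E)
  rw [← finprod_mul_distrib (Set.toFinite _) (Set.toFinite _),
    ← finprod_mul_distrib (Set.toFinite _) (Set.toFinite _)]
  exact finprod_congr fun q => LF_steinberg hmono q a b ha hb hba

end Fixed

section Final

variable (A : Type u) [CommRing A] [IsLocalRing A] [IsNoetherianRing A]

theorem laws (hA : ringKrullDim A = 1) :
    (∀ a b : A, a ∈ nonZeroDivisors A → b ∈ nonZeroDivisors A → tameSymbol A a b ≠ 0) ∧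
    (∀ a a' b : A, a ∈ nonZeroDivisors A → a' ∈ nonZeroDivisors A → b ∈ nonZeroDivisors A →
      tameSymbol A (a * a') b = tameSymbol A a b * tameSymbol A a' b ∧
      tameSymbol A b (a * a') = tameSymbol A b a * tameSymbol A b a') ∧
    (∀ b : A, b ∈ nonZeroDivisors A →
      tameSymbol A b b = (-1) ^ (Module.length A (A ⧸ Ideal.span {b})).toNat) ∧
    (∀ (c : Aˣ) (b : A), b ∈ nonZeroDivisors A →
      tameSymbol A (c : A) b =
        residue A (c : A) ^ (Module.length A (A ⧸ Ideal.span {b})).toNat) ∧
    (∀ a b : A, a ∈ nonZeroDivisors A → b ∈ nonZeroDivisors A → b - a ∈ nonZeroDivisors A →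
      tameSymbol A a (b - a) * tameSymbol A b b = tameSymbol A b (b - a) * tameSymbol A a b) := by
  have hM : nonZeroDivisors A ≤ nonZeroDivisors A := le_refl _
  refine ⟨?_, ?_, ?_, ?_, ?_⟩
  · intro a b ha hb
    obtain ⟨E, hE, hmono⟩ := exists_mono hA [a, b] (by
      intro c hc
      simp only [List.mem_cons, List.not_mem_nil, or_false] at hc
      rcases hc with rfl | rfl <;> assumption)
    haveI : Module.Finite A E := Module.Finite.of_fg hE
    haveI hloc : ∀ q : MaximalSpectrum E,
        IsLocalHom (algebraMap A (Localization.AtPrime q.asIdeal)) :=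
      fun q => isLocalHom_of_finite q
    have m1 : algebraMap A (Localization (nonZeroDivisors A)) a ∈
        [a, b].map (algebraMap A (Localization (nonZeroDivisors A))) := by simp
    have m2 : algebraMap A (Localization (nonZeroDivisors A)) b ∈
        [a, b].map (algebraMap A (Localization (nonZeroDivisors A))) := by simp
    rw [tameSymbol_eq_finprod (nonZeroDivisors A) hE hmono hA hM ha hb m1 m2]
    exact finprod_LF_ne_zero hmono m1 m2
  · intro a a' b ha ha' hb
    obtain ⟨E, hE, hmono⟩ := exists_mono hA [a * a', a, a', b] (by
      intro c hc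
      simp only [List.mem_cons, List.not_mem_nil, or_false] at hc
      rcases hc with rfl | rfl | rfl | rfl
      · exact mul_mem ha ha'
      · exact ha
      · exact ha'
      · exact hb)
    haveI : Module.Finite A E := Module.Finite.of_fg hE
    haveI hloc : ∀ q : MaximalSpectrum E,
        IsLocalHom (algebraMap A (Localization.AtPrime q.asIdeal)) :=
      fun q => isLocalHom_of_finite q
    have m0 : algebraMap A (Localization (nonZeroDivisors A)) (a * a') ∈
        [a * a', a, a', b].map (algebraMap A (Localization (nonZeroDivisors A))) := by simp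
    have m1 : algebraMap A (Localization (nonZeroDivisors A)) a ∈
        [a * a', a, a', b].map (algebraMap A (Localization (nonZeroDivisors A))) := by simp
    have m2 : algebraMap A (Localization (nonZeroDivisors A)) a' ∈
        [a * a', a, a', b].map (algebraMap A (Localization (nonZeroDivisors A))) := by simp
    have m3 : algebraMap A (Localization (nonZeroDivisors A)) b ∈
        [a * a', a, a', b].map (algebraMap A (Localization (nonZeroDivisors A))) := by simp
    constructor
    · rw [tameSymbol_eq_finprod (nonZeroDivisors A) hE hmono hA hM (mul_mem ha ha') hb m0 m3,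
        tameSymbol_eq_finprod (nonZeroDivisors A) hE hmono hA hM ha hb m1 m3,
        tameSymbol_eq_finprod (nonZeroDivisors A) hE hmono hA hM ha' hb m2 m3]
      exact finprod_LF_mul_left hmono m0 m1 m2 m3
    · rw [tameSymbol_eq_finprod (nonZeroDivisors A) hE hmono hA hM hb (mul_mem ha ha') m3 m0,
        tameSymbol_eq_finprod (nonZeroDivisors A) hE hmono hA hM hb ha m3 m1,
        tameSymbol_eq_finprod (nonZeroDivisors A) hE hmono hA hM hb ha' m3 m2]
      exact finprod_LF_mul_right hmono m0 m1 m2 m3
  · intro b hb
    obtain ⟨E, hE, hmono⟩ := exists_mono hA [b] (by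
      intro c hc
      simp only [List.mem_cons, List.not_mem_nil, or_false] at hc
      rw [hc]
      exact hb)
    haveI : Module.Finite A E := Module.Finite.of_fg hE
    haveI hloc : ∀ q : MaximalSpectrum E,
        IsLocalHom (algebraMap A (Localization.AtPrime q.asIdeal)) :=
      fun q => isLocalHom_of_finite q
    have m1 : algebraMap A (Localization (nonZeroDivisors A)) b ∈
        [b].map (algebraMap A (Localization (nonZeroDivisors A))) := by simp
    rw [tameSymbol_eq_finprod (nonZeroDivisors A) hE hmono hA hM hb hb m1 m1]
    exact finprod_LF_self (nonZeroDivisors A) hE hmono hA hM hb m1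
  · intro c b hb
    obtain ⟨E, hE, hmono⟩ := exists_mono hA [(c : A), b] (by
      intro d hd
      simp only [List.mem_cons, List.not_mem_nil, or_false] at hd
      rcases hd with rfl | rfl
      · exact c.isUnit.mem_nonZeroDivisors
      · exact hb)
    haveI : Module.Finite A E := Module.Finite.of_fg hE
    haveI hloc : ∀ q : MaximalSpectrum E,
        IsLocalHom (algebraMap A (Localization.AtPrime q.asIdeal)) :=
      fun q => isLocalHom_of_finite q
    have m1 : algebraMap A (Localization (nonZeroDivisors A)) (c : A) ∈
        [(c : A), b].map (algebraMap A (Localization (nonZeroDivisors A))) := by simp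
    have m2 : algebraMap A (Localization (nonZeroDivisors A)) b ∈
        [(c : A), b].map (algebraMap A (Localization (nonZeroDivisors A))) := by simp
    rw [tameSymbol_eq_finprod (nonZeroDivisors A) hE hmono hA hM c.isUnit.mem_nonZeroDivisors hb
      m1 m2]
    exact finprod_LF_unit (nonZeroDivisors A) hE hmono hA hM c hb m1 m2
  · intro a b ha hb hba
    obtain ⟨E, hE, hmono⟩ := exists_mono hA [a, b, b - a] (by
      intro c hc
      simp only [List.mem_cons, List.not_mem_nil, or_false] at hc
      rcases hc with rfl | rfl | rfl <;> assumption)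
    haveI : Module.Finite A E := Module.Finite.of_fg hE
    haveI hloc : ∀ q : MaximalSpectrum E,
        IsLocalHom (algebraMap A (Localization.AtPrime q.asIdeal)) :=
      fun q => isLocalHom_of_finite q
    have m1 : algebraMap A (Localization (nonZeroDivisors A)) a ∈
        [a, b, b - a].map (algebraMap A (Localization (nonZeroDivisors A))) := by simp
    have m2 : algebraMap A (Localization (nonZeroDivisors A)) b ∈
        [a, b, b - a].map (algebraMap A (Localization (nonZeroDivisors A))) := by simp
    have m3 : algebraMap A (Localization (nonZeroDivisors A)) (b - a) ∈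
        [a, b, b - a].map (algebraMap A (Localization (nonZeroDivisors A))) := by simp
    rw [tameSymbol_eq_finprod (nonZeroDivisors A) hE hmono hA hM ha hba m1 m3,
      tameSymbol_eq_finprod (nonZeroDivisors A) hE hmono hA hM hb hb m2 m2,
      tameSymbol_eq_finprod (nonZeroDivisors A) hE hmono hA hM hb hba m2 m3,
      tameSymbol_eq_finprod (nonZeroDivisors A) hE hmono hA hM ha hb m1 m2]
    exact finprod_LF_steinberg hmono m1 m2 m3

end Final

end Groth.Agent.H34.TameLaws
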