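import Mathlib
import Groth.Agent.H34.FSRegularHom
import Groth.Agent.H34.RegDesc
import Groth.Agent.H34.ComplQuot
import Groth.Agent.H87.ComplFlat
import Groth.Agent.H87.LocalFS
import Groth.Agent.H87.LiftJ
import Groth.Agent.S9294

/-! Formally smooth local algebras over a local ring with regular completion map are regular
(EGA IV 7.9-type statements via Stacks 07PM; helper34). -/

set_option autoImplicit false
universe u
open TensorProduct IsLocalRing

namespace Groth.Agent.H34.FSCompl

variable (A B : Type u) [CommRing A] [CommRing B] [IsLocalRing A] [IsLocalRing B]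
  [IsNoetherianRing A] [IsNoetherianRing B] [Algebra A B] [IsLocalHom (algebraMap A B)]

/-- If `A → Â` is regular and `B̂` is formally smooth over `A`, then `A → B̂` is regular. -/
theorem isRegularHom_cpl_of_fs (hA : CAlg.IsRegularHom A (EGA4.Cpl A))
    (hfs : CAlgX.IsAdicFormallySmooth A (EGA4.Cpl B) (maximalIdeal (EGA4.Cpl B))) :
    CAlg.IsRegularHom A (EGA4.Cpl B) := by
  classical
  have hle : (maximalIdeal A).map (algebraMap A B) ≤ maximalIdeal B :=
    IsLocalRing.map_maximalIdeal_le (algebraMap A B)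
  have hNA : IsNoetherianRing (EGA4.Cpl A) :=
    Groth.Agent.Lead.isNoetherianRing_adicCompletion (maximalIdeal A)
      (maximalIdeal A).fg_of_isNoetherianRing
  have hNB : IsNoetherianRing (EGA4.Cpl B) :=
    Groth.Agent.Lead.isNoetherianRing_adicCompletion (maximalIdeal B)
      (maximalIdeal B).fg_of_isNoetherianRing
  have hg : ∀ a : A, FSch.complMap (maximalIdeal A) (maximalIdeal B) (algebraMap A B) hle
      (algebraMap A (EGA4.Cpl A) a) = algebraMap B (EGA4.Cpl B) (algebraMap A B a) :=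
    fun a => Groth.Agent.H87.ComplFlat.complMap_algebraMap _ _ _ hle a
  have hcomp : (FSch.complMap (maximalIdeal A) (maximalIdeal B) (algebraMap A B) hle).comp
      (algebraMap A (EGA4.Cpl A)) = (algebraMap B (EGA4.Cpl B)).comp (algebraMap A B) :=
    RingHom.ext hg
  have hloc : IsLocalHom (FSch.complMap (maximalIdeal A) (maximalIdeal B) (algebraMap A B) hle) := by
    apply ((IsLocalRing.local_hom_TFAE _).out 0 2 rfl rfl).mpr
    rw [AdicCompletion.maximalIdeal_eq_map (R := A), Ideal.map_map, hcomp, ← Ideal.map_map,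
      AdicCompletion.maximalIdeal_eq_map (R := B)]
    exact Ideal.map_mono hle
  let alg : Algebra (EGA4.Cpl A) (EGA4.Cpl B) :=
    (FSch.complMap (maximalIdeal A) (maximalIdeal B) (algebraMap A B) hle).toAlgebra
  have towB : IsScalarTower A B (EGA4.Cpl B) := IsScalarTower.of_algebraMap_eq (fun _ => rfl)
  have tow : IsScalarTower A (EGA4.Cpl A) (EGA4.Cpl B) :=
    IsScalarTower.of_algebraMap_eq (fun a => (hg a).symm)
  have hloc' : IsLocalHom (algebraMap (EGA4.Cpl A) (EGA4.Cpl B)) := hloc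
  -- formal smoothness of `B̂` over `Â`
  have h1 : EGA41.IsFormallySmoothAdic A ⊥ (EGA4.Cpl B) (maximalIdeal (EGA4.Cpl B)) :=
    (Groth.Agent.S4537.result _).1 hfs
  have h2 : EGA41.IsFormallySmoothAdic (EGA4.Cpl A) (maximalIdeal (EGA4.Cpl A)) (EGA4.Cpl B)
      (maximalIdeal (EGA4.Cpl B)) := by
    intro C _ algC J hJ hk u hu
    let algAC : Algebra A C := ((algebraMap (EGA4.Cpl A) C).comp (algebraMap A (EGA4.Cpl A))).toAlgebra
    have towC : IsScalarTower A (EGA4.Cpl A) C := IsScalarTower.of_algebraMap_eq (fun _ => rfl)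
    obtain ⟨k, hk⟩ := hk
    have hk' : ((maximalIdeal A) ^ k).map (algebraMap A C) = ⊥ := by
      rw [IsScalarTower.algebraMap_eq A (EGA4.Cpl A) C, ← Ideal.map_map, Ideal.map_pow,
        ← AdicCompletion.maximalIdeal_eq_map (R := A)]
      exact hk
    obtain ⟨v, hv⟩ := h1 C J hJ ⟨1, by rw [pow_one, Ideal.map_bot]⟩ (u.restrictScalars A) hu
    have hker : ∀ φ : EGA4.Cpl A →+* C,
        (∀ a : A, φ (algebraMap A (EGA4.Cpl A) a) = algebraMap A C a) →
        ((maximalIdeal A) ^ k).map (algebraMap A (EGA4.Cpl A)) ≤ RingHom.ker φ := by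
      intro φ hφ
      rw [Ideal.map_le_iff_le_comap]
      intro a ha
      rw [Ideal.mem_comap, RingHom.mem_ker, hφ]
      have : algebraMap A C a ∈ ((maximalIdeal A) ^ k).map (algebraMap A C) :=
        Ideal.mem_map_of_mem _ ha
      rw [hk'] at this
      exact this
    have hφ₁ : ∀ a : A, (v.toRingHom.comp (algebraMap (EGA4.Cpl A) (EGA4.Cpl B)))
        (algebraMap A (EGA4.Cpl A) a) = algebraMap A C a := by
      intro a
      simp only [RingHom.comp_apply]
      rw [← IsScalarTower.algebraMap_apply A (EGA4.Cpl A) (EGA4.Cpl B)]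
      exact v.commutes a
    have hφ₂ : ∀ a : A, (algebraMap (EGA4.Cpl A) C) (algebraMap A (EGA4.Cpl A) a) =
        algebraMap A C a := fun a => rfl
    have key : ∀ x : EGA4.Cpl A, v (algebraMap (EGA4.Cpl A) (EGA4.Cpl B) x) =
        algebraMap (EGA4.Cpl A) C x := by
      intro x
      obtain ⟨a, ha⟩ := Groth.Agent.H87.ComplFlat.exists_sub_mem_map_pow (maximalIdeal A)
        (maximalIdeal A).fg_of_isNoetherianRing k x
      have e1 := hker _ hφ₁ ha
      have e2 := hker _ hφ₂ ha
      rw [RingHom.mem_ker, map_sub, sub_eq_zero] at e1 e2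
      have e1' : v (algebraMap (EGA4.Cpl A) (EGA4.Cpl B) x) =
          (v.toRingHom.comp (algebraMap (EGA4.Cpl A) (EGA4.Cpl B)))
            (algebraMap A (EGA4.Cpl A) a) := e1
      rw [e1', hφ₁, e2, hφ₂]
    refine ⟨{ v.toRingHom with commutes' := key }, ?_⟩
    ext b
    exact AlgHom.congr_fun hv b
  have h3 : CAlgX.IsAdicFormallySmooth (EGA4.Cpl A) (EGA4.Cpl B) (maximalIdeal (EGA4.Cpl B)) :=
    (Groth.Agent.S4537.result _).2 (Groth.Agent.H87.LiftJ.fs_bot_of_fs_max h2)
  have h4 : CAlg.IsRegularHom (EGA4.Cpl A) (EGA4.Cpl B) :=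
    Groth.Agent.H34.FSRegularHom.isRegularHom_of_fs (EGA4.Cpl A) (EGA4.Cpl B) h3
  exact Groth.Agent.S9294.result A (EGA4.Cpl A) (EGA4.Cpl B) hA h4
    (fun p _ => Groth.Agent.H34.FibLoc.isNoetherianRing_fiber A (EGA4.Cpl B) p)

/-- descent to `B`. -/
theorem isRegularHom_of_fs_cpl (hA : CAlg.IsRegularHom A (EGA4.Cpl A))
    (hfs : CAlgX.IsAdicFormallySmooth A (EGA4.Cpl B) (maximalIdeal (EGA4.Cpl B))) :
    CAlg.IsRegularHom A B := by
  have h := isRegularHom_cpl_of_fs A B hA hfs
  have towB : IsScalarTower A B (EGA4.Cpl B) := IsScalarTower.of_algebraMap_eq (fun _ => rfl)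
  have hff := Groth.Agent.H34.ComplQuot.faithfullyFlat_cpl B
  exact Groth.Agent.H34.RegDesc.isRegularHom_of_comp A B (EGA4.Cpl B) h

/-- **S9314 shape**. -/
theorem isRegularHom_of_fs (hA : CAlg.IsRegularHom A (EGA4.Cpl A))
    (h : CAlgX.IsAdicFormallySmooth A B (maximalIdeal B)) : CAlg.IsRegularHom A B := by
  refine isRegularHom_of_fs_cpl A B hA ?_
  exact (Groth.Agent.S4537.result _).2 (Groth.Agent.H87.LocalFS.fs_iff_completion.mp h)

/-- **S4708 shape**. -/
theorem isRegularHom_of_flat_of_closedFibre [Module.Flat A B]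
    (hA : CAlg.IsRegularHom A (EGA4.Cpl A))
    (h : CAlg.IsGeometricallyRegular (maximalIdeal A).ResidueField
      ((maximalIdeal A).Fiber (EGA4.Cpl B))) : CAlg.IsRegularHom A B := by
  have hNB : IsNoetherianRing (EGA4.Cpl B) :=
    Groth.Agent.Lead.isNoetherianRing_adicCompletion (maximalIdeal B)
      (maximalIdeal B).fg_of_isNoetherianRing
  have towB : IsScalarTower A B (EGA4.Cpl B) := IsScalarTower.of_algebraMap_eq (fun _ => rfl)
  have hff := Groth.Agent.H34.ComplQuot.faithfullyFlat_cpl B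
  have hflat : Module.Flat A (EGA4.Cpl B) := Module.Flat.trans A B (EGA4.Cpl B)
  have hloc : IsLocalHom (algebraMap A (EGA4.Cpl B)) := by
    rw [IsScalarTower.algebraMap_eq A B (EGA4.Cpl B)]
    exact RingHom.isLocalHom_comp _ _
  refine isRegularHom_of_fs_cpl A B hA ?_
  exact (Groth.Agent.S2038.result (A := A) (B := EGA4.Cpl B)).mp ⟨hflat, h⟩

end Groth.Agent.H34.FSCompl
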