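import Mathlib
import Groth.Agent.H34.FSCompl
import Groth.Agent.S9259
import Groth.Agent.S4533

/-! `A → A[[T_1..T_r]]` is regular for a G-ring `A` (helper34). -/

set_option autoImplicit false
universe u
open TensorProduct IsLocalRing

namespace Groth.Agent.H34.PSRegular

/-- Adic formal smoothness passes to localizations at primes. -/
theorem fs_localization {A B : Type u} [CommRing A] [CommRing B] [Algebra A B]
    (p : Ideal A) [p.IsPrime] (n : Ideal B) [n.IsPrime] (𝔟 : Ideal B) (h𝔟 : 𝔟 ≤ n)
    (hp : p.map (algebraMap A B) ≤ 𝔟)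
    [Algebra (Localization.AtPrime p) (Localization.AtPrime n)]
    (hcomm : ∀ a : A, algebraMap (Localization.AtPrime p) (Localization.AtPrime n)
      (algebraMap A (Localization.AtPrime p) a) =
        algebraMap B (Localization.AtPrime n) (algebraMap A B a))
    (h : EGA41.IsFormallySmoothAdic A p B 𝔟) :
    CAlgX.IsAdicFormallySmooth (Localization.AtPrime p) (Localization.AtPrime n)
      (maximalIdeal (Localization.AtPrime n)) := by
  intro C _ algC J hJ ψ hψ
  obtain ⟨k, hk⟩ := hψ
  let algAC : Algebra A C :=
    ((algebraMap (Localization.AtPrime p) C).comp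
      (algebraMap A (Localization.AtPrime p))).toAlgebra
  have tow : IsScalarTower A (Localization.AtPrime p) C :=
    IsScalarTower.of_algebraMap_eq (fun _ => rfl)
  let u : B →ₐ[A] C ⧸ J :=
    { (ψ.toRingHom.comp (algebraMap B (Localization.AtPrime n))) with
      commutes' := fun a => by
        show ψ (algebraMap B (Localization.AtPrime n) (algebraMap A B a)) =
          algebraMap A (C ⧸ J) a
        rw [← hcomm, ψ.commutes]
        rfl }
  have hu : ∀ x ∈ 𝔟 ^ k, u x = 0 := fun x hx => by
    show ψ (algebraMap B (Localization.AtPrime n) x) = 0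
    apply hk
    rw [← Localization.AtPrime.map_eq_maximalIdeal (I := n), ← Ideal.map_pow]
    exact Ideal.mem_map_of_mem _ (Ideal.pow_right_mono h𝔟 k hx)
  have hpk : (p ^ k).map (algebraMap A C) ≤ J := by
    rw [Ideal.map_le_iff_le_comap]
    intro a ha
    rw [Ideal.mem_comap, ← Ideal.Quotient.eq_zero_iff_mem]
    have h1 : algebraMap A B a ∈ 𝔟 ^ k := by
      have : algebraMap A B a ∈ (p.map (algebraMap A B)) ^ k := by
        rw [← Ideal.map_pow]; exact Ideal.mem_map_of_mem _ ha
      exact Ideal.pow_right_mono hp k this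
    have h2 := hu _ h1
    rw [u.commutes] at h2
    exact h2
  have hpkk : (p ^ (k + k)).map (algebraMap A C) = ⊥ := by
    rw [eq_bot_iff, pow_add, Ideal.map_mul, ← hJ, pow_two]
    exact Ideal.mul_mono hpk hpk
  obtain ⟨v, hv⟩ := h C J ⟨2, hJ⟩ ⟨k + k, hpkk⟩ u ⟨k, hu⟩
  have hv' : ∀ b : B, Ideal.Quotient.mk J (v b) =
      ψ (algebraMap B (Localization.AtPrime n) b) := fun b => AlgHom.congr_fun hv b
  have hunit : ∀ s : n.primeCompl, IsUnit (v.toRingHom s) := fun s => by
    rw [← IsNilpotent.isUnit_quotient_mk_iff (I := J) ⟨2, hJ⟩]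
    show IsUnit (Ideal.Quotient.mk J (v s))
    rw [hv']
    exact (IsLocalization.map_units (Localization.AtPrime n) s).map ψ
  let χ₀ : Localization.AtPrime n →+* C :=
    IsLocalization.lift (M := n.primeCompl) (g := v.toRingHom) hunit
  have hχ₀ : ∀ b : B, χ₀ (algebraMap B (Localization.AtPrime n) b) = v b :=
    fun b => IsLocalization.lift_eq hunit b
  have hcommχ : ∀ x : Localization.AtPrime p,
      χ₀ (algebraMap (Localization.AtPrime p) (Localization.AtPrime n) x) =
        algebraMap (Localization.AtPrime p) C x := by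
    have : (χ₀.comp (algebraMap (Localization.AtPrime p) (Localization.AtPrime n))) =
        algebraMap (Localization.AtPrime p) C := by
      apply IsLocalization.ringHom_ext p.primeCompl
      ext a
      show χ₀ (algebraMap _ _ (algebraMap A _ a)) = algebraMap _ C (algebraMap A _ a)
      rw [hcomm, hχ₀, v.commutes]
      rfl
    exact fun x => RingHom.congr_fun this x
  refine ⟨{ χ₀ with commutes' := hcommχ }, ?_⟩
  apply AlgHom.coe_ringHom_injective
  apply IsLocalization.ringHom_ext n.primeCompl
  ext b
  show Ideal.Quotient.mk J (χ₀ (algebraMap B _ b)) = ψ (algebraMap B _ b)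
  rw [hχ₀, hv']

/-- every maximal ideal of a power series ring contains the variables. -/
theorem ker_constantCoeff_le_of_isMaximal {A : Type u} [CommRing A] {σ : Type*}
    (n : Ideal (MvPowerSeries σ A)) [hn : n.IsMaximal] :
    RingHom.ker (MvPowerSeries.constantCoeff : MvPowerSeries σ A →+* A) ≤ n := by
  intro x hx
  by_contra hxn
  obtain ⟨y, i, hi, hyi⟩ := hn.exists_inv hxn
  have h1 : (MvPowerSeries.constantCoeff : MvPowerSeries σ A →+* A) i = 1 := by
    have := congrArg (MvPowerSeries.constantCoeff : MvPowerSeries σ A →+* A) hyi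
    rw [map_add, map_mul, (RingHom.mem_ker).mp hx, mul_zero, zero_add, map_one] at this
    exact this
  have h2 : IsUnit i := MvPowerSeries.isUnit_iff_constantCoeff.mpr (h1 ▸ isUnit_one)
  exact hn.ne_top (Ideal.eq_top_of_isUnit_mem n hi h2)

theorem main (A : Type u) [CommRing A] (hA : CAlg.IsGRing A) (r : ℕ) :
    CAlg.IsRegularHom A (MvPowerSeries (Fin r) A) := by
  have hN := hA.1
  refine (Groth.Agent.S9259.result A (MvPowerSeries (Fin r) A)).2.mpr ?_
  intro n hn
  let alg : Algebra (Localization.AtPrime (Ideal.comap (algebraMap A (MvPowerSeries (Fin r) A)) n))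
      (Localization.AtPrime n) :=
    (Localization.localRingHom (Ideal.comap (algebraMap A (MvPowerSeries (Fin r) A)) n) n
      (algebraMap A (MvPowerSeries (Fin r) A)) rfl).toAlgebra
  have hloc : IsLocalHom (algebraMap
      (Localization.AtPrime (Ideal.comap (algebraMap A (MvPowerSeries (Fin r) A)) n))
      (Localization.AtPrime n)) := Localization.isLocalHom_localRingHom _ _ _ _
  have hfs := fs_localization (Ideal.comap (algebraMap A (MvPowerSeries (Fin r) A)) n) n
    ((Ideal.comap (algebraMap A (MvPowerSeries (Fin r) A)) n).map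
        (MvPowerSeries.C : A →+* MvPowerSeries (Fin r) A) ⊔
      RingHom.ker (MvPowerSeries.constantCoeff : MvPowerSeries (Fin r) A →+* A))
    (sup_le (by
      rw [MvPowerSeries.c_eq_algebraMap]
      exact Ideal.map_comap_le) (ker_constantCoeff_le_of_isMaximal n))
    (by
      rw [MvPowerSeries.c_eq_algebraMap]
      exact le_sup_left)
    (fun a => Localization.localRingHom_to_map _ _ _ rfl a)
    (Groth.Agent.S4533.result A (Ideal.comap (algebraMap A (MvPowerSeries (Fin r) A)) n) r)
  exact Groth.Agent.H34.FSCompl.isRegularHom_of_fs _ _ (hA.2 _) hfs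

end Groth.Agent.H34.PSRegular
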