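import Mathlib
import Groth.Agent.H34.FSCompl
import Groth.Agent.H34.PSRegular
import Groth.Agent.H34.AdicFib
import Groth.Agent.H63.SmoothNormal
import Groth.Agent.S4696
import Groth.Agent.S19858

/-! Normal analogues: over a local ring with geometrically normal formal fibres, formally smooth
local algebras are normal homomorphisms; `A → A[[T]]` is normal (helper34). -/

set_option autoImplicit false
universe u
open TensorProduct IsLocalRing

namespace Groth.Agent.H34.FSComplNormal

open Groth.Agent.H34.GenFib Groth.Agent.H34.AdicFib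

theorem isNormalHom_of_isRegularHom {X Y : Type u} [CommRing X] [CommRing Y] [Algebra X Y]
    (h : CAlg.IsRegularHom X Y) : EGA4.IsNormalHom X Y :=
  ⟨h.1, fun p _ k' _ _ hfin => by
    have := (h.2 p).2 k' hfin
    exact Groth.Agent.H63.SmoothRegular.isNormalRing_of_isRegularRing _⟩

section
variable (A B : Type u) [CommRing A] [CommRing B] [IsLocalRing A] [IsLocalRing B]
  [IsNoetherianRing A] [IsNoetherianRing B] [Algebra A B] [IsLocalHom (algebraMap A B)]

/-- If `B̂` is formally smooth over `A` then `Â → B̂` is regular (first half of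
`FSCompl.isRegularHom_cpl_of_fs`). -/
theorem exists_cpl_regular_of_fs
    (hfs : CAlgX.IsAdicFormallySmooth A (EGA4.Cpl B) (maximalIdeal (EGA4.Cpl B))) :
    ∃ (_ : Algebra (EGA4.Cpl A) (EGA4.Cpl B)), IsScalarTower A (EGA4.Cpl A) (EGA4.Cpl B) ∧
      CAlg.IsRegularHom (EGA4.Cpl A) (EGA4.Cpl B) := by
  classical
  have hle : (maximalIdeal A).map (algebraMap A B) ≤ maximalIdeal B :=
    IsLocalRing.map_maximalIdeal_le (algebraMap A B)
  have hNA : IsNoetherianRing (EGA4.Cpl A) :=
    Groth.Agent.Lead.isNoetherianRing_adicCompletion (maximalIdeal A)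
      (maximalIdeal A).fg_of_isNoetherianRing
  have hNB : IsNoetherianRing (EGA4.Cpl B) :=
    Groth.Agent.Lead.isNoetherianRing_adicCompletion (maximalIdeal B)
      (maximalIdeal B).fg_of_isNoetherianRing
  have hg : ∀ a : A, FSch.complMap (maximalIdeal A) (maximalIdeal B) (algebraMap A B) hle
      (algebraMap A (EGA4.Cpl A) a) = algebraMap B (EGA4.Cpl B) (algebraMap A B a) :=
    fun a => Groth.Agent.H87.ComplFlat.complMap_algebraMap _ _ _ hle a
  have hcomp : (FSch.complMap (maximalIdeal A) (maximalIdeal B) (algebraMap A B) hle).comp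
      (algebraMap A (EGA4.Cpl A)) = (algebraMap B (EGA4.Cpl B)).comp (algebraMap A B) :=
    RingHom.ext hg
  have hloc : IsLocalHom (FSch.complMap (maximalIdeal A) (maximalIdeal B) (algebraMap A B) hle) := by
    apply ((IsLocalRing.local_hom_TFAE _).out 0 2 rfl rfl).mpr
    rw [AdicCompletion.maximalIdeal_eq_map (R := A), Ideal.map_map, hcomp, ← Ideal.map_map,
      AdicCompletion.maximalIdeal_eq_map (R := B)]
    exact Ideal.map_mono hle
  let alg : Algebra (EGA4.Cpl A) (EGA4.Cpl B) :=
    (FSch.complMap (maximalIdeal A) (maximalIdeal B) (algebraMap A B) hle).toAlgebra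
  have towB : IsScalarTower A B (EGA4.Cpl B) := IsScalarTower.of_algebraMap_eq (fun _ => rfl)
  have tow : IsScalarTower A (EGA4.Cpl A) (EGA4.Cpl B) :=
    IsScalarTower.of_algebraMap_eq (fun a => (hg a).symm)
  have hloc' : IsLocalHom (algebraMap (EGA4.Cpl A) (EGA4.Cpl B)) := hloc
  -- formal smoothness of `B̂` over `Â`
  have h1 : EGA41.IsFormallySmoothAdic A ⊥ (EGA4.Cpl B) (maximalIdeal (EGA4.Cpl B)) :=
    (Groth.Agent.S4537.result _).1 hfs
  have h2 : EGA41.IsFormallySmoothAdic (EGA4.Cpl A) (maximalIdeal (EGA4.Cpl A)) (EGA4.Cpl B)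
      (maximalIdeal (EGA4.Cpl B)) := by
    intro C _ algC J hJ hk u hu
    let algAC : Algebra A C := ((algebraMap (EGA4.Cpl A) C).comp (algebraMap A (EGA4.Cpl A))).toAlgebra
    have towC : IsScalarTower A (EGA4.Cpl A) C := IsScalarTower.of_algebraMap_eq (fun _ => rfl)
    obtain ⟨k, hk⟩ := hk
    have hk' : ((maximalIdeal A) ^ k).map (algebraMap A C) = ⊥ := by
      rw [IsScalarTower.algebraMap_eq A (EGA4.Cpl A) C, ← Ideal.map_map, Ideal.map_pow,
        ← AdicCompletion.maximalIdeal_eq_map (R := A)]
      exact hk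
    obtain ⟨v, hv⟩ := h1 C J hJ ⟨1, by rw [pow_one, Ideal.map_bot]⟩ (u.restrictScalars A) hu
    have hker : ∀ φ : EGA4.Cpl A →+* C,
        (∀ a : A, φ (algebraMap A (EGA4.Cpl A) a) = algebraMap A C a) →
        ((maximalIdeal A) ^ k).map (algebraMap A (EGA4.Cpl A)) ≤ RingHom.ker φ := by
      intro φ hφ
      rw [Ideal.map_le_iff_le_comap]
      intro a ha
      rw [Ideal.mem_comap, RingHom.mem_ker, hφ]
      have : algebraMap A C a ∈ ((maximalIdeal A) ^ k).map (algebraMap A C) :=
        Ideal.mem_map_of_mem _ ha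
      rw [hk'] at this
      exact this
    have hφ₁ : ∀ a : A, (v.toRingHom.comp (algebraMap (EGA4.Cpl A) (EGA4.Cpl B)))
        (algebraMap A (EGA4.Cpl A) a) = algebraMap A C a := by
      intro a
      simp only [RingHom.comp_apply]
      rw [← IsScalarTower.algebraMap_apply A (EGA4.Cpl A) (EGA4.Cpl B)]
      exact v.commutes a
    have hφ₂ : ∀ a : A, (algebraMap (EGA4.Cpl A) C) (algebraMap A (EGA4.Cpl A) a) =
        algebraMap A C a := fun a => rfl
    have key : ∀ x : EGA4.Cpl A, v (algebraMap (EGA4.Cpl A) (EGA4.Cpl B) x) =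
        algebraMap (EGA4.Cpl A) C x := by
      intro x
      obtain ⟨a, ha⟩ := Groth.Agent.H87.ComplFlat.exists_sub_mem_map_pow (maximalIdeal A)
        (maximalIdeal A).fg_of_isNoetherianRing k x
      have e1 := hker _ hφ₁ ha
      have e2 := hker _ hφ₂ ha
      rw [RingHom.mem_ker, map_sub, sub_eq_zero] at e1 e2
      have e1' : v (algebraMap (EGA4.Cpl A) (EGA4.Cpl B) x) =
          (v.toRingHom.comp (algebraMap (EGA4.Cpl A) (EGA4.Cpl B)))
            (algebraMap A (EGA4.Cpl A) a) := e1
      rw [e1', hφ₁, e2, hφ₂]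
    refine ⟨{ v.toRingHom with commutes' := key }, ?_⟩
    ext b
    exact AlgHom.congr_fun hv b
  have h3 : CAlgX.IsAdicFormallySmooth (EGA4.Cpl A) (EGA4.Cpl B) (maximalIdeal (EGA4.Cpl B)) :=
    (Groth.Agent.S4537.result _).2 (Groth.Agent.H87.LiftJ.fs_bot_of_fs_max h2)
  have h4 : CAlg.IsRegularHom (EGA4.Cpl A) (EGA4.Cpl B) :=
    Groth.Agent.H34.FSRegularHom.isRegularHom_of_fs (EGA4.Cpl A) (EGA4.Cpl B) h3
  exact ⟨alg, tow, h4⟩

/-- If `A → Â` is normal and `B̂` is formally smooth over `A`, then `A → B̂` is normal. -/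
theorem isNormalHom_cpl_of_fs (hA : EGA4.IsNormalHom A (EGA4.Cpl A))
    (hfs : CAlgX.IsAdicFormallySmooth A (EGA4.Cpl B) (maximalIdeal (EGA4.Cpl B))) :
    EGA4.IsNormalHom A (EGA4.Cpl B) := by
  obtain ⟨alg, tow, h4⟩ := exists_cpl_regular_of_fs A B hfs
  have hNA : IsNoetherianRing (EGA4.Cpl A) :=
    Groth.Agent.Lead.isNoetherianRing_adicCompletion (maximalIdeal A)
      (maximalIdeal A).fg_of_isNoetherianRing
  have hNB : IsNoetherianRing (EGA4.Cpl B) :=
    Groth.Agent.Lead.isNoetherianRing_adicCompletion (maximalIdeal B)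
      (maximalIdeal B).fg_of_isNoetherianRing
  exact Groth.Agent.S4696.result A (EGA4.Cpl A) (EGA4.Cpl B) hA (isNormalHom_of_isRegularHom h4)

/-- normal analogue of `FSCompl.isRegularHom_of_fs`. -/
theorem isNormalHom_of_fs (hA : EGA4.IsNormalHom A (EGA4.Cpl A))
    (h : CAlgX.IsAdicFormallySmooth A B (maximalIdeal B)) : EGA4.IsNormalHom A B := by
  have hfs : CAlgX.IsAdicFormallySmooth A (EGA4.Cpl B) (maximalIdeal (EGA4.Cpl B)) :=
    (Groth.Agent.S4537.result _).2 (Groth.Agent.H87.LocalFS.fs_iff_completion.mp h)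
  have h1 := isNormalHom_cpl_of_fs A B hA hfs
  have towB : IsScalarTower A B (EGA4.Cpl B) := IsScalarTower.of_algebraMap_eq (fun _ => rfl)
  have hff := Groth.Agent.H34.ComplQuot.faithfullyFlat_cpl B
  have hNB : IsNoetherianRing (EGA4.Cpl B) :=
    Groth.Agent.Lead.isNoetherianRing_adicCompletion (maximalIdeal B)
      (maximalIdeal B).fg_of_isNoetherianRing
  exact Groth.Agent.S19858.result A B (EGA4.Cpl B) h1

end

theorem main (A : Type u) [CommRing A] [IsNoetherianRing A]
    (hA : ∀ (p : Ideal A) [p.IsPrime], EGA4.HasGeomNormalFormalFibres (Localization.AtPrime p))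
    (r : ℕ) : EGA4.IsNormalHom A (MvPowerSeries (Fin r) A) := by
  have key : ∀ (n : Ideal (MvPowerSeries (Fin r) A)) [n.IsMaximal],
      Module.Flat A (Localization.AtPrime n) ∧
        GF (fun R _ => EGA4.IsNormalRing R) (fun k k' _ _ _ => Module.Finite k k') A
          (Localization.AtPrime n) := by
    intro n hn
    let alg : Algebra
        (Localization.AtPrime (Ideal.comap (algebraMap A (MvPowerSeries (Fin r) A)) n))
        (Localization.AtPrime n) :=
      (Localization.localRingHom (Ideal.comap (algebraMap A (MvPowerSeries (Fin r) A)) n) n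
        (algebraMap A (MvPowerSeries (Fin r) A)) rfl).toAlgebra
    have tow : IsScalarTower A
        (Localization.AtPrime (Ideal.comap (algebraMap A (MvPowerSeries (Fin r) A)) n))
        (Localization.AtPrime n) :=
      IsScalarTower.of_algebraMap_eq (fun a => by
        show algebraMap A (Localization.AtPrime n) a =
          Localization.localRingHom (Ideal.comap (algebraMap A (MvPowerSeries (Fin r) A)) n) n
            (algebraMap A (MvPowerSeries (Fin r) A)) rfl (algebraMap A _ a)
        rw [Localization.localRingHom_to_map,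
          IsScalarTower.algebraMap_apply A (MvPowerSeries (Fin r) A) (Localization.AtPrime n)])
    have hloc : IsLocalHom (algebraMap
        (Localization.AtPrime (Ideal.comap (algebraMap A (MvPowerSeries (Fin r) A)) n))
        (Localization.AtPrime n)) := Localization.isLocalHom_localRingHom _ _ _ _
    have hN1 : IsNoetherianRing
        (Localization.AtPrime (Ideal.comap (algebraMap A (MvPowerSeries (Fin r) A)) n)) :=
      IsLocalization.isNoetherianRing
        (Ideal.comap (algebraMap A (MvPowerSeries (Fin r) A)) n).primeCompl _ inferInstance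
    have hN2 : IsNoetherianRing (Localization.AtPrime n) :=
      IsLocalization.isNoetherianRing n.primeCompl _ inferInstance
    have hfs := Groth.Agent.H34.PSRegular.fs_localization
      (Ideal.comap (algebraMap A (MvPowerSeries (Fin r) A)) n) n
      ((Ideal.comap (algebraMap A (MvPowerSeries (Fin r) A)) n).map
          (MvPowerSeries.C : A →+* MvPowerSeries (Fin r) A) ⊔
        RingHom.ker (MvPowerSeries.constantCoeff : MvPowerSeries (Fin r) A →+* A))
      (sup_le (by
        rw [MvPowerSeries.c_eq_algebraMap]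
        exact Ideal.map_comap_le) (Groth.Agent.H34.PSRegular.ker_constantCoeff_le_of_isMaximal n))
      (by
        rw [MvPowerSeries.c_eq_algebraMap]
        exact le_sup_left)
      (fun a => Localization.localRingHom_to_map _ _ _ rfl a)
      (Groth.Agent.S4533.result A (Ideal.comap (algebraMap A (MvPowerSeries (Fin r) A)) n) r)
    have hnm := isNormalHom_of_fs _ _ ⟨inferInstance, hA _⟩ hfs
    have hfl := hnm.1
    refine ⟨Module.Flat.trans A
      (Localization.AtPrime (Ideal.comap (algebraMap A (MvPowerSeries (Fin r) A)) n))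
      (Localization.AtPrime n), ?_⟩
    exact GF.of_localization A (Ideal.comap (algebraMap A (MvPowerSeries (Fin r) A)) n).primeCompl
      (Localization.AtPrime (Ideal.comap (algebraMap A (MvPowerSeries (Fin r) A)) n))
      (Localization.AtPrime n) good_normal hnm.2
  refine ⟨?_, ?_⟩
  · apply Module.flat_of_isLocalized_maximal (MvPowerSeries (Fin r) A) (MvPowerSeries (Fin r) A)
      (fun n _ => Localization.AtPrime n)
      (fun n _ => Algebra.linearMap (MvPowerSeries (Fin r) A) (Localization.AtPrime n))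
    intro n hn
    exact (key n).1
  · exact GF.of_localizations_maximal good_normal.iso (fun _ _ => True)
      (fun _ _ _ _ _ _ => trivial) cov_normal A (MvPowerSeries (Fin r) A)
      (fun _ _ _ _ _ _ => trivial) (fun M _ => (key M).2)

end Groth.Agent.H34.FSComplNormal
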