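import Groth.Agent.H34.OnePlus
import Groth.Agent.H78.SpecConnected
import Groth.Agent.H3.HenselConn
import Groth.Agent.H13.FlatNormal
import Mathlib.RingTheory.LocalProperties.IntegrallyClosed
import Mathlib.RingTheory.Henselian

/-! `Â` is a normal domain iff `A_{1+J}` is a normal domain and `Spec A/J` is connected
(helper34). -/

set_option autoImplicit false
universe u

namespace Groth.Agent.H34.OnePlusDomain

/-- A normal ring (`EGA4.IsNormalRing`) that is a domain is integrally closed. -/
theorem isIntegrallyClosed_of_isNormalRing (R : Type u) [CommRing R] [IsDomain R]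
    (h : EGA4.IsNormalRing R) : IsIntegrallyClosed R :=
  IsIntegrallyClosed.of_localization_maximal (fun p _ _ => (h p).2)

/-- An integrally closed domain is a normal ring. -/
theorem isNormalRing_of_isIntegrallyClosed (R : Type u) [CommRing R] [IsDomain R]
    [IsIntegrallyClosed R] : EGA4.IsNormalRing R := by
  intro p hp
  exact ⟨inferInstance, isIntegrallyClosed_of_isLocalization (Localization.AtPrime p)
    p.primeCompl p.primeCompl_le_nonZeroDivisors⟩

/-- A Noetherian normal ring with connected spectrum is a domain. -/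
theorem isDomain_of_isNormalRing_of_connected (R : Type u) [CommRing R] [IsNoetherianRing R]
    (h : EGA4.IsNormalRing R) [ConnectedSpace (PrimeSpectrum R)] : IsDomain R := by
  have hnt : Nontrivial R :=
    (Groth.Agent.H78.connectedSpace_primeSpectrum_iff R).mp inferInstance |>.1
  -- kernel of localization at a prime
  have L1 : ∀ p ∈ minimalPrimes R, ∀ (Q : Ideal R) [Q.IsPrime], p ≤ Q →
      p = RingHom.ker (algebraMap R (Localization.AtPrime Q)) := by
    intro p hp Q hQ hpQ
    have hd : IsDomain (Localization.AtPrime Q) := (h Q).1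
    have hKprime : (RingHom.ker (algebraMap R (Localization.AtPrime Q))).IsPrime :=
      RingHom.ker_isPrime _
    have hpprime : p.IsPrime := hp.1.1
    have hKp : RingHom.ker (algebraMap R (Localization.AtPrime Q)) ≤ p := by
      intro a ha
      rw [RingHom.mem_ker] at ha
      obtain ⟨s, hs⟩ := (IsLocalization.map_eq_zero_iff Q.primeCompl _ a).mp ha
      have h1 : (s : R) * a ∈ p := by rw [hs]; exact p.zero_mem
      rcases hpprime.mem_or_mem h1 with h2 | h2
      · exact absurd (hpQ h2) s.2
      · exact h2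
    exact le_antisymm (hp.2 ⟨hKprime, bot_le⟩ hKp) hKp
  obtain ⟨p₀, hp₀⟩ := Ideal.nonempty_minimalPrimes (R := R) (I := ⊥) top_ne_bot.symm
  have hp₀prime : p₀.IsPrime := hp₀.1.1
  have hfin : (minimalPrimes R).Finite := minimalPrimes.finite_of_isNoetherianRing R
  have hcompl : (PrimeSpectrum.zeroLocus (p₀ : Set R))ᶜ =
      ⋃ p ∈ (minimalPrimes R) \ {p₀}, PrimeSpectrum.zeroLocus (p : Set R) := by
    ext Q
    simp only [Set.mem_compl_iff, PrimeSpectrum.mem_zeroLocus, SetLike.coe_subset_coe,
      Set.mem_iUnion, exists_prop, Set.mem_sdiff, Set.mem_singleton_iff]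
    constructor
    · intro hQ
      obtain ⟨p, hp, hpQ⟩ := Ideal.exists_minimalPrimes_le (I := ⊥) (J := Q.asIdeal) bot_le
      refine ⟨p, ⟨hp, ?_⟩, hpQ⟩
      rintro rfl
      exact hQ hpQ
    · rintro ⟨p, ⟨hp, hne⟩, hpQ⟩ hp₀Q
      apply hne
      have := Q.isPrime
      rw [L1 p hp Q.asIdeal hpQ, L1 p₀ hp₀ Q.asIdeal hp₀Q]
  have hclopen : IsClopen (PrimeSpectrum.zeroLocus (p₀ : Set R)) := by
    refine ⟨PrimeSpectrum.isClosed_zeroLocus _, ?_⟩
    rw [← isClosed_compl_iff, hcompl]
    exact Set.Finite.isClosed_biUnion (hfin.subset Set.sdiff_subset)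
      (fun p _ => PrimeSpectrum.isClosed_zeroLocus _)
  have hne : (PrimeSpectrum.zeroLocus (p₀ : Set R)).Nonempty :=
    ⟨⟨p₀, hp₀prime⟩, by simp [PrimeSpectrum.mem_zeroLocus]⟩
  have huniv : PrimeSpectrum.zeroLocus (p₀ : Set R) = Set.univ := hclopen.eq_univ hne
  have hall : ∀ (Q : Ideal R) [Q.IsPrime], p₀ ≤ Q := by
    intro Q hQ
    have : (⟨Q, hQ⟩ : PrimeSpectrum R) ∈ PrimeSpectrum.zeroLocus (p₀ : Set R) := by
      rw [huniv]; exact Set.mem_univ _
    exact this
  have hbot : p₀ = ⊥ := by
    rw [eq_bot_iff]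
    intro a ha
    rw [Ideal.mem_bot]
    by_contra ha0
    have hann : (Ideal.span {a}).annihilator ≠ ⊤ := by
      intro htop
      have h1 : (1 : R) ∈ (Ideal.span {a}).annihilator := by rw [htop]; exact Submodule.mem_top
      rw [Submodule.mem_annihilator_span_singleton] at h1
      exact ha0 (by simpa using h1)
    obtain ⟨Q, hQ, hle⟩ := Ideal.exists_le_maximal _ hann
    have hQprime : Q.IsPrime := hQ.isPrime
    have h2 : a ∈ RingHom.ker (algebraMap R (Localization.AtPrime Q)) := by
      rw [← L1 p₀ hp₀ Q (hall Q)]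
      exact ha
    rw [RingHom.mem_ker] at h2
    obtain ⟨s, hs⟩ := (IsLocalization.map_eq_zero_iff Q.primeCompl _ a).mp h2
    have h3 : (s : R) ∈ (Ideal.span {a}).annihilator := by
      rw [Submodule.mem_annihilator_span_singleton]
      exact hs
    exact s.2 (hle h3)
  have : (⊥ : Ideal R).IsPrime := hbot ▸ hp₀prime
  exact IsDomain.of_bot_isPrime R

variable (A : Type u) [CommRing A] [IsNoetherianRing A] (J : Ideal A)

theorem eq_zero_of_idempotent_of_mem_jacobson {R : Type*} [CommRing R] {x : R}
    (hx : IsIdempotentElem x) (hj : x ∈ (⊥ : Ideal R).jacobson) : x = 0 := by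
  have h1 := Ideal.mem_jacobson_bot.mp hj (-1)
  have h2 : x * (x * -1 + 1) = 0 := by
    have : x * x = x := hx
    ring_nf
    rw [sq, this]
    ring
  exact (h1.mul_left_eq_zero).mp h2

theorem map_le_jacobson :
    J.map (algebraMap A (AdicCompletion J A)) ≤ (⊥ : Ideal (AdicCompletion J A)).jacobson := by
  have hc : IsAdicComplete (J.map (algebraMap A (AdicCompletion J A))) (AdicCompletion J A) :=
    AdicCompletion.isAdicComplete_self J J.fg_of_isNoetherianRing
  exact IsAdicComplete.le_jacobson_bot _

theorem mem_map_iff (x : AdicCompletion J A) :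
    x ∈ J.map (algebraMap A (AdicCompletion J A)) ↔ AdicCompletion.evalOneₐ J x = 0 := by
  rw [← AdicCompletion.ker_evalOneₐ_eq_map J J.fg_of_isNoetherianRing, RingHom.mem_ker]
  rfl

theorem idempotent_trivial (hconn : ConnectedSpace (PrimeSpectrum (A ⧸ J)))
    (e : AdicCompletion J A) (he : IsIdempotentElem e) : e = 0 ∨ e = 1 := by
  have h1 : IsIdempotentElem (AdicCompletion.evalOneₐ J e) := he.map (AdicCompletion.evalOneₐ J)
  rcases ((Groth.Agent.H78.connectedSpace_primeSpectrum_iff (A ⧸ J)).mp hconn).2 _ h1 with h2 | h2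
  · left
    exact eq_zero_of_idempotent_of_mem_jacobson he
      (map_le_jacobson A J ((mem_map_iff A J e).mpr h2))
  · right
    have h3 : AdicCompletion.evalOneₐ J (1 - e) = 0 := by rw [map_sub, map_one, h2, sub_self]
    have h4 := eq_zero_of_idempotent_of_mem_jacobson he.one_sub
      (map_le_jacobson A J ((mem_map_iff A J (1 - e)).mpr h3))
    exact (sub_eq_zero.mp h4).symm

theorem connected_of_isDomain (hJ : J ≠ ⊤) [IsDomain (AdicCompletion J A)] :
    ConnectedSpace (PrimeSpectrum (A ⧸ J)) := by
  have hnt : Nontrivial (A ⧸ J) := Ideal.Quotient.nontrivial_iff.mpr hJ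
  rw [Groth.Agent.H78.connectedSpace_primeSpectrum_iff]
  refine ⟨hnt, fun ebar hebar => ?_⟩
  obtain ⟨a, rfl⟩ := Ideal.Quotient.mk_surjective ebar
  have ha : a ^ 2 - a ∈ J := by
    rw [← Ideal.Quotient.eq_zero_iff_mem, map_sub, map_pow, sq, hebar.eq, sub_self]
  have hc : IsAdicComplete (J.map (algebraMap A (AdicCompletion J A))) (AdicCompletion J A) :=
    AdicCompletion.isAdicComplete_self J J.fg_of_isNoetherianRing
  have hb : (algebraMap A (AdicCompletion J A) a) ^ 2 - algebraMap A (AdicCompletion J A) a ∈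
      J.map (algebraMap A (AdicCompletion J A)) := by
    rw [← map_pow, ← map_sub]
    exact Ideal.mem_map_of_mem _ ha
  obtain ⟨e, he, heb⟩ := Groth.Agent.H3.exists_isIdempotentElem_of_henselianRing
    (J.map (algebraMap A (AdicCompletion J A))) (algebraMap A (AdicCompletion J A) a) hb
  have hev : AdicCompletion.evalOneₐ J (algebraMap A (AdicCompletion J A) a) =
      Ideal.Quotient.mk J a := rfl
  rw [mem_map_iff, map_sub, hev] at heb
  rcases (IsIdempotentElem.iff_eq_zero_or_one).mp he with h0 | h1
  · left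
    rw [h0, map_zero, zero_sub, neg_eq_zero] at heb
    exact heb
  · right
    rw [h1, map_one, sub_eq_zero] at heb
    exact heb.symm

theorem main (hJ : J ≠ ⊤) (hf : EGA4.IsNormalHom A (AdicCompletion J A))
    (T : Submonoid A) (hT : T = MonoidHom.mker (Ideal.Quotient.mk J)) :
    (IsDomain (AdicCompletion J A) ∧ IsIntegrallyClosed (AdicCompletion J A)) ↔
      ((IsDomain (Localization T) ∧ IsIntegrallyClosed (Localization T)) ∧
        ConnectedSpace (PrimeSpectrum (A ⧸ J))) := by
  have hunits : ∀ t : T, IsUnit (algebraMap A (AdicCompletion J A) t) :=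
    fun t => Groth.Agent.H34.OnePlus.isUnit_algebraMap A J T hT t.2
  let alg : Algebra (Localization T) (AdicCompletion J A) :=
    (IsLocalization.lift (M := T) hunits).toAlgebra
  have : IsScalarTower A (Localization T) (AdicCompletion J A) :=
    IsScalarTower.of_algebraMap_eq (fun a => (IsLocalization.lift_eq hunits a).symm)
  have hff := Groth.Agent.H34.OnePlus.faithfullyFlat A J T hT (Localization T)
  have hN := Groth.Agent.H34.OnePlus.isNoetherianRing_adic A J
  constructor
  · rintro ⟨hd, hic⟩
    exact ⟨Groth.Agent.H13.isDomain_isIntegrallyClosed_of_faithfullyFlat (Localization T)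
      (AdicCompletion J A), connected_of_isDomain A J hJ⟩
  · rintro ⟨⟨hd, hic⟩, hconn⟩
    have h1 : EGA4.IsNormalRing (Localization T) := isNormalRing_of_isIntegrallyClosed _
    have h2 : EGA4.IsNormalRing (AdicCompletion J A) :=
      (Groth.Agent.H34.OnePlus.normal_iff A J T hT (Localization T) hf).mp h1
    have hnt : Nontrivial (A ⧸ J) := Ideal.Quotient.nontrivial_iff.mpr hJ
    have hnt' : Nontrivial (AdicCompletion J A) :=
      (AdicCompletion.evalOneₐ_surjective J).nontrivial
    have h3 : ConnectedSpace (PrimeSpectrum (AdicCompletion J A)) :=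
      (Groth.Agent.H78.connectedSpace_primeSpectrum_iff _).mpr
        ⟨hnt', idempotent_trivial A J hconn⟩
    have h4 : IsDomain (AdicCompletion J A) := isDomain_of_isNormalRing_of_connected _ h2
    exact ⟨h4, isIntegrallyClosed_of_isNormalRing _ h2⟩

end Groth.Agent.H34.OnePlusDomain
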