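import Groth.Agent.H34.CplMax
import Groth.Agent.H34.OnePlusDomain

/-! For a Noetherian ring `A`, an ideal `I`, `B = AdicCompletion I A` and a maximal ideal `M` of
`B` with contraction `m`: `m` is maximal and `(A_m)^ ≅ (B_M)^` as `A`-algebras (helper34). -/

set_option autoImplicit false
universe u
open IsLocalRing

namespace Groth.Agent.H34.CplAdicMax

variable (A : Type u) [CommRing A] [IsNoetherianRing A] (I : Ideal A)

/-- density of `A` in its `I`-adic completion. -/
theorem density (k : ℕ) (c : AdicCompletion I A) :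
    ∃ a : A, c - algebraMap A (AdicCompletion I A) a ∈
      (I ^ k).map (algebraMap A (AdicCompletion I A)) := by
  obtain ⟨a, ha⟩ := Submodule.mkQ_surjective _ (c.val k)
  refine ⟨a, ?_⟩
  have h1 : c - algebraMap A (AdicCompletion I A) a ∈
      (I ^ k • ⊤ : Submodule A (AdicCompletion I A)) := by
    rw [AdicCompletion.pow_smul_top_eq_ker_eval I.fg_of_isNoetherianRing,
      LinearMap.mem_ker, map_sub, sub_eq_zero]
    rw [AdicCompletion.algebraMap_apply]
    simp only [AdicCompletion.eval_apply, AdicCompletion.of_apply, Algebra.algebraMap_self,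
      RingHom.id_apply]
    exact ha.symm
  have h2 := (Ideal.smul_top_eq_map (R := A) (S := AdicCompletion I A) (I ^ k))
  rw [h2] at h1
  exact h1

variable (M : Ideal (AdicCompletion I A)) [M.IsMaximal]

theorem map_le : I.map (algebraMap A (AdicCompletion I A)) ≤ M :=
  (Groth.Agent.H34.OnePlusDomain.map_le_jacobson A I).trans
    (sInf_le ⟨bot_le, inferInstance⟩)

theorem I_le : I ≤ M.comap (algebraMap A (AdicCompletion I A)) :=
  fun _ ha => map_le A I M (Ideal.mem_map_of_mem _ ha)

theorem comap_isMaximal : (M.comap (algebraMap A (AdicCompletion I A))).IsMaximal := by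
  let f : A →+* (AdicCompletion I A ⧸ M) :=
    (Ideal.Quotient.mk M).comp (algebraMap A (AdicCompletion I A))
  have hf : Function.Surjective f := by
    intro y
    obtain ⟨x, rfl⟩ := Ideal.Quotient.mk_surjective y
    obtain ⟨a, ha⟩ := density A I 1 x
    refine ⟨a, ?_⟩
    show Ideal.Quotient.mk M (algebraMap A _ a) = Ideal.Quotient.mk M x
    rw [eq_comm, Ideal.Quotient.eq]
    rw [pow_one] at ha
    exact map_le A I M ha
  have h1 : (⊥ : Ideal (AdicCompletion I A ⧸ M)).IsMaximal :=
    (Ideal.bot_quotient_isMaximal_iff M).mpr inferInstance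
  have h2 : ((⊥ : Ideal (AdicCompletion I A ⧸ M)).comap f).IsMaximal :=
    Ideal.comap_isMaximal_of_surjective f hf
  have h3 : (⊥ : Ideal (AdicCompletion I A ⧸ M)).comap f =
      M.comap (algebraMap A (AdicCompletion I A)) := by
    rw [← Ideal.comap_comap, ← RingHom.ker_eq_comap_bot, Ideal.mk_ker]
  rwa [h3] at h2

/-- the auxiliary map `B → A / m^k`. -/
noncomputable def ρ (k : ℕ) :
    AdicCompletion I A →ₐ[A] A ⧸ (M.comap (algebraMap A (AdicCompletion I A))) ^ k :=
  (Ideal.Quotient.factorₐ A (Ideal.pow_right_mono (I_le A I M) k)).comp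
    (AdicCompletion.evalₐ I k)

theorem ρ_comp (k : ℕ) : (ρ A I M k).toRingHom.comp (algebraMap A (AdicCompletion I A)) =
    Ideal.Quotient.mk ((M.comap (algebraMap A (AdicCompletion I A))) ^ k) := by
  ext a
  exact (ρ A I M k).commutes a

theorem map_ρ_le (k : ℕ) : M.map (ρ A I M k).toRingHom ≤
    (M.comap (algebraMap A (AdicCompletion I A))).map
      (Ideal.Quotient.mk ((M.comap (algebraMap A (AdicCompletion I A))) ^ k)) := by
  rw [Ideal.map_le_iff_le_comap]
  intro x hx
  obtain ⟨a, ha⟩ := density A I 1 x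
  rw [pow_one] at ha
  have ham : a ∈ M.comap (algebraMap A (AdicCompletion I A)) := by
    rw [Ideal.mem_comap]
    have : algebraMap A (AdicCompletion I A) a =
        x - (x - algebraMap A (AdicCompletion I A) a) := by ring
    rw [this]
    exact Ideal.sub_mem _ hx (map_le A I M ha)
  rw [Ideal.mem_comap]
  have hx' : x = (x - algebraMap A (AdicCompletion I A) a) +
      algebraMap A (AdicCompletion I A) a := by ring
  rw [hx', map_add]
  refine Ideal.add_mem _ ?_ ?_
  · have h1 : (I.map (algebraMap A (AdicCompletion I A))).map (ρ A I M k).toRingHom ≤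
        (M.comap (algebraMap A (AdicCompletion I A))).map
          (Ideal.Quotient.mk ((M.comap (algebraMap A (AdicCompletion I A))) ^ k)) := by
      rw [Ideal.map_map, ρ_comp]
      exact Ideal.map_mono (I_le A I M)
    exact h1 (Ideal.mem_map_of_mem _ ha)
  · have h2 : (ρ A I M k).toRingHom (algebraMap A (AdicCompletion I A) a) =
        Ideal.Quotient.mk _ a := (ρ A I M k).commutes a
    rw [h2]
    exact Ideal.mem_map_of_mem _ ham

theorem hinj (k : ℕ) (a : A)
    (ha : Algebra.ofId A (AdicCompletion I A) a ∈ M ^ k) :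
    a ∈ (M.comap (algebraMap A (AdicCompletion I A))) ^ k := by
  change algebraMap A (AdicCompletion I A) a ∈ M ^ k at ha
  have h1 : (M ^ k).map (ρ A I M k).toRingHom ≤ ⊥ := by
    rw [Ideal.map_pow]
    refine (Ideal.pow_right_mono (map_ρ_le A I M k) k).trans ?_
    rw [← Ideal.map_pow, Ideal.map_quotient_self]
  have h2 := h1 (Ideal.mem_map_of_mem _ ha)
  rw [Ideal.mem_bot] at h2
  have h3 : Ideal.Quotient.mk ((M.comap (algebraMap A (AdicCompletion I A))) ^ k) a = 0 := by
    rw [← h2]
    exact ((ρ A I M k).commutes a).symm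
  exact Ideal.Quotient.eq_zero_iff_mem.mp h3

theorem hsurj (k : ℕ) (x : AdicCompletion I A) : ∃ a : A,
    x - Algebra.ofId A (AdicCompletion I A) a ∈ M ^ k := by
  obtain ⟨a, ha⟩ := density A I k x
  refine ⟨a, ?_⟩
  rw [Ideal.map_pow] at ha
  exact Ideal.pow_right_mono (map_le A I M) k ha

/-- `A^_m ≅ B^_M`. -/
noncomputable def equivAdic :
    AdicCompletion (M.comap (algebraMap A (AdicCompletion I A))) A ≃ₐ[A]
      AdicCompletion M (AdicCompletion I A) :=
  AlgEquiv.ofBijective _
    (Groth.Agent.H87.ComplIso.hatMap_bijective (R := A) (P := A) (S := AdicCompletion I A)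
      (M.comap (algebraMap A (AdicCompletion I A))) M (Algebra.ofId A (AdicCompletion I A))
      le_rfl (hsurj A I M) (hinj A I M))

/-- `(A_m)^ ≅ (B_M)^` compatibly with the maps from `A`. -/
theorem exists_ringEquiv :
    have := comap_isMaximal A I M
    ∃ e : EGA4.Cpl (Localization.AtPrime (M.comap (algebraMap A (AdicCompletion I A)))) ≃+*
        EGA4.Cpl (Localization.AtPrime M),
      ∀ a : A, e (algebraMap A _ a) = algebraMap A _ a := by
  intro hmax
  let e1 := Groth.Agent.H34.CplMax.equiv A (M.comap (algebraMap A (AdicCompletion I A)))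
  let e2 := equivAdic A I M
  let e3 := Groth.Agent.H34.CplMax.equiv (AdicCompletion I A) M
  refine ⟨e1.symm.toRingEquiv.trans (e2.toRingEquiv.trans e3.toRingEquiv), ?_⟩
  intro a
  show e3 (e2 (e1.symm (algebraMap A _ a))) = _
  rw [e1.symm.commutes, e2.commutes]
  rw [IsScalarTower.algebraMap_apply A (AdicCompletion I A)
    (AdicCompletion M (AdicCompletion I A)), e3.commutes]
  rw [← IsScalarTower.algebraMap_apply A (AdicCompletion I A)]

end Groth.Agent.H34.CplAdicMax
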