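import Groth.Agent.H34.RegDesc
import Groth.Agent.H34.CplAdicMax
import Mathlib.RingTheory.Localization.BaseChange

/-! Generic "geometric fibre" properties of ring maps and their permanence: localization of the
source, isomorphism of the target, faithfully flat descent, locality on the target; application to
`A → AdicCompletion I A` (helper34). -/

set_option autoImplicit false
universe u
open TensorProduct

namespace Groth.Agent.H34.GenFib

section defs
variable (P : ∀ (R : Type u) [CommRing R], Prop)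
  (𝓚 : ∀ (k k' : Type u) [Field k] [Field k'] [Algebra k k'], Prop)

/-- all geometric fibres of `A → X` (for field extensions in the class `𝓚`) have `P`. -/
def GF (A X : Type u) [CommRing A] [CommRing X] [Algebra A X] : Prop :=
  ∀ (p : Ideal A) [p.IsPrime] (k' : Type u) [Field k'] [Algebra p.ResidueField k'],
    𝓚 p.ResidueField k' → P (k' ⊗[p.ResidueField] p.Fiber X)

structure Good : Prop where
  iso : ∀ (R R' : Type u) [CommRing R] [CommRing R'], (R ≃+* R') → P R → P R'
  triv : ∀ (R : Type u) [CommRing R] [Subsingleton R], P R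
  transport : ∀ (k₁ k₂ k' : Type u) [Field k₁] [Field k₂] [Field k'] [Algebra k₁ k']
    [Algebra k₂ k'] (σ : k₁ →+* k₂), Function.Bijective σ →
    (algebraMap k₂ k').comp σ = algebraMap k₁ k' → 𝓚 k₁ k' → 𝓚 k₂ k'
  desc : ∀ (R S : Type u) [CommRing R] [CommRing S] [Algebra R S] [Module.FaithfullyFlat R S],
    P S → P R

/-- covering descent for `P` (under the side condition `N`). -/
def CovDesc (N : ∀ (R : Type u) [CommRing R], Prop) : Prop :=
  ∀ (R : Type u) [CommRing R], N R →
    (∀ (Q : Ideal R) [Q.IsPrime], ∃ (S : Type u) (_ : CommRing S) (_ : Algebra R S),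
      Module.Flat R S ∧ P S ∧ ∃ q : Ideal S, q.IsPrime ∧ q.comap (algebraMap R S) = Q) → P R

end defs

section lemmas
variable {P : ∀ (R : Type u) [CommRing R], Prop}
  {𝓚 : ∀ (k k' : Type u) [Field k] [Field k'] [Algebra k k'], Prop}

/-- invariance under isomorphism of the target. -/
theorem GF.of_algEquiv (hiso : ∀ (R R' : Type u) [CommRing R] [CommRing R'], (R ≃+* R') → P R → P R')
    {A C C' : Type u} [CommRing A] [CommRing C] [CommRing C'] [Algebra A C] [Algebra A C']
    (e : C ≃ₐ[A] C') (h : GF P 𝓚 A C) : GF P 𝓚 A C' := by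
  intro p hp k' _ _ hk
  let e1 : p.ResidueField ⊗[A] C ≃ₐ[p.ResidueField] p.ResidueField ⊗[A] C' :=
    Algebra.TensorProduct.congr AlgEquiv.refl e
  let e2 : k' ⊗[p.ResidueField] (p.ResidueField ⊗[A] C) ≃ₐ[k']
      k' ⊗[p.ResidueField] (p.ResidueField ⊗[A] C') :=
    Algebra.TensorProduct.congr AlgEquiv.refl e1
  exact hiso _ _ e2.toRingEquiv (h p k' hk)

/-- faithfully flat descent. -/
theorem GF.of_faithfullyFlat (hg : Good P 𝓚) (A B C : Type u) [CommRing A] [CommRing B]
    [CommRing C] [Algebra A B] [Algebra B C] [Algebra A C] [IsScalarTower A B C]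
    [Module.FaithfullyFlat B C] (h : GF P 𝓚 A C) : GF P 𝓚 A B := by
  intro p hp k' _ _ hk
  have hC := h p k' hk
  let _ : Algebra A k' :=
    ((algebraMap p.ResidueField k').comp (algebraMap A p.ResidueField)).toAlgebra
  have : IsScalarTower A p.ResidueField k' := IsScalarTower.of_algebraMap_eq (fun _ => rfl)
  let eC : k' ⊗[p.ResidueField] (p.ResidueField ⊗[A] C) ≃ₐ[p.ResidueField] k' ⊗[A] C :=
    Algebra.TensorProduct.cancelBaseChange A p.ResidueField p.ResidueField k' C
  let eB : k' ⊗[p.ResidueField] (p.ResidueField ⊗[A] B) ≃ₐ[p.ResidueField] k' ⊗[A] B :=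
    Algebra.TensorProduct.cancelBaseChange A p.ResidueField p.ResidueField k' B
  have hC' : P (k' ⊗[A] C) := hg.iso _ _ eC.toRingEquiv hC
  have hff := Groth.Agent.H34.RegDesc.faithfullyFlat_map A B C k'
  let _ : Algebra (k' ⊗[A] B) (k' ⊗[A] C) :=
    (Algebra.TensorProduct.map (AlgHom.id k' k')
      (IsScalarTower.toAlgHom A B C)).toRingHom.toAlgebra
  have : Module.FaithfullyFlat (k' ⊗[A] B) (k' ⊗[A] C) := hff
  have hB' : P (k' ⊗[A] B) := hg.desc _ (k' ⊗[A] C) hC'
  exact hg.iso _ _ eB.symm.toRingEquiv hB'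

section loc
variable (A : Type u) [CommRing A] (S : Submonoid A) (A' : Type u) [CommRing A'] [Algebra A A']
  [IsLocalization S A'] (X : Type u) [CommRing X] [Algebra A' X] [Algebra A X]
  [IsScalarTower A A' X]

include S in
theorem core (hg : Good P 𝓚) (h : GF P 𝓚 A' X) (p' : Ideal A') [p'.IsPrime] (k' : Type u)
    [Field k'] [Algebra (p'.comap (algebraMap A A')).ResidueField k']
    (hk : 𝓚 (p'.comap (algebraMap A A')).ResidueField k') :
    P (k' ⊗[(p'.comap (algebraMap A A')).ResidueField]
      (p'.comap (algebraMap A A')).Fiber X) := by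
  let σ : (p'.comap (algebraMap A A')).ResidueField →+* p'.ResidueField :=
    Ideal.ResidueField.map (p'.comap (algebraMap A A')) p' (algebraMap A A') rfl
  have hσ : Function.Bijective σ :=
    (RingHom.surjectiveOnStalks_of_isLocalization S A').residueFieldMap_bijective
      (p'.comap (algebraMap A A')) p' rfl
  let σe : (p'.comap (algebraMap A A')).ResidueField ≃+* p'.ResidueField :=
    RingEquiv.ofBijective σ hσ
  let alg' : Algebra p'.ResidueField k' :=
    ((algebraMap (p'.comap (algebraMap A A')).ResidueField k').comp σe.symm.toRingHom).toAlgebra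
  have hcomp : (algebraMap p'.ResidueField k').comp σ =
      algebraMap (p'.comap (algebraMap A A')).ResidueField k' := by
    refine RingHom.ext fun x => ?_
    show algebraMap (p'.comap (algebraMap A A')).ResidueField k' (σe.symm (σ x)) = _
    congr 1
    exact σe.symm_apply_apply x
  have hk' : 𝓚 p'.ResidueField k' := hg.transport _ _ _ σ hσ hcomp hk
  have hP := h p' k' hk'
  let _ : Algebra A' k' :=
    ((algebraMap p'.ResidueField k').comp (algebraMap A' p'.ResidueField)).toAlgebra
  have : IsScalarTower A' p'.ResidueField k' := IsScalarTower.of_algebraMap_eq (fun _ => rfl)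
  let _ : Algebra A k' :=
    ((algebraMap (p'.comap (algebraMap A A')).ResidueField k').comp
      (algebraMap A (p'.comap (algebraMap A A')).ResidueField)).toAlgebra
  have : IsScalarTower A (p'.comap (algebraMap A A')).ResidueField k' :=
    IsScalarTower.of_algebraMap_eq (fun _ => rfl)
  have : IsScalarTower A A' k' := IsScalarTower.of_algebraMap_eq (fun a => by
    show algebraMap (p'.comap (algebraMap A A')).ResidueField k'
        (algebraMap A (p'.comap (algebraMap A A')).ResidueField a) =
      algebraMap (p'.comap (algebraMap A A')).ResidueField k'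
        (σe.symm (algebraMap A' p'.ResidueField (algebraMap A A' a)))
    congr 1
    rw [RingEquiv.eq_symm_apply]
    exact Ideal.ResidueField.map_algebraMap _ _ _ _ _)
  let e1 : k' ⊗[p'.ResidueField] (p'.ResidueField ⊗[A'] X) ≃ₐ[p'.ResidueField] k' ⊗[A'] X :=
    Algebra.TensorProduct.cancelBaseChange A' p'.ResidueField p'.ResidueField k' X
  let e2 : k' ⊗[A'] X ≃ₐ[A'] k' ⊗[A] X := IsLocalization.algebraTensorEquiv S A' k' X
  let e3 : k' ⊗[(p'.comap (algebraMap A A')).ResidueField]
      ((p'.comap (algebraMap A A')).ResidueField ⊗[A] X) ≃ₐ[(p'.comap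
        (algebraMap A A')).ResidueField] k' ⊗[A] X :=
    Algebra.TensorProduct.cancelBaseChange A (p'.comap (algebraMap A A')).ResidueField
      (p'.comap (algebraMap A A')).ResidueField k' X
  exact hg.iso _ _ (e1.toRingEquiv.trans (e2.toRingEquiv.trans e3.symm.toRingEquiv)) hP

include S in
/-- geometric fibres of `A → X` are geometric fibres of `S⁻¹A → X`. -/
theorem GF.of_localization (hg : Good P 𝓚) (h : GF P 𝓚 A' X) : GF P 𝓚 A X := by
  intro p hp k' _ _ hk
  by_cases hsub : Subsingleton (k' ⊗[p.ResidueField] p.Fiber X)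
  · exact hg.triv _
  rw [not_subsingleton_iff_nontrivial] at hsub
  have hex : ∃ p' : Ideal A', p'.IsPrime ∧ p'.comap (algebraMap A A') = p := by
    let _ : Algebra A k' :=
      ((algebraMap p.ResidueField k').comp (algebraMap A p.ResidueField)).toAlgebra
    have : IsScalarTower A p.ResidueField k' := IsScalarTower.of_algebraMap_eq (fun _ => rfl)
    let e3 : k' ⊗[p.ResidueField] (p.ResidueField ⊗[A] X) ≃ₐ[p.ResidueField] k' ⊗[A] X :=
      Algebra.TensorProduct.cancelBaseChange A p.ResidueField p.ResidueField k' X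
    have hnt : Nontrivial (k' ⊗[A] X) := e3.injective.nontrivial
    obtain ⟨Q, hQ⟩ := Ideal.exists_maximal (k' ⊗[A] X)
    have hQp : Q.IsPrime := hQ.isPrime
    let g : A' →+* k' ⊗[A] X :=
      (Algebra.TensorProduct.includeRight : X →ₐ[A] k' ⊗[A] X).toRingHom.comp (algebraMap A' X)
    refine ⟨Q.comap g, Ideal.comap_isPrime g Q, ?_⟩
    have hg1 : g.comp (algebraMap A A') = algebraMap A (k' ⊗[A] X) := by
      ext a
      show (Algebra.TensorProduct.includeRight : X →ₐ[A] k' ⊗[A] X)
        (algebraMap A' X (algebraMap A A' a)) = _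
      rw [← IsScalarTower.algebraMap_apply A A' X]
      exact (Algebra.TensorProduct.includeRight : X →ₐ[A] k' ⊗[A] X).commutes a
    have hg2 : algebraMap A (k' ⊗[A] X) =
        (algebraMap k' (k' ⊗[A] X)).comp (algebraMap A k') :=
      IsScalarTower.algebraMap_eq A k' (k' ⊗[A] X)
    rw [Ideal.comap_comap, hg1, hg2, ← Ideal.comap_comap]
    have hbot : Q.comap (algebraMap k' (k' ⊗[A] X)) = ⊥ := Ideal.eq_bot_of_prime _
    rw [hbot]
    ext a
    rw [Ideal.mem_comap, Ideal.mem_bot]
    show algebraMap p.ResidueField k' (algebraMap A p.ResidueField a) = 0 ↔ _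
    rw [map_eq_zero, Ideal.algebraMap_residueField_eq_zero]
  obtain ⟨p', hp', hpp'⟩ := hex
  subst hpp'
  exact core A S A' X hg h p' k' hk

end loc

section target
attribute [local instance] Algebra.TensorProduct.rightAlgebra

/-- `T ⊗_A B → T ⊗_A C` is a localization when `B → C` is. -/
theorem isLocalization_map (A B C T : Type u) [CommRing A] [CommRing B] [CommRing C] [CommRing T]
    [Algebra A B] [Algebra B C] [Algebra A C] [IsScalarTower A B C] [Algebra A T]
    (S : Submonoid B) [IsLocalization S C] :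
    @IsLocalization (T ⊗[A] B) _ (Algebra.algebraMapSubmonoid (T ⊗[A] B) S) (T ⊗[A] C) _
      (Algebra.TensorProduct.map (AlgHom.id T T)
        (IsScalarTower.toAlgHom A B C)).toRingHom.toAlgebra := by
  let φ : T ⊗[A] B →ₐ[T] T ⊗[A] C :=
    Algebra.TensorProduct.map (AlgHom.id T T) (IsScalarTower.toAlgHom A B C)
  let a1 : Algebra (T ⊗[A] B) (T ⊗[A] C) := φ.toRingHom.toAlgebra
  let a2 : Algebra B (T ⊗[A] C) :=
    ((algebraMap C (T ⊗[A] C)).comp (algebraMap B C)).toAlgebra
  have t1 : IsScalarTower B C (T ⊗[A] C) := IsScalarTower.of_algebraMap_eq (fun _ => rfl)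
  have t2 : IsScalarTower B (T ⊗[A] B) (T ⊗[A] C) := IsScalarTower.of_algebraMap_eq (fun b => by
    show (1 : T) ⊗ₜ[A] (algebraMap B C b) = φ ((1 : T) ⊗ₜ[A] b)
    simp [φ])
  have t3 : IsScalarTower T (T ⊗[A] B) (T ⊗[A] C) :=
    IsScalarTower.of_algebraMap_eq (fun t => (φ.commutes t).symm)
  have t4 : IsScalarTower A (T ⊗[A] B) (T ⊗[A] C) := IsScalarTower.of_algebraMap_eq (fun a => by
    rw [IsScalarTower.algebraMap_apply A T (T ⊗[A] B),
      IsScalarTower.algebraMap_apply A T (T ⊗[A] C)]
    exact (φ.commutes _).symm)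
  have h1 : Algebra.IsPushout A B T (T ⊗[A] B) := inferInstance
  have h2 : Algebra.IsPushout A C T (T ⊗[A] C) := inferInstance
  have h3 : Algebra.IsPushout B C (T ⊗[A] B) (T ⊗[A] C) :=
    (Algebra.IsPushout.comp_iff A B T (S' := T ⊗[A] B) (T := C) (T' := T ⊗[A] C)).mp h2
  exact (Algebra.isLocalization_iff_isPushout S C).mpr h3.symm

/-- locality on the target (localizations at maximal ideals). -/
theorem GF.of_localizations_maximal
    (hiso : ∀ (R R' : Type u) [CommRing R] [CommRing R'], (R ≃+* R') → P R → P R')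
    (N : ∀ (R : Type u) [CommRing R], Prop)
    (hNiso : ∀ (R R' : Type u) [CommRing R] [CommRing R'], (R ≃+* R') → N R → N R')
    (hcov : CovDesc P N) (A B : Type u) [CommRing A] [CommRing B] [Algebra A B]
    (hN : ∀ (p : Ideal A) [p.IsPrime] (k' : Type u) [Field k'] [Algebra p.ResidueField k'],
      𝓚 p.ResidueField k' → N (k' ⊗[p.ResidueField] p.Fiber B))
    (h : ∀ (M : Ideal B) [M.IsMaximal], GF P 𝓚 A (Localization.AtPrime M)) : GF P 𝓚 A B := by
  intro p hp k' _ _ hk
  let _ : Algebra A k' :=
    ((algebraMap p.ResidueField k').comp (algebraMap A p.ResidueField)).toAlgebra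
  have : IsScalarTower A p.ResidueField k' := IsScalarTower.of_algebraMap_eq (fun _ => rfl)
  let eB : k' ⊗[p.ResidueField] (p.ResidueField ⊗[A] B) ≃ₐ[p.ResidueField] k' ⊗[A] B :=
    Algebra.TensorProduct.cancelBaseChange A p.ResidueField p.ResidueField k' B
  refine hiso _ _ eB.symm.toRingEquiv ?_
  apply hcov _ (hNiso _ _ eB.toRingEquiv (hN p k' hk))
  intro Q hQ
  have hq : (Q.comap (algebraMap B (k' ⊗[A] B))).IsPrime := Ideal.comap_isPrime _ _
  obtain ⟨M, hM, hqM⟩ := Ideal.exists_le_maximal _ hq.ne_top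
  let eM : k' ⊗[p.ResidueField] (p.ResidueField ⊗[A] Localization.AtPrime M) ≃ₐ[p.ResidueField]
      k' ⊗[A] Localization.AtPrime M :=
    Algebra.TensorProduct.cancelBaseChange A p.ResidueField p.ResidueField k'
      (Localization.AtPrime M)
  have hPM : P (k' ⊗[A] Localization.AtPrime M) := hiso _ _ eM.toRingEquiv (h M p k' hk)
  let alg : Algebra (k' ⊗[A] B) (k' ⊗[A] Localization.AtPrime M) :=
    (Algebra.TensorProduct.map (AlgHom.id k' k')
      (IsScalarTower.toAlgHom A B (Localization.AtPrime M))).toRingHom.toAlgebra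
  have hloc : IsLocalization (Algebra.algebraMapSubmonoid (k' ⊗[A] B) M.primeCompl)
      (k' ⊗[A] Localization.AtPrime M) :=
    isLocalization_map A B (Localization.AtPrime M) k' M.primeCompl
  have hdisj : Disjoint (Algebra.algebraMapSubmonoid (k' ⊗[A] B) M.primeCompl : Set (k' ⊗[A] B))
      (Q : Set (k' ⊗[A] B)) := by
    rw [Set.disjoint_left]
    rintro x ⟨b, hb, rfl⟩ hxQ
    exact hb (hqM hxQ)
  refine ⟨k' ⊗[A] Localization.AtPrime M, inferInstance, alg, ?_, hPM, ?_⟩
  · exact IsLocalization.flat _ (Algebra.algebraMapSubmonoid (k' ⊗[A] B) M.primeCompl)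
  · exact ⟨Q.map (algebraMap (k' ⊗[A] B) (k' ⊗[A] Localization.AtPrime M)),
      IsLocalization.isPrime_of_isPrime_disjoint _ _ Q hQ hdisj,
      IsLocalization.under_map_of_isPrime_disjoint _ _ hQ hdisj⟩

end target
end lemmas

end Groth.Agent.H34.GenFib
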