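import Mathlib
import Groth.Agent.H15.RedCore
import Groth.Agent.H15.NormalAscent
import Groth.Agent.H15.SerreNormal
import Groth.Agent.H15.FibreSk
import Groth.Agent.H15.FlatLoc
import Groth.Agent.H29.CM
import Groth.Agent.S11650
import Groth.Agent.S2659
import Groth.Agent.S2038
import Groth.Agent.S0602
import Groth.Agent.H34.FSCompl
import Groth.Agent.H34.FSComplNormal
import Groth.Agent.H34.FibLoc
import Groth.Agent.H34.GenFib

/-! Normality of a flat Noetherian algebra over a normal G-ring domain whose fibres over the nonzero
primes are geometrically normal (core of EGA IV 7.5.1, normal case; helper34). -/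

set_option autoImplicit false
set_option maxHeartbeats 1600000
set_option linter.style.haveILetI false
universe u
open TensorProduct IsLocalRing

namespace Groth.Agent.H34.NormalCore

attribute [local instance] Groth.Agent.H15.FlatLoc.isLocalRing_fibLocRing

section Basic

theorem isNormalRing_of_isGeomNormal (k S : Type u) [Field k] [CommRing S] [Algebra k S]
    (h : EGA4.IsGeomNormal k S) : EGA4.IsNormalRing S :=
  Groth.Agent.H34.FibLoc.isNormalRing_of_ringEquiv (Algebra.TensorProduct.lid k S).toRingEquiv
    (h k (Module.Finite.self k))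

theorem isNormalRing_of_isLocalization {R : Type u} [CommRing R] (M : Submonoid R) (R' : Type u)
    [CommRing R'] [Algebra R R'] [IsLocalization M R'] (h : EGA4.IsNormalRing R) :
    EGA4.IsNormalRing R' := by
  intro p' hp'
  obtain ⟨hd, hic⟩ := h (p'.comap (algebraMap R R'))
  haveI : IsLocalization.AtPrime (Localization.AtPrime p') (p'.comap (algebraMap R R')) :=
    IsLocalization.isLocalization_isLocalization_atPrime_isLocalization M
      (Localization.AtPrime p') p'
  let E : Localization.AtPrime (p'.comap (algebraMap R R')) ≃ₐ[R] Localization.AtPrime p' :=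
    IsLocalization.algEquiv (p'.comap (algebraMap R R')).primeCompl _ _
  exact ⟨E.toRingEquiv.symm.toMulEquiv.isDomain _, IsIntegrallyClosed.of_equiv E.toRingEquiv⟩

theorem normal_fibLocRing (A B : Type u) [CommRing A] [CommRing B] [Algebra A B] (p : Ideal A)
    [p.IsPrime] (h : EGA4.IsNormalRing (p.Fiber B)) (r : Ideal B) [r.IsPrime]
    (hr : r.comap (algebraMap A B) = p) :
    IsDomain (EGA4.FibLocRing A B r) ∧ IsIntegrallyClosed (EGA4.FibLocRing A B r) := by
  obtain ⟨q, hq, hqr⟩ := Groth.Agent.H15.FibreSk.exists_fiber_prime A B p r hr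
  haveI := hq
  obtain ⟨-, ⟨e⟩⟩ := Groth.Agent.H15.FibreSk.exists_fiber_equiv A B p q
  obtain ⟨hd, hic⟩ := h q
  have h2 : IsDomain (EGA4.FibLocRing A B
        (q.comap (Algebra.TensorProduct.includeRight : B →ₐ[A] p.Fiber B))) ∧
      IsIntegrallyClosed (EGA4.FibLocRing A B
        (q.comap (Algebra.TensorProduct.includeRight : B →ₐ[A] p.Fiber B))) :=
    ⟨e.symm.toMulEquiv.isDomain _, IsIntegrallyClosed.of_equiv (R := Localization.AtPrime q) e⟩
  have gen : ∀ (I : Ideal B) [I.IsPrime], I = r →
      (IsDomain (EGA4.FibLocRing A B I) ∧ IsIntegrallyClosed (EGA4.FibLocRing A B I)) →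
      (IsDomain (EGA4.FibLocRing A B r) ∧ IsIntegrallyClosed (EGA4.FibLocRing A B r)) := by
    intro I _ hI hc
    subst hI
    exact hc
  exact gen _ hqr h2

/-- A Noetherian normal ring all of whose primes are maximal is regular. -/
theorem isRegularRing_of_normal_of_primes_maximal (T : Type u) [CommRing T] [IsNoetherianRing T]
    (hn : EGA4.IsNormalRing T) (hmax : ∀ (q : Ideal T) [q.IsPrime], q.IsMaximal) :
    IsRegularRing T := by
  rw [isRegularRing_iff]
  intro q hq
  obtain ⟨hd, -⟩ := hn q
  haveI := hd
  have hbot : maximalIdeal (Localization.AtPrime q) = ⊥ := by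
    have hb : (⊥ : Ideal (Localization.AtPrime q)).IsPrime := Ideal.bot_prime
    have hle : (⊥ : Ideal (Localization.AtPrime q)).comap
        (algebraMap T (Localization.AtPrime q)) ≤ q :=
      Groth.Agent.H15.FlatLoc.comap_le q ⊥
    have hm := hmax ((⊥ : Ideal (Localization.AtPrime q)).comap
      (algebraMap T (Localization.AtPrime q)))
    have heq : (⊥ : Ideal (Localization.AtPrime q)).comap
        (algebraMap T (Localization.AtPrime q)) = q := hm.eq_of_le hq.ne_top hle
    have h1 : ((⊥ : Ideal (Localization.AtPrime q)).comap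
        (algebraMap T (Localization.AtPrime q))).map (algebraMap T (Localization.AtPrime q)) = ⊥ :=
      IsLocalization.map_comap q.primeCompl _ _
    rw [heq, Localization.AtPrime.map_eq_maximalIdeal] at h1
    exact h1
  have hfield : IsField (Localization.AtPrime q) :=
    IsLocalRing.isField_iff_maximalIdeal_eq.mpr hbot
  haveI := hfield.isPrincipalIdealRing
  infer_instance

/-- Primes of a finite field-extension base change of a zero-dimensional ring are maximal. -/
theorem isMaximal_of_isPrime_tensor (κ k' F : Type u) [Field κ] [Field k'] [Algebra κ k']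
    [Module.Finite κ k'] [CommRing F] [Algebra κ F]
    (hF : ∀ (f : Ideal F) [f.IsPrime], f.IsMaximal) (q : Ideal (k' ⊗[κ] F)) [q.IsPrime] :
    q.IsMaximal := by
  let e : F ⊗[κ] k' ≃ₐ[κ] k' ⊗[κ] F := Algebra.TensorProduct.comm κ F k'
  haveI hq' : (q.comap (e : F ⊗[κ] k' →+* k' ⊗[κ] F)).IsPrime := Ideal.comap_isPrime _ _
  haveI : Algebra.IsIntegral κ k' := Algebra.IsIntegral.of_finite κ k'
  have hm := hF ((q.comap (e : F ⊗[κ] k' →+* k' ⊗[κ] F)).comap (algebraMap F (F ⊗[κ] k')))
  have h1 : (q.comap (e : F ⊗[κ] k' →+* k' ⊗[κ] F)).IsMaximal :=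
    Ideal.isMaximal_of_isIntegral_of_isMaximal_comap _ hm
  have h2 : q = (q.comap (e : F ⊗[κ] k' →+* k' ⊗[κ] F)).comap
      (e.symm : k' ⊗[κ] F →+* F ⊗[κ] k') := by
    ext x
    simp [Ideal.mem_comap]
  rw [h2]
  exact Ideal.comap_isMaximal_of_surjective _ e.symm.surjective

/-- Primes of the fibre over a maximal ideal `m` are maximal when `m R` is maximal. -/
theorem isMaximal_of_isPrime_fiber (A R : Type u) [CommRing A] [CommRing R] [Algebra A R]
    (m : Ideal A) [m.IsMaximal] (hmax : (m.map (algebraMap A R)).IsMaximal)
    (f : Ideal (m.Fiber R)) [hf : f.IsPrime] : f.IsMaximal := by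
  have hsurj : Function.Surjective
      (Algebra.TensorProduct.includeRight : R →ₐ[A] m.ResidueField ⊗[A] R) :=
    Algebra.TensorProduct.includeRight_surjective R m.algebraMap_residueField_surjective
  have hrp : (f.comap (Algebra.TensorProduct.includeRight : R →ₐ[A] m.ResidueField ⊗[A] R)).IsPrime :=
    Ideal.comap_isPrime _ _
  have hle : m.map (algebraMap A R) ≤
      f.comap (Algebra.TensorProduct.includeRight : R →ₐ[A] m.ResidueField ⊗[A] R) := by
    rw [Ideal.map_le_iff_le_comap]
    intro a ha
    rw [Ideal.mem_comap, Ideal.mem_comap, AlgHom.commutes,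
      Algebra.TensorProduct.algebraMap_apply, Ideal.algebraMap_residueField_eq_zero.mpr ha,
      zero_tmul]
    exact f.zero_mem
  have heq : m.map (algebraMap A R) =
      f.comap (Algebra.TensorProduct.includeRight : R →ₐ[A] m.ResidueField ⊗[A] R) :=
    hmax.eq_of_le hrp.ne_top hle
  have hrm : (f.comap
      (Algebra.TensorProduct.includeRight : R →ₐ[A] m.ResidueField ⊗[A] R)).IsMaximal :=
    heq ▸ hmax
  have hfr : (f.comap (Algebra.TensorProduct.includeRight : R →ₐ[A] m.ResidueField ⊗[A] R)).map
      (Algebra.TensorProduct.includeRight : R →ₐ[A] m.ResidueField ⊗[A] R) = f :=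
    Ideal.map_comap_of_surjective _ hsurj f
  rcases Ideal.map_eq_top_or_isMaximal_of_surjective _ hsurj hrm with h | h
  · exfalso
    rw [hfr] at h
    exact hf.ne_top h
  · rw [hfr] at h
    exact h

end Basic


section Local

/-- A Noetherian local ring which is a normal-homomorphism algebra over a Noetherian normal domain is
a normal domain. -/
theorem normal_of_isNormalHom_local (A R : Type u) [CommRing A] [CommRing R] [IsLocalRing R]
    [IsNoetherianRing A] [IsNoetherianRing R] [Algebra A R] [IsDomain A] [IsIntegrallyClosed A]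
    (h : EGA4.IsNormalHom A R) : IsDomain R ∧ IsIntegrallyClosed R := by
  haveI := h.1
  have hfibAll : ∀ (q : Ideal R) [q.IsPrime],
      IsDomain (EGA4.FibLocRing A R q) ∧ IsIntegrallyClosed (EGA4.FibLocRing A R q) :=
    fun q _ => normal_fibLocRing A R (q.comap (algebraMap A R))
      (isNormalRing_of_isGeomNormal _ _ (h.2 (q.comap (algebraMap A R)))) q rfl
  haveI : IsDomain (Localization.AtPrime ((maximalIdeal R).comap (algebraMap A R))) :=
    IsLocalization.isDomain_localization (Ideal.primeCompl_le_nonZeroDivisors _)
  haveI : IsIntegrallyClosed (Localization.AtPrime ((maximalIdeal R).comap (algebraMap A R))) :=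
    isIntegrallyClosed_of_isLocalization _ ((maximalIdeal R).comap (algebraMap A R)).primeCompl
      (Ideal.primeCompl_le_nonZeroDivisors _)
  obtain ⟨hd, hic⟩ := Groth.Agent.H15.FlatLoc.normal_of_flat A R hfibAll (maximalIdeal R)
  exact ⟨(Groth.Agent.H15.FlatLoc.selfEquivLocMax R).toMulEquiv.isDomain _,
    IsIntegrallyClosed.of_equiv (Groth.Agent.H15.FlatLoc.selfEquivLocMax R).symm⟩

variable (A B : Type u) [CommRing A] [CommRing B] [IsDomain A] [IsIntegrallyClosed A]
  [IsNoetherianRing A] [IsNoetherianRing B] [Algebra A B] [Module.Flat A B]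

/-- The discrete valuation ring case: `B_Q` is normal when `Q` lies over a height one prime and the
fibre local ring at `Q` is normal. -/
theorem normal_of_height_one (Q : Ideal B) [Q.IsPrime] (hPne : Q.comap (algebraMap A B) ≠ ⊥)
    (hht : (Q.comap (algebraMap A B)).height ≤ 1)
    (hF : IsDomain (EGA4.FibLocRing A B Q) ∧ IsIntegrallyClosed (EGA4.FibLocRing A B Q)) :
    IsDomain (Localization.AtPrime Q) ∧ IsIntegrallyClosed (Localization.AtPrime Q) := by
  haveI : IsDomain (Localization.AtPrime (Q.comap (algebraMap A B))) :=
    IsLocalization.isDomain_localization (Ideal.primeCompl_le_nonZeroDivisors _)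
  haveI : IsIntegrallyClosed (Localization.AtPrime (Q.comap (algebraMap A B))) :=
    isIntegrallyClosed_of_isLocalization _ (Q.comap (algebraMap A B)).primeCompl
      (Ideal.primeCompl_le_nonZeroDivisors _)
  have hdim : ringKrullDim (Localization.AtPrime (Q.comap (algebraMap A B))) ≤
      ((1 : ℕ) : WithBot ℕ∞) := by
    rw [IsLocalization.AtPrime.ringKrullDim_eq_height (Q.comap (algebraMap A B))
      (Localization.AtPrime (Q.comap (algebraMap A B)))]
    exact_mod_cast hht
  haveI hpir := Groth.Agent.H15.NormalAscent.isPrincipalIdealRing_of_normal_of_dim_le_one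
    (Localization.AtPrime (Q.comap (algebraMap A B))) hdim
  obtain ⟨π, hπ⟩ := (IsPrincipalIdealRing.principal
    (maximalIdeal (Localization.AtPrime (Q.comap (algebraMap A B))))).principal
  have hπ' : maximalIdeal (Localization.AtPrime (Q.comap (algebraMap A B))) =
      Ideal.span {π} := hπ
  have hnotfield : ¬ IsField (Localization.AtPrime (Q.comap (algebraMap A B))) :=
    IsLocalization.AtPrime.not_isField A hPne _
  have hmne : maximalIdeal (Localization.AtPrime (Q.comap (algebraMap A B))) ≠ ⊥ :=
    fun h => hnotfield (IsLocalRing.isField_iff_maximalIdeal_eq.mpr h)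
  have hπ0 : π ≠ 0 := by
    intro h
    apply hmne
    rw [hπ', h, Ideal.span_singleton_eq_bot]
  haveI hlo : Q.LiesOver (Q.comap (algebraMap A B)) := ⟨rfl⟩
  letI alg := Localization.AtPrime.algebraOfLiesOver (Q.comap (algebraMap A B)) Q
  haveI : IsLocalHom (algebraMap (Localization.AtPrime (Q.comap (algebraMap A B)))
      (Localization.AtPrime Q)) := Localization.isLocalHom_localRingHom _ _ _ _
  have hI : (maximalIdeal (Localization.AtPrime (Q.comap (algebraMap A B)))).map
      (algebraMap _ (Localization.AtPrime Q)) =
      (Q.comap (algebraMap A B)).map (algebraMap A (Localization.AtPrime Q)) := by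
    rw [← Localization.AtPrime.map_eq_maximalIdeal, Ideal.map_map,
      ← IsScalarTower.algebraMap_eq A (Localization.AtPrime (Q.comap (algebraMap A B)))
        (Localization.AtPrime Q)]
  have hspan : Ideal.span {algebraMap (Localization.AtPrime (Q.comap (algebraMap A B)))
      (Localization.AtPrime Q) π} =
      (Q.comap (algebraMap A B)).map (algebraMap A (Localization.AtPrime Q)) := by
    rw [← hI, hπ', Ideal.map_span, Set.image_singleton]
  have hregπ : IsSMulRegular (Localization.AtPrime Q)
      (algebraMap (Localization.AtPrime (Q.comap (algebraMap A B)))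
        (Localization.AtPrime Q) π) := by
    have h1 : IsSMulRegular (Localization.AtPrime Q) π :=
      Module.Flat.isSMulRegular_of_nonZeroDivisors (mem_nonZeroDivisors_of_ne_zero hπ0)
    intro a b hab
    apply h1
    simpa [Algebra.smul_def] using hab
  have hnzd : algebraMap (Localization.AtPrime (Q.comap (algebraMap A B)))
      (Localization.AtPrime Q) π ∈ nonZeroDivisors (Localization.AtPrime Q) := by
    rw [mem_nonZeroDivisors_iff_right]
    intro z hz
    apply hregπ
    show _ • z = _ • (0 : Localization.AtPrime Q)
    rw [smul_eq_mul, smul_eq_mul, mul_zero, mul_comm]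
    exact hz
  have hπm : algebraMap (Localization.AtPrime (Q.comap (algebraMap A B)))
      (Localization.AtPrime Q) π ∈ maximalIdeal (Localization.AtPrime Q) := by
    apply map_nonunit
    rw [hπ']
    exact Ideal.mem_span_singleton_self π
  have hineq : Groth.Agent.H15.NormalAscent.DepthIneq (Localization.AtPrime Q) :=
    fun p s _ _ hps =>
      Groth.Agent.S11650.result (Localization.AtPrime Q) (Localization.AtPrime Q) p s hps
  obtain ⟨hFd, hFic⟩ := hF
  haveI hd' : IsDomain (Localization.AtPrime Q ⧸
      Ideal.span {algebraMap (Localization.AtPrime (Q.comap (algebraMap A B)))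
        (Localization.AtPrime Q) π}) :=
    (Ideal.quotEquivOfEq hspan).toMulEquiv.isDomain _
  haveI hic' : IsIntegrallyClosed (Localization.AtPrime Q ⧸
      Ideal.span {algebraMap (Localization.AtPrime (Q.comap (algebraMap A B)))
        (Localization.AtPrime Q) π}) :=
    IsIntegrallyClosed.of_equiv (Ideal.quotEquivOfEq hspan).symm
  exact Groth.Agent.H15.NormalAscent.normal_of_quotient_normal hineq hπm hnzd

end Local


section ClosedFibre
attribute [local instance] Algebra.TensorProduct.rightAlgebra

/-- The closed fibre of `A_P → B_Q` (for `P = Q ∩ A`) is geometrically normal when the fibre of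
`A → B` over `P` is. -/
theorem isGeomNormal_closedFibre (A B : Type u) [CommRing A] [CommRing B] [Algebra A B]
    (Q : Ideal B) [Q.IsPrime]
    (hfib : EGA4.IsGeomNormal (Q.comap (algebraMap A B)).ResidueField
      ((Q.comap (algebraMap A B)).Fiber B))
    [Algebra (Localization.AtPrime (Q.comap (algebraMap A B))) (Localization.AtPrime Q)]
    [IsScalarTower A (Localization.AtPrime (Q.comap (algebraMap A B))) (Localization.AtPrime Q)] :
    EGA4.IsGeomNormal
      (maximalIdeal (Localization.AtPrime (Q.comap (algebraMap A B)))).ResidueField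
      ((maximalIdeal (Localization.AtPrime (Q.comap (algebraMap A B)))).Fiber
        (Localization.AtPrime Q)) := by
  intro k' _ _ hfin
  have hM : Algebra.algebraMapSubmonoid B (Q.comap (algebraMap A B)).primeCompl ≤ Q.primeCompl := by
    rintro _ ⟨a, ha, rfl⟩
    exact fun h => ha h
  let _ : Algebra (Localization (Algebra.algebraMapSubmonoid B (Q.comap (algebraMap A B)).primeCompl))
      (Localization.AtPrime Q) :=
    IsLocalization.localizationAlgebraOfSubmonoidLe _ _
      (Algebra.algebraMapSubmonoid B (Q.comap (algebraMap A B)).primeCompl) Q.primeCompl hM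
  have towB : IsScalarTower B
      (Localization (Algebra.algebraMapSubmonoid B (Q.comap (algebraMap A B)).primeCompl))
      (Localization.AtPrime Q) :=
    IsLocalization.localization_isScalarTower_of_submonoid_le _ _
      (Algebra.algebraMapSubmonoid B (Q.comap (algebraMap A B)).primeCompl) Q.primeCompl hM
  have hlocR : IsLocalization (Q.primeCompl.map (algebraMap B
      (Localization (Algebra.algebraMapSubmonoid B (Q.comap (algebraMap A B)).primeCompl))))
      (Localization.AtPrime Q) :=
    IsLocalization.isLocalization_of_submonoid_le _ _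
      (Algebra.algebraMapSubmonoid B (Q.comap (algebraMap A B)).primeCompl) Q.primeCompl hM
  have tow : IsScalarTower (Localization.AtPrime (Q.comap (algebraMap A B)))
      (Localization (Algebra.algebraMapSubmonoid B (Q.comap (algebraMap A B)).primeCompl))
      (Localization.AtPrime Q) := by
    refine IsScalarTower.of_algebraMap_eq' ?_
    apply IsLocalization.ringHom_ext (Q.comap (algebraMap A B)).primeCompl
    ext a
    simp only [RingHom.comp_apply]
    rw [← IsScalarTower.algebraMap_apply A (Localization.AtPrime (Q.comap (algebraMap A B)))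
        (Localization.AtPrime Q),
      ← IsScalarTower.algebraMap_apply A (Localization.AtPrime (Q.comap (algebraMap A B)))
        (Localization (Algebra.algebraMapSubmonoid B (Q.comap (algebraMap A B)).primeCompl)),
      IsScalarTower.algebraMap_apply A B
        (Localization (Algebra.algebraMapSubmonoid B (Q.comap (algebraMap A B)).primeCompl)),
      ← IsScalarTower.algebraMap_apply B
        (Localization (Algebra.algebraMapSubmonoid B (Q.comap (algebraMap A B)).primeCompl))
        (Localization.AtPrime Q),
      ← IsScalarTower.algebraMap_apply A B (Localization.AtPrime Q)]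
  -- the fibre of `A_P → B_P` over the maximal ideal
  obtain ⟨alg, hfin', ⟨e⟩⟩ := Groth.Agent.H34.FibLoc.exists_ringEquiv A B
    (Q.comap (algebraMap A B)).primeCompl (Localization.AtPrime (Q.comap (algebraMap A B)))
    (Localization (Algebra.algebraMapSubmonoid B (Q.comap (algebraMap A B)).primeCompl))
    (maximalIdeal (Localization.AtPrime (Q.comap (algebraMap A B)))) k' hfin
  have hcomap : (maximalIdeal (Localization.AtPrime (Q.comap (algebraMap A B)))).comap
      (algebraMap A (Localization.AtPrime (Q.comap (algebraMap A B)))) =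
      Q.comap (algebraMap A B) :=
    IsLocalization.AtPrime.comap_maximalIdeal _ _
  have gen : ∀ (I : Ideal A) [I.IsPrime], I = Q.comap (algebraMap A B) →
      EGA4.IsGeomNormal I.ResidueField (I.Fiber B) := by
    intro I _ hI
    subst hI
    exact hfib
  have N1 : EGA4.IsNormalRing (k' ⊗[(maximalIdeal
      (Localization.AtPrime (Q.comap (algebraMap A B)))).ResidueField]
      (maximalIdeal (Localization.AtPrime (Q.comap (algebraMap A B)))).Fiber
        (Localization (Algebra.algebraMapSubmonoid B (Q.comap (algebraMap A B)).primeCompl))) := by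
    let _ := alg
    exact Groth.Agent.H34.FibLoc.isNormalRing_of_ringEquiv e (gen _ hcomap k' hfin')
  let _ : Algebra (Localization.AtPrime (Q.comap (algebraMap A B))) k' :=
    ((algebraMap (maximalIdeal (Localization.AtPrime (Q.comap (algebraMap A B)))).ResidueField
      k').comp (algebraMap (Localization.AtPrime (Q.comap (algebraMap A B)))
        (maximalIdeal (Localization.AtPrime (Q.comap (algebraMap A B)))).ResidueField)).toAlgebra
  have towk : IsScalarTower (Localization.AtPrime (Q.comap (algebraMap A B)))
      (maximalIdeal (Localization.AtPrime (Q.comap (algebraMap A B)))).ResidueField k' :=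
    IsScalarTower.of_algebraMap_eq (fun _ => rfl)
  let e1 := Algebra.TensorProduct.cancelBaseChange
    (Localization.AtPrime (Q.comap (algebraMap A B)))
    (maximalIdeal (Localization.AtPrime (Q.comap (algebraMap A B)))).ResidueField
    (maximalIdeal (Localization.AtPrime (Q.comap (algebraMap A B)))).ResidueField k'
    (Localization (Algebra.algebraMapSubmonoid B (Q.comap (algebraMap A B)).primeCompl))
  have N2 : EGA4.IsNormalRing (k' ⊗[Localization.AtPrime (Q.comap (algebraMap A B))]
      (Localization (Algebra.algebraMapSubmonoid B (Q.comap (algebraMap A B)).primeCompl))) :=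
    Groth.Agent.H34.FibLoc.isNormalRing_of_ringEquiv e1.toRingEquiv N1
  let algT : Algebra (k' ⊗[Localization.AtPrime (Q.comap (algebraMap A B))]
      (Localization (Algebra.algebraMapSubmonoid B (Q.comap (algebraMap A B)).primeCompl)))
      (k' ⊗[Localization.AtPrime (Q.comap (algebraMap A B))] Localization.AtPrime Q) :=
    (Algebra.TensorProduct.map (AlgHom.id k' k')
      (IsScalarTower.toAlgHom (Localization.AtPrime (Q.comap (algebraMap A B)))
        (Localization (Algebra.algebraMapSubmonoid B (Q.comap (algebraMap A B)).primeCompl))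
        (Localization.AtPrime Q))).toRingHom.toAlgebra
  have hloc : IsLocalization (Algebra.algebraMapSubmonoid
      (k' ⊗[Localization.AtPrime (Q.comap (algebraMap A B))]
        (Localization (Algebra.algebraMapSubmonoid B (Q.comap (algebraMap A B)).primeCompl)))
      (Q.primeCompl.map (algebraMap B
        (Localization (Algebra.algebraMapSubmonoid B (Q.comap (algebraMap A B)).primeCompl)))))
      (k' ⊗[Localization.AtPrime (Q.comap (algebraMap A B))] Localization.AtPrime Q) :=
    Groth.Agent.H34.GenFib.isLocalization_map (Localization.AtPrime (Q.comap (algebraMap A B)))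
      (Localization (Algebra.algebraMapSubmonoid B (Q.comap (algebraMap A B)).primeCompl))
      (Localization.AtPrime Q) k' _
  have N3 : EGA4.IsNormalRing
      (k' ⊗[Localization.AtPrime (Q.comap (algebraMap A B))] Localization.AtPrime Q) :=
    @isNormalRing_of_isLocalization _ _ _ _ _ algT hloc N2
  let e2 := Algebra.TensorProduct.cancelBaseChange
    (Localization.AtPrime (Q.comap (algebraMap A B)))
    (maximalIdeal (Localization.AtPrime (Q.comap (algebraMap A B)))).ResidueField
    (maximalIdeal (Localization.AtPrime (Q.comap (algebraMap A B)))).ResidueField k'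
    (Localization.AtPrime Q)
  exact Groth.Agent.H34.FibLoc.isNormalRing_of_ringEquiv e2.symm.toRingEquiv N3

end ClosedFibre

section FieldFibre

variable (A B : Type u) [CommRing A] [CommRing B] [Algebra A B]
  [IsNoetherianRing A] [IsNoetherianRing B] [Module.Flat A B]

/-- The field-fibre case: `B_Q` is normal when `A_P` is a normal domain with regular completion
map, the fibre over `P` is geometrically normal and the fibre local ring at `Q` is a field. -/
theorem normal_of_field_fibre (Q : Ideal B) [Q.IsPrime]
    [IsDomain (Localization.AtPrime (Q.comap (algebraMap A B)))]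
    [IsIntegrallyClosed (Localization.AtPrime (Q.comap (algebraMap A B)))]
    (hG : CAlg.IsRegularHom (Localization.AtPrime (Q.comap (algebraMap A B)))
      (EGA4.Cpl (Localization.AtPrime (Q.comap (algebraMap A B)))))
    (hfib : EGA4.IsGeomNormal (Q.comap (algebraMap A B)).ResidueField
      ((Q.comap (algebraMap A B)).Fiber B))
    (hfield : IsField (EGA4.FibLocRing A B Q)) :
    IsDomain (Localization.AtPrime Q) ∧ IsIntegrallyClosed (Localization.AtPrime Q) := by
  haveI hlo : Q.LiesOver (Q.comap (algebraMap A B)) := ⟨rfl⟩
  letI alg := Localization.AtPrime.algebraOfLiesOver (Q.comap (algebraMap A B)) Q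
  haveI : IsLocalHom (algebraMap (Localization.AtPrime (Q.comap (algebraMap A B)))
      (Localization.AtPrime Q)) := Localization.isLocalHom_localRingHom _ _ _ _
  have hI : (maximalIdeal (Localization.AtPrime (Q.comap (algebraMap A B)))).map
      (algebraMap _ (Localization.AtPrime Q)) =
      (Q.comap (algebraMap A B)).map (algebraMap A (Localization.AtPrime Q)) := by
    rw [← Localization.AtPrime.map_eq_maximalIdeal, Ideal.map_map,
      ← IsScalarTower.algebraMap_eq A (Localization.AtPrime (Q.comap (algebraMap A B)))
        (Localization.AtPrime Q)]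
  have hmaxI : ((maximalIdeal (Localization.AtPrime (Q.comap (algebraMap A B)))).map
      (algebraMap _ (Localization.AtPrime Q))).IsMaximal := by
    rw [hI]
    exact Ideal.Quotient.maximal_of_isField _ hfield
  have hgn := isGeomNormal_closedFibre A B Q hfib
  have hgr : CAlg.IsGeometricallyRegular
      (maximalIdeal (Localization.AtPrime (Q.comap (algebraMap A B)))).ResidueField
      ((maximalIdeal (Localization.AtPrime (Q.comap (algebraMap A B)))).Fiber
        (Localization.AtPrime Q)) := by
    intro k' _ _ hfin
    haveI := hfin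
    haveI : IsNoetherianRing ((maximalIdeal
        (Localization.AtPrime (Q.comap (algebraMap A B)))).Fiber (Localization.AtPrime Q)) :=
      Groth.Agent.H34.FibLoc.isNoetherianRing_fiber _ _ _
    haveI : IsNoetherianRing (((maximalIdeal
        (Localization.AtPrime (Q.comap (algebraMap A B)))).Fiber (Localization.AtPrime Q))
        ⊗[(maximalIdeal (Localization.AtPrime (Q.comap (algebraMap A B)))).ResidueField] k') :=
      IsNoetherianRing.of_finite ((maximalIdeal
        (Localization.AtPrime (Q.comap (algebraMap A B)))).Fiber (Localization.AtPrime Q))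
        (((maximalIdeal
        (Localization.AtPrime (Q.comap (algebraMap A B)))).Fiber (Localization.AtPrime Q))
        ⊗[(maximalIdeal (Localization.AtPrime (Q.comap (algebraMap A B)))).ResidueField] k')
    haveI : IsNoetherianRing (k' ⊗[(maximalIdeal
        (Localization.AtPrime (Q.comap (algebraMap A B)))).ResidueField]
        ((maximalIdeal (Localization.AtPrime (Q.comap (algebraMap A B)))).Fiber
          (Localization.AtPrime Q))) :=
      isNoetherianRing_of_ringEquiv _ (Algebra.TensorProduct.comm _ _ k').toRingEquiv
    exact isRegularRing_of_normal_of_primes_maximal _ (hgn k' hfin)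
      (fun q _ => isMaximal_of_isPrime_tensor _ k' _
        (fun f _ => isMaximal_of_isPrime_fiber _ _ _ hmaxI f) q)
  have hfs := (Groth.Agent.S2038.result
    (A := Localization.AtPrime (Q.comap (algebraMap A B)))
    (B := Localization.AtPrime Q)).mp ⟨inferInstance, hgr⟩
  have hreg := Groth.Agent.H34.FSCompl.isRegularHom_of_fs _ _ hG hfs
  have hNH := Groth.Agent.H34.FSComplNormal.isNormalHom_of_isRegularHom hreg
  exact normal_of_isNormalHom_local _ _ hNH

end FieldFibre


section Core

variable (A B : Type u) [CommRing A] [CommRing B] [IsDomain A] [IsIntegrallyClosed A]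
  [IsNoetherianRing A] [IsNoetherianRing B] [Algebra A B] [Module.Flat A B]

theorem depth_locSelf (Q : Ideal B) [Q.IsPrime] :
    LocCoh.depth (Localization.AtPrime Q) (LocalizedModule Q.primeCompl B) =
      LocCoh.depth (Localization.AtPrime Q) (Localization.AtPrime Q) :=
  Groth.Agent.H15.DepthSpread.idealDepth_congr (Groth.Agent.S0602.locSelfEquiv Q.primeCompl)

theorem height_maximalIdeal_localization {R : Type u} [CommRing R] (P : Ideal R) [P.IsPrime] :
    (maximalIdeal (Localization.AtPrime P)).height = P.height := by
  have e1 : (((maximalIdeal (Localization.AtPrime P)).height : ℕ∞) : WithBot ℕ∞) =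
      ((P.height : ℕ∞) : WithBot ℕ∞) := by
    rw [IsLocalRing.maximalIdeal_height_eq_ringKrullDim,
      IsLocalization.AtPrime.ringKrullDim_eq_height P (Localization.AtPrime P)]
  exact WithBot.coe_injective e1

/-- Over a nonzero prime: the local ring is normal or has depth at least three. -/
theorem normal_or_depth_three (hG : CAlg.IsGRing A)
    (hfib : ∀ (P : Ideal A) [P.IsPrime], P ≠ ⊥ → EGA4.IsGeomNormal P.ResidueField (P.Fiber B))
    (Q : Ideal B) [Q.IsPrime] (hPne : Q.comap (algebraMap A B) ≠ ⊥) :
    (IsDomain (Localization.AtPrime Q) ∧ IsIntegrallyClosed (Localization.AtPrime Q)) ∨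
      (3 : ℕ∞) ≤ LocCoh.depth (Localization.AtPrime Q) (Localization.AtPrime Q) := by
  obtain ⟨hdim, hdepth, -⟩ := Groth.Agent.H15.FlatLoc.flat_data A B Q
  have hFn := normal_fibLocRing A B (Q.comap (algebraMap A B))
    (isNormalRing_of_isGeomNormal _ _ (hfib (Q.comap (algebraMap A B)) hPne)) Q rfl
  haveI : IsDomain (Localization.AtPrime (Q.comap (algebraMap A B))) :=
    IsLocalization.isDomain_localization (Ideal.primeCompl_le_nonZeroDivisors _)
  haveI : IsIntegrallyClosed (Localization.AtPrime (Q.comap (algebraMap A B))) :=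
    isIntegrallyClosed_of_isLocalization _ (Q.comap (algebraMap A B)).primeCompl
      (Ideal.primeCompl_le_nonZeroDivisors _)
  by_cases hht : (Q.comap (algebraMap A B)).height ≤ 1
  · exact Or.inl (normal_of_height_one A B Q hPne hht hFn)
  have h2 : (2 : ℕ∞) ≤ (Q.comap (algebraMap A B)).height := by
    have h := Order.add_one_le_of_lt (not_le.mp hht)
    rwa [one_add_one_eq_two] at h
  have hdA : (2 : ℕ∞) ≤ LocCoh.depth (Localization.AtPrime (Q.comap (algebraMap A B)))
      (Localization.AtPrime (Q.comap (algebraMap A B))) := by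
    have h := Groth.Agent.H15.FlatLoc.min_two_le_depth_of_normal
      (Localization.AtPrime (Q.comap (algebraMap A B)))
    rw [height_maximalIdeal_localization] at h
    refine le_trans (le_min ?_ h2) h
    exact_mod_cast le_rfl
  by_cases hfield : IsField (EGA4.FibLocRing A B Q)
  · exact Or.inl (normal_of_field_fibre A B Q (hG.2 (Q.comap (algebraMap A B)))
      (hfib (Q.comap (algebraMap A B)) hPne) hfield)
  right
  obtain ⟨hFd, hFic⟩ := hFn
  haveI := hFd
  haveI := hFic
  have hmF : maximalIdeal (EGA4.FibLocRing A B Q) ≠ ⊥ :=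
    fun h => hfield (IsLocalRing.isField_iff_maximalIdeal_eq.mpr h)
  have h1F : (1 : ℕ∞) ≤ (maximalIdeal (EGA4.FibLocRing A B Q)).height := by
    have h1 : (⊥ : Ideal (EGA4.FibLocRing A B Q)).height <
        (maximalIdeal (EGA4.FibLocRing A B Q)).height :=
      Ideal.height_strict_mono_of_isPrime_of_isPrime (bot_lt_iff_ne_bot.mpr hmF)
    exact Order.one_le_iff_pos.mpr (lt_of_le_of_lt zero_le h1)
  have hdF : (1 : ℕ∞) ≤ LocCoh.depth (EGA4.FibLocRing A B Q) (EGA4.FibLocRing A B Q) := by
    have h := Groth.Agent.H15.FlatLoc.min_two_le_depth_of_normal (EGA4.FibLocRing A B Q)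
    refine le_trans (le_min ?_ h1F) h
    exact_mod_cast (by norm_num : (1 : ℕ) ≤ 2)
  rw [hdepth]
  have h3 : (3 : ℕ∞) = 2 + 1 := by norm_num
  rw [h3]
  exact add_le_add hdA hdF

/-- At every prime: the local ring is normal or has depth at least two. -/
theorem normal_or_depth_two (hG : CAlg.IsGRing A)
    (hfib : ∀ (P : Ideal A) [P.IsPrime], P ≠ ⊥ → EGA4.IsGeomNormal P.ResidueField (P.Fiber B))
    (hspec : ∀ (q : Ideal B) [q.IsPrime], ∃ (Q : Ideal B) (_ : Q.IsPrime), q ≤ Q ∧
      Q.comap (algebraMap A B) ≠ ⊥)
    (Q : Ideal B) [Q.IsPrime] :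
    (IsDomain (Localization.AtPrime Q) ∧ IsIntegrallyClosed (Localization.AtPrime Q)) ∨
      (2 : ℕ∞) ≤ LocCoh.depth (Localization.AtPrime Q) (LocalizedModule Q.primeCompl B) := by
  by_cases hP : Q.comap (algebraMap A B) = ⊥
  · obtain ⟨Q₀, hQ₀prime, hqQ₀, hQ₀ne⟩ := hspec Q
    haveI := hQ₀prime
    obtain ⟨t, htQ₀, ht0⟩ := Submodule.exists_mem_ne_zero_of_ne_bot hQ₀ne
    have hle : Q ⊔ Ideal.span {algebraMap A B t} ≤ Q₀ :=
      sup_le hqQ₀ ((Ideal.span_singleton_le_iff_mem _).mpr htQ₀)
    obtain ⟨Q', hQmin, hQQ₀⟩ := Ideal.exists_minimalPrimes_le hle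
    haveI hQ'prime : Q'.IsPrime := hQmin.1.1
    have hQQ' : Q ≤ Q' := le_sup_left.trans hQmin.1.2
    have htQ' : algebraMap A B t ∈ Q' :=
      hQmin.1.2 (Ideal.mem_sup_right (Ideal.mem_span_singleton_self _))
    have hP'ne : Q'.comap (algebraMap A B) ≠ ⊥ := by
      intro h
      have h1 : t ∈ Q'.comap (algebraMap A B) := htQ'
      rw [h, Ideal.mem_bot] at h1
      exact ht0 h1
    have hht1 : (Q'.map (Ideal.Quotient.mk Q)).height ≤ 1 :=
      Ideal.map_height_le_one_of_mem_minimalPrimes hQmin
    rcases normal_or_depth_three A B hG hfib Q' hP'ne with ⟨hd, hic⟩ | h3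
    · haveI := hd
      haveI := hic
      exact Or.inl (Groth.Agent.H15.FlatLoc.normal_of_le Q' Q hQQ')
    · right
      have h4 := Groth.Agent.S11650.result B B Q Q' hQQ'
      rw [depth_locSelf B Q'] at h4
      have h5 : (2 : ℕ∞) + 1 ≤
          LocCoh.depth (Localization.AtPrime Q) (LocalizedModule Q.primeCompl B) + 1 := by
        have h3' : (3 : ℕ∞) = 2 + 1 := by norm_num
        rw [← h3']
        exact h3.trans (h4.trans (add_le_add le_rfl hht1))
      exact (ENat.add_le_add_iff_right ENat.one_ne_top).mp h5
  · rcases normal_or_depth_three A B hG hfib Q hP with h | h3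
    · exact Or.inl h
    · right
      rw [depth_locSelf B Q]
      refine le_trans ?_ h3
      norm_num

/-- **Core lemma**: a flat Noetherian algebra over a normal G-ring domain, with geometrically
normal fibres over the nonzero primes and all of whose points specialize to points over nonzero
primes, is normal. -/
theorem isNormalRing_of_normal_base (hG : CAlg.IsGRing A)
    (hfib : ∀ (P : Ideal A) [P.IsPrime], P ≠ ⊥ → EGA4.IsGeomNormal P.ResidueField (P.Fiber B))
    (hspec : ∀ (q : Ideal B) [q.IsPrime], ∃ (Q : Ideal B) (_ : Q.IsPrime), q ≤ Q ∧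
      Q.comap (algebraMap A B) ≠ ⊥) : EGA4.IsNormalRing B := by
  have key := normal_or_depth_two A B hG hfib hspec
  have hR1 : LocCoh.HasRk 1 B := by
    intro Q hQ hht
    rcases key Q with ⟨hd, hic⟩ | h2
    · haveI := hd
      haveI := hic
      haveI := Groth.Agent.H15.NormalAscent.isPrincipalIdealRing_of_normal_of_dim_le_one
        (Localization.AtPrime Q) (by
          rw [IsLocalization.AtPrime.ringKrullDim_eq_height Q (Localization.AtPrime Q)]
          exact_mod_cast hht)
      infer_instance
    · exfalso
      rw [depth_locSelf B Q] at h2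
      have h3 := Groth.Agent.H29.CM.depth_le_supportDim (A := Localization.AtPrime Q)
        (M := Localization.AtPrime Q)
      rw [Module.supportDim_self_eq_ringKrullDim,
        IsLocalization.AtPrime.ringKrullDim_eq_height Q (Localization.AtPrime Q),
        WithBot.coe_le_coe] at h3
      have h4 : ((2 : ℕ) : ℕ∞) ≤ ((1 : ℕ) : ℕ∞) := by
        refine le_trans ?_ (h3.trans hht)
        exact_mod_cast h2
      have h5 : (2 : ℕ) ≤ 1 := by exact_mod_cast h4
      omega
  have hS2 : LocCoh.HasSk 2 B B := by
    rw [Groth.Agent.S2659.hasSk_self_iff]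
    intro Q hQ
    rcases key Q with ⟨hd, hic⟩ | h2
    · haveI := hd
      haveI := hic
      have h := Groth.Agent.H15.FlatLoc.min_two_le_depth_of_normal (Localization.AtPrime Q)
      rw [height_maximalIdeal_localization] at h
      rw [depth_locSelf B Q]
      exact h
    · refine le_trans (min_le_left _ _) ?_
      exact_mod_cast h2
  intro p hp
  exact Groth.Agent.H15.SerreNormal.normal_of_hasRk_hasSk hR1 hS2 p

end Core

end Groth.Agent.H34.NormalCore
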