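import Mathlib
import Groth.Agent.H34.NormalCore
import Groth.Agent.H15.RedFibres
import Groth.Agent.S0599
import Groth.Agent.S0598
import Groth.Agent.S0568

/-! Geometrically normal fibres of flat local homomorphisms over a Nagata local G-ring
(EGA IV 7.5.1, normal case; helper34). -/

set_option autoImplicit false
set_option maxHeartbeats 1600000
set_option linter.style.haveILetI false
universe u
open TensorProduct IsLocalRing

namespace Groth.Agent.H34.NormalFibres

open Groth.Agent.H34.NormalCore Groth.Agent.H34.FibLoc

/-- Geometric normality of the fibre of `A' → A' ⊗[A] B` over `P` from that of the fibre of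
`A → B` over `P ∩ A`, for `A'` finite over `A`. -/
theorem isGeomNormal_fiber_baseChange (A B A' : Type u) [CommRing A] [CommRing B] [CommRing A']
    [Algebra A B] [Algebra A A'] [Module.Finite A A'] (P : Ideal A') [P.IsPrime]
    (h : EGA4.IsGeomNormal (P.comap (algebraMap A A')).ResidueField
      ((P.comap (algebraMap A A')).Fiber B)) :
    EGA4.IsGeomNormal P.ResidueField (P.Fiber (A' ⊗[A] B)) := by
  haveI hlo : P.LiesOver (P.comap (algebraMap A A')) := ⟨rfl⟩
  letI alg := Localization.AtPrime.algebraOfLiesOver (P.comap (algebraMap A A')) P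
  intro L _ _ hL
  haveI := hL
  letI : Algebra (P.comap (algebraMap A A')).ResidueField L :=
    ((algebraMap P.ResidueField L).comp
      (algebraMap (P.comap (algebraMap A A')).ResidueField P.ResidueField)).toAlgebra
  haveI : IsScalarTower (P.comap (algebraMap A A')).ResidueField P.ResidueField L :=
    IsScalarTower.of_algebraMap_eq (fun _ => rfl)
  haveI : Module.Finite (P.comap (algebraMap A A')).ResidueField L :=
    Module.Finite.trans P.ResidueField L
  have h1 := h L inferInstance
  letI : Algebra A' L :=
    ((algebraMap P.ResidueField L).comp (algebraMap A' P.ResidueField)).toAlgebra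
  haveI : IsScalarTower A' P.ResidueField L := IsScalarTower.of_algebraMap_eq (fun _ => rfl)
  letI : Algebra A L := ((algebraMap A' L).comp (algebraMap A A')).toAlgebra
  haveI : IsScalarTower A A' L := IsScalarTower.of_algebraMap_eq (fun _ => rfl)
  haveI : IsScalarTower A (P.comap (algebraMap A A')).ResidueField L :=
    IsScalarTower.of_algebraMap_eq (fun a => by
      show algebraMap P.ResidueField L (algebraMap A' P.ResidueField (algebraMap A A' a)) =
        algebraMap P.ResidueField L
          (algebraMap (P.comap (algebraMap A A')).ResidueField P.ResidueField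
            (algebraMap A (P.comap (algebraMap A A')).ResidueField a))
      rw [← IsScalarTower.algebraMap_apply A (P.comap (algebraMap A A')).ResidueField
          P.ResidueField, ← IsScalarTower.algebraMap_apply A A' P.ResidueField])
  let e1 := Algebra.TensorProduct.cancelBaseChange A (P.comap (algebraMap A A')).ResidueField
    (P.comap (algebraMap A A')).ResidueField L B
  let e2 := Algebra.TensorProduct.cancelBaseChange A A' L L B
  let e3 := Algebra.TensorProduct.cancelBaseChange A' P.ResidueField P.ResidueField L (A' ⊗[A] B)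
  exact isNormalRing_of_ringEquiv
    (e1.toRingEquiv.trans (e2.symm.toRingEquiv.trans e3.symm.toRingEquiv)) h1

section Step

variable (A B : Type u) [CommRing A] [CommRing B] [IsLocalRing A] [IsLocalRing B]
  [IsNoetherianRing A] [IsNoetherianRing B] [Algebra A B] [IsLocalHom (algebraMap A B)]
  [Module.Flat A B] (p : Ideal A) [p.IsPrime]

/-- The key case, for an abstract normalization `A'` with fraction field `k'`. -/
theorem isNormalRing_tensor_of_normalization (hG : CAlg.IsGRing A) (hpm : p ≠ maximalIdeal A)
    (hIH : ∀ (p' : Ideal A) [p'.IsPrime], p < p' →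
      EGA4.IsGeomNormal p'.ResidueField (p'.Fiber B))
    (k' : Type u) [Field k'] [Algebra A k']
    (A' : Type u) [CommRing A'] [IsDomain A'] [IsIntegrallyClosed A'] [Algebra A A']
    [Module.Finite A A'] [Algebra A' k'] [IsScalarTower A A' k'] [IsFractionRing A' k']
    (hker : ∀ a : A, algebraMap A A' a = 0 ↔ a ∈ p) : EGA4.IsNormalRing (k' ⊗[A] B) := by
  haveI : IsNoetherianRing A' := IsNoetherianRing.of_finite A A'
  haveI : Algebra.IsIntegral A A' := Algebra.IsIntegral.of_finite A _
  haveI : IsNoetherianRing (B ⊗[A] A') := IsNoetherianRing.of_finite B _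
  haveI : IsNoetherianRing (A' ⊗[A] B) :=
    isNoetherianRing_of_ringEquiv _ (Algebra.TensorProduct.comm A B A').toRingEquiv
  have hbotc : (⊥ : Ideal A').comap (algebraMap A A') = p := by
    ext a
    rw [Ideal.mem_comap, Ideal.mem_bot, hker]
  have hG' : CAlg.IsGRing A' := Groth.Agent.S0599.result A hG A'
  have hnorm : EGA4.IsNormalRing (A' ⊗[A] B) := by
    apply isNormalRing_of_normal_base A' (A' ⊗[A] B) hG'
    · intro P _ hP
      have hlt : p < P.comap (algebraMap A A') := by
        rw [← hbotc]
        exact Ideal.IsIntegral.comap_lt_comap (R := A) (bot_lt_iff_ne_bot.mpr hP)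
      exact isGeomNormal_fiber_baseChange A B A' P (hIH _ hlt)
    · intro q hq
      obtain ⟨Q, hQmax, hqQ⟩ := Ideal.exists_le_maximal q hq.ne_top
      haveI := hQmax
      refine ⟨Q, hQmax.isPrime, hqQ, ?_⟩
      obtain ⟨t, htm, htp⟩ := SetLike.exists_of_lt
        (lt_of_le_of_ne (le_maximalIdeal (Ideal.IsPrime.ne_top inferInstance)) hpm)
      have htB : algebraMap A B t ∈ maximalIdeal B := map_nonunit (algebraMap A B) t htm
      have h1 := Groth.Agent.H15.RedFibres.one_tmul_mem_of_isMaximal A B A' Q _ htB
      have h2 : (1 : A') ⊗ₜ[A] (algebraMap A B t) =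
          algebraMap A' (A' ⊗[A] B) (algebraMap A A' t) := by
        rw [Algebra.TensorProduct.algebraMap_apply, Algebra.algebraMap_eq_smul_one,
          Algebra.algebraMap_eq_smul_one (R := A) (A := A'),
          TensorProduct.tmul_smul, TensorProduct.smul_tmul']
        simp
      rw [h2] at h1
      intro hbot
      have h3 : algebraMap A A' t ∈ Q.comap (algebraMap A' (A' ⊗[A] B)) := h1
      rw [hbot, Ideal.mem_bot, hker] at h3
      exact htp h3
  -- `k' ⊗ B` is a localization of `A' ⊗ B`
  have h4 : EGA4.IsNormalRing ((A' ⊗[A] B) ⊗[A'] k') :=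
    isNormalRing_of_isLocalization
      (Algebra.algebraMapSubmonoid (A' ⊗[A] B) (nonZeroDivisors A'))
      ((A' ⊗[A] B) ⊗[A'] k') hnorm
  have h5 : EGA4.IsNormalRing (k' ⊗[A'] (A' ⊗[A] B)) :=
    isNormalRing_of_ringEquiv (Algebra.TensorProduct.comm A' k' (A' ⊗[A] B)).symm.toRingEquiv h4
  exact isNormalRing_of_ringEquiv
    (Algebra.TensorProduct.cancelBaseChange A A' k' k' B).toRingEquiv h5

/-- The inductive step: the fibre over `p` is geometrically normal if the fibres over the strict
specializations of `p` are. -/
theorem isGeomNormal_of_isN2 (hG : CAlg.IsGRing A) (hpm : p ≠ maximalIdeal A)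
    (hN2 : CAlg.IsN2 (A ⧸ p))
    (hIH : ∀ (p' : Ideal A) [p'.IsPrime], p < p' →
      EGA4.IsGeomNormal p'.ResidueField (p'.Fiber B)) :
    EGA4.IsGeomNormal p.ResidueField (p.Fiber B) := by
  intro k' _ _ hfin
  haveI := hfin
  letI : Algebra A k' :=
    ((algebraMap p.ResidueField k').comp (algebraMap A p.ResidueField)).toAlgebra
  haveI : IsScalarTower A p.ResidueField k' := IsScalarTower.of_algebraMap_eq (fun _ => rfl)
  letI : Algebra (A ⧸ p) k' :=
    ((algebraMap p.ResidueField k').comp (algebraMap (A ⧸ p) p.ResidueField)).toAlgebra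
  haveI : IsScalarTower (A ⧸ p) p.ResidueField k' := IsScalarTower.of_algebraMap_eq (fun _ => rfl)
  haveI : IsScalarTower A (A ⧸ p) k' := IsScalarTower.of_algebraMap_eq (fun a => by
    show algebraMap p.ResidueField k' (algebraMap A p.ResidueField a) =
      algebraMap p.ResidueField k' (algebraMap (A ⧸ p) p.ResidueField (algebraMap A (A ⧸ p) a))
    rw [← IsScalarTower.algebraMap_apply A (A ⧸ p) p.ResidueField])
  let ι : FractionRing (A ⧸ p) ≃ₐ[A ⧸ p] p.ResidueField :=
    FractionRing.algEquiv (A ⧸ p) p.ResidueField
  letI : Algebra (FractionRing (A ⧸ p)) p.ResidueField := ι.toAlgHom.toRingHom.toAlgebra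
  letI : Algebra (FractionRing (A ⧸ p)) k' :=
    ((algebraMap p.ResidueField k').comp
      (algebraMap (FractionRing (A ⧸ p)) p.ResidueField)).toAlgebra
  haveI : IsScalarTower (FractionRing (A ⧸ p)) p.ResidueField k' :=
    IsScalarTower.of_algebraMap_eq (fun _ => rfl)
  haveI : IsScalarTower (A ⧸ p) (FractionRing (A ⧸ p)) k' :=
    IsScalarTower.of_algebraMap_eq (fun x => by
      show algebraMap p.ResidueField k' (algebraMap (A ⧸ p) p.ResidueField x) =
        algebraMap p.ResidueField k' (ι (algebraMap (A ⧸ p) (FractionRing (A ⧸ p)) x))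
      rw [ι.commutes])
  haveI : Module.Finite (FractionRing (A ⧸ p)) p.ResidueField :=
    Module.Finite.of_surjective (Algebra.linearMap (FractionRing (A ⧸ p)) p.ResidueField)
      ι.surjective
  haveI : Module.Finite (FractionRing (A ⧸ p)) k' := Module.Finite.trans p.ResidueField k'
  have hfinA' : Module.Finite (A ⧸ p) (integralClosure (A ⧸ p) k') :=
    hN2 k' (inferInstance : FiniteDimensional (FractionRing (A ⧸ p)) k')
  haveI := hfinA'
  haveI hic : IsIntegrallyClosed (integralClosure (A ⧸ p) k') :=
    integralClosure.isIntegrallyClosedOfFiniteExtension (FractionRing (A ⧸ p))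
  haveI hfr : IsFractionRing (integralClosure (A ⧸ p) k') k' :=
    integralClosure.isFractionRing_of_finite_extension (FractionRing (A ⧸ p)) k'
  haveI : Module.Finite A (integralClosure (A ⧸ p) k') :=
    Module.Finite.trans (A ⧸ p) (integralClosure (A ⧸ p) k')
  have hinjk : Function.Injective (algebraMap (A ⧸ p) k') := by
    rw [IsScalarTower.algebraMap_eq (A ⧸ p) (FractionRing (A ⧸ p)) k']
    exact (algebraMap (FractionRing (A ⧸ p)) k').injective.comp
      (IsFractionRing.injective (A ⧸ p) (FractionRing (A ⧸ p)))
  have hker : ∀ a : A, algebraMap A (integralClosure (A ⧸ p) k') a = 0 ↔ a ∈ p := by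
    intro a
    rw [← Subtype.coe_inj]
    show algebraMap A k' a = 0 ↔ _
    rw [IsScalarTower.algebraMap_apply A (A ⧸ p) k', map_eq_zero_iff _ hinjk,
      Ideal.Quotient.algebraMap_eq, Ideal.Quotient.eq_zero_iff_mem]
  have h := isNormalRing_tensor_of_normalization A B p hG hpm hIH k'
    (integralClosure (A ⧸ p) k') hker
  exact isNormalRing_of_ringEquiv
    (Algebra.TensorProduct.cancelBaseChange A p.ResidueField p.ResidueField k' B).symm.toRingEquiv h

end Step

section Main

variable (A B : Type u) [CommRing A] [CommRing B] [IsLocalRing A] [IsLocalRing B]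
  [IsNoetherianRing A] [IsNoetherianRing B] [Algebra A B] [IsLocalHom (algebraMap A B)]
  [Module.Flat A B]

/-- A flat local homomorphism over a Nagata local G-ring with geometrically normal closed fibre is a
normal homomorphism. -/
theorem isNormalHom_of_nagata_gring (hnag : CAlg.IsNagata A) (hG : CAlg.IsGRing A)
    (hcl : EGA4.IsGeomNormal (maximalIdeal A).ResidueField ((maximalIdeal A).Fiber B)) :
    EGA4.IsNormalHom A B := by
  refine ⟨inferInstance, ?_⟩
  have main : ∀ (p : Ideal A) (hp : p.IsPrime), EGA4.IsGeomNormal p.ResidueField (p.Fiber B) := by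
    intro p
    induction p using WellFoundedGT.induction with
    | ind p ih =>
    intro hp
    by_cases hpm : p = maximalIdeal A
    · subst hpm
      exact hcl
    · exact isGeomNormal_of_isN2 A B p hG hpm (hnag.2 p) (fun p' hp' hlt => ih p' hlt hp')
  intro p hp
  exact main p hp

end Main

end Groth.Agent.H34.NormalFibres
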