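import Groth.Agent.H34.Fitting2

set_option autoImplicit false
universe u v

namespace Groth.Agent.H34.Fit

open Matrix

variable {R : Type u} [CommRing R] {M : Type v} [AddCommGroup M] [Module R M]

theorem card_compl_range_le {n k : ℕ} (e : Fin (n - k) → Fin n) (he : Function.Injective e) :
    Fintype.card {c : Fin n // c ∉ Set.range e} ≤ k := by
  classical
  have h1 : Fintype.card {c : Fin n // c ∉ Set.range e} =
      Fintype.card (Fin n) - Fintype.card {c : Fin n // c ∈ Set.range e} :=
    Fintype.card_subtype_compl _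
  have h2 : Fintype.card {c : Fin n // c ∈ Set.range e} = Fintype.card (Fin (n - k)) :=
    Fintype.card_congr (Equiv.ofInjective e he).symm
  rw [h1, h2, Fintype.card_fin, Fintype.card_fin]
  omega

/-- Cramer-type relations. -/
theorem cramer_rel {n q : ℕ} (x : Fin n → M) (z : Fin q → Fin n → R) (hz : ∀ b, IsRel x (z b))
    (e : Fin q → Fin n) (a₀ : Fin q) :
    IsRel x (fun i => ((Matrix.of fun b a => z b (e a)).adjugate *ᵥ (fun b => z b i)) a₀) := by
  unfold IsRel
  simp only [Matrix.mulVec, dotProduct, Finset.sum_smul, mul_smul]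
  rw [Finset.sum_comm]
  refine Finset.sum_eq_zero (fun b _ => ?_)
  rw [← Finset.smul_sum]
  have h := hz b
  unfold IsRel at h
  rw [h, smul_zero]

theorem cramer_coeff_mem {n q : ℕ} (x : Fin n → M) (z : Fin q → Fin n → R)
    (hz : ∀ b, IsRel x (z b)) (e : Fin q → Fin n) (a₀ : Fin q) (c : Fin n) :
    ((Matrix.of fun b a => z b (e a)).adjugate *ᵥ (fun b => z b c)) a₀ ∈
      minorsIdeal {z | IsRel x z} q := by
  classical
  rw [← Matrix.cramer_eq_adjugate_mulVec, Matrix.cramer_apply]
  apply Ideal.subset_span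
  refine ⟨z, Function.update e a₀ c, hz, ?_⟩
  rw [← Matrix.det_transpose]
  congr 1
  ext b a
  simp only [Matrix.updateCol_apply, Matrix.of_apply, Matrix.transpose_apply, Function.update_apply]
  split_ifs <;> rfl

theorem cramer_coeff_self {n q : ℕ} (z : Fin q → Fin n → R) (e : Fin q → Fin n) (a₀ a : Fin q) :
    ((Matrix.of fun b a => z b (e a)).adjugate *ᵥ (fun b => z b (e a))) a₀ =
      if a₀ = a then (Matrix.of fun a b => z b (e a)).det else 0 := by
  have h := congrFun (congrFun (Matrix.adjugate_mul (Matrix.of fun b a => z b (e a))) a₀) a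
  rw [Matrix.mul_apply] at h
  simp only [Matrix.mulVec, dotProduct]
  simp only [Matrix.of_apply] at h
  rw [h, Matrix.smul_apply, Matrix.one_apply, smul_eq_mul, mul_ite, mul_one, mul_zero,
    ← Matrix.det_transpose]
  rfl

/-- Over a local ring, if `Fit_k(M) = (f)` then `M / M[f]` is generated by `k` elements. -/
theorem exists_generators_quotient_of_fittIdeal_principal [IsLocalRing R] [Module.Finite R M]
    (k : ℕ) (f : R) (hf : Fitt.ideal R M k = Ideal.span {f}) :
    ∃ g : Fin k → M ⧸ LinearMap.ker (f • (LinearMap.id : M →ₗ[R] M)),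
      Submodule.span R (Set.range g) = ⊤ := by
  classical
  obtain ⟨n, x, hx⟩ := Module.Finite.exists_fin (R := R) (M := M)
  set P := LinearMap.ker (f • (LinearMap.id : M →ₗ[R] M)) with hP
  have hmemP : ∀ m : M, m ∈ P ↔ f • m = 0 := fun m => by simp [hP]
  have hgen : ∀ (N : Submodule R (M ⧸ P)), (∀ i, P.mkQ (x i) ∈ N) → N = ⊤ := by
    intro N hN
    rw [eq_top_iff]
    rintro y -
    obtain ⟨m, rfl⟩ := P.mkQ_surjective y
    have hm : m ∈ Submodule.span R (Set.range x) := by rw [hx]; trivial
    induction hm using Submodule.span_induction with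
    | mem y hy =>
      obtain ⟨i, rfl⟩ := hy
      exact hN i
    | zero => simp
    | add a b _ _ ha hb =>
      rw [map_add]
      exact N.add_mem ha hb
    | smul r a _ ha =>
      rw [map_smul]
      exact N.smul_mem r ha
  by_cases hf0 : f = 0
  · refine ⟨fun _ => 0, hgen _ (fun i => ?_)⟩
    have h1 : x i ∈ P := by rw [hmemP, hf0, zero_smul]
    rw [Submodule.mkQ_apply, (Submodule.Quotient.mk_eq_zero P).mpr h1]
    exact Submodule.zero_mem _
  have hfit := fittIdeal_eq_minorsIdeal x hx k
  obtain ⟨z, e, hz, u, hu, hδ⟩ : ∃ (z : Fin (n - k) → Fin n → R) (e : Fin (n - k) → Fin n),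
      (∀ b, IsRel x (z b)) ∧ ∃ u : R, IsUnit u ∧ (Matrix.of fun a b => z b (e a)).det = u * f := by
    by_contra hcon
    have h1 : minorsIdeal {z | IsRel x z} (n - k) ≤
        IsLocalRing.maximalIdeal R • (Ideal.span {f} : Submodule R R) := by
      apply Ideal.span_le.mpr
      rintro d ⟨z, e, hz, rfl⟩
      have h2 : (Matrix.of fun a b => z b (e a)).det ∈ Ideal.span {f} := by
        rw [← hf, hfit]
        exact Ideal.subset_span ⟨z, e, hz, rfl⟩
      obtain ⟨s, hs⟩ := Ideal.mem_span_singleton'.mp h2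
      have hs' : s ∈ IsLocalRing.maximalIdeal R := by
        rw [IsLocalRing.mem_maximalIdeal]
        intro hsu
        exact hcon ⟨z, e, hz, s, hsu, hs.symm⟩
      rw [SetLike.mem_coe, ← hs, ← smul_eq_mul]
      exact Submodule.smul_mem_smul hs' (Ideal.mem_span_singleton_self f)
    have h3 : (Ideal.span {f} : Submodule R R) ≤
        IsLocalRing.maximalIdeal R • (Ideal.span {f} : Submodule R R) := by
      calc (Ideal.span {f} : Submodule R R) = minorsIdeal {z | IsRel x z} (n - k) := by
            rw [← hf, hfit]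
        _ ≤ _ := h1
    have h4 := Submodule.eq_bot_of_le_smul_of_le_jacobson_bot (IsLocalRing.maximalIdeal R)
      (Ideal.span {f} : Submodule R R) (Submodule.fg_span_singleton f) h3
      (IsLocalRing.maximalIdeal_le_jacobson ⊥)
    exact hf0 (Ideal.span_singleton_eq_bot.mp h4)
  have hδ0 : (Matrix.of fun a b => z b (e a)).det ≠ 0 := by
    rw [hδ]
    intro h
    exact hf0 ((hu.mul_right_eq_zero).mp h)
  have he : Function.Injective e := by
    intro a a' haa'
    by_contra hne
    exact hδ0 (Matrix.det_zero_of_row_eq hne (by funext b; simp [haa']))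
  let t : Fin (n - k) → Fin n → R := fun a₀ i =>
    ((Matrix.of fun b a => z b (e a)).adjugate *ᵥ (fun b => z b i)) a₀
  have htrel : ∀ a₀, IsRel x (t a₀) := fun a₀ => cramer_rel x z hz e a₀
  have htmem : ∀ a₀ c, ∃ τ, τ * f = t a₀ c := fun a₀ c => by
    have h1 := cramer_coeff_mem x z hz e a₀ c
    rw [← hfit, hf] at h1
    exact Ideal.mem_span_singleton'.mp h1
  choose τ₀ hτ₀ using htmem
  let τ : Fin (n - k) → Fin n → R := fun a₀ i =>
    if i = e a₀ then u else if i ∈ Set.range e then 0 else τ₀ a₀ i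
  have hτ : ∀ a₀ i, τ a₀ i * f = t a₀ i := by
    intro a₀ i
    by_cases h1 : i = e a₀
    · rw [h1]
      have h2 : τ a₀ (e a₀) = u := by simp [τ]
      rw [h2, show t a₀ (e a₀) = _ from cramer_coeff_self z e a₀ a₀, if_pos rfl, hδ]
    · by_cases h2 : i ∈ Set.range e
      · obtain ⟨a, rfl⟩ := h2
        have hne : a₀ ≠ a := fun h => h1 (by rw [h])
        have h3 : τ a₀ (e a) = 0 := by simp [τ, h1]
        rw [h3, zero_mul, show t a₀ (e a) = _ from cramer_coeff_self z e a₀ a, if_neg hne]
      · have h3 : τ a₀ i = τ₀ a₀ i := by simp only [τ, if_neg h1, if_neg h2]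
        rw [h3]
        exact hτ₀ a₀ i
  have hy : ∀ a₀, ∑ i, τ a₀ i • x i ∈ P := by
    intro a₀
    rw [hmemP, Finset.smul_sum]
    have h1 := htrel a₀
    unfold IsRel at h1
    rw [← h1]
    refine Finset.sum_congr rfl (fun i _ => ?_)
    rw [smul_smul, mul_comm, hτ]
  let N : Submodule R (M ⧸ P) :=
    Submodule.span R (Set.range (fun c : {c : Fin n // c ∉ Set.range e} => P.mkQ (x c.1)))
  have hN : ∀ i, P.mkQ (x i) ∈ N := by
    intro i
    by_cases h2 : i ∈ Set.range e
    · obtain ⟨a₀, rfl⟩ := h2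
      have h3 : P.mkQ (∑ i, τ a₀ i • x i) = 0 := by
        rw [Submodule.mkQ_apply]
        exact (Submodule.Quotient.mk_eq_zero P).mpr (hy a₀)
      rw [map_sum, ← Finset.add_sum_erase Finset.univ _ (Finset.mem_univ (e a₀))] at h3
      have h4 : τ a₀ (e a₀) = u := by simp [τ]
      simp only [map_smul] at h3
      rw [h4] at h3
      have h5 : ∑ i ∈ Finset.univ.erase (e a₀), τ a₀ i • P.mkQ (x i) ∈ N := by
        refine Submodule.sum_mem _ (fun i hi => ?_)
        have hi' : i ≠ e a₀ := Finset.ne_of_mem_erase hi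
        by_cases h6 : i ∈ Set.range e
        · have h7 : τ a₀ i = 0 := by simp only [τ, if_neg hi', if_pos h6]
          rw [h7, zero_smul]
          exact N.zero_mem
        · exact N.smul_mem _ (Submodule.subset_span ⟨⟨i, h6⟩, rfl⟩)
      have h7 : u • P.mkQ (x (e a₀)) ∈ N := by
        have h8 : u • P.mkQ (x (e a₀)) =
            - ∑ i ∈ Finset.univ.erase (e a₀), τ a₀ i • P.mkQ (x i) :=
          eq_neg_of_add_eq_zero_left h3
        rw [h8]
        exact N.neg_mem h5
      obtain ⟨u', hu'⟩ := hu.exists_left_inv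
      have h9 := N.smul_mem u' h7
      rwa [smul_smul, hu', one_smul] at h9
    · exact Submodule.subset_span ⟨⟨i, h2⟩, rfl⟩
  have hNtop : N = ⊤ := hgen N hN
  have hcard : Fintype.card {c : Fin n // c ∉ Set.range e} ≤ k := card_compl_range_le e he
  let eC : {c : Fin n // c ∉ Set.range e} ≃ Fin (Fintype.card {c : Fin n // c ∉ Set.range e}) :=
    Fintype.equivFin _
  refine ⟨fun j => if h : (j : ℕ) < Fintype.card {c : Fin n // c ∉ Set.range e} then
    P.mkQ (x (eC.symm ⟨j, h⟩).1) else 0, ?_⟩
  rw [eq_top_iff, ← hNtop]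
  apply Submodule.span_le.mpr
  rintro _ ⟨c, rfl⟩
  apply Submodule.subset_span
  refine ⟨⟨eC c, lt_of_lt_of_le (eC c).isLt hcard⟩, ?_⟩
  have h1 : ((eC c : Fin _) : ℕ) < Fintype.card {c : Fin n // c ∉ Set.range e} := (eC c).isLt
  simp only [dif_pos h1, Fin.eta, Equiv.symm_apply_apply]

end Groth.Agent.H34.Fit
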