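import Mathlib
import Groth.Prelude.Def_Tame
import Groth.Agent.H34.TameLaws4
import Groth.Agent.H87.TameP1
import Groth.Agent.H75.TameP24

set_option autoImplicit false
set_option linter.style.haveILetI false

/-!
# Norm of the local tame symbols of a finite extension (S1849), local part
-/

namespace Groth.Agent.H34.TameNorm

open IsLocalRing CycAlg Function
open Groth.Agent.H34.TameLoc Groth.Agent.H34.TameCmp Groth.Agent.H34.TameCL
open Groth.Agent.H34.TameRep Groth.Agent.H34.TameRef Groth.Agent.H34.TameLaws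
open Groth.Agent.H87.TameP1 Groth.Agent.H75.TameP24

universe u

/-- The tame symbol of two units is one. -/
theorem tameSymbol_eq_one_of_isUnit {R : Type u} [CommRing R] [IsLocalRing R] {a b : R}
    (ha : IsUnit a) (hb : IsUnit b) : tameSymbol R a b = 1 := by
  unfold tameSymbol
  split_ifs with h
  · exact value_eq_one_of_isUnit ha hb _
  · rfl

section Local

variable {A : Type u} [CommRing A] [IsLocalRing A] [IsNoetherianRing A]
variable {B E : Type u} [CommRing B] [CommRing E] [Algebra A B] [Algebra A E] [Algebra B E]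
  [IsScalarTower A B E] [Module.Finite A B] [Module.Finite A E]

omit [IsLocalRing A] [IsNoetherianRing A] [Module.Finite A B] [Module.Finite A E] in
theorem tower_loc (q : MaximalSpectrum B) :
    IsScalarTower A (Localization.AtPrime q.asIdeal)
      (Localization (Algebra.algebraMapSubmonoid E q.asIdeal.primeCompl)) := by
  apply IsScalarTower.of_algebraMap_eq
  intro x
  rw [IsScalarTower.algebraMap_apply A B (Localization.AtPrime q.asIdeal),
    ← IsScalarTower.algebraMap_apply B (Localization.AtPrime q.asIdeal),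
    IsScalarTower.algebraMap_apply B E, ← IsScalarTower.algebraMap_apply A B E,
    ← IsScalarTower.algebraMap_apply A E]

variable [hlocB : ∀ q : MaximalSpectrum B,
    IsLocalHom (algebraMap A (Localization.AtPrime q.asIdeal))]
  [hlocE : ∀ q : MaximalSpectrum E, IsLocalHom (algebraMap A (Localization.AtPrime q.asIdeal))]

theorem norm_tameSymbol_localization (q : MaximalSpectrum B)
    (hdim : ringKrullDim (Localization.AtPrime q.asIdeal) = 1)
    (hfin : IsFinExt (Localization.AtPrime q.asIdeal)
      (Localization (Algebra.algebraMapSubmonoid E q.asIdeal.primeCompl))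
      (maximalIdeal (Localization.AtPrime q.asIdeal)))
    (a b : A)
    (ha : algebraMap A (Localization.AtPrime q.asIdeal) a ∈
      nonZeroDivisors (Localization.AtPrime q.asIdeal))
    (hb : algebraMap A (Localization.AtPrime q.asIdeal) b ∈
      nonZeroDivisors (Localization.AtPrime q.asIdeal))
    (π : ∀ q'' : MaximalSpectrum E, Localization.AtPrime q''.asIdeal)
    (hπ : ∀ q'' : MaximalSpectrum E, π q'' ∈ nonZeroDivisors (Localization.AtPrime q''.asIdeal))
    (u v : ∀ q'' : MaximalSpectrum E, (Localization.AtPrime q''.asIdeal)ˣ)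
    (e e' : MaximalSpectrum E → ℕ)
    (fac₁ : ∀ q'' : MaximalSpectrum E, algebraMap A (Localization.AtPrime q''.asIdeal) a =
      (u q'' : Localization.AtPrime q''.asIdeal) * π q'' ^ e q'')
    (fac₂ : ∀ q'' : MaximalSpectrum E, algebraMap A (Localization.AtPrime q''.asIdeal) b =
      (v q'' : Localization.AtPrime q''.asIdeal) * π q'' ^ e' q'') :
    Algebra.norm (ResidueField A)
      (tameSymbol (Localization.AtPrime q.asIdeal)
        (algebraMap A (Localization.AtPrime q.asIdeal) a)
        (algebraMap A (Localization.AtPrime q.asIdeal) b)) =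
    ∏ᶠ q'' : {q'' : MaximalSpectrum E // q''.asIdeal.comap (algebraMap B E) = q.asIdeal},
      lf (A := A) (Localization.AtPrime q''.1.asIdeal) (π q''.1) (u q''.1) (v q''.1)
        (e q''.1) (e' q''.1) := by
  classical
  haveI : IsNoetherianRing B := IsNoetherianRing.of_finite A B
  haveI : Module.Finite B E := Module.Finite.of_restrictScalars_finite A B E
  haveI : Algebra.IsIntegral B E := Algebra.IsIntegral.of_finite B E
  haveI : IsNoetherianRing (Localization.AtPrime q.asIdeal) :=
    IsLocalization.isNoetherianRing q.asIdeal.primeCompl _ inferInstance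
  haveI : Module.Finite (Localization.AtPrime q.asIdeal)
      (Localization (Algebra.algebraMapSubmonoid E q.asIdeal.primeCompl)) := hfin.2.1
  haveI twr : IsScalarTower A (Localization.AtPrime q.asIdeal)
      (Localization (Algebra.algebraMapSubmonoid E q.asIdeal.primeCompl)) := tower_loc q
  obtain ⟨σ, hσ⟩ := maxSpec_localization (B := B) (E := E) q
  have hlocC : ∀ 𝔫 : MaximalSpectrum (Localization (Algebra.algebraMapSubmonoid E q.asIdeal.primeCompl)),
      IsLocalHom (algebraMap (Localization.AtPrime q.asIdeal) (Localization.AtPrime 𝔫.asIdeal)) :=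
    fun 𝔫 => isLocalHom_of_finite 𝔫
  have twr2 : ∀ 𝔫 : MaximalSpectrum (Localization (Algebra.algebraMapSubmonoid E q.asIdeal.primeCompl)),
      IsScalarTower A (Localization.AtPrime q.asIdeal) (Localization.AtPrime 𝔫.asIdeal) := by
    intro 𝔫
    apply IsScalarTower.of_algebraMap_eq
    intro x
    rw [IsScalarTower.algebraMap_apply A
        (Localization (Algebra.algebraMapSubmonoid E q.asIdeal.primeCompl))
        (Localization.AtPrime 𝔫.asIdeal),
      IsScalarTower.algebraMap_apply A (Localization.AtPrime q.asIdeal)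
        (Localization (Algebra.algebraMapSubmonoid E q.asIdeal.primeCompl)),
      ← IsScalarTower.algebraMap_apply (Localization.AtPrime q.asIdeal)
        (Localization (Algebra.algebraMapSubmonoid E q.asIdeal.primeCompl))
        (Localization.AtPrime 𝔫.asIdeal)]
  let ea : ∀ 𝔫 : MaximalSpectrum (Localization (Algebra.algebraMapSubmonoid E q.asIdeal.primeCompl)),
      Localization.AtPrime (σ 𝔫).1.asIdeal ≃ₐ[A] Localization.AtPrime 𝔫.asIdeal :=
    fun 𝔫 => (Classical.choice (hσ 𝔫)).symm.restrictScalars A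
  have hfac : ∀ (𝔫 : MaximalSpectrum (Localization (Algebra.algebraMapSubmonoid E q.asIdeal.primeCompl)))
      (c : A) (w : (Localization.AtPrime (σ 𝔫).1.asIdeal)ˣ) (k : ℕ),
      algebraMap A (Localization.AtPrime (σ 𝔫).1.asIdeal) c =
        (w : Localization.AtPrime (σ 𝔫).1.asIdeal) * π (σ 𝔫).1 ^ k →
      algebraMap (Localization.AtPrime q.asIdeal) (Localization.AtPrime 𝔫.asIdeal)
        (algebraMap A (Localization.AtPrime q.asIdeal) c) =
        ((Units.map ((ea 𝔫 : Localization.AtPrime (σ 𝔫).1.asIdeal ≃ₐ[A]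
            Localization.AtPrime 𝔫.asIdeal) :
            Localization.AtPrime (σ 𝔫).1.asIdeal →* Localization.AtPrime 𝔫.asIdeal) w :
            (Localization.AtPrime 𝔫.asIdeal)ˣ) : Localization.AtPrime 𝔫.asIdeal) *
          (ea 𝔫 (π (σ 𝔫).1)) ^ k := by
    intro 𝔫 c w k h
    haveI := twr2 𝔫
    rw [← IsScalarTower.algebraMap_apply A (Localization.AtPrime q.asIdeal)
      (Localization.AtPrime 𝔫.asIdeal), ← (ea 𝔫).commutes c, h, map_mul, map_pow]
    rfl
  let D : TameData (Localization.AtPrime q.asIdeal)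
      (algebraMap A (Localization.AtPrime q.asIdeal) a)
      (algebraMap A (Localization.AtPrime q.asIdeal) b) :=
    { B := Localization (Algebra.algebraMapSubmonoid E q.asIdeal.primeCompl)
      isFinExt := hfin
      isLocalHom := hlocC
      π := fun 𝔫 => ea 𝔫 (π (σ 𝔫).1)
      π_mem := fun 𝔫 => mem_nonZeroDivisors_of_injective (f := (ea 𝔫).symm)
        (ea 𝔫).symm.injective (by rw [AlgEquiv.symm_apply_apply]; exact hπ _)
      u₁ := fun 𝔫 => Units.map ((ea 𝔫 : Localization.AtPrime (σ 𝔫).1.asIdeal ≃ₐ[A]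
            Localization.AtPrime 𝔫.asIdeal) :
            Localization.AtPrime (σ 𝔫).1.asIdeal →* Localization.AtPrime 𝔫.asIdeal) (u (σ 𝔫).1)
      u₂ := fun 𝔫 => Units.map ((ea 𝔫 : Localization.AtPrime (σ 𝔫).1.asIdeal ≃ₐ[A]
            Localization.AtPrime 𝔫.asIdeal) :
            Localization.AtPrime (σ 𝔫).1.asIdeal →* Localization.AtPrime 𝔫.asIdeal) (v (σ 𝔫).1)
      e₁ := fun 𝔫 => e (σ 𝔫).1
      e₂ := fun 𝔫 => e' (σ 𝔫).1
      fac₁ := fun 𝔫 => hfac 𝔫 a _ _ (fac₁ _)
      fac₂ := fun 𝔫 => hfac 𝔫 b _ _ (fac₂ _) }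
  rw [tameSymbol_eq hdim ha hb D]
  haveI : Finite (MaximalSpectrum (Localization (Algebra.algebraMapSubmonoid E q.asIdeal.primeCompl))) :=
    finite_maximalSpectrum (A := Localization.AtPrime q.asIdeal) _
  haveI := Fintype.ofFinite
    (MaximalSpectrum (Localization (Algebra.algebraMapSubmonoid E q.asIdeal.primeCompl)))
  haveI : Finite {q'' : MaximalSpectrum E // q''.asIdeal.comap (algebraMap B E) = q.asIdeal} :=
    Finite.of_equiv _ σ
  haveI := Fintype.ofFinite
    {q'' : MaximalSpectrum E // q''.asIdeal.comap (algebraMap B E) = q.asIdeal}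
  have h1 : ∀ 𝔫 : MaximalSpectrum (Localization (Algebra.algebraMapSubmonoid E q.asIdeal.primeCompl)),
      Algebra.norm (ResidueField A) (D.localFactor 𝔫) =
        lf (A := A) (Localization.AtPrime (σ 𝔫).1.asIdeal) (π (σ 𝔫).1) (u (σ 𝔫).1) (v (σ 𝔫).1)
          (e (σ 𝔫).1) (e' (σ 𝔫).1) := by
    intro 𝔫
    haveI := twr2 𝔫
    haveI := hlocC 𝔫
    haveI hlA : IsLocalHom (algebraMap A (Localization.AtPrime 𝔫.asIdeal)) := by
      rw [IsScalarTower.algebraMap_eq A (Localization.AtPrime q.asIdeal)
        (Localization.AtPrime 𝔫.asIdeal)]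
      exact RingHom.isLocalHom_comp _ _
    rw [localFactor_eq]
    refine (norm_lf (A := A) (R := Localization.AtPrime q.asIdeal)
      (S := Localization.AtPrime 𝔫.asIdeal) _ _ _ _ _).trans ?_
    exact (lf_algEquiv (ea 𝔫) _ _ _ _ _).symm
  have h2 : D.value = ∏ 𝔫 : MaximalSpectrum (Localization (Algebra.algebraMapSubmonoid E q.asIdeal.primeCompl)),
      D.localFactor 𝔫 := finprod_eq_prod_of_fintype _
  rw [h2, map_prod, Finset.prod_congr rfl (fun 𝔫 _ => h1 𝔫), finprod_eq_prod_of_fintype]
  exact Equiv.prod_comp σ (fun q'' : {q'' : MaximalSpectrum E //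
      q''.asIdeal.comap (algebraMap B E) = q.asIdeal} =>
    lf (A := A) (Localization.AtPrime q''.1.asIdeal) (π q''.1) (u q''.1) (v q''.1)
        (e q''.1) (e' q''.1))

end Local

end Groth.Agent.H34.TameNorm
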