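import Mathlib
import Groth.Prelude.Def_CAlg
import Groth.Agent.H26.DepthLib

namespace Groth.Agent.H34.ReflDepth2

open Pointwise

universe u

variable {A : Type u} [CommRing A]

theorem exists_pow_smul_eq_zero [IsNoetherianRing A] (I : Ideal A) {N : Type*} [AddCommGroup N]
    [Module A N] (x : N)
    (h : ∀ p : PrimeSpectrum A, ¬ I ≤ p.asIdeal → ∃ s : A, s ∉ p.asIdeal ∧ s • x = 0) :
    ∃ n : ℕ, ∀ c ∈ I ^ n, c • x = 0 := by
  let J : Ideal A := LinearMap.ker (LinearMap.toSpanSingleton A N x)
  have hJ : ∀ c, c ∈ J ↔ c • x = 0 := fun c => by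
    rw [LinearMap.mem_ker, LinearMap.toSpanSingleton_apply]
  have hrad : I ≤ J.radical := by
    rw [Ideal.radical_eq_sInf]
    refine le_sInf ?_
    rintro p ⟨hJp, hp⟩
    by_contra hIp
    obtain ⟨s, hs, hsx⟩ := h ⟨p, hp⟩ hIp
    exact hs (hJp ((hJ s).mpr hsx))
  obtain ⟨n, hn⟩ := Ideal.exists_pow_le_of_le_radical_of_fg hrad (IsNoetherian.noetherian I)
  exact ⟨n, fun c hc => (hJ c).mp (hn hc)⟩

section loc

variable [IsNoetherianRing A] (G : Type u) [AddCommGroup G] [Module A G] [Module.Finite A G]
  (p : Ideal A) [p.IsPrime]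
  [hrefl : Module.IsReflexive (Localization.AtPrime p) (LocalizedModule p.primeCompl G)]

include hrefl in
theorem L1 (x : G) (hx : Module.Dual.eval A G x = 0) : ∃ s : A, s ∉ p ∧ s • x = 0 := by
  have : Module.FinitePresentation A G := Module.finitePresentation_of_finite A G
  have hιx : LocalizedModule.mkLinearMap p.primeCompl G x = 0 := by
    apply (Module.bijective_dual_eval (Localization.AtPrime p)
      (LocalizedModule p.primeCompl G)).1
    rw [map_zero]
    refine LinearMap.ext fun φ => ?_
    rw [Module.Dual.eval_apply, LinearMap.zero_apply]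
    obtain ⟨h, s, hs⟩ := Module.FinitePresentation.exists_lift_of_isLocalizedModule p.primeCompl
      (Algebra.linearMap A (Localization.AtPrime p))
      ((φ.restrictScalars A) ∘ₗ LocalizedModule.mkLinearMap p.primeCompl G)
    have h1 := LinearMap.congr_fun hs x
    have h2 : h x = 0 := by
      have := LinearMap.congr_fun hx h
      rwa [Module.Dual.eval_apply, LinearMap.zero_apply] at this
    rw [LinearMap.comp_apply, h2, map_zero, LinearMap.smul_apply, LinearMap.comp_apply,
      LinearMap.restrictScalars_apply] at h1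
    exact (IsLocalizedModule.smul_injective
      (Algebra.linearMap A (Localization.AtPrime p)) s) (h1.symm.trans (smul_zero _).symm)
  obtain ⟨s, hs⟩ := (IsLocalizedModule.eq_zero_iff p.primeCompl
    (LocalizedModule.mkLinearMap p.primeCompl G)).mp hιx
  exact ⟨s.1, s.2, hs⟩

include hrefl in
theorem L2 (y : Module.Dual A (Module.Dual A G)) :
    ∃ s : A, s ∉ p ∧ s • y ∈ LinearMap.range (Module.Dual.eval A G) := by
  have : Module.FinitePresentation A G := Module.finitePresentation_of_finite A G
  let S := p.primeCompl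
  let Ap := Localization.AtPrime p
  let Gp := LocalizedModule S G
  let ι : G →ₗ[A] Gp := LocalizedModule.mkLinearMap S G
  let alg : A →ₗ[A] Ap := Algebra.linearMap A Ap
  let lam : Module.Dual A G →ₗ[A] Module.Dual Ap Gp :=
    IsLocalizedModule.mapExtendScalars S ι alg Ap
  have hlam : ∀ (f : Module.Dual A G) (g : G), lam f (ι g) = algebraMap A Ap (f g) := by
    intro f g
    simp only [lam, IsLocalizedModule.mapExtendScalars_apply_apply]
    exact IsLocalizedModule.map_apply S ι alg f g
  have hunits : ∀ s : S, IsUnit ((algebraMap A (Module.End A Ap)) s) :=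
    IsLocalizedModule.map_units alg
  let Y₀ : Module.Dual Ap Gp →ₗ[A] Ap := IsLocalizedModule.lift S lam (alg ∘ₗ y) hunits
  have hY₀ : ∀ f, Y₀ (lam f) = algebraMap A Ap (y f) := fun f =>
    IsLocalizedModule.lift_apply S lam (alg ∘ₗ y) hunits f
  let Y : Module.Dual Ap (Module.Dual Ap Gp) := LinearMap.extendScalarsOfIsLocalization S Ap Y₀
  obtain ⟨g, hg⟩ := (Module.bijective_dual_eval Ap Gp).2 Y
  obtain ⟨⟨x, s⟩, hxs⟩ := IsLocalizedModule.surj S ι g
  have hw : alg ∘ₗ ((s : A) • y - Module.Dual.eval A G x) =
      alg ∘ₗ (0 : Module.Dual A G →ₗ[A] A) := by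
    refine LinearMap.ext fun f => ?_
    have h1 : lam f g = algebraMap A Ap (y f) := by
      have := LinearMap.congr_fun hg (lam f)
      rw [Module.Dual.eval_apply] at this
      rw [this]; exact hY₀ f
    have h2 : lam f (ι x) = algebraMap A Ap (f x) := hlam f x
    have h3 : lam f (ι x) = algebraMap A Ap (s : A) * lam f g := by
      have : ι x = (s : A) • g := hxs.symm
      rw [this, ← algebraMap_smul Ap (s : A) g, map_smul, smul_eq_mul]
    show algebraMap A Ap (((s : A) • y - Module.Dual.eval A G x) f) =
      algebraMap A Ap ((0 : Module.Dual A G →ₗ[A] A) f)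
    rw [LinearMap.zero_apply, map_zero, LinearMap.sub_apply, LinearMap.smul_apply,
      Module.Dual.eval_apply, smul_eq_mul, map_sub, map_mul, ← h1, ← h3, h2, sub_self]
  obtain ⟨t, ht⟩ := Module.Finite.exists_smul_of_comp_eq_of_isLocalizedModule S alg _ _ hw
  have ht' : (t : A) • ((s : A) • y - Module.Dual.eval A G x) = 0 := by
    have := ht; rw [smul_zero] at this; exact this
  refine ⟨(t : A) * (s : A), S.mul_mem t.2 s.2, (t : A) • x, ?_⟩
  rw [map_smul, mul_smul]
  rw [smul_sub, sub_eq_zero] at ht'
  exact ht'.symm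

end loc

theorem main [IsNoetherianRing A] (I : Ideal A)
    (hA : 1 ≤ LocCoh.idealDepth I A)
    (G : Type u) [AddCommGroup G] [Module A G] [Module.Finite A G]
    (hU : ∀ p : PrimeSpectrum A, ¬ I ≤ p.asIdeal →
      Module.IsReflexive (Localization.AtPrime p.asIdeal) (LocalizedModule p.asIdeal.primeCompl G))
    (hG : 2 ≤ LocCoh.idealDepth I G) : Module.IsReflexive A G := by
  classical
  have hK : ∀ x : G, Module.Dual.eval A G x = 0 → ∃ n : ℕ, ∀ c ∈ I ^ n, c • x = 0 := fun x hx =>
    exists_pow_smul_eq_zero I x (fun p hp => by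
      have := hU p hp
      exact L1 G p.asIdeal x hx)
  have hQ : ∀ y : Module.Dual A (Module.Dual A G),
      ∃ n : ℕ, ∀ c ∈ I ^ n, c • y ∈ LinearMap.range (Module.Dual.eval A G) := by
    intro y
    obtain ⟨n, hn⟩ := exists_pow_smul_eq_zero I
      ((LinearMap.range (Module.Dual.eval A G)).mkQ y) (fun p hp => by
        have := hU p hp
        obtain ⟨s, hs, hsy⟩ := L2 G p.asIdeal y
        exact ⟨s, hs, by
          rw [← map_smul, Submodule.mkQ_apply, Submodule.Quotient.mk_eq_zero]; exact hsy⟩)
    exact ⟨n, fun c hc => by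
      have := hn c hc
      rwa [← map_smul, Submodule.mkQ_apply, Submodule.Quotient.mk_eq_zero] at this⟩
  by_cases hIG : I • (⊤ : Submodule A G) = ⊤
  · obtain ⟨r, hrI, hr⟩ := Submodule.exists_sub_one_mem_and_smul_eq_zero_of_fg_of_le_smul I
      (⊤ : Submodule A G) Module.Finite.fg_top (le_of_eq hIG.symm)
    have htI : (1 - r) ∈ I := by
      have := I.neg_mem hrI
      rwa [neg_sub] at this
    have hrG : ∀ g : G, r • g = 0 := fun g => hr g trivial
    have hrD : ∀ f : Module.Dual A G, r • f = 0 := fun f => by
      refine LinearMap.ext fun g => ?_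
      rw [LinearMap.smul_apply, ← map_smul, hrG, map_zero, LinearMap.zero_apply]
    have hrDD : ∀ y : Module.Dual A (Module.Dual A G), r • y = 0 := fun y => by
      refine LinearMap.ext fun f => ?_
      rw [LinearMap.smul_apply, ← map_smul, hrD, map_zero, LinearMap.zero_apply]
    have hpowG : ∀ (n : ℕ) (g : G), (1 - r) ^ n • g = g := by
      intro n g
      induction n with
      | zero => simp
      | succ k ih => rw [pow_succ, mul_smul, sub_smul, one_smul, hrG, sub_zero, ih]
    have hpowDD : ∀ (n : ℕ) (y : Module.Dual A (Module.Dual A G)), (1 - r) ^ n • y = y := by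
      intro n y
      induction n with
      | zero => simp
      | succ k ih => rw [pow_succ, mul_smul, sub_smul, one_smul, hrDD, sub_zero, ih]
    refine ⟨⟨?_, ?_⟩⟩
    · rw [injective_iff_map_eq_zero]
      intro x hx
      obtain ⟨n, hn⟩ := hK x hx
      rw [← hpowG n x]; exact hn _ (Ideal.pow_mem_pow htI n)
    · intro y
      obtain ⟨n, hn⟩ := hQ y
      have := hn _ (Ideal.pow_mem_pow htI n)
      rwa [hpowDD n y] at this
  · obtain ⟨rs, hlen, hreg, hmem⟩ := Groth.Agent.H26.DepthLib.exists_of_le_idealDepth I 2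
      (by exact_mod_cast hG) hIG
    obtain ⟨a, b, rfl⟩ := List.length_eq_two.1 hlen
    rw [RingTheory.Sequence.isWeaklyRegular_cons_iff,
      RingTheory.Sequence.isWeaklyRegular_singleton_iff] at hreg
    obtain ⟨ha, hb⟩ := hreg
    have haI : a ∈ I := hmem a (by simp)
    have hbI : b ∈ I := hmem b (by simp)
    obtain ⟨a', ha'I, ha'⟩ : ∃ a' ∈ I, IsSMulRegular A a' := by
      by_cases hIA : I • (⊤ : Submodule A A) = ⊤
      · refine ⟨1, ?_, ?_⟩
        · have : I = ⊤ := by simpa using hIA
          rw [this]; trivial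
        · exact fun x y h => by simpa using h
      · obtain ⟨rs', hlen', hreg', hmem'⟩ := Groth.Agent.H26.DepthLib.exists_of_le_idealDepth I 1
          (by exact_mod_cast hA) hIA
        obtain ⟨a', rfl⟩ := List.length_eq_one_iff.1 hlen'
        rw [RingTheory.Sequence.isWeaklyRegular_singleton_iff] at hreg'
        exact ⟨a', hmem' a' (by simp), hreg'⟩
    have hinj : Function.Injective (Module.Dual.eval A G) := by
      rw [injective_iff_map_eq_zero]
      intro x hx
      obtain ⟨n, hn⟩ := hK x hx
      exact (ha.pow n) ((hn _ (Ideal.pow_mem_pow haI n)).trans (smul_zero _).symm)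
    have hstar : ∀ z : Module.Dual A (Module.Dual A G),
        (∀ c ∈ I, c • z ∈ LinearMap.range (Module.Dual.eval A G)) →
        z ∈ LinearMap.range (Module.Dual.eval A G) := by
      intro z hz
      obtain ⟨u, hu⟩ := hz a haI
      obtain ⟨v, hv⟩ := hz b hbI
      have h1 : b • u = a • v := hinj (by
        rw [map_smul, map_smul, hu, hv, smul_smul, smul_smul, mul_comm])
      have h2 : (Submodule.Quotient.mk u : QuotSMulTop a G) = 0 := by
        apply hb
        show b • (Submodule.Quotient.mk u : QuotSMulTop a G) = b • 0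
        rw [smul_zero, ← Submodule.Quotient.mk_smul, h1, Submodule.Quotient.mk_eq_zero]
        exact Submodule.smul_mem_pointwise_smul v a ⊤ trivial
      rw [Submodule.Quotient.mk_eq_zero] at h2
      obtain ⟨w, -, hw⟩ := (Submodule.mem_smul_pointwise_iff_exists _ _ _).mp h2
      have h3 : a • (z - Module.Dual.eval A G w) = 0 := by
        rw [smul_sub, ← map_smul, hw, hu, sub_self]
      obtain ⟨t, ht⟩ := hz a' ha'I
      have h4 : a' • (z - Module.Dual.eval A G w) = Module.Dual.eval A G (t - a' • w) := by
        rw [smul_sub, map_sub, map_smul, ht]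
      have h5 : a • (t - a' • w) = 0 := hinj (by
        rw [map_smul, ← h4, smul_comm, h3, smul_zero, map_zero])
      have h6 : t - a' • w = 0 := ha (h5.trans (smul_zero _).symm)
      rw [h6, map_zero] at h4
      have h7 : z - Module.Dual.eval A G w = 0 := by
        refine LinearMap.ext fun f => ?_
        have := LinearMap.congr_fun h4 f
        rw [LinearMap.smul_apply, LinearMap.zero_apply] at this
        rw [LinearMap.zero_apply]
        exact ha' (this.trans (smul_zero _).symm)
      exact ⟨w, (sub_eq_zero.mp h7).symm⟩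
    have hind : ∀ (n : ℕ) (y : Module.Dual A (Module.Dual A G)),
        (∀ c ∈ I ^ n, c • y ∈ LinearMap.range (Module.Dual.eval A G)) →
        y ∈ LinearMap.range (Module.Dual.eval A G) := by
      intro n
      induction n with
      | zero =>
        intro y h
        have := h 1 (by simp)
        simpa using this
      | succ k ih =>
        intro y h
        apply ih
        intro c hc
        apply hstar
        intro d hd
        rw [smul_smul]
        exact h _ (by rw [pow_succ']; exact Ideal.mul_mem_mul hd hc)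
    refine ⟨⟨hinj, ?_⟩⟩
    intro y
    obtain ⟨n, hn⟩ := hQ y
    exact hind n y hn

end Groth.Agent.H34.ReflDepth2
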