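import Mathlib
import Groth.Prelude.Def_CAlg
import Groth.Agent.S18699
import Groth.Agent.S18702
import Groth.Agent.H34.ReflDepth2
import Groth.Agent.H29.CM3

namespace Groth.Agent.H34.S2Refl

universe u

variable (A : Type u) [CommRing A] [IsNoetherianRing A]

/-- `A_p` as a localized module is `A_p`. -/
noncomputable def selfEquiv (p : Ideal A) [p.IsPrime] :
    LocalizedModule p.primeCompl A ≃ₗ[Localization.AtPrime p] Localization.AtPrime p :=
  (IsLocalizedModule.iso p.primeCompl
    (Algebra.linearMap A (Localization.AtPrime p))).extendScalarsOfIsLocalization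
      p.primeCompl (Localization.AtPrime p)

theorem two_le_idealDepth_self (hA : LocCoh.HasSk 2 A A) (I : Ideal A) (hI : 2 ≤ I.height) :
    (2 : ℕ∞) ≤ LocCoh.idealDepth I A := by
  have := Groth.Agent.S18699.result 2 A A I hA (fun p hp _ => by
    have := p.isPrime
    rw [Module.supportDim_eq_of_equiv (selfEquiv A p.asIdeal),
      Module.supportDim_self_eq_ringKrullDim,
      IsLocalization.AtPrime.ringKrullDim_eq_height p.asIdeal]
    have h2 : (2 : ℕ∞) ≤ p.asIdeal.height := hI.trans (Ideal.height_mono hp)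
    rw [← WithBot.coe_natCast]
    exact WithBot.coe_le_coe.mpr (by exact_mod_cast h2))
  exact_mod_cast this

theorem main (hA : LocCoh.HasSk 2 A A) (I : Ideal A) (hI : 2 ≤ I.height)
    (G : Type u) [AddCommGroup G] [Module A G] [Module.Finite A G]
    (hU : ∀ p : PrimeSpectrum A, ¬ I ≤ p.asIdeal →
      Module.IsReflexive (Localization.AtPrime p.asIdeal) (LocalizedModule p.asIdeal.primeCompl G)) :
    ((LocCoh.HasSk 2 A G ∧ ∀ p : PrimeSpectrum A, I ≤ p.asIdeal → p ∈ Module.support A G →
        (2 : WithBot ℕ∞) ≤ Module.supportDim (Localization.AtPrime p.asIdeal)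
          (LocalizedModule p.asIdeal.primeCompl G)) ↔
      2 ≤ LocCoh.idealDepth I G) ∧
    (2 ≤ LocCoh.idealDepth I G ↔ Module.IsReflexive A G) := by
  have hdA := two_le_idealDepth_self A hA I hI
  have h1A : (1 : ℕ∞) ≤ LocCoh.idealDepth I A := le_trans one_le_two hdA
  have hrefl : 2 ≤ LocCoh.idealDepth I G → Module.IsReflexive A G := fun h =>
    ReflDepth2.main I h1A G hU h
  have hdepth : Module.IsReflexive A G → 2 ≤ LocCoh.idealDepth I G := fun h => by
    have := h
    exact (Groth.Agent.S18702.result A I G).2.1 hdA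
  refine ⟨⟨fun ⟨hS, hcod⟩ => ?_, fun h => ⟨?_, ?_⟩⟩, ⟨hrefl, hdepth⟩⟩
  · have := Groth.Agent.S18699.result 2 A G I hS
      (fun p hp hsupp => by exact_mod_cast hcod p hp hsupp)
    exact_mod_cast this
  · have := hrefl h
    exact (Groth.Agent.S18702.result A I G).2.2.2 hA
  · intro p hp hsupp
    have := Groth.Agent.H29.CM.idealDepth_le_supportDim_atPrime I p hp hsupp
    refine le_trans ?_ this
    have h2 : (2 : WithBot ℕ∞) = ((2 : ℕ∞) : WithBot ℕ∞) := rfl
    rw [h2]; exact WithBot.coe_le_coe.mpr h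

end Groth.Agent.H34.S2Refl
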