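import Mathlib
import Groth.Prelude.Def_CAlg
import Groth.Prelude.Def_EGA4b
import Groth.Agent.H34.FibDepth
import Groth.Agent.H29.FlatDepthMod
import Groth.Agent.H29.FlatCM
import Groth.Agent.H71.SkKernel

set_option autoImplicit false

namespace Groth.Agent.H34.FibDepthMod

universe u

open IsLocalRing TensorProduct Groth.Agent.H15.Depth

section Flat

variable {A B : Type u} [CommRing A] [CommRing B] [Algebra A B] (S : Submonoid B)
  (E : Type u) [AddCommGroup E] [Module B E] [Module A E] [IsScalarTower A B E]

/-- A localization (at a submonoid of `B`) of a `B`-module flat over `A` is flat over `A`. -/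
theorem flat_localizedModule [Module.Flat A E] : Module.Flat A (LocalizedModule S E) := by
  rw [Module.Flat.iff_forall_isTrivialRelation]
  intro l f x hx
  obtain ⟨b, hb⟩ := IsLocalizedModule.exist_integer_multiples_of_finite S
    (LocalizedModule.mkLinearMap S E) x
  choose e he using hb
  have h1 : LocalizedModule.mkLinearMap S E (∑ i, f i • e i) = 0 := by
    rw [map_sum]
    have : ∀ i, LocalizedModule.mkLinearMap S E (f i • e i) = (b : B) • (f i • x i) := fun i => by
      rw [LinearMap.map_smul_of_tower, he i, smul_comm]
    simp_rw [this, ← Finset.smul_sum, hx, smul_zero]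
  obtain ⟨u, hu⟩ := (IsLocalizedModule.eq_zero_iff S (LocalizedModule.mkLinearMap S E)).mp h1
  have h2 : ∑ i, f i • ((u : B) • e i) = 0 := by
    rw [← hu, Submonoid.smul_def, Finset.smul_sum]
    exact Finset.sum_congr rfl fun i _ => smul_comm _ _ _
  obtain ⟨k, a, y, hxy, hfa⟩ := Module.Flat.isTrivialRelation_of_sum_smul_eq_zero h2
  refine ⟨k, a, fun j => LocalizedModule.mk (y j) (u * b), fun i => ?_, hfa⟩
  apply IsLocalizedModule.smul_injective (LocalizedModule.mkLinearMap S E) (u * b)
  show (u * b) • x i = (u * b) • ∑ j, a i j • LocalizedModule.mk (y j) (u * b)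
  have hL : (u * b) • x i = ∑ j, a i j • LocalizedModule.mkLinearMap S E (y j) := by
    have hxy' : (u : B) • e i = ∑ j, a i j • y j := hxy i
    rw [Submonoid.smul_def, Submonoid.coe_mul, mul_smul, ← he i, ← map_smul, hxy', map_sum]
    exact Finset.sum_congr rfl fun j _ => LinearMap.map_smul_of_tower _ _ _
  rw [hL, Finset.smul_sum]
  refine Finset.sum_congr rfl fun j _ => ?_
  rw [smul_comm, Submonoid.smul_def, LocalizedModule.smul'_mk, ← Submonoid.smul_def,
    LocalizedModule.mk_cancel, LocalizedModule.mkLinearMap_apply]

end Flat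

section Local

variable {A B : Type u} [CommRing A] [CommRing B] [IsNoetherianRing A] [IsNoetherianRing B]
  [Algebra A B] (q : Ideal B) [q.IsPrime]
  (E : Type u) [AddCommGroup E] [Module B E] [Module A E] [IsScalarTower A B E]
  [Module.Finite B E] [Module.Flat A E]

set_option maxHeartbeats 800000 in
theorem le_depth_loc_of_fibMod (k : ℕ)
    (hZ : (k : ℕ∞) ≤ LocCoh.idealDepth (q.map (algebraMap B (EGA4.FibLocRing A B q)))
      (EGA4.FibLocMod A B q E)) :
    (k : ℕ∞) ≤ LocCoh.depth (Localization.AtPrime q) (LocalizedModule q.primeCompl E) := by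
  have : IsLocalRing (EGA4.FibLocRing A B q) := FibDepth.isLocalRing_fib (A := A) q
  rw [FibDepth.map_eq_maximalIdeal_fib] at hZ
  have hsurj : Function.Surjective
      (algebraMap (Localization.AtPrime q) (EGA4.FibLocRing A B q)) :=
    Ideal.Quotient.mk_surjective
  have h5 : LocCoh.depth (EGA4.FibLocRing A B q) (EGA4.FibLocMod A B q E) =
      LocCoh.depth (Localization.AtPrime q) (EGA4.FibLocMod A B q E) :=
    Groth.Agent.H29.FlatCM.depth_eq_of_surjective hsurj _
  let alg : Algebra (Localization.AtPrime (q.comap (algebraMap A B))) (Localization.AtPrime q) :=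
    (Localization.localRingHom (q.comap (algebraMap A B)) q (algebraMap A B) rfl).toAlgebra
  have hloc : IsLocalHom (algebraMap (Localization.AtPrime (q.comap (algebraMap A B)))
      (Localization.AtPrime q)) :=
    Localization.isLocalHom_localRingHom _ _ _ rfl
  let modN : Module (Localization.AtPrime (q.comap (algebraMap A B)))
      (LocalizedModule q.primeCompl E) :=
    Module.compHom _ (algebraMap (Localization.AtPrime (q.comap (algebraMap A B)))
      (Localization.AtPrime q))
  have tower1 : IsScalarTower (Localization.AtPrime (q.comap (algebraMap A B)))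
      (Localization.AtPrime q) (LocalizedModule q.primeCompl E) :=
    IsScalarTower.of_algebraMap_smul fun r x => rfl
  have tower0 : IsScalarTower A (Localization.AtPrime (q.comap (algebraMap A B)))
      (Localization.AtPrime q) :=
    .of_algebraMap_eq fun x => (Localization.localRingHom_to_map _ _ _ rfl x).symm
  have tower2 : IsScalarTower A (Localization.AtPrime (q.comap (algebraMap A B)))
      (LocalizedModule q.primeCompl E) :=
    IsScalarTower.of_algebraMap_smul fun a x => by
      show algebraMap (Localization.AtPrime (q.comap (algebraMap A B))) (Localization.AtPrime q)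
        (algebraMap A _ a) • x = a • x
      rw [← IsScalarTower.algebraMap_apply A _ (Localization.AtPrime q), algebraMap_smul]
  have flatA : Module.Flat A (LocalizedModule q.primeCompl E) :=
    flat_localizedModule q.primeCompl E
  have flatAp : Module.Flat (Localization.AtPrime (q.comap (algebraMap A B)))
      (LocalizedModule q.primeCompl E) :=
    (Module.flat_iff_of_isLocalization (Localization.AtPrime (q.comap (algebraMap A B)))
      (q.comap (algebraMap A B)).primeCompl (LocalizedModule q.primeCompl E)).mpr flatA
  have h2 := Groth.Agent.H29.FlatDepthMod.depth_tensor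
    (R := Localization.AtPrime (q.comap (algebraMap A B))) (S := Localization.AtPrime q)
    (Localization.AtPrime (q.comap (algebraMap A B))) (LocalizedModule q.primeCompl E)
  have h3 : LocCoh.depth (Localization.AtPrime q)
      (LocalizedModule q.primeCompl E ⊗[Localization.AtPrime (q.comap (algebraMap A B))]
        Localization.AtPrime (q.comap (algebraMap A B))) =
      LocCoh.depth (Localization.AtPrime q) (LocalizedModule q.primeCompl E) :=
    Groth.Agent.H26.DepthQuot.idealDepth_congr _
      (AlgebraTensorModule.rid _ (Localization.AtPrime q) (LocalizedModule q.primeCompl E))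
  have h4 : LocCoh.depth (Localization.AtPrime q)
      (EGA4.FibMod (Localization.AtPrime (q.comap (algebraMap A B))) (Localization.AtPrime q)
        (LocalizedModule q.primeCompl E)) =
      LocCoh.depth (Localization.AtPrime q) (EGA4.FibLocMod A B q E) :=
    Groth.Agent.H26.DepthQuot.idealDepth_congr _ (Submodule.quotEquivOfEq _ _
      (by rw [show EGA4.mB (Localization.AtPrime (q.comap (algebraMap A B)))
        (Localization.AtPrime q) = _ from FibDepth.map_localRingHom_maximalIdeal q]))
  rw [← h3, h2, h4, ← h5]
  exact le_trans hZ le_add_self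

end Local

theorem main (A B : Type u) [CommRing A] [CommRing B] [IsNoetherianRing A] [IsNoetherianRing B]
    [Algebra A B] (J : Ideal B)
    (F E0 E1 : Type u) [AddCommGroup F] [Module B F] [Module.Finite B F]
    [AddCommGroup E0] [Module B E0] [Module A E0] [IsScalarTower A B E0] [Module.Finite B E0]
    [Module.Flat A E0]
    [AddCommGroup E1] [Module B E1] [Module A E1] [IsScalarTower A B E1] [Module.Finite B E1]
    [Module.Flat A E1]
    (f : F →ₗ[B] E0) (u : E0 →ₗ[B] E1)
    (hf : Function.Injective f) (hfu : Function.Exact f u)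
    (h0 : ∀ q : PrimeSpectrum B, J ≤ q.asIdeal →
      2 ≤ LocCoh.idealDepth (q.asIdeal.map (algebraMap B (EGA4.FibLocRing A B q.asIdeal)))
        (EGA4.FibLocMod A B q.asIdeal E0))
    (h1 : ∀ q : PrimeSpectrum B, J ≤ q.asIdeal →
      1 ≤ LocCoh.idealDepth (q.asIdeal.map (algebraMap B (EGA4.FibLocRing A B q.asIdeal)))
        (EGA4.FibLocMod A B q.asIdeal E1)) :
    2 ≤ LocCoh.idealDepth J F := by
  rw [Groth.Agent.H29.LocQuot.idealDepth_eq_iInf J F]
  refine le_iInf₂ fun q hq => ?_
  have e0 : ((2 : ℕ) : ℕ∞) ≤ LocCoh.depth (Localization.AtPrime q.asIdeal)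
      (LocalizedModule q.asIdeal.primeCompl E0) :=
    le_depth_loc_of_fibMod (A := A) q.asIdeal E0 2 (by exact_mod_cast h0 q hq)
  have e1 : ((1 : ℕ) : ℕ∞) ≤ LocCoh.depth (Localization.AtPrime q.asIdeal)
      (LocalizedModule q.asIdeal.primeCompl E1) :=
    le_depth_loc_of_fibMod (A := A) q.asIdeal E1 1 (by exact_mod_cast h1 q hq)
  by_cases hF : Subsingleton (LocalizedModule q.asIdeal.primeCompl F)
  · rw [Groth.Agent.H29.LocQuot.depth_eq_top_of_subsingleton]
    exact le_top
  rw [not_subsingleton_iff_nontrivial] at hF
  have hinj : Function.Injective (LocalizedModule.map q.asIdeal.primeCompl f) :=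
    LocalizedModule.map_injective _ f hf
  have hex : Function.Exact (LocalizedModule.map q.asIdeal.primeCompl f)
      (LocalizedModule.map q.asIdeal.primeCompl u) :=
    LocalizedModule.map_exact _ f u hfu
  have hN0 : Nontrivial (LocalizedModule q.asIdeal.primeCompl E0) := hinj.nontrivial
  have hne0 := Groth.Agent.H29.maximalIdeal_smul_top_ne_top (Localization.AtPrime q.asIdeal)
    (LocalizedModule q.asIdeal.primeCompl E0)
  have hs0 : HasSeq (maximalIdeal (Localization.AtPrime q.asIdeal))
      (LocalizedModule q.asIdeal.primeCompl E0) 2 := (le_idealDepth_iff hne0 2).mp e0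
  have hs1 : ∃ a ∈ maximalIdeal (Localization.AtPrime q.asIdeal),
      IsSMulRegular (LocalizedModule q.asIdeal.primeCompl E1) a := by
    by_cases hE1 : Subsingleton (LocalizedModule q.asIdeal.primeCompl E1)
    · exact ⟨0, Ideal.zero_mem _, fun x y _ => Subsingleton.elim x y⟩
    · rw [not_subsingleton_iff_nontrivial] at hE1
      have hne1 := Groth.Agent.H29.maximalIdeal_smul_top_ne_top
        (Localization.AtPrime q.asIdeal) (LocalizedModule q.asIdeal.primeCompl E1)
      obtain ⟨a, ha, hreg, -⟩ := hasSeq_succ_iff.mp ((le_idealDepth_iff hne1 1).mp e1)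
      exact ⟨a, ha, hreg⟩
  have := Groth.Agent.H71.SK.hasSeq_two_of_exact _ _ hinj hex hs0 hs1
  exact_mod_cast le_idealDepth_of_hasSeq this

end Groth.Agent.H34.FibDepthMod
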