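import Mathlib

set_option autoImplicit false
universe u

namespace Groth.Agent.H34.SubmExtend

open MvPolynomial

variable {A : Type u} [CommRing A] {k : ℕ} (e : Fin k → A)

theorem sub_C_aeval_mem (p : MvPolynomial (Fin k) A) :
    p - C (aeval e p) ∈
      Ideal.span (Set.range fun j : Fin k => (X j - C (e j) : MvPolynomial (Fin k) A)) := by
  induction p using MvPolynomial.induction_on with
  | C a => simp
  | add p q hp hq =>
    have h : p + q - C (aeval e (p + q)) = (p - C (aeval e p)) + (q - C (aeval e q)) := by
      rw [map_add, C_add]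
      ring
    rw [h]
    exact Ideal.add_mem _ hp hq
  | mul_X p j hp =>
    have h : p * X j - C (aeval e (p * X j)) =
        (p - C (aeval e p)) * X j + C (aeval e p) * (X j - C (e j)) := by
      rw [map_mul, aeval_X, C_mul]
      ring
    rw [h]
    exact Ideal.add_mem _ (Ideal.mul_mem_right _ _ hp)
      (Ideal.mul_mem_left _ _ (Ideal.subset_span ⟨j, rfl⟩))

noncomputable def gens : Algebra.Generators A A (Fin k) :=
  Algebra.Generators.ofSurjective e (fun a => ⟨C a, by simp⟩)

noncomputable def pres : Algebra.Presentation A A (Fin k) (Fin k) where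
  toGenerators := gens e
  relation j := X j - C (e j)
  span_range_relation_eq_ker := by
    rw [Algebra.Generators.ker_eq_ker_aeval_val]
    apply le_antisymm
    · rw [Ideal.span_le]
      rintro _ ⟨j, rfl⟩
      show _ ∈ RingHom.ker _
      rw [RingHom.mem_ker]
      show aeval e (X j - C (e j) : MvPolynomial (Fin k) A) = 0
      simp
    · intro p hp
      rw [RingHom.mem_ker] at hp
      have h := sub_C_aeval_mem e p
      have hp' : aeval e p = 0 := hp
      rw [hp', map_zero, sub_zero] at h
      exact h

noncomputable def presub : Algebra.PreSubmersivePresentation A A (Fin k) (Fin k) where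
  toPresentation := pres e
  map := id
  map_inj := Function.injective_id

theorem jac : (presub e).jacobian = 1 := by
  rw [Algebra.PreSubmersivePresentation.jacobian_eq_jacobiMatrix_det]
  have h : (presub e).jacobiMatrix = 1 := by
    refine Matrix.ext fun i j => ?_
    rw [Algebra.PreSubmersivePresentation.jacobiMatrix_apply]
    show pderiv i (X j - C (e j) : MvPolynomial (Fin k) A) = (1 : Matrix _ _ _) i j
    rw [map_sub, pderiv_X, pderiv_C, sub_zero, Matrix.one_apply, Pi.single_apply]
    by_cases hij : i = j
    · rw [if_pos hij, if_pos hij.symm]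
    · rw [if_neg hij, if_neg (Ne.symm hij)]
  rw [h, Matrix.det_one, map_one]

noncomputable def subm : Algebra.SubmersivePresentation A A (Fin k) (Fin k) where
  toPreSubmersivePresentation := presub e
  jacobian_isUnit := by
    rw [jac]
    exact isUnit_one

theorem exists_subm {R A : Type u} [CommRing R] [CommRing A] [Algebra R A]
    [Algebra.IsStandardSmooth R A] (E : Finset A) :
    ∃ (ι σ : Type) (_ : Finite ι) (_ : Finite σ) (P : Algebra.SubmersivePresentation R A ι σ),
      (↑E : Set A) ⊆ Set.range (P.val ∘ P.map) := by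
  obtain ⟨ι, σ, hσ, hι, ⟨P⟩⟩ := Algebra.IsStandardSmooth.out (R := R) (S := A)
  let e : Fin E.card → A := fun j => ((E.equivFin.symm j : E) : A)
  refine ⟨Fin E.card ⊕ ι, Fin E.card ⊕ σ, inferInstance, inferInstance, (subm e).comp P, ?_⟩
  intro x hx
  refine ⟨Sum.inl (E.equivFin ⟨x, hx⟩), ?_⟩
  have h1 : ((subm e).comp P).val (((subm e).comp P).map (Sum.inl (E.equivFin ⟨x, hx⟩))) =
      e (E.equivFin ⟨x, hx⟩) := rfl
  rw [Function.comp_apply, h1]
  show ((E.equivFin.symm (E.equivFin ⟨x, hx⟩) : E) : A) = x
  rw [Equiv.symm_apply_apply]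

end Groth.Agent.H34.SubmExtend
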