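import Groth.Agent.H34.FibLoc
import Groth.Agent.H29.FlatCM

/-! Fibres of a base change `A' → A' ⊗_A B` along a map `A → A'` which is surjective on stalks
(localization, quotient) agree with fibres of `A → B` (helper34). -/

set_option autoImplicit false
universe u
open TensorProduct

namespace Groth.Agent.H34.FibBC

variable (A B : Type u) [CommRing A] [CommRing B] [Algebra A B]
  (A' B' : Type u) [CommRing A'] [CommRing B'] [Algebra A A'] [Algebra A' B']

/-- Geometric fibres of `A' → B'` over `p'` are geometric fibres of `A → B` over `p' ∩ A`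
(core version, for an arbitrary field extension `k'` of `κ(p')`). -/
theorem exists_ringEquiv_core (hst : (algebraMap A A').SurjectiveOnStalks)
    (e : A' ⊗[A] B ≃ₐ[A'] B') (p' : Ideal A') [p'.IsPrime] (k' : Type u) [Field k']
    [Algebra p'.ResidueField k'] :
    ∃ (σ : (p'.comap (algebraMap A A')).ResidueField →+* p'.ResidueField)
      (_ : Function.Bijective σ)
      (alg : Algebra (p'.comap (algebraMap A A')).ResidueField k'),
      (@algebraMap _ k' _ _ alg = (algebraMap p'.ResidueField k').comp σ) ∧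
      Nonempty ((k' ⊗[(p'.comap (algebraMap A A')).ResidueField]
          (p'.comap (algebraMap A A')).Fiber B) ≃+*
        (k' ⊗[p'.ResidueField] p'.Fiber B')) := by
  set p := p'.comap (algebraMap A A') with hp
  let σ : p.ResidueField →+* p'.ResidueField :=
    Ideal.ResidueField.map p p' (algebraMap A A') rfl
  have hσ : Function.Bijective σ := hst.residueFieldMap_bijective p p' rfl
  let algκk' : Algebra p.ResidueField k' := ((algebraMap p'.ResidueField k').comp σ).toAlgebra
  refine ⟨σ, hσ, algκk', rfl, ⟨?_⟩⟩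
  letI : Algebra A' k' :=
    ((algebraMap p'.ResidueField k').comp (algebraMap A' p'.ResidueField)).toAlgebra
  haveI : IsScalarTower A' p'.ResidueField k' := IsScalarTower.of_algebraMap_eq (fun _ => rfl)
  letI : Algebra A k' := ((algebraMap A' k').comp (algebraMap A A')).toAlgebra
  haveI : IsScalarTower A A' k' := IsScalarTower.of_algebraMap_eq (fun _ => rfl)
  haveI : IsScalarTower A p.ResidueField k' := IsScalarTower.of_algebraMap_eq (fun a => by
    show algebraMap p'.ResidueField k' (algebraMap A' p'.ResidueField (algebraMap A A' a)) =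
      algebraMap p'.ResidueField k' (σ (algebraMap A p.ResidueField a))
    rw [Ideal.ResidueField.map_algebraMap])
  let e1 : k' ⊗[p'.ResidueField] (p'.ResidueField ⊗[A'] B') ≃ₐ[p'.ResidueField] k' ⊗[A'] B' :=
    Algebra.TensorProduct.cancelBaseChange A' p'.ResidueField p'.ResidueField k' B'
  let e2 : k' ⊗[A'] (A' ⊗[A] B) ≃ₐ[A'] k' ⊗[A'] B' :=
    Algebra.TensorProduct.congr AlgEquiv.refl e
  let e3 : k' ⊗[A'] (A' ⊗[A] B) ≃ₐ[A'] k' ⊗[A] B :=
    Algebra.TensorProduct.cancelBaseChange A A' A' k' B
  let e4 : k' ⊗[p.ResidueField] (p.ResidueField ⊗[A] B) ≃ₐ[p.ResidueField] k' ⊗[A] B :=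
    Algebra.TensorProduct.cancelBaseChange A p.ResidueField p.ResidueField k' B
  exact e4.toRingEquiv.trans (e3.symm.toRingEquiv.trans (e2.toRingEquiv.trans e1.symm.toRingEquiv))

/-- Finite version. -/
theorem exists_ringEquiv (hst : (algebraMap A A').SurjectiveOnStalks)
    (e : A' ⊗[A] B ≃ₐ[A'] B') (p' : Ideal A') [p'.IsPrime] (k' : Type u) [Field k']
    [Algebra p'.ResidueField k'] (hfin : Module.Finite p'.ResidueField k') :
    ∃ (_ : Algebra (p'.comap (algebraMap A A')).ResidueField k'),
      Module.Finite (p'.comap (algebraMap A A')).ResidueField k' ∧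
      Nonempty ((k' ⊗[(p'.comap (algebraMap A A')).ResidueField]
          (p'.comap (algebraMap A A')).Fiber B) ≃+*
        (k' ⊗[p'.ResidueField] p'.Fiber B')) := by
  obtain ⟨σ, hσ, alg, halg, he⟩ := exists_ringEquiv_core A B A' B' hst e p' k'
  refine ⟨alg, ?_, he⟩
  let := alg
  let algκκ' : Algebra (p'.comap (algebraMap A A')).ResidueField p'.ResidueField := σ.toAlgebra
  have : IsScalarTower (p'.comap (algebraMap A A')).ResidueField p'.ResidueField k' :=
    IsScalarTower.of_algebraMap_eq (fun x => by rw [halg]; rfl)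
  have hfinκ : Module.Finite (p'.comap (algebraMap A A')).ResidueField p'.ResidueField :=
    Module.Finite.of_surjective
      (Algebra.linearMap (p'.comap (algebraMap A A')).ResidueField p'.ResidueField) hσ.2
  exact Module.Finite.trans p'.ResidueField k'

/-- Algebraic version. -/
theorem exists_ringEquiv_algebraic (hst : (algebraMap A A').SurjectiveOnStalks)
    (e : A' ⊗[A] B ≃ₐ[A'] B') (p' : Ideal A') [p'.IsPrime] (k' : Type u) [Field k']
    [Algebra p'.ResidueField k'] [Algebra.IsAlgebraic p'.ResidueField k'] :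
    ∃ (_ : Algebra (p'.comap (algebraMap A A')).ResidueField k'),
      Algebra.IsAlgebraic (p'.comap (algebraMap A A')).ResidueField k' ∧
      Nonempty ((k' ⊗[(p'.comap (algebraMap A A')).ResidueField]
          (p'.comap (algebraMap A A')).Fiber B) ≃+*
        (k' ⊗[p'.ResidueField] p'.Fiber B')) := by
  obtain ⟨σ, hσ, alg, halg, he⟩ := exists_ringEquiv_core A B A' B' hst e p' k'
  refine ⟨alg, ?_, he⟩
  let := alg
  exact Algebra.IsAlgebraic.of_ringHom_of_comp_eq σ (RingHom.id k') hσ.2
    Function.injective_id (by rw [halg]; rfl)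

/-- Plain fibres. -/
theorem exists_ringEquiv_fiber (hst : (algebraMap A A').SurjectiveOnStalks)
    (e : A' ⊗[A] B ≃ₐ[A'] B') (p' : Ideal A') [p'.IsPrime] :
    Nonempty ((p'.comap (algebraMap A A')).Fiber B ≃+* p'.Fiber B') := by
  obtain ⟨σ, hσ, alg, halg, ⟨he⟩⟩ := exists_ringEquiv_core A B A' B' hst e p' p'.ResidueField
  let := alg
  have hbij : Function.Bijective (Algebra.ofId (p'.comap (algebraMap A A')).ResidueField
      p'.ResidueField) := by
    have h1 : ⇑(Algebra.ofId (p'.comap (algebraMap A A')).ResidueField p'.ResidueField) = ⇑σ := by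
      funext x
      show algebraMap _ _ x = σ x
      rw [halg]
      rfl
    rw [h1]
    exact hσ
  let E : (p'.comap (algebraMap A A')).ResidueField ≃ₐ[(p'.comap (algebraMap A A')).ResidueField]
      p'.ResidueField := AlgEquiv.ofBijective _ hbij
  let e5 : (p'.comap (algebraMap A A')).ResidueField ⊗[(p'.comap (algebraMap A A')).ResidueField]
      (p'.comap (algebraMap A A')).Fiber B ≃ₐ[(p'.comap (algebraMap A A')).ResidueField]
      p'.ResidueField ⊗[(p'.comap (algebraMap A A')).ResidueField]
      (p'.comap (algebraMap A A')).Fiber B :=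
    Algebra.TensorProduct.congr E AlgEquiv.refl
  let e6 := Algebra.TensorProduct.lid (p'.comap (algebraMap A A')).ResidueField
    ((p'.comap (algebraMap A A')).Fiber B)
  let e7 := Algebra.TensorProduct.lid p'.ResidueField (p'.Fiber B')
  exact ⟨e6.symm.toRingEquiv.trans (e5.toRingEquiv.trans (he.trans e7.toRingEquiv))⟩

theorem flat (e : A' ⊗[A] B ≃ₐ[A'] B') [Module.Flat A B] : Module.Flat A' B' :=
  Module.Flat.of_linearEquiv e.symm.toLinearEquiv

theorem isRegularHom_baseChange (hst : (algebraMap A A').SurjectiveOnStalks)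
    (e : A' ⊗[A] B ≃ₐ[A'] B') [IsNoetherianRing B'] (h : CAlg.IsRegularHom A B) :
    CAlg.IsRegularHom A' B' := by
  obtain ⟨hflat, hfib⟩ := h
  refine ⟨flat A B A' B' e, ?_⟩
  intro p' hp'
  refine ⟨Groth.Agent.H34.FibLoc.isNoetherianRing_fiber A' B' p', ?_⟩
  intro k' _ _ hfin
  obtain ⟨alg, hfin', ⟨E⟩⟩ := exists_ringEquiv A B A' B' hst e p' k' hfin
  let := alg
  have h3 : IsRegularRing (k' ⊗[(p'.comap (algebraMap A A')).ResidueField]
      (p'.comap (algebraMap A A')).Fiber B) := (hfib (p'.comap (algebraMap A A'))).2 k' hfin'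
  exact @IsRegularRing.of_ringEquiv (k' ⊗[(p'.comap (algebraMap A A')).ResidueField]
      (p'.comap (algebraMap A A')).Fiber B) _ (k' ⊗[p'.ResidueField] p'.Fiber B') _ E h3

theorem isGeomNormal_baseChange (hst : (algebraMap A A').SurjectiveOnStalks)
    (e : A' ⊗[A] B ≃ₐ[A'] B')
    (h : ∀ (p : Ideal A) [p.IsPrime], EGA4.IsGeomNormal p.ResidueField (p.Fiber B))
    (p' : Ideal A') [p'.IsPrime] : EGA4.IsGeomNormal p'.ResidueField (p'.Fiber B') := by
  intro k' _ _ hfin
  obtain ⟨alg, hfin', ⟨E⟩⟩ := exists_ringEquiv A B A' B' hst e p' k' hfin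
  let := alg
  have h3 : EGA4.IsNormalRing (k' ⊗[(p'.comap (algebraMap A A')).ResidueField]
      (p'.comap (algebraMap A A')).Fiber B) := h (p'.comap (algebraMap A A')) k' hfin'
  exact Groth.Agent.H34.FibLoc.isNormalRing_of_ringEquiv E h3

theorem geomReduced_baseChange (hst : (algebraMap A A').SurjectiveOnStalks)
    (e : A' ⊗[A] B ≃ₐ[A'] B')
    (h : ∀ (p : Ideal A) [p.IsPrime], Algebra.IsGeometricallyReduced p.ResidueField (p.Fiber B))
    (p' : Ideal A') [p'.IsPrime] :
    Algebra.IsGeometricallyReduced p'.ResidueField (p'.Fiber B') := by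
  rw [Algebra.isGeometricallyReduced_field_iff]
  obtain ⟨alg, halg, ⟨E⟩⟩ :=
    exists_ringEquiv_algebraic A B A' B' hst e p' (AlgebraicClosure p'.ResidueField)
  let := alg
  have := h (p'.comap (algebraMap A A'))
  have h3 : IsReduced (AlgebraicClosure p'.ResidueField ⊗[(p'.comap (algebraMap A A')).ResidueField]
      (p'.comap (algebraMap A A')).Fiber B) := inferInstance
  exact isReduced_of_injective E.symm.toRingHom E.symm.injective

theorem isCohenMacaulayRing_of_ringEquiv {R R' : Type u} [CommRing R] [CommRing R']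
    (e : R ≃+* R') (h : LocCoh.IsCohenMacaulayRing R) : LocCoh.IsCohenMacaulayRing R' := by
  have hN : IsNoetherianRing R' := isNoetherianRing_of_ringEquiv R e
  exact
    { toIsNoetherian := hN
      isCohenMacaulayLocalRing_localization := fun p hp => by
        have h1 := h.isCohenMacaulayLocalRing_localization (p.comap e)
        let E : Localization.AtPrime (p.comap e) ≃+* Localization.AtPrime p :=
          IsLocalization.ringEquivOfRingEquiv
            (Localization.AtPrime (p.comap e)) (Localization.AtPrime p) e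
            (e.map_primeCompl_comap_eq p)
        exact Groth.Agent.H29.FlatCM.isCM_ringEquiv E h1 }

theorem isCohenMacaulayRing_baseChange (hst : (algebraMap A A').SurjectiveOnStalks)
    (e : A' ⊗[A] B ≃ₐ[A'] B')
    (h : ∀ (p : Ideal A) [p.IsPrime], LocCoh.IsCohenMacaulayRing (p.Fiber B))
    (p' : Ideal A') [p'.IsPrime] : LocCoh.IsCohenMacaulayRing (p'.Fiber B') := by
  obtain ⟨E⟩ := exists_ringEquiv_fiber A B A' B' hst e p'
  exact isCohenMacaulayRing_of_ringEquiv E (h (p'.comap (algebraMap A A')))

end Groth.Agent.H34.FibBC
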