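import Mathlib
import Groth.Prelude.Def_Disc

set_option autoImplicit false

namespace Groth.Agent.H34.AssOmega

universe u v

open scoped nonZeroDivisors

/-- A finite torsion-free module over a domain embeds into a finite free module
(universe-polymorphic version). -/
theorem exists_injective_into_free' (R : Type u) [CommRing R] [IsDomain R] (M : Type v)
    [AddCommGroup M] [Module R M] [Module.Finite R M] [Module.IsTorsionFree R M] :
    ∃ (n : ℕ) (f : M →ₗ[R] (Fin n → R)), Function.Injective f := by
  classical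
  let S := nonZeroDivisors R
  let K := FractionRing R
  let V := LocalizedModule S M
  let ι : M →ₗ[R] V := LocalizedModule.mkLinearMap S M
  have hι : Function.Injective ι := by
    rw [IsLocalizedModule.injective_iff_isRegular S ι]
    intro c
    have hc : IsRegular (c : R) := IsRegular.of_ne_zero (nonZeroDivisors.ne_zero c.2)
    exact hc.isSMulRegular
  let n := Module.finrank K V
  let b : Module.Basis (Fin n) K V := Module.finBasis K V
  let c : Fin n → (M →ₗ[R] K) := fun i => ((b.coord i).restrictScalars R) ∘ₗ ι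
  obtain ⟨G, hG⟩ := (Module.finite_def.mp (inferInstance : Module.Finite R M))
  obtain ⟨d, hd⟩ := IsLocalization.exist_integer_multiples_of_finite S
    (fun p : Fin n × G => c p.1 p.2.1)
  let I : Submodule R K := LinearMap.range (Algebra.linearMap R K)
  have hI : ∀ (i : Fin n) (m : M), (d : R) • c i m ∈ I := by
    intro i m
    have hm : m ∈ Submodule.span R (G : Set M) := by rw [hG]; trivial
    induction hm using Submodule.span_induction with
    | mem y hy =>
      obtain ⟨r, hr⟩ := hd (i, ⟨y, hy⟩)
      exact ⟨r, hr⟩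
    | zero => simp
    | add y z _ _ hy hz =>
      rw [map_add, smul_add]
      exact I.add_mem hy hz
    | smul r y _ hy =>
      rw [map_smul, smul_comm]
      exact I.smul_mem r hy
  have hinjK : Function.Injective (Algebra.linearMap R K) := IsFractionRing.injective R K
  let e : R ≃ₗ[R] I := LinearEquiv.ofInjective (Algebra.linearMap R K) hinjK
  let ψ : Fin n → (M →ₗ[R] R) := fun i =>
    e.symm.toLinearMap ∘ₗ (((d : R) • c i).codRestrict I (fun m => hI i m))
  refine ⟨n, LinearMap.pi ψ, ?_⟩
  rw [← LinearMap.ker_eq_bot, Submodule.eq_bot_iff]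
  intro m hm
  rw [LinearMap.mem_ker] at hm
  apply hι
  rw [map_zero]
  apply b.ext_elem
  intro i
  have h1 : ψ i m = 0 := congrFun hm i
  have h2 : (((d : R) • c i).codRestrict I (fun m => hI i m)) m = 0 := by
    have : e.symm ((((d : R) • c i).codRestrict I (fun m => hI i m)) m) = 0 := h1
    simpa using this
  have h3 : (d : R) • c i m = 0 := by
    have := congrArg Subtype.val h2
    simpa using this
  have hdK : algebraMap R K (d : R) ≠ 0 := by
    intro h0
    exact nonZeroDivisors.ne_zero d.2 (hinjK (by simpa using h0))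
  have h4 : c i m = 0 := by
    rw [Algebra.smul_def] at h3
    exact (mul_eq_zero.mp h3).resolve_left hdK
  simpa [c] using h4

variable {A : Type u} {B : Type v} [CommRing A] [CommRing B] [Algebra A B]

theorem smul_eq_zero_iff (b : B) (x : Disc.Omega A B) :
    b • x = 0 ↔ ∀ y, x.toLinearMap (b * y) = 0 := by
  constructor
  · intro h y
    have := congrArg (fun z : Disc.Omega A B => z.toLinearMap y) h
    simpa using this
  · intro h
    apply Disc.Omega.ext
    ext y
    simpa using h y

variable [IsNoetherianRing A] [IsNoetherianRing B] [Module.Finite A B]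

theorem subset_dir (q : Ideal B) (hq : q ∈ associatedPrimes B (Disc.Omega A B)) :
    q.IsPrime ∧ q.comap (algebraMap A B) ∈ associatedPrimes A A := by
  obtain ⟨hqp, x, hx⟩ := isAssociatedPrime_iff.mp hq
  refine ⟨hqp, ?_⟩
  have hmem : ∀ c : A, c ∈ q.comap (algebraMap A B) ↔ ∀ y, c * x.toLinearMap y = 0 := by
    intro c
    rw [Ideal.mem_comap, hx, Submodule.mem_colon_singleton, Submodule.mem_bot, smul_eq_zero_iff]
    refine forall_congr' fun y => ?_
    rw [← Algebra.smul_def, map_smul, smul_eq_mul]
  obtain ⟨s, hs⟩ := (Module.finite_def.mp (inferInstance : Module.Finite A B))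
  have hmem' : ∀ c : A, c ∈ q.comap (algebraMap A B) ↔ ∀ y ∈ s, c * x.toLinearMap y = 0 := by
    intro c
    rw [hmem]
    constructor
    · intro h y _
      exact h y
    · intro h y
      have hy : y ∈ Submodule.span A (s : Set B) := by rw [hs]; trivial
      induction hy using Submodule.span_induction with
      | mem y hy => exact h y hy
      | zero => simp
      | add y z _ _ hy hz => rw [map_add, mul_add, hy, hz, add_zero]
      | smul r y _ hy => rw [map_smul, smul_eq_mul, mul_left_comm, hy, mul_zero]
  let f : B → Ideal A := fun y => (⊥ : Submodule A A).colon {x.toLinearMap y}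
  have hf : ∀ y c, c ∈ f y ↔ c * x.toLinearMap y = 0 := fun y c => by
    simp only [f]
    rw [Submodule.mem_colon_singleton, Submodule.mem_bot, smul_eq_mul]
  have hp : (q.comap (algebraMap A B)).IsPrime := Ideal.comap_isPrime _ q
  have hle : s.inf f ≤ q.comap (algebraMap A B) := by
    intro c hc
    rw [hmem']
    intro y hy
    exact (hf y c).mp ((Finset.inf_le hy : s.inf f ≤ f y) hc)
  obtain ⟨y, hys, hy⟩ := (Ideal.IsPrime.inf_le' hp).mp hle
  refine isAssociatedPrime_iff.mpr ⟨hp, x.toLinearMap y, le_antisymm ?_ hy⟩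
  intro c hc
  exact (hf y c).mpr ((hmem' c).mp hc y hys)

theorem superset_dir (q : Ideal B) [hqp : q.IsPrime]
    (hp : q.comap (algebraMap A B) ∈ associatedPrimes A A) :
    q ∈ associatedPrimes B (Disc.Omega A B) := by
  obtain ⟨hpp, a₀, ha₀⟩ := isAssociatedPrime_iff.mp hp
  have hpmem : ∀ c, c ∈ q.comap (algebraMap A B) ↔ c * a₀ = 0 := fun c => by
    rw [ha₀, Submodule.mem_colon_singleton, Submodule.mem_bot, smul_eq_mul]
  have hker : q.comap (algebraMap A B) ≤ LinearMap.ker (LinearMap.toSpanSingleton A A a₀) :=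
    fun c hc => by
      rw [LinearMap.mem_ker, LinearMap.toSpanSingleton_apply, smul_eq_mul]
      exact (hpmem c).mp hc
  let ι : (A ⧸ q.comap (algebraMap A B)) →ₗ[A] A :=
    Submodule.liftQ (q.comap (algebraMap A B)) (LinearMap.toSpanSingleton A A a₀) hker
  have hι : ∀ c, ι (Ideal.Quotient.mk (q.comap (algebraMap A B)) c) = c * a₀ := fun c => rfl
  have hιinj : ∀ z, ι z = 0 → z = 0 := by
    intro z hz
    obtain ⟨c, rfl⟩ := Ideal.Quotient.mk_surjective z
    rw [hι] at hz
    exact Ideal.Quotient.eq_zero_iff_mem.mpr ((hpmem c).mpr hz)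
  have hinj : Function.Injective (algebraMap (A ⧸ q.comap (algebraMap A B)) (B ⧸ q)) :=
    Ideal.algebraMap_quotient_injective
  have hfin : Module.Finite (A ⧸ q.comap (algebraMap A B)) (B ⧸ q) :=
    Module.Finite.of_restrictScalars_finite A _ _
  have htf : Module.IsTorsionFree (A ⧸ q.comap (algebraMap A B)) (B ⧸ q) :=
    Module.IsTorsionFree.of_smul_eq_zero fun c y h => by
      rw [Algebra.smul_def] at h
      rcases mul_eq_zero.mp h with h1 | h1
      · exact Or.inl (hinj (h1.trans (map_zero _).symm))
      · exact Or.inr h1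
  obtain ⟨n, f, hf⟩ := exists_injective_into_free' (A ⧸ q.comap (algebraMap A B)) (B ⧸ q)
  have hf1 : f 1 ≠ 0 := fun h => one_ne_zero (hf (h.trans (map_zero f).symm))
  obtain ⟨i, hi⟩ : ∃ i, f 1 i ≠ 0 := by
    by_contra hcon
    push Not at hcon
    exact hf1 (funext hcon)
  let θ : (B ⧸ q) →ₗ[A ⧸ q.comap (algebraMap A B)] (A ⧸ q.comap (algebraMap A B)) :=
    LinearMap.proj i ∘ₗ f
  have hθ1 : θ 1 ≠ 0 := hi
  let ψ : B →ₗ[A] A := ι ∘ₗ (θ.restrictScalars A) ∘ₗ (Ideal.Quotient.mkₐ A q).toLinearMap
  have hψ : ∀ y, ψ y = ι (θ (Ideal.Quotient.mk q y)) := fun y => rfl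
  have claim : ∀ b : B, b • (⟨ψ⟩ : Disc.Omega A B) = 0 ↔ b ∈ q := by
    intro b
    rw [smul_eq_zero_iff]
    constructor
    · intro h
      by_contra hb
      have hb0 : Ideal.Quotient.mk q b ≠ 0 := fun h0 => hb (Ideal.Quotient.eq_zero_iff_mem.mp h0)
      have h1 : ∀ y : B ⧸ q, θ (Ideal.Quotient.mk q b * y) = 0 := by
        intro y
        obtain ⟨y, rfl⟩ := Ideal.Quotient.mk_surjective y
        apply hιinj
        rw [← map_mul, ← hψ]
        exact h y
      have hint : IsIntegral (A ⧸ q.comap (algebraMap A B)) (Ideal.Quotient.mk q b) :=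
        IsIntegral.of_finite _ _
      have hne := Ideal.comap_ne_bot_of_integral_mem (R := A ⧸ q.comap (algebraMap A B))
        (I := Ideal.span {Ideal.Quotient.mk q b}) hb0 (Ideal.mem_span_singleton_self _) hint
      obtain ⟨c, hc, hc0⟩ := Submodule.exists_mem_ne_zero_of_ne_bot hne
      rw [Ideal.mem_comap, Ideal.mem_span_singleton'] at hc
      obtain ⟨z, hz⟩ := hc
      apply hθ1
      have h2 : c * θ 1 = 0 := by
        rw [← smul_eq_mul, ← map_smul, Algebra.smul_def, mul_one, ← hz, mul_comm]
        exact h1 z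
      exact (mul_eq_zero.mp h2).resolve_left hc0
    · intro hb y
      rw [hψ]
      have : Ideal.Quotient.mk q (b * y) = 0 :=
        Ideal.Quotient.eq_zero_iff_mem.mpr (Ideal.mul_mem_right _ _ hb)
      rw [this, map_zero, map_zero]
  refine isAssociatedPrime_iff.mpr ⟨hqp, ⟨ψ⟩, ?_⟩
  ext b
  rw [Submodule.mem_colon_singleton, Submodule.mem_bot]
  exact (claim b).symm

theorem main : associatedPrimes B (Disc.Omega A B) =
    {q : Ideal B | q.IsPrime ∧ q.comap (algebraMap A B) ∈ associatedPrimes A A} := by
  ext q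
  constructor
  · exact subset_dir q
  · rintro ⟨hq, hp⟩
    exact superset_dir q hp

end Groth.Agent.H34.AssOmega
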