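import Mathlib
import Groth.Agent.H26.RegUFD
import Groth.Agent.H23.RegularLocal

/-!
# helper34: ideals of height ≥ 2 ("big" ideals), Hartogs over regular rings, saturation

* `Big J` : `J` is contained in no prime of height `≤ 1`.
* `Big.eq_zero_of_mul_eq_zero` : over a regular ring a big ideal has zero annihilator.
* `Big.exists_eq_mul` : (Hartogs) over a regular ring every linear map `J → R` from a big ideal is
  multiplication by an element of `R`.
* `NoBigTorsion`, `NoBigTorsion.tensor` (flat base change), `noBigTorsion_of_flat`.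
* `colon`, `sat` : the saturation of a submodule with respect to big ideals.
* `sat_structure` : for `E` f.g. in a flat module over a regular ring, `sat E` is isomorphic to a
  saturated submodule of a finite free module.
-/

set_option autoImplicit false
set_option linter.style.haveILetI false
set_option linter.unusedSectionVars false
universe u v w

open TensorProduct

namespace Groth.Agent.H34.BigIdeal

section Basic

variable {R : Type u} [CommRing R]

/-- An ideal contained in no prime of height `≤ 1`. -/
def Big (J : Ideal R) : Prop := ∀ p : Ideal R, p.IsPrime → J ≤ p → 1 < p.height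

theorem big_top : Big (⊤ : Ideal R) := fun _ hp h => absurd (top_le_iff.mp h) hp.ne_top

theorem Big.mono {J J' : Ideal R} (h : Big J) (hle : J ≤ J') : Big J' :=
  fun p hp h' => h p hp (hle.trans h')

theorem Big.mul {J J' : Ideal R} (h : Big J) (h' : Big J') : Big (J * J') := fun p hp hle => by
  rcases hp.mul_le.mp hle with h1 | h1
  · exact h p hp h1
  · exact h' p hp h1

theorem Big.inf {J J' : Ideal R} (h : Big J) (h' : Big J') : Big (J ⊓ J') :=
  (h.mul h').mono Ideal.mul_le_inf

theorem Big.exists_notMem {J : Ideal R} (h : Big J) (p : Ideal R) (hp : p.IsPrime)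
    (hht : p.height ≤ 1) : ∃ j ∈ J, j ∉ p := by
  by_contra hcon
  push_neg at hcon
  exact absurd (h p hp hcon) (not_lt.mpr hht)

variable {P : Type v} [AddCommGroup P] [Module R P]

/-- The colon ideal `(N : x)`. -/
def colon (N : Submodule R P) (x : P) : Ideal R := N.comap (LinearMap.toSpanSingleton R P x)

theorem mem_colon {N : Submodule R P} {x : P} {r : R} : r ∈ colon N x ↔ r • x ∈ N := by
  simp [colon, LinearMap.toSpanSingleton_apply]

/-- The saturation of `N` with respect to big ideals. -/
def sat (N : Submodule R P) : Submodule R P where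
  carrier := {x | Big (colon N x)}
  add_mem' := by
    intro a b ha hb
    exact (Big.inf ha hb).mono (fun r hr => by
      rw [mem_colon, smul_add]
      exact N.add_mem (mem_colon.mp hr.1) (mem_colon.mp hr.2))
  zero_mem' := by
    show Big (colon N 0)
    exact big_top.mono (fun r _ => by rw [mem_colon, smul_zero]; exact N.zero_mem)
  smul_mem' := by
    intro c x hx
    exact Big.mono hx (fun r hr => by
      rw [mem_colon, smul_comm]
      exact N.smul_mem c (mem_colon.mp hr))

theorem mem_sat {N : Submodule R P} {x : P} : x ∈ sat N ↔ Big (colon N x) := Iff.rfl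

theorem le_sat (N : Submodule R P) : N ≤ sat N :=
  fun x hx => big_top.mono (fun r _ => mem_colon.mpr (N.smul_mem r hx))

theorem mem_sat_of_big {N : Submodule R P} {x : P} {J : Ideal R} (hJ : Big J)
    (h : ∀ j ∈ J, j • x ∈ sat N) : x ∈ sat N := by
  intro p hp hle
  by_contra hht
  rw [not_lt] at hht
  obtain ⟨g, hgJ, hgp⟩ := hJ.exists_notMem p hp hht
  obtain ⟨j', hj', hj'p⟩ := (mem_sat.mp (h g hgJ)).exists_notMem p hp hht
  have : j' * g ∈ colon N x := by
    rw [mem_colon, mul_smul]
    exact mem_colon.mp hj'
  exact (hp.mem_or_mem (hle this)).elim hj'p hgp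

theorem sat_sat_le (N : Submodule R P) : sat (sat N) ≤ sat N := fun _ hy =>
  mem_sat_of_big (mem_sat.mp hy) (fun _ hj => mem_colon.mp hj)

/-- `Q` has no torsion with respect to big ideals. -/
def NoBigTorsion (R : Type u) [CommRing R] (Q : Type v) [AddCommGroup Q] [Module R Q] : Prop :=
  ∀ J : Ideal R, Big J → ∀ q : Q, (∀ j ∈ J, j • q = 0) → q = 0

theorem noBigTorsion_quotient_sat (N : Submodule R P) : NoBigTorsion R (P ⧸ sat N) := by
  intro J hJ q hq
  obtain ⟨x, rfl⟩ := Submodule.Quotient.mk_surjective _ q
  rw [Submodule.Quotient.mk_eq_zero]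
  refine mem_sat_of_big hJ (fun j hj => ?_)
  have := hq j hj
  rwa [← Submodule.Quotient.mk_smul, Submodule.Quotient.mk_eq_zero] at this

theorem NoBigTorsion.of_injective {Q : Type v} [AddCommGroup Q] [Module R Q] {Q' : Type w}
    [AddCommGroup Q'] [Module R Q'] (h : NoBigTorsion R Q') (f : Q →ₗ[R] Q')
    (hf : Function.Injective f) : NoBigTorsion R Q := by
  intro J hJ q hq
  apply hf
  rw [map_zero]
  exact h J hJ (f q) (fun j hj => by rw [← map_smul, hq j hj, map_zero])

/-- Flat base change of `NoBigTorsion`. -/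
theorem NoBigTorsion.tensor [IsNoetherianRing R] {Q : Type v} [AddCommGroup Q] [Module R Q]
    (hQ : NoBigTorsion R Q) (C : Type w) [AddCommGroup C] [Module R C] [Module.Flat R C] :
    NoBigTorsion R (Q ⊗[R] C) := by
  classical
  intro J hJ z hz
  obtain ⟨G, hG⟩ := (IsNoetherian.noetherian J : J.FG)
  let ψ : Q →ₗ[R] (G → Q) := LinearMap.pi (fun g => (g : R) • LinearMap.id)
  have hψ : Function.Injective ψ := by
    rw [← LinearMap.ker_eq_bot, eq_bot_iff]
    intro q hq
    rw [LinearMap.mem_ker] at hq
    rw [Submodule.mem_bot]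
    refine hQ J hJ q ?_
    have hle : J ≤ LinearMap.ker (LinearMap.toSpanSingleton R Q q) := by
      rw [← hG, Ideal.span_le]
      intro g hg
      have := congrFun hq ⟨g, hg⟩
      simpa [ψ, LinearMap.toSpanSingleton_apply] using this
    intro j hj
    have := hle hj
    simpa [LinearMap.toSpanSingleton_apply] using this
  have hinj := Module.Flat.rTensor_preserves_injective_linearMap (M := C) ψ hψ
  apply hinj
  rw [map_zero]
  have hid : (LinearMap.id : (G → Q) →ₗ[R] (G → Q)) =
      ∑ g : G, (LinearMap.single R (fun _ : G => Q) g) ∘ₗ (LinearMap.proj g) := by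
    ext f i
    simp [Finset.sum_apply, Pi.single_apply]
  have h1 : ∀ g : G, (LinearMap.proj g : (G → Q) →ₗ[R] Q).rTensor C (ψ.rTensor C z) = 0 := by
    intro g
    rw [← LinearMap.rTensor_comp_apply]
    have : (LinearMap.proj g : (G → Q) →ₗ[R] Q) ∘ₗ ψ = (g : R) • LinearMap.id := by
      ext q
      simp [ψ]
    rw [this, LinearMap.rTensor_smul, LinearMap.rTensor_id, LinearMap.smul_apply,
      LinearMap.id_apply]
    exact hz g (hG ▸ Ideal.subset_span g.2)
  have h2 : ψ.rTensor C z = (LinearMap.rTensorHom C (LinearMap.id : (G → Q) →ₗ[R] (G → Q)))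
      (ψ.rTensor C z) := by
    simp
  rw [h2, hid, map_sum, LinearMap.sum_apply]
  refine Finset.sum_eq_zero (fun g _ => ?_)
  rw [LinearMap.coe_rTensorHom, LinearMap.rTensor_comp_apply, h1 g, map_zero]

end Basic

section Regular

variable {R : Type u} [CommRing R] [IsRegularRing R]

/-- Over a regular ring a big ideal has zero annihilator. -/
theorem Big.eq_zero_of_mul_eq_zero {J : Ideal R} (hJ : Big J) {r : R}
    (h : ∀ j ∈ J, j * r = 0) : r = 0 := by
  by_contra hr
  let I : Ideal R := LinearMap.ker (LinearMap.toSpanSingleton R R r)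
  have hmemI : ∀ s : R, s ∈ I ↔ s * r = 0 := fun s => by
    simp [I, LinearMap.mem_ker, LinearMap.toSpanSingleton_apply]
  have hI : I ≠ ⊤ := by
    intro htop
    have h1 : (1 : R) ∈ I := htop ▸ Submodule.mem_top
    rw [hmemI, one_mul] at h1
    exact hr h1
  obtain ⟨m, hm, hIm⟩ := Ideal.exists_le_maximal I hI
  haveI : m.IsPrime := hm.isPrime
  haveI : IsDomain (Localization.AtPrime m) :=
    Groth.Agent.H23.isDomain_of_isRegularLocalRing (Localization.AtPrime m)
  have hr' : algebraMap R (Localization.AtPrime m) r ≠ 0 := by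
    intro h0
    rw [IsLocalization.map_eq_zero_iff m.primeCompl] at h0
    obtain ⟨s, hs⟩ := h0
    exact s.2 (hIm ((hmemI _).mpr hs))
  haveI : (⊥ : Ideal (Localization.AtPrime m)).IsPrime := Ideal.isPrime_bot
  have hle : J ≤ (⊥ : Ideal (Localization.AtPrime m)).under R := by
    intro j hj
    have h2 : algebraMap R (Localization.AtPrime m) j * algebraMap R (Localization.AtPrime m) r
        = 0 := by rw [← map_mul, h j hj, map_zero]
    rcases mul_eq_zero.mp h2 with h3 | h3
    · rw [Ideal.under, Ideal.mem_comap, Ideal.mem_bot]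
      exact h3
    · exact absurd h3 hr'
  have hht : ((⊥ : Ideal (Localization.AtPrime m)).under R).height = 0 := by
    rw [IsLocalization.height_under m.primeCompl, Ideal.height_bot]
  have := hJ _ inferInstance hle
  rw [hht] at this
  exact absurd this (by simp)

theorem noBigTorsion_self : NoBigTorsion R R := fun _ hJ _ hq =>
  hJ.eq_zero_of_mul_eq_zero (fun j hj => by simpa using hq j hj)

/-- Flat modules over a regular ring have no big torsion. -/
theorem noBigTorsion_of_flat (P : Type v) [AddCommGroup P] [Module R P] [Module.Flat R P] :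
    NoBigTorsion R P :=
  NoBigTorsion.of_injective ((noBigTorsion_self (R := R)).tensor P)
    (TensorProduct.lid R P).symm.toLinearMap (TensorProduct.lid R P).symm.injective

/-- **Hartogs** over a regular ring. -/
theorem Big.exists_eq_mul {J : Ideal R} (hJ : Big J) (φ : J →ₗ[R] R) :
    ∃ t : R, ∀ j : J, φ j = t * j := by
  classical
  have hcomm : ∀ a b : J, (a : R) * φ b = (b : R) * φ a := by
    intro a b
    have h1 : φ ((a : R) • b) = (a : R) * φ b := by rw [map_smul, smul_eq_mul]
    have h2 : φ ((b : R) • a) = (b : R) * φ a := by rw [map_smul, smul_eq_mul]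
    have h3 : (a : R) • b = (b : R) • a := by
      ext
      simp [mul_comm]
    rw [← h1, ← h2, h3]
  let I : Ideal R :=
    { carrier := {r | ∃ t, ∀ j : J, r * φ j = t * j}
      add_mem' := by
        rintro a b ⟨t, ht⟩ ⟨t', ht'⟩
        exact ⟨t + t', fun j => by rw [add_mul, add_mul, ht, ht']⟩
      zero_mem' := ⟨0, fun j => by simp⟩
      smul_mem' := by
        rintro c a ⟨t, ht⟩
        exact ⟨c * t, fun j => by rw [smul_eq_mul, mul_assoc, ht, mul_assoc]⟩ }
  suffices h1 : (1 : R) ∈ I by
    obtain ⟨t, ht⟩ := h1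
    exact ⟨t, fun j => by rw [← ht j, one_mul]⟩
  by_contra h1
  have hI : I ≠ ⊤ := fun h => h1 (h ▸ Submodule.mem_top)
  obtain ⟨m, hm, hIm⟩ := Ideal.exists_le_maximal I hI
  haveI : m.IsPrime := hm.isPrime
  by_cases hJm : J ≤ m
  swap
  · obtain ⟨j₀, hj₀, hj₀m⟩ := SetLike.not_le_iff_exists.mp hJm
    refine hj₀m (hIm ⟨φ ⟨j₀, hj₀⟩, fun j => ?_⟩)
    have := hcomm ⟨j₀, hj₀⟩ j
    rw [mul_comm (φ _)]
    exact this
  · haveI : IsDomain (Localization.AtPrime m) :=
      Groth.Agent.H23.isDomain_of_isRegularLocalRing (Localization.AtPrime m)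
    haveI : UniqueFactorizationMonoid (Localization.AtPrime m) :=
      Groth.Agent.H26.RegUFD.ufm_of_isRegularLocalRing (Localization.AtPrime m)
    obtain ⟨a, ha, ha0⟩ : ∃ a ∈ J, algebraMap R (Localization.AtPrime m) a ≠ 0 := by
      by_contra hcon
      push_neg at hcon
      haveI : (⊥ : Ideal (Localization.AtPrime m)).IsPrime := Ideal.isPrime_bot
      have hle : J ≤ (⊥ : Ideal (Localization.AtPrime m)).under R := fun j hj => by
        rw [Ideal.under, Ideal.mem_comap, Ideal.mem_bot]
        exact hcon j hj
      have hht : ((⊥ : Ideal (Localization.AtPrime m)).under R).height = 0 := by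
        rw [IsLocalization.height_under m.primeCompl, Ideal.height_bot]
      have := hJ _ inferInstance hle
      rw [hht] at this
      exact absurd this (by simp)
    have hdiv : ∀ α : Localization.AtPrime m, α ≠ 0 → ∀ β : Localization.AtPrime m,
        (∀ j ∈ J, α ∣ β * algebraMap R (Localization.AtPrime m) j) → α ∣ β := by
      intro α
      refine UniqueFactorizationMonoid.induction_on_prime α (fun h => absurd rfl h)
        (fun x hx _ β _ => hx.dvd) ?_
      intro α' π hα' hπ ih _ β hβ
      have hπβ : π ∣ β := by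
        by_contra hnot
        have hall : ∀ j ∈ J, π ∣ algebraMap R (Localization.AtPrime m) j := fun j hj => by
          have h1 : π ∣ β * algebraMap R (Localization.AtPrime m) j :=
            (dvd_mul_right π α').trans (hβ j hj)
          exact (hπ.dvd_or_dvd h1).resolve_left hnot
        haveI : (Ideal.span {π}).IsPrime := (Ideal.span_singleton_prime hπ.ne_zero).mpr hπ
        have hle : J ≤ (Ideal.span {π}).under R := fun j hj => by
          rw [Ideal.under, Ideal.mem_comap, Ideal.mem_span_singleton]
          exact hall j hj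
        have hht : ((Ideal.span {π}).under R).height ≤ 1 := by
          rw [IsLocalization.height_under m.primeCompl]
          exact Ideal.height_span_singleton_le_one hπ.not_unit
        exact absurd (hJ _ inferInstance hle) (not_lt.mpr hht)
      obtain ⟨β', rfl⟩ := hπβ
      have : α' ∣ β' := ih hα' β' (fun j hj => by
        have h1 := hβ j hj
        rw [mul_assoc] at h1
        exact (mul_dvd_mul_iff_left hπ.ne_zero).mp h1)
      exact mul_dvd_mul_left π this
    have hφa : algebraMap R (Localization.AtPrime m) a ∣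
        algebraMap R (Localization.AtPrime m) (φ ⟨a, ha⟩) := by
      refine hdiv _ ha0 _ (fun j hj => ?_)
      refine ⟨algebraMap R (Localization.AtPrime m) (φ ⟨j, hj⟩), ?_⟩
      rw [← map_mul, ← map_mul]
      congr 1
      have := hcomm ⟨a, ha⟩ ⟨j, hj⟩
      rw [mul_comm (φ _)]
      exact this.symm
    obtain ⟨τ, hτ⟩ := hφa
    obtain ⟨t₀, s₀, rfl⟩ := IsLocalization.exists_mk'_eq m.primeCompl τ
    have hloc : ∀ j : J, ∃ s : m.primeCompl, (s : R) * ((s₀ : R) * φ j - t₀ * j) = 0 := by
      intro j
      have h0 : algebraMap R (Localization.AtPrime m) ((s₀ : R) * φ j - t₀ * j) = 0 := by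
        have h1 : algebraMap R (Localization.AtPrime m) a *
            algebraMap R (Localization.AtPrime m) ((s₀ : R) * φ j - t₀ * j) = 0 := by
          have e1 : (a : R) * φ j = (j : R) * φ ⟨a, ha⟩ := hcomm ⟨a, ha⟩ j
          have e2 : algebraMap R (Localization.AtPrime m) (φ ⟨a, ha⟩) *
              algebraMap R (Localization.AtPrime m) (s₀ : R) =
              algebraMap R (Localization.AtPrime m) a *
                algebraMap R (Localization.AtPrime m) t₀ := by
            rw [hτ, mul_assoc, IsLocalization.mk'_spec]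
          have e3 : algebraMap R (Localization.AtPrime m) (a : R) *
              algebraMap R (Localization.AtPrime m) (φ j) =
              algebraMap R (Localization.AtPrime m) (j : R) *
                algebraMap R (Localization.AtPrime m) (φ ⟨a, ha⟩) := by
            rw [← map_mul, ← map_mul, e1]
          simp only [map_sub, map_mul]
          linear_combination (algebraMap R (Localization.AtPrime m) (s₀ : R)) * e3 +
            (algebraMap R (Localization.AtPrime m) (j : R)) * e2
        exact (mul_eq_zero.mp h1).resolve_left ha0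
      exact (IsLocalization.map_eq_zero_iff m.primeCompl (Localization.AtPrime m) _).mp h0
    choose sj hsj using hloc
    obtain ⟨G, hG⟩ := (IsNoetherian.noetherian J : J.FG)
    have hGJ : ∀ g ∈ G, g ∈ J := fun g hg => hG ▸ Ideal.subset_span hg
    let s : R := ∏ g ∈ G.attach, (sj ⟨g.1, hGJ g.1 g.2⟩ : R)
    have hsm : s ∈ m.primeCompl :=
      Submonoid.prod_mem _ (fun g _ => (sj ⟨g.1, hGJ g.1 g.2⟩).2)
    have hkey : ∀ x ∈ Ideal.span (G : Set R), ∃ hx : x ∈ J,
        s * ((s₀ : R) * φ ⟨x, hx⟩ - t₀ * x) = 0 := by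
      intro x hx
      refine Submodule.span_induction (p := fun x _ => ∃ hx : x ∈ J,
        s * ((s₀ : R) * φ ⟨x, hx⟩ - t₀ * x) = 0) ?_ ?_ ?_ ?_ hx
      · intro g hg
        refine ⟨hGJ g hg, ?_⟩
        have hdvd : (sj ⟨g, hGJ g hg⟩ : R) ∣ s :=
          Finset.dvd_prod_of_mem (fun g : {x // x ∈ G} => (sj ⟨g.1, hGJ g.1 g.2⟩ : R))
            (Finset.mem_attach G ⟨g, hg⟩)
        obtain ⟨c, hc⟩ := hdvd
        rw [hc, mul_comm _ c, mul_assoc]
        have := hsj ⟨g, hGJ g hg⟩
        simp only at this
        rw [this, mul_zero]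
      · refine ⟨J.zero_mem, ?_⟩
        have : (⟨0, J.zero_mem⟩ : J) = 0 := rfl
        rw [this, map_zero]
        ring
      · rintro x y _ _ ⟨hx, ex⟩ ⟨hy, ey⟩
        refine ⟨J.add_mem hx hy, ?_⟩
        have : (⟨x + y, J.add_mem hx hy⟩ : J) = ⟨x, hx⟩ + ⟨y, hy⟩ := rfl
        rw [this, map_add]
        linear_combination ex + ey
      · rintro c x _ ⟨hx, ex⟩
        refine ⟨J.smul_mem c hx, ?_⟩
        have : (⟨c • x, J.smul_mem c hx⟩ : J) = c • ⟨x, hx⟩ := rfl
        rw [this, map_smul, smul_eq_mul, smul_eq_mul]
        linear_combination c * ex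
    have hrI : s * (s₀ : R) ∈ I := by
      refine ⟨s * t₀, fun j => ?_⟩
      obtain ⟨hx, e⟩ := hkey (j : R) (hG ▸ j.2)
      have : (⟨(j : R), hx⟩ : J) = j := rfl
      rw [this] at e
      linear_combination e
    have := hIm hrI
    rcases (inferInstance : m.IsPrime).mem_or_mem this with h | h
    · exact hsm h
    · exact s₀.2 h

end Regular

section Structure

variable {R : Type u} [CommRing R] [IsRegularRing R]
variable {P : Type v} [AddCommGroup P] [Module R P] [Module.Flat R P]

/-- For a finitely generated submodule `E` of a flat module over a regular ring, the saturation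
`sat E` is isomorphic to a saturated submodule of a finite free module. -/
theorem sat_structure (E : Submodule R P) (hE : E.FG) :
    ∃ (k : ℕ) (M : Submodule R (Fin k → R)) (_ : M ≃ₗ[R] sat E), sat M ≤ M := by
  classical
  haveI : Module.Finite R E := Module.Finite.iff_fg.mpr hE
  haveI : Module.FinitePresentation R E := Module.finitePresentation_of_finite R E
  obtain ⟨k, α₀, β₀, hfac⟩ :=
    Module.Flat.exists_factorization_of_finitePresentation (M := P) E.subtype
  let e₀ : (Fin k →₀ R) ≃ₗ[R] (Fin k → R) := Finsupp.linearEquivFunOnFinite R R (Fin k)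
  let α : E →ₗ[R] (Fin k → R) := e₀.toLinearMap ∘ₗ α₀
  let β : (Fin k → R) →ₗ[R] P := β₀ ∘ₗ e₀.symm.toLinearMap
  have hβα : ∀ e : E, β (α e) = (e : P) := by
    intro e
    have := LinearMap.congr_fun hfac e
    simp only [LinearMap.comp_apply, Submodule.subtype_apply] at this
    simp only [α, β, LinearMap.comp_apply, LinearEquiv.coe_coe, LinearEquiv.symm_apply_apply]
    exact this.symm
  let M : Submodule R (Fin k → R) := sat (LinearMap.range α)
  have hMsat : sat M ≤ M := sat_sat_le _
  -- (i) the image of `M` lies in `sat E`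
  have hi : ∀ y ∈ M, β y ∈ sat E := by
    intro y hy
    refine Big.mono (mem_sat.mp hy) (fun r hr => ?_)
    obtain ⟨e, he⟩ := mem_colon.mp hr
    rw [mem_colon, ← map_smul, ← he, hβα]
    exact e.2
  -- (iii) injectivity
  have hinj : ∀ y ∈ M, β y = 0 → y = 0 := by
    intro y hy hy0
    refine noBigTorsion_of_flat (R := R) (Fin k → R) _ (mem_sat.mp hy) y (fun r hr => ?_)
    obtain ⟨e, he⟩ := mem_colon.mp hr
    have h1 : (e : P) = 0 := by rw [← hβα, he, map_smul, hy0, smul_zero]
    have h2 : e = 0 := Subtype.ext h1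
    rw [← he, h2, map_zero]
  -- (ii) surjectivity
  have hsurj : ∀ x ∈ sat E, ∃ y ∈ M, β y = x := by
    intro x hx
    let J : Ideal R := colon E x
    have hJ : Big J := mem_sat.mp hx
    let ι : J →ₗ[R] E := LinearMap.codRestrict E ((LinearMap.toSpanSingleton R P x) ∘ₗ J.subtype)
      (fun j => by
        have := mem_colon.mp j.2
        simpa [LinearMap.toSpanSingleton_apply] using this)
    have hι : ∀ j : J, ((ι j : E) : P) = (j : R) • x := fun j => by
      simp [ι, LinearMap.toSpanSingleton_apply]
    have hH : ∀ i : Fin k, ∃ t : R, ∀ j : J, ((LinearMap.proj i) ∘ₗ α ∘ₗ ι) j = t * j :=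
      fun i => hJ.exists_eq_mul _
    choose t ht using hH
    let y : Fin k → R := fun i => t i
    have hy : ∀ j : J, α (ι j) = (j : R) • y := by
      intro j
      funext i
      have := ht i j
      simp only [LinearMap.comp_apply, LinearMap.proj_apply] at this
      rw [this, Pi.smul_apply, smul_eq_mul, mul_comm]
    have hyM : y ∈ M := by
      refine Big.mono hJ (fun j hj => ?_)
      rw [mem_colon]
      exact ⟨ι ⟨j, hj⟩, hy ⟨j, hj⟩⟩
    refine ⟨y, hyM, ?_⟩
    have hz : β y - x = 0 := by
      refine noBigTorsion_of_flat (R := R) P J hJ _ (fun j hj => ?_)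
      rw [smul_sub, ← map_smul, ← hy ⟨j, hj⟩, hβα, hι, sub_self]
    exact sub_eq_zero.mp hz
  let f : M →ₗ[R] sat E := LinearMap.codRestrict (sat E) (β ∘ₗ M.subtype) (fun y => hi y y.2)
  have hf : Function.Bijective f := by
    constructor
    · rw [← LinearMap.ker_eq_bot, eq_bot_iff]
      intro y hy
      rw [LinearMap.mem_ker] at hy
      have h1 : β (y : Fin k → R) = 0 := congrArg Subtype.val hy
      rw [Submodule.mem_bot]
      exact Subtype.ext (hinj y y.2 h1)
    · intro x
      obtain ⟨y, hy, hyx⟩ := hsurj x x.2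
      exact ⟨⟨y, hy⟩, Subtype.ext hyx⟩
  exact ⟨k, M, LinearEquiv.ofBijective f hf, hMsat⟩

end Structure

end Groth.Agent.H34.BigIdeal
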