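import Mathlib
import Groth.Agent.H34.BigIdeal
import Groth.Agent.H9.RegLocalSeq

/-!
# helper34: saturated submodules of finite free modules over regular rings of dimension ≤ 2 are
projective

* `pid_of_dim_le_one` : a regular local ring of dimension `≤ 1` is a PID.
* `free_of_saturated` : over a regular local ring `S` of dimension `≤ 2`, a submodule `M` of a
  finite free module `L` such that `L / M` has no `m`-torsion (when `dim S = 2`) is free.
* `projective_of_saturated` : over a regular ring of dimension `≤ 2`, a submodule of `Fin k → R`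
  which is saturated with respect to big ideals is projective.
-/

set_option autoImplicit false
set_option linter.style.haveILetI false
set_option linter.unusedSectionVars false
universe u v

open scoped Pointwise
open IsLocalRing

namespace Groth.Agent.H34.RegDim2

open Groth.Agent.H34.BigIdeal

theorem withBot_aux1 (d : WithBot ℕ∞) (h : d + 1 = 2) : d = 1 := by
  have h2 : (2 : WithBot ℕ∞) = (((2 : ℕ) : ℕ∞) : WithBot ℕ∞) := rfl
  have h1 : (1 : WithBot ℕ∞) = (((1 : ℕ) : ℕ∞) : WithBot ℕ∞) := rfl
  induction d using WithBot.recBotCoe with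
  | bot => simp at h
  | coe e =>
    induction e using ENat.recTopCoe with
    | top =>
      exfalso
      rw [h2, h1, ← WithBot.coe_add, WithBot.coe_eq_coe] at h
      simp at h
    | coe n =>
      rw [h2, h1, ← WithBot.coe_add, WithBot.coe_eq_coe, ← Nat.cast_add, Nat.cast_inj] at h
      have : n = 1 := by omega
      subst this; rfl

theorem withBot_aux2 (d : WithBot ℕ∞) (h : d ≤ 2) (hn : ¬ d ≤ 1) : d = 2 := by
  have h2 : (2 : WithBot ℕ∞) = (((2 : ℕ) : ℕ∞) : WithBot ℕ∞) := rfl
  have h1 : (1 : WithBot ℕ∞) = (((1 : ℕ) : ℕ∞) : WithBot ℕ∞) := rfl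
  induction d using WithBot.recBotCoe with
  | bot => simp at hn
  | coe e =>
    induction e using ENat.recTopCoe with
    | top =>
      exfalso
      rw [h2, WithBot.coe_le_coe] at h
      simp at h
    | coe n =>
      rw [h2, WithBot.coe_le_coe, Nat.cast_le] at h
      rw [h1, WithBot.coe_le_coe, Nat.cast_le] at hn
      have : n = 2 := by omega
      subst this; rfl

theorem withBot_aux3 (e : ℕ∞) (h : (e : WithBot ℕ∞) = 2) : e = 2 := by
  have h2 : (2 : WithBot ℕ∞) = (((2 : ℕ∞)) : WithBot ℕ∞) := rfl
  rw [h2, WithBot.coe_eq_coe] at h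
  exact h

/-- A regular local ring of dimension `≤ 1` is a principal ideal ring. -/
theorem pid_of_dim_le_one (S : Type u) [CommRing S] [IsRegularLocalRing S]
    (h : ringKrullDim S ≤ 1) : IsPrincipalIdealRing S := by
  haveI := Groth.Agent.H23.isDomain_of_isRegularLocalRing S
  haveI := Groth.Agent.H26.RegUFD.ufm_of_isRegularLocalRing S
  haveI : Ring.KrullDimLE 1 S := Ring.krullDimLE_iff.mpr (by exact_mod_cast h)
  refine IsPrincipalIdealRing.of_prime fun P hP => ?_
  by_cases hbot : P = ⊥
  · subst hbot
    exact bot_isPrincipal
  · obtain ⟨π, hπP, hπ⟩ := hP.exists_mem_prime_of_ne_bot hbot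
    have hmax := hπ.isMaximal_span_singleton
    have : Ideal.span {π} = P :=
      hmax.eq_of_le hP.ne_top ((Ideal.span_singleton_le_iff_mem _).mpr hπP)
    rw [← this]
    exact ⟨⟨π, rfl⟩⟩

/-- Local freeness of saturated submodules in dimension `≤ 2`. -/
theorem free_of_saturated (S : Type u) [CommRing S] [IsRegularLocalRing S]
    (hdim : ringKrullDim S ≤ 2)
    {L : Type v} [AddCommGroup L] [Module S L] [Module.Free S L] [Module.Finite S L]
    (M : Submodule S L)
    (hsat : ringKrullDim S = 2 → ∀ l : L, (∀ a ∈ maximalIdeal S, a • l ∈ M) → l ∈ M) :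
    Module.Free S M := by
  haveI dom := Groth.Agent.H23.isDomain_of_isRegularLocalRing S
  by_cases h1 : ringKrullDim S ≤ 1
  · haveI := pid_of_dim_le_one S h1
    exact Module.free_of_finite_type_torsion_free'
  · have h2 : ringKrullDim S = 2 := withBot_aux2 _ hdim h1
    have hmne : maximalIdeal S ≠ ⊥ := by
      intro hbot
      have := ringKrullDim_eq_zero_of_isField (isField_iff_maximalIdeal_eq.mpr hbot)
      rw [this] at h2
      norm_num at h2
    obtain ⟨x, hxm, hx2⟩ : ∃ x ∈ maximalIdeal S, x ∉ maximalIdeal S ^ 2 := by
      by_contra hcon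
      push_neg at hcon
      have hle : maximalIdeal S ≤ maximalIdeal S ^ 2 := hcon
      have : maximalIdeal S = ⊥ := by
        apply Submodule.eq_bot_of_le_smul_of_le_jacobson_bot (maximalIdeal S) (maximalIdeal S)
          (IsNoetherian.noetherian _)
        · rw [smul_eq_mul, ← pow_two]
          exact hle
        · exact maximalIdeal_le_jacobson _
      exact hmne this
    have hx0 : x ≠ 0 := fun h => hx2 (h ▸ Ideal.zero_mem _)
    obtain ⟨hDreg, hDdim⟩ := Groth.Agent.H9.regular_quotient_of_notMem_sq S x hxm hx2
    haveI : IsRegularLocalRing (S ⧸ Ideal.span {x}) := hDreg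
    have hD1 : ringKrullDim (S ⧸ Ideal.span {x}) = 1 := by
      rw [h2] at hDdim
      exact withBot_aux1 _ hDdim
    haveI := Groth.Agent.H23.isDomain_of_isRegularLocalRing (S ⧸ Ideal.span {x})
    haveI pidD := pid_of_dim_le_one (S ⧸ Ideal.span {x}) hD1.le
    have hDne : maximalIdeal (S ⧸ Ideal.span {x}) ≠ ⊥ := by
      intro hbot
      have := ringKrullDim_eq_zero_of_isField (isField_iff_maximalIdeal_eq.mpr hbot)
      rw [this] at hD1
      norm_num at hD1
    haveI : IsDiscreteValuationRing (S ⧸ Ideal.span {x}) := { not_a_field' := hDne }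
    obtain ⟨ϖ, hϖ⟩ := IsDiscreteValuationRing.exists_irreducible (S ⧸ Ideal.span {x})
    obtain ⟨y, rfl⟩ := Ideal.Quotient.mk_surjective ϖ
    have hmD : maximalIdeal (S ⧸ Ideal.span {x}) =
        Ideal.span {Ideal.Quotient.mk (Ideal.span {x}) y} :=
      (IsDiscreteValuationRing.irreducible_iff_uniformizer _).mp hϖ
    have hmk : ∀ a ∈ maximalIdeal S,
        Ideal.Quotient.mk (Ideal.span {x}) a ∈ maximalIdeal (S ⧸ Ideal.span {x}) := by
      intro a ha
      rw [mem_maximalIdeal, mem_nonunits_iff]
      intro hu
      obtain ⟨b', hb'⟩ := hu.exists_right_inv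
      obtain ⟨b, rfl⟩ := Ideal.Quotient.mk_surjective b'
      rw [← map_mul, ← map_one (Ideal.Quotient.mk (Ideal.span {x})), Ideal.Quotient.eq] at hb'
      have h3 : a * b - 1 ∈ maximalIdeal S :=
        ((Ideal.span_singleton_le_iff_mem _).mpr hxm) hb'
      have h4 : a * b ∈ maximalIdeal S := Ideal.mul_mem_right _ _ ha
      have h5 : (1 : S) ∈ maximalIdeal S := by
        have := Ideal.sub_mem _ h4 h3
        simpa using this
      exact (Ideal.ne_top_iff_one _).mp (maximalIdeal.isMaximal S).ne_top h5
    have hmxy : ∀ a ∈ maximalIdeal S, ∃ c d, a = c * y + d * x := by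
      intro a ha
      have hma := hmk a ha
      rw [hmD, Ideal.mem_span_singleton] at hma
      obtain ⟨c', hc'⟩ := hma
      obtain ⟨c, rfl⟩ := Ideal.Quotient.mk_surjective c'
      rw [← map_mul, Ideal.Quotient.eq, Ideal.mem_span_singleton] at hc'
      obtain ⟨d, hd⟩ := hc'
      exact ⟨c, d, by linear_combination hd⟩
    have hb : ∀ l : L, x • l ∈ M → y • l ∈ M → l ∈ M := fun l hx hy => hsat h2 l (fun a ha => by
      obtain ⟨c, d, rfl⟩ := hmxy a ha
      rw [add_smul, mul_smul, mul_smul]
      exact M.add_mem (M.smul_mem c hy) (M.smul_mem d hx))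
    have hc : ∀ (k : ℕ) (l : L), x • l ∈ M → y ^ k • l ∈ M → l ∈ M := by
      intro k
      induction k with
      | zero =>
        intro l _ h
        simpa using h
      | succ k ih =>
        intro l hx hy
        refine ih l hx (hb (y ^ k • l) ?_ ?_)
        · rw [smul_comm]
          exact M.smul_mem _ hx
        · rw [smul_smul, ← pow_succ']
          exact hy
    have hreg : IsSMulRegular M x := IsSMulRegular.of_ne_zero hx0
    haveI : Module.IsTorsionFree (S ⧸ Ideal.span {x}) (QuotSMulTop x M) := by
      rw [Module.isTorsionFree_iff_smul_eq_zero]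
      intro r q hrq
      obtain ⟨s, rfl⟩ := Ideal.Quotient.mk_surjective r
      obtain ⟨e, rfl⟩ := Submodule.Quotient.mk_surjective _ q
      by_cases hs : Ideal.Quotient.mk (Ideal.span {x}) s = 0
      · exact Or.inl hs
      · right
        have hrq' : (Submodule.Quotient.mk (s • e) : QuotSMulTop x M) = 0 := hrq
        have h1 : s • e ∈ x • (⊤ : Submodule S M) := (Submodule.Quotient.mk_eq_zero _).mp hrq'
        obtain ⟨e₁, -, he₁⟩ := (Submodule.mem_smul_pointwise_iff_exists _ _ _).mp h1
        have he₁' : x • (e₁ : L) = s • (e : L) := by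
          have := congrArg Subtype.val he₁
          simpa using this
        -- step 1
        have h2' : (Submodule.Quotient.mk (e : L) : QuotSMulTop x L) = 0 := by
          have h3 : (Ideal.Quotient.mk (Ideal.span {x}) s) •
              (Submodule.Quotient.mk (e : L) : QuotSMulTop x L) = 0 := by
            show (Submodule.Quotient.mk (s • (e : L)) : QuotSMulTop x L) = 0
            rw [Submodule.Quotient.mk_eq_zero, ← he₁']
            exact Submodule.smul_mem_pointwise_smul _ _ _ Submodule.mem_top
          exact ((Module.isTorsionFree_iff_smul_eq_zero.mp inferInstance) _ _ h3).resolve_left hs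
        obtain ⟨l, -, hl⟩ := (Submodule.mem_smul_pointwise_iff_exists _ _ _).mp
          ((Submodule.Quotient.mk_eq_zero _).mp h2')
        -- step 2
        have hsl : s • l = (e₁ : L) := by
          have h4 : x • (s • l - (e₁ : L)) = 0 := by
            rw [smul_sub, smul_comm, hl, he₁', sub_self]
          have := (smul_eq_zero.mp h4).resolve_left hx0
          exact sub_eq_zero.mp this
        have hslM : s • l ∈ M := hsl ▸ e₁.2
        have hxl : x • l ∈ M := hl ▸ e.2
        -- step 3
        obtain ⟨k, u, hu⟩ := IsDiscreteValuationRing.eq_unit_mul_pow_irreducible hs hϖ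
        obtain ⟨v, hv⟩ := Ideal.Quotient.mk_surjective (u : S ⧸ Ideal.span {x})
        have hvunit : IsUnit v := by
          by_contra hnu
          have hvm : v ∈ maximalIdeal S := (mem_maximalIdeal v).mpr hnu
          have := hmk v hvm
          rw [hv, mem_maximalIdeal, mem_nonunits_iff] at this
          exact this u.isUnit
        have hsv : ∃ d, s = v * y ^ k + d * x := by
          have h5 : Ideal.Quotient.mk (Ideal.span {x}) s =
              Ideal.Quotient.mk (Ideal.span {x}) (v * y ^ k) := by
            rw [hu, map_mul, map_pow, hv]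
          rw [Ideal.Quotient.eq, Ideal.mem_span_singleton] at h5
          obtain ⟨d, hd⟩ := h5
          exact ⟨d, by linear_combination hd⟩
        obtain ⟨d, hd⟩ := hsv
        have hykl : y ^ k • l ∈ M := by
          have h6 : v • (y ^ k • l) ∈ M := by
            have : v • (y ^ k • l) = s • l - d • (x • l) := by
              rw [hd, add_smul, mul_smul, mul_smul]
              abel
            rw [this]
            exact M.sub_mem hslM (M.smul_mem d hxl)
          obtain ⟨v', hv'⟩ := hvunit.exists_left_inv
          have : y ^ k • l = v' • (v • (y ^ k • l)) := by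
            rw [smul_smul, hv', one_smul]
          rw [this]
          exact M.smul_mem v' h6
        -- step 4
        have hlM : l ∈ M := hc k l hxl hykl
        rw [Submodule.Quotient.mk_eq_zero]
        have : e = x • (⟨l, hlM⟩ : M) := Subtype.ext (by simpa using hl.symm)
        rw [this]
        exact Submodule.smul_mem_pointwise_smul _ _ _ Submodule.mem_top
    haveI : Module.Finite (S ⧸ Ideal.span {x}) (QuotSMulTop x M) :=
      Module.Finite.of_restrictScalars_finite S (S ⧸ Ideal.span {x}) _
    haveI : Module.Free (S ⧸ Ideal.span {x}) (QuotSMulTop x M) :=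
      Module.free_of_finite_type_torsion_free'
    haveI : Module.FinitePresentation S M := Module.finitePresentation_of_finite S M
    exact (Module.free_quotSMulTop_iff_free S M (x := x) (maximalIdeal_le_jacobson ⊥ hxm)
      hreg).mp inferInstance

/-- Over a regular ring of dimension `≤ 2`, a saturated submodule of a finite free module is
projective. -/
theorem projective_of_saturated (R : Type u) [CommRing R] [IsRegularRing R]
    (hdim : ringKrullDim R ≤ 2) (k : ℕ) (M : Submodule R (Fin k → R)) (hM : sat M ≤ M) :
    Module.Projective R M := by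
  classical
  haveI : Module.FinitePresentation R M := Module.finitePresentation_of_finite R M
  refine Module.projective_of_localization_maximal' (fun P _ => Localization.AtPrime P)
    (fun P _ => ↥(M.localized' (Localization.AtPrime P) P.primeCompl
      (LocalizedModule.mkLinearMap P.primeCompl (Fin k → R))))
    (fun P _ => M.toLocalized' (Localization.AtPrime P) P.primeCompl
      (LocalizedModule.mkLinearMap P.primeCompl (Fin k → R))) ?_
  intro m hm
  haveI := hm
  haveI : m.IsPrime := hm.isPrime
  have hSdim : ringKrullDim (Localization.AtPrime m) = m.height :=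
    IsLocalization.AtPrime.ringKrullDim_eq_height m (Localization.AtPrime m)
  have hdimS : ringKrullDim (Localization.AtPrime m) ≤ 2 := by
    rw [hSdim]
    exact Ideal.height_le_ringKrullDim_of_isPrime.trans hdim
  haveI : Module.Free (Localization.AtPrime m) (LocalizedModule m.primeCompl (Fin k → R)) :=
    Module.free_of_isLocalizedModule m.primeCompl
      (LocalizedModule.mkLinearMap m.primeCompl (Fin k → R))
  haveI : Module.Finite (Localization.AtPrime m) (LocalizedModule m.primeCompl (Fin k → R)) :=
    Module.Finite.of_isLocalizedModule m.primeCompl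
      (LocalizedModule.mkLinearMap m.primeCompl (Fin k → R))
  haveI : Module.Free (Localization.AtPrime m) ↥(M.localized' (Localization.AtPrime m)
      m.primeCompl (LocalizedModule.mkLinearMap m.primeCompl (Fin k → R))) := by
    refine free_of_saturated (Localization.AtPrime m) hdimS _ ?_
    intro h2 l hl
    have hht : m.height = 2 := withBot_aux3 _ (hSdim ▸ h2)
    induction l using LocalizedModule.induction_on with
    | h l₀ s =>
      obtain ⟨G, hG⟩ := (IsNoetherian.noetherian m : m.FG)
      have hGm : ∀ g ∈ G, g ∈ m := fun g hg => hG ▸ Ideal.subset_span hg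
      have hex : ∀ g : {g // g ∈ G}, ∃ c : m.primeCompl, ((c : R) * g.1) • l₀ ∈ M := by
        intro g
        have hgmax : algebraMap R (Localization.AtPrime m) g.1 ∈
            maximalIdeal (Localization.AtPrime m) :=
          (IsLocalization.AtPrime.to_map_mem_maximal_iff (Localization.AtPrime m) m g.1).mpr
            (hGm g.1 g.2)
        have h3 := hl _ hgmax
        rw [algebraMap_smul, LocalizedModule.smul'_mk, Submodule.mem_localized'] at h3
        obtain ⟨m', hm', s', hms⟩ := h3
        rw [IsLocalizedModule.mk'_eq_iff, LocalizedModule.mkLinearMap_apply] at hms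
        have hms' : LocalizedModule.mk m' (1 : m.primeCompl) =
            LocalizedModule.mk ((s' : R) • g.1 • l₀) s := by
          rw [hms, Submonoid.smul_def, LocalizedModule.smul'_mk]
        rw [LocalizedModule.mk_eq] at hms'
        obtain ⟨u, hu⟩ := hms'
        refine ⟨u * s', ?_⟩
        have h4 : (((u * s' : m.primeCompl) : R) * g.1) • l₀ = (u : R) • (s : R) • m' := by
          have := hu
          simp only [Submonoid.smul_def, OneMemClass.coe_one, one_smul] at this
          rw [this, Submonoid.coe_mul, mul_smul, mul_smul]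
        rw [h4]
        exact M.smul_mem _ (M.smul_mem _ hm')
      choose c hc using hex
      let c₀ : m.primeCompl := ∏ g : {g // g ∈ G}, c g
      have hc₀ : ∀ g : {g // g ∈ G}, ((c₀ : R) * g.1) • l₀ ∈ M := by
        intro g
        have hdvd : (c g : R) ∣ (c₀ : R) := by
          have : c g ∣ c₀ := Finset.dvd_prod_of_mem _ (Finset.mem_univ g)
          obtain ⟨d, hd⟩ := this
          exact ⟨d, by rw [hd, Submonoid.coe_mul]⟩
        obtain ⟨d, hd⟩ := hdvd
        have : ((c₀ : R) * g.1) • l₀ = d • (((c g : R) * g.1) • l₀) := by
          rw [hd, smul_smul]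
          congr 1
          ring
        rw [this]
        exact M.smul_mem d (hc g)
      have hmle : m ≤ colon M ((c₀ : R) • l₀) := by
        refine (le_of_eq hG.symm).trans (Ideal.span_le.mpr ?_)
        intro g hg
        rw [SetLike.mem_coe, mem_colon, smul_smul, mul_comm]
        exact hc₀ ⟨g, hg⟩
      have hbig : Big (colon M ((c₀ : R) • l₀)) := by
        intro p hp hle
        have hpm : m = p := hm.eq_of_le hp.ne_top (hmle.trans hle)
        rw [← hpm, hht]
        norm_num
      have hmem : (c₀ : R) • l₀ ∈ M := hM (mem_sat.mpr hbig)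
      rw [Submodule.mem_localized']
      refine ⟨(c₀ : R) • l₀, hmem, c₀ * s, ?_⟩
      rw [IsLocalizedModule.mk'_eq_iff, LocalizedModule.mkLinearMap_apply, Submonoid.smul_def,
        LocalizedModule.smul'_mk, LocalizedModule.mk_eq]
      refine ⟨1, ?_⟩
      simp only [Submonoid.smul_def, Submonoid.coe_mul, OneMemClass.coe_one, one_smul, smul_smul]
      congr 1
      ring
  infer_instance

end Groth.Agent.H34.RegDim2
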