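import Mathlib
import Groth.Agent.H34.RegDim2
import Groth.Agent.H1.EquivRes.Linear

/-!
# helper34: Serre's resolution property in dimension ≤ 2 (comodule form)

* `isSubcomod_sat` : the saturation (w.r.t. ideals of height ≥ 2) of a subcomodule of a comodule
  over a flat coalgebra is a subcomodule.
* `exists_projective_subcomod` : over a regular ring of dimension ≤ 2, for a f.g. subcomodule `E`
  of a flat comodule, `sat E` is a finite projective subcomodule.
* `main_linear` : S6080.
-/

set_option autoImplicit false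
set_option linter.style.haveILetI false
set_option linter.unusedSectionVars false
universe u v w

open TensorProduct

namespace Groth.Agent.H34.SatComod

open Groth.Agent.H34.BigIdeal Groth.Agent.H34.RegDim2 Groth.Agent.H40 Groth.Agent.H1.EquivRes

section Sat

variable {R : Type u} [CommRing R] [IsNoetherianRing R]
variable {C : Type v} [AddCommGroup C] [Module R C] [Coalgebra R C] [Module.Flat R C]
variable {P : Type w} [AddCommGroup P] [Module R P] [HopfRep.Comod R C P]

theorem isSubcomod_sat (E : Submodule R P) (hE : HopfRep.IsSubcomod (k := R) (A := C) E) :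
    HopfRep.IsSubcomod (k := R) (A := C) (sat E) := by
  intro x hx
  have hQ : NoBigTorsion R ((P ⧸ sat E) ⊗[R] C) := (noBigTorsion_quotient_sat E).tensor C
  have hz : ((sat E).mkQ.rTensor C) (ρ R C P x) = 0 := by
    refine hQ _ (mem_sat.mp hx) _ (fun j hj => ?_)
    have hjx : j • x ∈ E := mem_colon.mp hj
    obtain ⟨t, ht⟩ := hE _ hjx
    rw [← map_smul, ← map_smul, ← ht, ← LinearMap.rTensor_comp_apply]
    have : (sat E).mkQ ∘ₗ E.subtype = 0 := by
      ext e
      simp only [LinearMap.comp_apply, Submodule.subtype_apply, Submodule.mkQ_apply,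
        LinearMap.zero_apply]
      exact (Submodule.Quotient.mk_eq_zero _).mpr (le_sat E e.2)
    rw [this, LinearMap.rTensor_zero, LinearMap.zero_apply]
  have hex := rTensor_exact C (LinearMap.exact_subtype_mkQ (sat E)) (Submodule.mkQ_surjective _)
  exact (hex _).mp hz

end Sat

/-- Over a regular ring of dimension `≤ 2`: the saturation of a finitely generated subcomodule of
a flat comodule (over a flat coalgebra) is a finite projective subcomodule. -/
theorem exists_projective_subcomod (R : Type u) [CommRing R] [IsRegularRing R]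
    (hdim : ringKrullDim R ≤ 2)
    (C : Type v) [AddCommGroup C] [Module R C] [Coalgebra R C] [Module.Flat R C]
    (P : Type w) [AddCommGroup P] [Module R P] [HopfRep.Comod R C P] [Module.Flat R P]
    (E : Submodule R P) (hEfg : E.FG) (hE : HopfRep.IsSubcomod (k := R) (A := C) E) :
    Module.Finite R (sat E) ∧ Module.Projective R (sat E) ∧
      HopfRep.IsSubcomod (k := R) (A := C) (sat E) := by
  obtain ⟨k, M, e, hM⟩ := sat_structure E hEfg
  haveI : Module.Projective R M := projective_of_saturated R hdim k M hM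
  haveI : Module.Finite R M := inferInstance
  exact ⟨Module.Finite.equiv e, Module.Projective.of_equiv e, isSubcomod_sat E hE⟩

section Main

open Groth.Agent.H62

/-- A finite projective subcomodule `E'` of a flat Hopf algebra `A` gives a matrix
corepresentation whose coefficient algebra contains `E'`. -/
theorem linear_of_projective_subcomod (R : Type u) [CommRing R] [IsNoetherianRing R]
    (A : Type u) [CommRing A] [HopfAlgebra R A] [Module.Flat R A]
    (E' : Submodule R A) [Module.Finite R E'] [Module.Projective R E']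
    (hsub : HopfRep.IsSubcomod (k := R) (A := A) E') :
    ∃ (d : ℕ) (a : Matrix (Fin d) (Fin d) A),
      (∀ i j, CoalgebraStruct.comul (R := R) (a i j) = ∑ l, a i l ⊗ₜ[R] a l j) ∧
      (∀ i j, CoalgebraStruct.counit (R := R) (a i j) = if i = j then 1 else 0) ∧
      ∃ u : A, u * a.det = 1 ∧ (E' : Set A) ⊆
        Algebra.adjoin R (Set.range (fun p : Fin d × Fin d => a p.1 p.2) ∪ {u}) := by
  let cE' : HopfRep.Comod R A E' := subComod E' hsub
  obtain ⟨d, f, g, hf, hg, hfg⟩ := Module.Finite.exists_comp_eq_id_of_projective R E'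
  let cM : HopfRep.Comod R A (Fin d → R) := freeComod (A := A) f g hfg
  let b : Module.Basis (Fin d) R (Fin d → R) := Pi.basisFun R (Fin d)
  let a : Matrix (Fin d) (Fin d) A := MatCoeff.mat A b
  let u : A := (a.map (HopfAlgebraStruct.antipode (R := R) (A := A))).det
  have hdet : a.det * u = 1 := MatCoeff.det_mul_det b
  refine ⟨d, a, fun i j => MatCoeff.comul_coeff b i j, fun i j => MatCoeff.counit_coeff b i j, u,
    by rw [mul_comm]; exact hdet, ?_⟩
  intro x hxE
  let θ : (Fin d → R) →ₗ[R] A := E'.subtype ∘ₗ f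
  have hθ : ∀ m, CoalgebraStruct.comul (R := R) (θ m) =
      θ.rTensor A (freeCoact (A := A) f g m) := by
    intro m
    have h1 := subCoact_spec E' hsub (f m)
    have h3 := LinearMap.congr_fun (rTensor_comp_freeCoact (A := A) f g hfg) m
    simp only [LinearMap.comp_apply] at h3
    refine Eq.trans h1.symm ?_
    change E'.subtype.rTensor A (HopfRep.Comod.coact (k := R) (A := A) (f m)) = _
    rw [← h3, ← LinearMap.rTensor_comp_apply]
  let Φ : (Fin d → R) →ₗ[R] A := (TensorProduct.lid R A).toLinearMap ∘ₗ
    ((CoalgebraStruct.counit (R := R) (A := A)) ∘ₗ θ).rTensor A ∘ₗ freeCoact (A := A) f g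
  have hΦ : ∀ m, Φ m = θ m := by
    intro m
    simp only [Φ, LinearMap.comp_apply, LinearEquiv.coe_coe]
    rw [LinearMap.rTensor_comp_apply, ← hθ m, Coalgebra.rTensor_counit_comul,
      TensorProduct.lid_tmul, one_smul]
  have hΦb : ∀ j, Φ (b j) ∈
      Subalgebra.toSubmodule (Algebra.adjoin R (Set.range (fun p : Fin d × Fin d => a p.1 p.2) ∪ {u})) := by
    intro j
    have hcb : freeCoact (A := A) f g (b j) = ∑ i, b i ⊗ₜ[R] MatCoeff.coeff A b i j :=
      MatCoeff.coact_basis b j
    simp only [Φ, LinearMap.comp_apply, hcb, map_sum, LinearMap.rTensor_tmul, LinearEquiv.coe_coe,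
      TensorProduct.lid_tmul]
    refine Submodule.sum_mem _ fun i _ => Submodule.smul_mem _ _ ?_
    exact Algebra.subset_adjoin (Or.inl ⟨(i, j), rfl⟩)
  have hΦall : ∀ m, Φ m ∈
      Subalgebra.toSubmodule (Algebra.adjoin R (Set.range (fun p : Fin d × Fin d => a p.1 p.2) ∪ {u})) := by
    intro m
    rw [← b.sum_repr m, map_sum]
    refine Submodule.sum_mem _ fun i _ => ?_
    rw [map_smul]
    exact Submodule.smul_mem _ _ (hΦb i)
  have hx' : x = Φ (g ⟨x, hxE⟩) := by
    rw [hΦ]
    have h := LinearMap.congr_fun hfg ⟨x, hxE⟩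
    simp only [LinearMap.comp_apply, LinearMap.id_apply] at h
    simp only [θ, LinearMap.comp_apply, Submodule.subtype_apply, h]
  rw [hx']
  exact hΦall _

/-- S6080. -/
theorem main_linear (R : Type u) [CommRing R] [IsRegularRing R]
    (hdim : ringKrullDim R ≤ 2) (A : Type u) [CommRing A] [HopfAlgebra R A] [Module.Flat R A]
    (F : Finset A) :
    ∃ (d : ℕ) (a : Matrix (Fin d) (Fin d) A),
      (∀ i j, CoalgebraStruct.comul (R := R) (a i j) = ∑ l, a i l ⊗ₜ[R] a l j) ∧
      (∀ i j, CoalgebraStruct.counit (R := R) (a i j) = if i = j then 1 else 0) ∧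
      ∃ u : A, u * a.det = 1 ∧ (↑F : Set A) ⊆
        Algebra.adjoin R (Set.range (fun p : Fin d × Fin d => a p.1 p.2) ∪ {u}) := by
  obtain ⟨E, hEfin, hE, hmem⟩ := exists_finite_subcomod_finset (k := R) (C := A) (V := A) F
  obtain ⟨hfin, hproj, hsub⟩ := exists_projective_subcomod R hdim A A E
    (Module.Finite.iff_fg.mp hEfin) hE
  obtain ⟨E', hE'⟩ : ∃ E' : Submodule R A, E' = sat E := ⟨_, rfl⟩
  rw [← hE'] at hfin hproj hsub
  obtain ⟨d, a, h1, h2, u, hu, hsubset⟩ := linear_of_projective_subcomod R A E' hsub
  refine ⟨d, a, h1, h2, u, hu, fun x hx => hsubset ?_⟩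
  rw [SetLike.mem_coe, hE']
  exact le_sat E (hmem x hx)

end Main

end Groth.Agent.H34.SatComod
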