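import Mathlib
import Groth.Agent.H34.SatComod
import Groth.Prelude.Def_Hoch

/-!
# helper34: Serre's resolution property in dimension ≤ 2: every finitely generated comodule over a
projective coalgebra over a regular ring of dimension ≤ 2 is a quotient of a finite projective
comodule (S6082).

* `cA M` : the cofree coaction on `M ⊗ C` (= `Hoch.Ind.coactAux`), with naturality `cA_nat`,
  counit identities `contr_rTensor_cA`, `contr_cA`, and coassociativity `cA_coassoc`.
* `isSubcomod_inf_flat` : intersections of subcomodules (flat coalgebra over a commutative ring).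
* `round` : a f.g. comodule `F` is the image, under a map `π` which is a comodule map on `ker Ψ`,
  of a f.g. subcomodule `E ≤ ker Ψ` of the cofree comodule `(Fin n → R) ⊗ C`; here
  `Ψ` takes values in `(F ⊗ C) ⊗ C`.
* `main_resolution` : S6082.
-/

set_option autoImplicit false
set_option linter.style.haveILetI false
set_option linter.unusedSectionVars false
universe u

open TensorProduct

namespace Groth.Agent.H34.CofreeRes

open Groth.Agent.H34.BigIdeal Groth.Agent.H34.SatComod Groth.Agent.H40 Groth.Agent.H1.EquivRes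

section Cofree

variable {R : Type u} [CommRing R] {C : Type u} [AddCommGroup C] [Module R C] [Coalgebra R C]
variable (M : Type u) [AddCommGroup M] [Module R M] {N : Type u} [AddCommGroup N] [Module R N]

/-- The cofree coaction on `M ⊗ C`. -/
noncomputable def cA : M ⊗[R] C →ₗ[R] (M ⊗[R] C) ⊗[R] C :=
  (TensorProduct.assoc R M C C).symm.toLinearMap ∘ₗ
    (CoalgebraStruct.comul (R := R) (A := C)).lTensor M

theorem cA_eq : cA (R := R) (C := C) M = Hoch.Ind.coactAux R C M := rfl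

variable {M}

theorem cA_nat (g : M →ₗ[R] N) :
    (g.rTensor C).rTensor C ∘ₗ cA (R := R) (C := C) M = cA N ∘ₗ g.rTensor C := by
  have e1 : (g.rTensor C).rTensor C ∘ₗ (TensorProduct.assoc R M C C).symm.toLinearMap =
      (TensorProduct.assoc R N C C).symm.toLinearMap ∘ₗ g.rTensor (C ⊗[R] C) := by
    ext m c c'
    simp
  have e2 : g.rTensor (C ⊗[R] C) ∘ₗ (CoalgebraStruct.comul (R := R) (A := C)).lTensor M =
      (CoalgebraStruct.comul (R := R) (A := C)).lTensor N ∘ₗ g.rTensor C := by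
    rw [LinearMap.rTensor_comp_lTensor, LinearMap.lTensor_comp_rTensor]
  unfold cA
  rw [← LinearMap.comp_assoc, e1, LinearMap.comp_assoc, e2, ← LinearMap.comp_assoc]

variable (M)

theorem contr_rTensor_cA :
    (contr M (CoalgebraStruct.counit (R := R) (A := C))).rTensor C ∘ₗ cA (R := R) (C := C) M =
      LinearMap.id := by
  have e1 : (contr M (CoalgebraStruct.counit (R := R) (A := C))).rTensor C ∘ₗ
      (TensorProduct.assoc R M C C).symm.toLinearMap =
      ((TensorProduct.lid R C).toLinearMap ∘ₗ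
        (CoalgebraStruct.counit (R := R) (A := C)).rTensor C).lTensor M := by
    ext m c c'
    simp [TensorProduct.smul_tmul]
  unfold cA
  rw [← LinearMap.comp_assoc, e1, ← LinearMap.lTensor_comp, LinearMap.comp_assoc,
    Coalgebra.rTensor_counit_comp_comul]
  have : (TensorProduct.lid R C).toLinearMap ∘ₗ (TensorProduct.mk R R C) 1 = LinearMap.id := by
    ext c
    simp
  rw [this, LinearMap.lTensor_id]

theorem contr_cA :
    contr (M ⊗[R] C) (CoalgebraStruct.counit (R := R) (A := C)) ∘ₗ cA (R := R) (C := C) M =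
      LinearMap.id := by
  unfold cA
  rw [← LinearMap.comp_assoc, contr_comp_assoc_symm, ← LinearMap.lTensor_comp]
  have : contr C (CoalgebraStruct.counit (R := R) (A := C)) ∘ₗ
      CoalgebraStruct.comul (R := R) (A := C) = LinearMap.id := by
    ext c
    simp [contr, Coalgebra.lTensor_counit_comul]
  rw [this, LinearMap.lTensor_id]

theorem cA_coassoc :
    (cA (R := R) (C := C) M).rTensor C ∘ₗ cA M = cA (M ⊗[R] C) ∘ₗ cA M := by
  have h := HopfRep.Comod.coassoc (k := R) (A := C) (V := Hoch.Ind R C M)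
  have h' : (TensorProduct.assoc R (M ⊗[R] C) C C).toLinearMap ∘ₗ
      (cA (R := R) (C := C) M).rTensor C ∘ₗ cA M =
      (CoalgebraStruct.comul (R := R) (A := C)).lTensor (M ⊗[R] C) ∘ₗ cA M := h
  refine LinearMap.ext fun x => ?_
  have h2 := LinearMap.congr_fun h' x
  simp only [LinearMap.comp_apply, LinearEquiv.coe_coe] at h2
  show (cA M).rTensor C (cA M x) = cA (M ⊗[R] C) (cA M x)
  have e : cA (R := R) (C := C) (M ⊗[R] C) (cA M x) =
      (TensorProduct.assoc R (M ⊗[R] C) C C).symm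
        ((CoalgebraStruct.comul (R := R) (A := C)).lTensor (M ⊗[R] C) (cA M x)) := rfl
  rw [e, ← h2, LinearEquiv.symm_apply_apply]

end Cofree

section Round

variable {R : Type u} [CommRing R] [IsNoetherianRing R]
variable {C : Type u} [AddCommGroup C] [Module R C] [Coalgebra R C] [Module.Flat R C]

omit [IsNoetherianRing R] [Coalgebra R C] in
theorem mem_range_of_rTensor_eq_zero {X Y : Type u} [AddCommGroup X] [Module R X]
    [AddCommGroup Y] [Module R Y] (Ψ : X →ₗ[R] Y) (z : X ⊗[R] C) (hz : Ψ.rTensor C z = 0) :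
    z ∈ LinearMap.range ((LinearMap.ker Ψ).subtype.rTensor C) := by
  have hex := Module.Flat.rTensor_exact C (LinearMap.exact_subtype_ker_map Ψ)
  rw [← LinearMap.exact_iff.mp hex, LinearMap.mem_ker]
  exact hz

theorem isSubcomod_inf_flat {V : Type u} [AddCommGroup V] [Module R V] [HopfRep.Comod R C V]
    {W₁ W₂ : Submodule R V} (h₁ : HopfRep.IsSubcomod (k := R) (A := C) W₁)
    (h₂ : HopfRep.IsSubcomod (k := R) (A := C) W₂) :
    HopfRep.IsSubcomod (k := R) (A := C) (W₁ ⊓ W₂) := by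
  intro x hx
  obtain ⟨t, ht⟩ := h₁ x hx.1
  obtain ⟨t₂, ht₂⟩ := h₂ x hx.2
  let g : W₁ →ₗ[R] V ⧸ W₂ := W₂.mkQ ∘ₗ W₁.subtype
  have hgt : g.rTensor C t = 0 := by
    rw [LinearMap.rTensor_comp_apply, ht, ← ht₂, ← LinearMap.rTensor_comp_apply]
    have : W₂.mkQ ∘ₗ W₂.subtype = 0 := by
      ext
      simp
    rw [this, LinearMap.rTensor_zero, LinearMap.zero_apply]
  have hex := Module.Flat.rTensor_exact C (LinearMap.exact_subtype_ker_map g)
  obtain ⟨t', ht'⟩ := (hex t).mp hgt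
  let ι : LinearMap.ker g →ₗ[R] ↥(W₁ ⊓ W₂) :=
    LinearMap.codRestrict (W₁ ⊓ W₂) (W₁.subtype ∘ₗ (LinearMap.ker g).subtype)
      (fun z => ⟨z.1.2, by
        have h := z.2
        rw [LinearMap.mem_ker] at h
        exact (Submodule.Quotient.mk_eq_zero W₂).mp h⟩)
  refine ⟨ι.rTensor C t', ?_⟩
  rw [← LinearMap.rTensor_comp_apply]
  have : (W₁ ⊓ W₂).subtype ∘ₗ ι = W₁.subtype ∘ₗ (LinearMap.ker g).subtype := by
    ext z
    rfl
  rw [this, LinearMap.rTensor_comp_apply, ht', ht]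

theorem round (F : Type u) [AddCommGroup F] [Module R F] [HopfRep.Comod R C F]
    [Module.Finite R F] :
    ∃ (n : ℕ) (Ψ : Hoch.Ind R C (Fin n → R) →ₗ[R] (F ⊗[R] C) ⊗[R] C)
      (π : Hoch.Ind R C (Fin n → R) →ₗ[R] F) (E : Submodule R (Hoch.Ind R C (Fin n → R))),
      E.FG ∧ HopfRep.IsSubcomod (k := R) (A := C) E ∧ E ≤ LinearMap.ker Ψ ∧
      (∀ w ∈ LinearMap.ker Ψ,
        ρ R C F (π w) = π.rTensor C (ρ R C (Hoch.Ind R C (Fin n → R)) w)) ∧
      (∀ f : F, ∃ w ∈ E, π w = f) := by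
  classical
  obtain ⟨n, q, hq⟩ := Module.Finite.exists_fin' R F
  let Φ : (Fin n → R) ⊗[R] C →ₗ[R] F ⊗[R] C := q.rTensor C
  let D : F ⊗[R] C →ₗ[R] (F ⊗[R] C) ⊗[R] C := (ρ R C F).rTensor C - cA F
  let Ψ₀ : (Fin n → R) ⊗[R] C →ₗ[R] (F ⊗[R] C) ⊗[R] C := D ∘ₗ Φ
  let π₀ : (Fin n → R) ⊗[R] C →ₗ[R] F :=
    contr F (CoalgebraStruct.counit (R := R) (A := C)) ∘ₗ Φ
  have hΦsurj : Function.Surjective Φ := LinearMap.rTensor_surjective C hq
  have hcol : Ψ₀.rTensor C ∘ₗ cA (Fin n → R) = cA (F ⊗[R] C) ∘ₗ Ψ₀ := by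
    have h1 : Φ.rTensor C ∘ₗ cA (Fin n → R) = cA F ∘ₗ Φ := cA_nat q
    have h2 : D.rTensor C ∘ₗ cA F = cA (F ⊗[R] C) ∘ₗ D := by
      refine LinearMap.ext fun z => ?_
      have a1 := LinearMap.congr_fun (cA_nat (R := R) (C := C) (ρ R C F)) z
      have a2 := LinearMap.congr_fun (cA_coassoc (R := R) (C := C) F) z
      simp only [LinearMap.comp_apply] at a1 a2
      simp only [D, LinearMap.comp_apply, LinearMap.rTensor_sub, map_sub]
      change (LinearMap.rTensor C (LinearMap.rTensor C (ρ R C F))) ((cA F) z) -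
        (LinearMap.rTensor C (cA F)) ((cA F) z) = _
      rw [a1, a2]
      exact (map_sub (cA (F ⊗[R] C)) _ _).symm
    simp only [Ψ₀]
    rw [LinearMap.rTensor_comp, LinearMap.comp_assoc, h1, ← LinearMap.comp_assoc, h2,
      LinearMap.comp_assoc]
  have hb : ∀ w, Ψ₀ w = 0 → ρ R C F (π₀ w) = π₀.rTensor C (cA (Fin n → R) w) := by
    intro w hw
    have hR : π₀.rTensor C (cA (Fin n → R) w) = Φ w := by
      have h1 : Φ.rTensor C (cA (Fin n → R) w) = cA F (Φ w) := LinearMap.congr_fun (cA_nat q) w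
      simp only [π₀]
      rw [LinearMap.rTensor_comp_apply, h1]
      exact LinearMap.congr_fun (contr_rTensor_cA F) (Φ w)
    rw [hR]
    have hD : (ρ R C F).rTensor C (Φ w) = cA F (Φ w) := by
      have : D (Φ w) = 0 := hw
      simp only [D, LinearMap.sub_apply] at this
      exact sub_eq_zero.mp this
    have h3 := LinearMap.congr_fun
      (coact_comp_contr (k := R) (C := C) (V := F) (CoalgebraStruct.counit (R := R) (A := C)))
      (Φ w)
    simp only [LinearMap.comp_apply] at h3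
    simp only [π₀, LinearMap.comp_apply]
    rw [h3, hD]
    exact LinearMap.congr_fun (contr_cA F) (Φ w)
  have hc : ∀ f : F, ∃ w, Ψ₀ w = 0 ∧ π₀ w = f := by
    intro f
    obtain ⟨w, hw⟩ := hΦsurj (ρ R C F f)
    refine ⟨w, ?_, ?_⟩
    · simp only [Ψ₀, D, LinearMap.comp_apply, LinearMap.sub_apply, hw]
      rw [sub_eq_zero]
      show _ = (TensorProduct.assoc R F C C).symm
        ((CoalgebraStruct.comul (R := R) (A := C)).lTensor F (ρ R C F f))
      rw [← coassoc_apply, LinearEquiv.symm_apply_apply]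
    · simp only [π₀, LinearMap.comp_apply, hw]
      exact contr_counit_coact f
  -- transport to `Hoch.Ind`
  let Ψ : Hoch.Ind R C (Fin n → R) →ₗ[R] (F ⊗[R] C) ⊗[R] C := Ψ₀
  let π : Hoch.Ind R C (Fin n → R) →ₗ[R] F := π₀
  have hF₀' : ∀ w : (Fin n → R) ⊗[R] C, Ψ₀ w = 0 →
      cA (Fin n → R) w ∈ LinearMap.range ((LinearMap.ker Ψ₀).subtype.rTensor C) := by
    intro w hw
    refine mem_range_of_rTensor_eq_zero Ψ₀ _ ?_
    have h := LinearMap.congr_fun hcol w
    rw [LinearMap.comp_apply, LinearMap.comp_apply] at h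
    rw [h, hw, map_zero]
  have hF₀ : HopfRep.IsSubcomod (k := R) (A := C) (LinearMap.ker Ψ) := fun w hw => hF₀' w hw
  choose w hw1 hw2 using hc
  obtain ⟨s, hs⟩ := (Module.Finite.fg_top : (⊤ : Submodule R F).FG)
  let T : Finset (Hoch.Ind R C (Fin n → R)) := s.image w
  obtain ⟨E₁, hE₁fin, hE₁, hmemE₁⟩ :=
    exists_finite_subcomod_finset (k := R) (C := C) (V := Hoch.Ind R C (Fin n → R)) T
  refine ⟨n, Ψ, π, E₁ ⊓ LinearMap.ker Ψ,
    Submodule.FG.of_le (Module.Finite.iff_fg.mp hE₁fin) inf_le_left,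
    isSubcomod_inf_flat hE₁ hF₀, inf_le_right, fun w' hw' => hb w' hw', ?_⟩
  have hle : (⊤ : Submodule R F) ≤ (E₁ ⊓ LinearMap.ker Ψ).map π := by
    rw [← hs, Submodule.span_le]
    intro f hf
    exact ⟨w f, ⟨hmemE₁ _ (Finset.mem_image_of_mem w hf), hw1 f⟩, hw2 f⟩
  intro f
  obtain ⟨w', hw'E, hw'⟩ := hle (Submodule.mem_top : f ∈ ⊤)
  exact ⟨w', hw'E, hw'⟩

end Round

section Main

/-- S6082. -/
theorem main_resolution (R : Type u) [CommRing R] [IsRegularRing R]
    (hdim : ringKrullDim R ≤ 2) (C : Type u) [AddCommGroup C] [Module R C] [Coalgebra R C]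
    [Module.Projective R C]
    (F : Type u) [AddCommGroup F] [Module R F] [HopfRep.Comod R C F] [Module.Finite R F] :
    ∃ (V : Type u) (_ : AddCommGroup V) (_ : Module R V) (_ : HopfRep.Comod R C V)
      (φ : V →ₗ[R] F),
      Module.Finite R V ∧ Module.Projective R V ∧ Function.Surjective φ ∧
        HopfRep.Comod.coact (k := R) (A := C) ∘ₗ φ =
          φ.rTensor C ∘ₗ HopfRep.Comod.coact (k := R) (A := C) (V := V) := by
  haveI : Module.Flat R C := inferInstance
  -- round 1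
  obtain ⟨n₁, Ψ₁, π₁, E₁, hE₁fg, hE₁sub, hE₁le, hπ₁, hsurj₁⟩ := round (R := R) (C := C) F
  letI cE₁ : HopfRep.Comod R C E₁ := subComod E₁ hE₁sub
  haveI : Module.Finite R E₁ := Module.Finite.iff_fg.mpr hE₁fg
  haveI : Module.Flat R (Hoch.Ind R C (Fin n₁ → R)) :=
    inferInstanceAs (Module.Flat R ((Fin n₁ → R) ⊗[R] C))
  have hnbt₁ : NoBigTorsion R E₁ :=
    (noBigTorsion_of_flat (R := R) (Hoch.Ind R C (Fin n₁ → R))).of_injective E₁.subtype
      E₁.injective_subtype
  -- round 2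
  obtain ⟨n₂, Ψ₂, π₂, E₂, hE₂fg, hE₂sub, hE₂le, hπ₂, hsurj₂⟩ := round (R := R) (C := C) ↥E₁
  haveI : Module.Flat R (Hoch.Ind R C (Fin n₂ → R)) :=
    inferInstanceAs (Module.Flat R ((Fin n₂ → R) ⊗[R] C))
  obtain ⟨hfin, hproj, hsub⟩ :=
    exists_projective_subcomod R hdim C (Hoch.Ind R C (Fin n₂ → R)) E₂ hE₂fg hE₂sub
  have hsatle : sat E₂ ≤ LinearMap.ker Ψ₂ := by
    intro x hx
    rw [LinearMap.mem_ker]
    have hT : NoBigTorsion R ((↥E₁ ⊗[R] C) ⊗[R] C) := (hnbt₁.tensor C).tensor C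
    refine hT _ (mem_sat.mp hx) _ (fun j hj => ?_)
    rw [← map_smul]
    exact hE₂le (mem_colon.mp hj)
  obtain ⟨V, hV⟩ : ∃ V : Submodule R (Hoch.Ind R C (Fin n₂ → R)), V = sat E₂ := ⟨_, rfl⟩
  rw [← hV] at hfin hproj hsub hsatle
  have hE₂V : E₂ ≤ V := hV ▸ le_sat E₂
  letI cV : HopfRep.Comod R C V := subComod V hsub
  let π₂' : V →ₗ[R] E₁ := π₂ ∘ₗ V.subtype
  let π₁' : E₁ →ₗ[R] F := π₁ ∘ₗ E₁.subtype
  refine ⟨V, inferInstance, inferInstance, cV, π₁' ∘ₗ π₂', hfin, hproj, ?_, ?_⟩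
  · intro f
    obtain ⟨w₁, hw₁E, hw₁⟩ := hsurj₁ f
    obtain ⟨w₂, hw₂E, hw₂⟩ := hsurj₂ ⟨w₁, hw₁E⟩
    refine ⟨⟨w₂, hE₂V hw₂E⟩, ?_⟩
    simp only [π₁', π₂', LinearMap.comp_apply, Submodule.subtype_apply]
    rw [hw₂]
    exact hw₁
  · refine LinearMap.ext fun v => ?_
    simp only [LinearMap.comp_apply]
    -- step 2 : ρ_{E₁} (π₂' v) = π₂'.rTensor C (ρ_V v)
    have h2 : ρ R C E₁ (π₂' v) = π₂'.rTensor C (ρ R C V v) := by
      have hv : (v : Hoch.Ind R C (Fin n₂ → R)) ∈ LinearMap.ker Ψ₂ := hsatle v.2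
      have e1 := hπ₂ _ hv
      have e2 := subCoact_spec V hsub v
      simp only [π₂', LinearMap.comp_apply, Submodule.subtype_apply]
      rw [e1, LinearMap.rTensor_comp_apply]
      congr 1
      exact e2.symm
    -- step 1 : ρ_F (π₁' e) = π₁'.rTensor C (ρ_{E₁} e)
    have h1 : ∀ e : E₁, ρ R C F (π₁' e) = π₁'.rTensor C (ρ R C E₁ e) := by
      intro e
      have he : (e : Hoch.Ind R C (Fin n₁ → R)) ∈ LinearMap.ker Ψ₁ := hE₁le e.2
      have e1 := hπ₁ _ he
      have e2 := subCoact_spec E₁ hE₁sub e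
      simp only [π₁', LinearMap.comp_apply, Submodule.subtype_apply]
      rw [e1, LinearMap.rTensor_comp_apply]
      congr 1
      exact e2.symm
    have h3 := h1 (π₂' v)
    rw [h2, ← LinearMap.rTensor_comp_apply] at h3
    exact h3

end Main

end Groth.Agent.H34.CofreeRes
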