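import Mathlib

namespace Groth.Agent.H34.ContentIdeal

open IsLocalRing TensorProduct

universe u

variable {A : Type u} [CommRing A]

theorem exists_sum_of_mem_span_smul {M : Type*} [AddCommGroup M] [Module A M] {r : ℕ}
    (a : Fin r → A) {y : M} (hy : y ∈ Ideal.span (Set.range a) • (⊤ : Submodule A M)) :
    ∃ m : Fin r → M, y = ∑ i, a i • m i := by
  refine Submodule.smul_induction_on hy ?_ ?_
  · intro c hc m _
    obtain ⟨d, rfl⟩ := (Ideal.mem_span_range_iff_exists_fun).mp hc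
    refine ⟨fun i => d i • m, ?_⟩
    rw [Finset.sum_smul]
    refine Finset.sum_congr rfl fun i _ => ?_
    rw [smul_smul, mul_comm]
  · rintro y₁ y₂ ⟨m₁, rfl⟩ ⟨m₂, rfl⟩
    refine ⟨fun i => m₁ i + m₂ i, ?_⟩
    simp only [smul_add, Finset.sum_add_distrib]

theorem fg_of_isLeast {M : Type*} [AddCommGroup M] [Module A M] {x : M} {I : Ideal A}
    (hx : IsLeast {J : Ideal A | x ∈ J • (⊤ : Submodule A M)} I) : I.FG := by
  have key : ∀ y ∈ I • (⊤ : Submodule A M),
      ∃ I₀ : Ideal A, I₀ ≤ I ∧ I₀.FG ∧ y ∈ I₀ • (⊤ : Submodule A M) := by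
    intro y hy
    refine Submodule.smul_induction_on hy ?_ ?_
    · intro c hc m _
      exact ⟨Ideal.span {c}, (Ideal.span_singleton_le_iff_mem _).mpr hc,
        Submodule.fg_span_singleton c,
        Submodule.smul_mem_smul (Ideal.mem_span_singleton_self c) trivial⟩
    · rintro y₁ y₂ ⟨I₁, h₁, f₁, m₁⟩ ⟨I₂, h₂, f₂, m₂⟩
      exact ⟨I₁ ⊔ I₂, sup_le h₁ h₂, Submodule.FG.sup f₁ f₂,
        Submodule.add_mem _ (Submodule.smul_mono_left le_sup_left m₁)
          (Submodule.smul_mono_left le_sup_right m₂)⟩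
  obtain ⟨I₀, h₀, f₀, m₀⟩ := key x hx.1
  have : I = I₀ := le_antisymm (hx.2 m₀) h₀
  rw [this]; exact f₀

theorem main [IsLocalRing A] {M N : Type u}
    [AddCommGroup M] [Module A M] [AddCommGroup N] [Module A N] [Module.Flat A N]
    (u : M →ₗ[A] N)
    (hu : Function.Injective (u.baseChange (IsLocalRing.ResidueField A))) (x : M) (I : Ideal A)
    (hx : IsLeast {J : Ideal A | x ∈ J • (⊤ : Submodule A M)} I) :
    IsLeast {J : Ideal A | u x ∈ J • (⊤ : Submodule A N)} I := by
  classical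
  have hmap : ∀ (K : Ideal A) (y : M), y ∈ K • (⊤ : Submodule A M) →
      u y ∈ K • (⊤ : Submodule A N) := by
    intro K y hy
    refine Submodule.smul_induction_on hy ?_ ?_
    · intro c hc m _
      rw [map_smul]; exact Submodule.smul_mem_smul hc trivial
    · intro y₁ y₂ h₁ h₂
      rw [map_add]; exact Submodule.add_mem _ h₁ h₂
  refine ⟨hmap I x hx.1, ?_⟩
  intro J hJ
  change u x ∈ J • (⊤ : Submodule A N) at hJ
  by_cases hJtop : J = ⊤
  · rw [hJtop]; exact le_top
  have hIfg : I.FG := fg_of_isLeast hx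
  have hex : ∃ r : ℕ, ∃ a : Fin r → A, (∀ i, a i ∈ I) ∧ I ≤ Ideal.span (Set.range a) ⊔ J := by
    obtain ⟨n, s, hs⟩ := Submodule.fg_iff_exists_fin_generating_family.mp hIfg
    refine ⟨n, s, fun i => ?_, ?_⟩
    · rw [← hs]; exact Submodule.subset_span (Set.mem_range_self i)
    · have : I = Ideal.span (Set.range s) := hs.symm
      rw [this]; exact le_sup_left
  obtain ⟨r, ⟨a, haI, hale⟩, hmin⟩ : ∃ r, (∃ a : Fin r → A, (∀ i, a i ∈ I) ∧
      I ≤ Ideal.span (Set.range a) ⊔ J) ∧ ∀ r' < r, ¬ ∃ a : Fin r' → A, (∀ i, a i ∈ I) ∧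
      I ≤ Ideal.span (Set.range a) ⊔ J :=
    ⟨Nat.find hex, Nat.find_spec hex, fun r' hr' => Nat.find_min hex hr'⟩
  rcases r with _ | r'
  · have : Set.range a = ∅ := Set.range_eq_empty a
    rw [this, Ideal.span_empty, bot_sup_eq] at hale
    exact hale
  have hx' : x ∈ Ideal.span (Set.range a) • (⊤ : Submodule A M) ⊔ J • (⊤ : Submodule A M) := by
    rw [← Submodule.sup_smul]
    exact Submodule.smul_mono_left hale hx.1
  obtain ⟨y₁, hy₁, y₂, hy₂, hxy⟩ := Submodule.mem_sup.mp hx'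
  obtain ⟨m, hm⟩ := exists_sum_of_mem_span_smul a hy₁
  have huy₁ : u y₁ ∈ J • (⊤ : Submodule A N) := by
    have : u y₁ = u x - u y₂ := by rw [← hxy, map_add]; abel
    rw [this]; exact Submodule.sub_mem _ hJ (hmap J y₂ hy₂)
  have huy₁' : u y₁ ∈ J • Submodule.span A (Set.range (id : N → N)) := by
    rwa [Set.range_id, Submodule.span_univ]
  obtain ⟨c, hcJ, hcsum⟩ :=
    (Submodule.mem_ideal_smul_span_iff_exists_sum J (id : N → N) (u y₁)).mp huy₁'
  have h1 : ∑ i, a i • u (m i) = u y₁ := by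
    rw [hm, map_sum]; simp only [map_smul]
  have h2 : ∑ l : {n // n ∈ c.support}, c l.1 • (l.1 : N) = u y₁ := by
    rw [← hcsum]
    exact Finset.sum_coe_sort c.support (fun n => c n • n)
  have hrel : ∑ k : Fin (r' + 1) ⊕ {n // n ∈ c.support},
      (Sum.elim a (fun l => - c l.1) k) •
        (Sum.elim (fun i => u (m i)) (fun l => (l.1 : N)) k) = 0 := by
    rw [Fintype.sum_sum_type]
    simp only [Sum.elim_inl, Sum.elim_inr, neg_smul, Finset.sum_neg_distrib]
    rw [h1, h2, add_neg_cancel]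
  obtain ⟨κ, b, n, hbn, hfb⟩ := Module.Flat.isTrivialRelation_of_sum_smul_eq_zero hrel
  have hsumJ : ∀ j, ∑ i, a i * b (Sum.inl i) j ∈ J := by
    intro j
    have h4 : ∑ i, a i * b (Sum.inl i) j =
        ∑ l : {n // n ∈ c.support}, c l.1 * b (Sum.inr l) j := by
      have := hfb j
      rw [Fintype.sum_sum_type] at this
      simp only [Sum.elim_inl, Sum.elim_inr, neg_mul, Finset.sum_neg_distrib] at this
      exact add_neg_eq_zero.mp this
    rw [h4]
    exact Ideal.sum_mem _ fun l _ => Ideal.mul_mem_right _ _ (hcJ _)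
  have hbm : ∀ i j, b (Sum.inl i) j ∈ maximalIdeal A := by
    intro i₀ j₀
    by_contra hunit
    have hunit' : IsUnit (b (Sum.inl i₀) j₀) := by
      by_contra h; exact hunit ((IsLocalRing.mem_maximalIdeal _).mpr h)
    refine hmin r' (Nat.lt_succ_self r') ⟨fun k => a (i₀.succAbove k), fun k => haI _, ?_⟩
    refine hale.trans (sup_le ?_ le_sup_right)
    rw [Ideal.span_le]
    rintro _ ⟨i, rfl⟩
    rcases Fin.eq_self_or_eq_succAbove i₀ i with hi | ⟨k, hk⟩
    · rw [hi]
      have hs := hsumJ j₀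
      rw [Fin.sum_univ_succAbove _ i₀] at hs
      have hSig : ∑ k, a (i₀.succAbove k) * b (Sum.inl (i₀.succAbove k)) j₀ ∈
          Ideal.span (Set.range fun k => a (i₀.succAbove k)) ⊔ J :=
        Ideal.sum_mem _ fun k _ => Ideal.mem_sup_left
          (Ideal.mul_mem_right _ _ (Ideal.subset_span ⟨k, rfl⟩))
      have hprod : a i₀ * b (Sum.inl i₀) j₀ ∈
          Ideal.span (Set.range fun k => a (i₀.succAbove k)) ⊔ J := by
        have e : a i₀ * b (Sum.inl i₀) j₀ =
            (a i₀ * b (Sum.inl i₀) j₀ +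
              ∑ k, a (i₀.succAbove k) * b (Sum.inl (i₀.succAbove k)) j₀) -
            ∑ k, a (i₀.succAbove k) * b (Sum.inl (i₀.succAbove k)) j₀ := by ring
        rw [e]
        exact Ideal.sub_mem _ (Ideal.mem_sup_right hs) hSig
      exact (Ideal.mul_unit_mem_iff_mem _ hunit').mp hprod
    · rw [hk]
      exact Ideal.mem_sup_left (Ideal.subset_span ⟨k, rfl⟩)
  have hum : ∀ i, u (m i) ∈ maximalIdeal A • (⊤ : Submodule A N) := by
    intro i
    have := hbn (Sum.inl i)
    simp only [Sum.elim_inl] at this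
    rw [this]
    exact Submodule.sum_mem _ fun j _ => Submodule.smul_mem_smul (hbm i j) trivial
  have hmm : ∀ i, m i ∈ maximalIdeal A • (⊤ : Submodule A M) := by
    intro i
    have h5 : (1 : ResidueField A) ⊗ₜ[A] u (m i) = 0 := by
      have := hum i
      rw [← LinearMap.ker_tensorProductMk, LinearMap.mem_ker] at this
      exact this
    have h6 : (1 : ResidueField A) ⊗ₜ[A] m i = 0 := by
      apply hu
      rw [map_zero, LinearMap.baseChange_tmul]
      exact h5
    rw [← LinearMap.ker_tensorProductMk, LinearMap.mem_ker]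
    exact h6
  have hy₁' : y₁ ∈ (I * maximalIdeal A) • (⊤ : Submodule A M) := by
    rw [hm]
    refine Submodule.sum_mem _ fun i _ => ?_
    have : a i • m i ∈ I • (maximalIdeal A • (⊤ : Submodule A M)) :=
      Submodule.smul_mem_smul (haI i) (hmm i)
    rwa [← Submodule.smul_assoc] at this
  have hxJ : x ∈ (J ⊔ I * maximalIdeal A) • (⊤ : Submodule A M) := by
    rw [Submodule.sup_smul, ← hxy]
    exact Submodule.add_mem _ (Submodule.mem_sup_right hy₁') (Submodule.mem_sup_left hy₂)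
  have hle : I ≤ J ⊔ I * maximalIdeal A := hx.2 hxJ
  refine Submodule.le_of_le_smul_of_le_jacobson_bot (N := J) (I := maximalIdeal A) hIfg ?_ ?_
  · rw [IsLocalRing.jacobson_eq_maximalIdeal ⊥ bot_ne_top]
  · rw [smul_eq_mul, mul_comm]; exact hle

end Groth.Agent.H34.ContentIdeal
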