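import Groth.Agent.H87.ComplIso
import Groth.Prelude.Def_EGA4b
import Mathlib.RingTheory.AdicCompletion.LocalRing
import Mathlib.RingTheory.Localization.AtPrime.Basic
import Mathlib.RingTheory.Localization.Ideal

/-! For a maximal ideal `m` of `R`, the `m`-adic completion of `R` is the completion of the local
ring `R_m` (helper34). -/

set_option autoImplicit false
universe u
open IsLocalRing

namespace Groth.Agent.H34.CplMax

variable (R : Type u) [CommRing R] (m : Ideal R) [m.IsMaximal]

theorem hmax : maximalIdeal (Localization.AtPrime m) =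
    m.map (algebraMap R (Localization.AtPrime m)) :=
  (Localization.AtPrime.map_eq_maximalIdeal).symm

theorem hφ : m ≤ (maximalIdeal (Localization.AtPrime m)).comap
    (Algebra.ofId R (Localization.AtPrime m)) := by
  intro a ha
  rw [Ideal.mem_comap, hmax]
  exact Ideal.mem_map_of_mem _ ha

theorem hsurj (k : ℕ) (s : Localization.AtPrime m) : ∃ a : R,
    s - Algebra.ofId R (Localization.AtPrime m) a ∈ maximalIdeal (Localization.AtPrime m) ^ k := by
  obtain ⟨x, t, hs⟩ := IsLocalization.exists_mk'_eq m.primeCompl s
  subst hs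
  obtain ⟨y, i, hi, hyi⟩ := Ideal.IsMaximal.exists_inv_pow m t.2 k
  refine ⟨x * y, ?_⟩
  rw [hmax, ← Ideal.map_pow]
  have hunit : IsUnit (algebraMap R (Localization.AtPrime m) (t : R)) :=
    IsLocalization.map_units _ t
  have hspec : algebraMap R (Localization.AtPrime m) (t : R) *
      IsLocalization.mk' (Localization.AtPrime m) x t =
      algebraMap R (Localization.AtPrime m) x := by
    rw [mul_comm]
    exact IsLocalization.mk'_spec _ x t
  have hxi : x * i = x - (t : R) * (x * y) := by linear_combination x * hyi
  have e3 : IsLocalization.mk' (Localization.AtPrime m) x t -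
      algebraMap R (Localization.AtPrime m) (x * y) =
      ↑hunit.unit⁻¹ * algebraMap R (Localization.AtPrime m) (x * i) := by
    apply hunit.mul_left_cancel
    rw [← mul_assoc, IsUnit.mul_val_inv, one_mul, hxi]
    simp only [map_sub, map_mul]
    linear_combination hspec
  show IsLocalization.mk' (Localization.AtPrime m) x t -
      algebraMap R (Localization.AtPrime m) (x * y) ∈ _
  rw [e3]
  exact Ideal.mul_mem_left _ _ (Ideal.mem_map_of_mem _ (Ideal.mul_mem_left _ _ hi))

theorem hinj (k : ℕ) (a : R)
    (ha : Algebra.ofId R (Localization.AtPrime m) a ∈ maximalIdeal (Localization.AtPrime m) ^ k) :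
    a ∈ m ^ k := by
  rw [hmax, ← Ideal.map_pow] at ha
  change algebraMap R (Localization.AtPrime m) a ∈ _ at ha
  rw [IsLocalization.mem_map_algebraMap_iff m.primeCompl] at ha
  obtain ⟨⟨i, t⟩, hit⟩ := ha
  rw [← map_mul] at hit
  obtain ⟨t', ht'⟩ := (IsLocalization.eq_iff_exists m.primeCompl _).mp hit
  have h1 : ((t' : R) * (t : R)) * a ∈ m ^ k := by
    have : ((t' : R) * (t : R)) * a = (t' : R) * (i : R) := by
      rw [← ht']; ring
    rw [this]
    exact Ideal.mul_mem_left _ _ i.2
  rcases Ideal.IsMaximal.mul_mem_pow m h1 with h | h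
  · exfalso
    rcases (inferInstance : m.IsPrime).mem_or_mem h with h | h
    · exact t'.2 h
    · exact t.2 h
  · exact h

/-- `R^_m ≅ (R_m)^`. -/
noncomputable def equiv : AdicCompletion m R ≃ₐ[R] EGA4.Cpl (Localization.AtPrime m) :=
  AlgEquiv.ofBijective _
    (Groth.Agent.H87.ComplIso.hatMap_bijective (R := R) (P := R) (S := Localization.AtPrime m) m
      (maximalIdeal (Localization.AtPrime m)) (Algebra.ofId R (Localization.AtPrime m))
      (hφ R m) (hsurj R m) (hinj R m))

end Groth.Agent.H34.CplMax
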