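import Mathlib
import Groth.Agent.H71.QuotRegular
import Groth.Agent.H63.SmoothRegular
import Groth.Agent.H26.RegUFD
import Groth.Agent.H23.RegularLocal

/-!
# General lemmas for cyclic covers (S16900)

* `isRegularRing_of_nzd`: `T` noetherian, `x` a non-zero-divisor, `T/x` regular, `T[1/x]` regular
  implies `T` regular.
* `quotRootEquiv`: `R[Z]/(Z^n - c) / (Z) ≃ R/(c)`.
* `mem_range_of_isIntegral`: a ring with integrally closed local domains is integrally closed in
  `T[1/f]` for a non-zero-divisor `f`.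
* étaleness of `R[X]/(X^n - v)` and `(R[X]/(X^n - v f^α))[1/f]`.
-/

set_option autoImplicit false
set_option linter.style.haveILetI false
universe u

open Polynomial IsLocalRing

namespace Groth.Agent.H34.CycGen

section Regular

/-- `T` noetherian, `x` a non-zero-divisor with `T/x` and `T[1/x]` regular: then `T` regular. -/
theorem isRegularRing_of_nzd {T : Type u} [CommRing T] [IsNoetherianRing T] (x : T)
    (hx : x ∈ nonZeroDivisors T) [IsRegularRing (T ⧸ Ideal.span {x})]
    (K : Type u) [CommRing K] [Algebra T K] [IsLocalization.Away x K] [IsRegularRing K] :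
    IsRegularRing T := by
  rw [isRegularRing_iff]
  intro Q hQ
  by_cases hxQ : x ∈ Q
  · haveI : (Q.map (Ideal.Quotient.mk (Ideal.span {x}))).IsPrime :=
      Groth.Agent.H71.QR.map_mk_isPrime hxQ
    exact Groth.Agent.H71.QR.regular_of_regular_quotient x hx Q hxQ
  · have hdisj : Disjoint (Submonoid.powers x : Set T) (Q : Set T) := by
      rw [Set.disjoint_left]
      rintro _ ⟨m, rfl⟩ hm
      exact hxQ (hQ.mem_of_pow_mem m hm)
    haveI : IsRegularRing (Localization.Away x) :=
      IsRegularRing.of_ringEquiv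
        (IsLocalization.algEquiv (Submonoid.powers x) K (Localization.Away x)).toRingEquiv
    let q' : Ideal (Localization.Away x) := Ideal.map (algebraMap T (Localization.Away x)) Q
    haveI hq' : q'.IsPrime :=
      IsLocalization.isPrime_of_isPrime_disjoint (Submonoid.powers x) _ Q hQ hdisj
    have hcomap : q'.comap (algebraMap T (Localization.Away x)) = Q :=
      IsLocalization.under_map_of_isPrime_disjoint (Submonoid.powers x) _ hQ hdisj
    let e := IsLocalization.localizationLocalizationAtPrimeIsoLocalization (Submonoid.powers x) q'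
    have h2 : IsRegularLocalRing
        (Localization.AtPrime (q'.comap (algebraMap T (Localization (Submonoid.powers x))))) :=
      IsRegularLocalRing.of_ringEquiv e.symm.toRingEquiv
    exact Groth.Agent.H63.SmoothRegular.isRegularLocalRing_of_eq _ Q hcomap h2

end Regular

section AdjoinRootLemmas

variable {R : Type*} [CommRing R]

theorem eval₂_pow_sub_C {S : Type*} [CommRing S] (n : ℕ) (c : R) (i : R →+* S) (x : S) :
    (X ^ n - C c : R[X]).eval₂ i x = x ^ n - i c := by
  simp [eval₂_sub, eval₂_pow, eval₂_X, eval₂_C]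

theorem root_pow_eq (n : ℕ) (c : R) :
    AdjoinRoot.root (X ^ n - C c : R[X]) ^ n = AdjoinRoot.of (X ^ n - C c : R[X]) c := by
  have h := AdjoinRoot.eval₂_root (X ^ n - C c : R[X])
  rw [eval₂_pow_sub_C] at h
  exact sub_eq_zero.mp h

theorem monic_pow_sub_C (n : ℕ) (hn : 0 < n) (c : R) : (X ^ n - C c : R[X]).Monic :=
  monic_X_pow_sub_C c hn.ne'

/-- A subring of `AdjoinRoot h` containing the image of `R` and the root is everything. -/
theorem mem_subring_of_gens (h : R[X]) (𝒮 : Subring (AdjoinRoot h))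
    (hof : ∀ r, AdjoinRoot.of h r ∈ 𝒮) (hroot : AdjoinRoot.root h ∈ 𝒮) (x : AdjoinRoot h) :
    x ∈ 𝒮 := by
  induction x using AdjoinRoot.induction_on with
  | ih p =>
    induction p using Polynomial.induction_on with
    | C a => rw [AdjoinRoot.mk_C]; exact hof a
    | add p q hp hq => rw [map_add]; exact 𝒮.add_mem hp hq
    | monomial n a _ =>
      rw [map_mul, map_pow, AdjoinRoot.mk_C, AdjoinRoot.mk_X]
      exact 𝒮.mul_mem (hof a) (𝒮.pow_mem hroot _)

/-- `R[Z]/(Z^n - c) / (Z) ≃ R/(c)` for `n ≥ 1`. -/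
theorem quotRootEquiv (n : ℕ) (hn : 0 < n) (c : R) :
    Nonempty ((R ⧸ Ideal.span {c}) ≃+*
      (AdjoinRoot (X ^ n - C c : R[X]) ⧸
        Ideal.span {AdjoinRoot.root (X ^ n - C c : R[X])})) := by
  set h : R[X] := X ^ n - C c with hh
  let f : R →+* (AdjoinRoot h ⧸ Ideal.span {AdjoinRoot.root h}) :=
    (Ideal.Quotient.mk _).comp (AdjoinRoot.of h)
  have hsurj : Function.Surjective f := by
    intro y
    obtain ⟨s, rfl⟩ := Ideal.Quotient.mk_surjective y
    induction s using AdjoinRoot.induction_on with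
    | ih p =>
      refine ⟨p.coeff 0, ?_⟩
      show Ideal.Quotient.mk _ (AdjoinRoot.of h (p.coeff 0)) = Ideal.Quotient.mk _ (AdjoinRoot.mk h p)
      have h2 : AdjoinRoot.mk h p =
          AdjoinRoot.mk h p.divX * AdjoinRoot.root h + AdjoinRoot.of h (p.coeff 0) := by
        conv_lhs => rw [← Polynomial.divX_mul_X_add p]
        rw [map_add, map_mul, AdjoinRoot.mk_C, AdjoinRoot.mk_X]
      rw [Ideal.Quotient.eq, Ideal.mem_span_singleton]
      refine ⟨- AdjoinRoot.mk h p.divX, ?_⟩
      rw [h2]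
      ring
  have hker : RingHom.ker f = Ideal.span {c} := by
    apply le_antisymm
    · intro r hr
      rw [RingHom.mem_ker] at hr
      have hr' : AdjoinRoot.of h r ∈ Ideal.span {AdjoinRoot.root h} :=
        Ideal.Quotient.eq_zero_iff_mem.mp hr
      obtain ⟨s, hs⟩ := Ideal.mem_span_singleton.mp hr'
      induction s using AdjoinRoot.induction_on with
      | ih q =>
        rw [← AdjoinRoot.mk_C, ← AdjoinRoot.mk_X, ← map_mul, AdjoinRoot.mk_eq_mk] at hs
        obtain ⟨k, hk⟩ := hs
        have h0 := congrArg (fun p : R[X] => p.coeff 0) hk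
        simp only [hh, coeff_sub, coeff_C_zero, coeff_X_mul_zero, sub_zero] at h0
        rw [Polynomial.mul_coeff_zero, coeff_sub, coeff_X_pow, coeff_C_zero,
          if_neg hn.ne, zero_sub] at h0
        rw [Ideal.mem_span_singleton]
        exact ⟨- k.coeff 0, by rw [h0]; ring⟩
    · rw [Ideal.span_singleton_le_iff_mem, RingHom.mem_ker]
      show Ideal.Quotient.mk _ (AdjoinRoot.of h c) = 0
      rw [Ideal.Quotient.eq_zero_iff_mem, Ideal.mem_span_singleton, ← root_pow_eq]
      exact dvd_pow_self _ hn.ne'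
  exact ⟨(Ideal.quotEquivOfEq hker.symm).trans (RingHom.quotientKerEquivOfSurjective hsurj)⟩

end AdjoinRootLemmas

section IntegrallyClosed

/-- If all localizations of `T` at maximal ideals are integrally closed domains and `f` is a
non-zero-divisor, then `T` is integrally closed in `T[1/f]`. -/
theorem mem_range_of_isIntegral {T : Type*} [CommRing T] (f : T) (hf : f ∈ nonZeroDivisors T)
    (hloc : ∀ (m : Ideal T) [m.IsMaximal], IsDomain (Localization.AtPrime m) ∧
      IsIntegrallyClosed (Localization.AtPrime m))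
    {K : Type*} [CommRing K] [Algebra T K] [IsLocalization.Away f K] (x : K)
    (hx : IsIntegral T x) : x ∈ (algebraMap T K).range := by
  classical
  let I : Ideal T :=
    { carrier := {c : T | algebraMap T K c * x ∈ (algebraMap T K).range}
      add_mem' := by
        intro a b ha hb
        show algebraMap T K (a + b) * x ∈ (algebraMap T K).range
        rw [map_add, add_mul]
        exact (algebraMap T K).range.add_mem ha hb
      zero_mem' := by
        show algebraMap T K 0 * x ∈ (algebraMap T K).range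
        rw [map_zero, zero_mul]
        exact (algebraMap T K).range.zero_mem
      smul_mem' := by
        intro c a ha
        show algebraMap T K (c • a) * x ∈ (algebraMap T K).range
        rw [smul_eq_mul, map_mul, mul_assoc]
        exact (algebraMap T K).range.mul_mem ⟨c, rfl⟩ ha }
  by_contra hxr
  have hI : I ≠ ⊤ := by
    intro h
    have h1 : (1 : T) ∈ I := h ▸ Submodule.mem_top
    have h2 : algebraMap T K 1 * x ∈ (algebraMap T K).range := h1
    rw [map_one, one_mul] at h2
    exact hxr h2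
  obtain ⟨m, hm, hIm⟩ := Ideal.exists_le_maximal I hI
  obtain ⟨hdom, hic⟩ := hloc m
  let Tm := Localization.AtPrime m
  let F := FractionRing Tm
  have hfm : algebraMap T Tm f ∈ nonZeroDivisors Tm :=
    IsLocalization.map_nonZeroDivisors_le m.primeCompl Tm (Submonoid.mem_map_of_mem _ hf)
  let g : T →+* F := (algebraMap Tm F).comp (algebraMap T Tm)
  have hfF : IsUnit (g f) := IsLocalization.map_units F (⟨_, hfm⟩ : nonZeroDivisors Tm)
  let ψ : K →+* F := IsLocalization.Away.lift f hfF
  have hψ : ∀ t, ψ (algebraMap T K t) = g t := fun t => IsLocalization.Away.lift_eq f hfF t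
  have h1 : IsIntegral Tm (ψ x) := by
    obtain ⟨p, hp, hpx⟩ := hx
    refine ⟨p.map (algebraMap T Tm), hp.map _, ?_⟩
    rw [Polynomial.eval₂_map]
    have h3 := congrArg ψ hpx
    rw [Polynomial.hom_eval₂, map_zero] at h3
    have hcomp : ψ.comp (algebraMap T K) = g := RingHom.ext hψ
    rw [hcomp] at h3
    exact h3
  obtain ⟨r', hr'⟩ := IsIntegrallyClosed.isIntegral_iff.mp h1
  obtain ⟨⟨r₀, s⟩, hrs⟩ := IsLocalization.surj m.primeCompl r'
  obtain ⟨⟨y, ⟨_, n, rfl⟩⟩, hy⟩ := IsLocalization.surj (Submonoid.powers f) x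
  simp only at hrs hy
  have e1 : g (r₀ * f ^ n) = g (s * y) := by
    have hy' := congrArg ψ hy
    rw [map_mul, hψ, hψ] at hy'
    have hrs' := congrArg (algebraMap Tm F) hrs
    rw [map_mul, hr'] at hrs'
    show algebraMap Tm F (algebraMap T Tm (r₀ * f ^ n)) = algebraMap Tm F (algebraMap T Tm (s * y))
    rw [map_mul, map_mul, map_mul, map_mul]
    have a1 : algebraMap Tm F (algebraMap T Tm r₀) = ψ x * algebraMap Tm F (algebraMap T Tm s) :=
      hrs'.symm
    have a2 : algebraMap Tm F (algebraMap T Tm y) =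
        ψ x * algebraMap Tm F (algebraMap T Tm (f ^ n)) := hy'.symm
    rw [a1, a2]
    ring
  have e2 : algebraMap T Tm (r₀ * f ^ n) = algebraMap T Tm (s * y) :=
    IsFractionRing.injective Tm F e1
  obtain ⟨s', hs'⟩ := (IsLocalization.eq_iff_exists m.primeCompl Tm).mp e2
  have hmem : (s' : T) * s ∈ I := by
    show algebraMap T K ((s' : T) * s) * x ∈ (algebraMap T K).range
    refine ⟨s' * r₀, ?_⟩
    have hu : IsUnit (algebraMap T K (f ^ n)) :=
      IsLocalization.map_units K (⟨f ^ n, n, rfl⟩ : Submonoid.powers f)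
    apply hu.mul_right_cancel
    calc algebraMap T K (s' * r₀) * algebraMap T K (f ^ n)
        = algebraMap T K (s' * (r₀ * f ^ n)) := by rw [← map_mul]; ring_nf
      _ = algebraMap T K (s' * (s * y)) := by rw [hs']
      _ = algebraMap T K ((s' : T) * s) * x * algebraMap T K (f ^ n) := by
          rw [mul_assoc (algebraMap T K ((s' : T) * s)), hy, ← map_mul]; ring_nf
  have hnot : (s' : T) * s ∉ m := by
    intro hmem'
    rcases hm.isPrime.mem_or_mem hmem' with h | h
    · exact s'.2 h
    · exact s.2 h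
  exact hnot (hIm hmem)

/-- Localizations of a regular ring at primes are integrally closed domains. -/
theorem regular_local_normal {T : Type u} [CommRing T] [IsRegularRing T] (m : Ideal T)
    [m.IsPrime] : IsDomain (Localization.AtPrime m) ∧
      IsIntegrallyClosed (Localization.AtPrime m) := by
  haveI : IsDomain (Localization.AtPrime m) :=
    Groth.Agent.H23.isDomain_of_isRegularLocalRing _
  haveI : UniqueFactorizationMonoid (Localization.AtPrime m) :=
    Groth.Agent.H26.RegUFD.ufm_of_isRegularLocalRing _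
  exact ⟨inferInstance, inferInstance⟩

end IntegrallyClosed

section Etale

variable {R : Type u} [CommRing R]

theorem stdPair_cond (n : ℕ) (hn : 0 < n) (hnR : IsUnit (n : R)) (v : Rˣ) (c : R) :
    derivative (X ^ n - C ((v : R) * c) : R[X]) * (C ((↑v⁻¹ : R) * ↑hnR.unit⁻¹) * X) +
      (X ^ n - C ((v : R) * c)) * (- C (↑v⁻¹ : R)) = C c := by
  obtain ⟨k, rfl⟩ : ∃ k, n = k + 1 := ⟨n - 1, by omega⟩
  rw [derivative_sub, derivative_C, sub_zero, derivative_X_pow, Nat.add_sub_cancel]
  have h1 : (C ((k + 1 : ℕ) : R) : R[X]) * C ((↑v⁻¹ : R) * ↑hnR.unit⁻¹) = C (↑v⁻¹ : R) := by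
    rw [← C_mul]
    congr 1
    have : ((k + 1 : ℕ) : R) * ↑hnR.unit⁻¹ = 1 := hnR.mul_val_inv
    calc ((k + 1 : ℕ) : R) * ((↑v⁻¹ : R) * ↑hnR.unit⁻¹)
        = (↑v⁻¹ : R) * (((k + 1 : ℕ) : R) * ↑hnR.unit⁻¹) := by ring
      _ = ↑v⁻¹ := by rw [this, mul_one]
  have h2 : (C (↑v⁻¹ : R) : R[X]) * C ((v : R) * c) = C c := by
    rw [← C_mul, ← mul_assoc, Units.inv_mul, one_mul]
  calc (C ((k + 1 : ℕ) : R) : R[X]) * X ^ k * (C ((↑v⁻¹ : R) * ↑hnR.unit⁻¹) * X) +
        (X ^ (k + 1) - C ((v : R) * c)) * (- C (↑v⁻¹ : R))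
      = (C ((k + 1 : ℕ) : R) * C ((↑v⁻¹ : R) * ↑hnR.unit⁻¹)) * X ^ (k + 1) -
          C (↑v⁻¹ : R) * X ^ (k + 1) + C (↑v⁻¹ : R) * C ((v : R) * c) := by ring
    _ = C c := by rw [h1, h2]; ring

/-- `R[X]/(X^n - v)` is étale over `R` for `n` and `v` invertible. -/
theorem etale_adjoinRoot (n : ℕ) (hn : 0 < n) (hnR : IsUnit (n : R)) (v : Rˣ) :
    Algebra.Etale R (AdjoinRoot (X ^ n - C (v : R) : R[X])) := by
  let P : StandardEtalePair R :=
    { f := X ^ n - C (v : R)
      monic_f := monic_pow_sub_C n hn _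
      g := 1
      cond := ⟨C ((↑v⁻¹ : R) * ↑hnR.unit⁻¹) * X, - C (↑v⁻¹ : R), 0, by
        have := stdPair_cond n hn hnR v 1
        rw [mul_one] at this
        rw [this, pow_zero, C_1]⟩ }
  let e1 : AdjoinRoot P.f ≃ₐ[AdjoinRoot P.f] Localization.Away (AdjoinRoot.mk P.f P.g) :=
    IsLocalization.atUnits _ (Submonoid.powers (AdjoinRoot.mk P.f P.g)) (by
      rintro _ ⟨k, rfl⟩
      show IsUnit (AdjoinRoot.mk P.f (1 : R[X]) ^ k)
      rw [map_one, one_pow]
      exact isUnit_one)
  let e : P.Ring ≃ₐ[R] AdjoinRoot P.f :=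
    P.equivAwayAdjoinRoot.trans (e1.restrictScalars R).symm
  exact Algebra.Etale.of_equiv e

/-- `(R[X]/(X^n - v f^α))[1/f]` is étale over `R` for `n` and `v` invertible. -/
theorem etale_away (n : ℕ) (hn : 0 < n) (hnR : IsUnit (n : R)) (v : Rˣ) (f : R) (α : ℕ) :
    Algebra.Etale R (Localization.Away
      (AdjoinRoot.mk (X ^ n - C ((v : R) * f ^ α) : R[X]) (C f))) := by
  let P : StandardEtalePair R :=
    { f := X ^ n - C ((v : R) * f ^ α)
      monic_f := monic_pow_sub_C n hn _
      g := C f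
      cond := ⟨C ((↑v⁻¹ : R) * ↑hnR.unit⁻¹) * X, - C (↑v⁻¹ : R), α, by
        rw [stdPair_cond n hn hnR v (f ^ α), C_pow]⟩ }
  exact Algebra.Etale.of_equiv P.equivAwayAdjoinRoot

end Etale

end Groth.Agent.H34.CycGen
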