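import Mathlib
import Groth.Agent.H34.CycGen

/-!
# Cyclic covers: the abstract presentation `C2 = B[w,z]/(w^g - u, z^N' - w^a f₁)` (S16900)
-/

set_option autoImplicit false
set_option linter.style.haveILetI false
universe u

open Polynomial

namespace Groth.Agent.H34.CycAbs

open Groth.Agent.H34.CycGen

noncomputable section

section Defs

variable {B : Type u} [CommRing B] (N : ℕ) (u : Bˣ) (α : ℕ) (f₁ : B) (g N' a : ℕ)

abbrev p1 : B[X] := X ^ g - C (u : B)
abbrev B1 : Type u := AdjoinRoot (p1 u g)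
abbrev w : B1 u g := AdjoinRoot.root (p1 u g)
abbrev p2 : (B1 u g)[X] := X ^ N' - C (w u g ^ a * AdjoinRoot.of (p1 u g) f₁)
abbrev C2 : Type u := AdjoinRoot (p2 u f₁ g N' a)
abbrev z : C2 u f₁ g N' a := AdjoinRoot.root (p2 u f₁ g N' a)
abbrev p0 : B[X] := X ^ N - C ((u : B) * f₁ ^ α)
abbrev A0 : Type u := AdjoinRoot (p0 N u α f₁)
abbrev t : A0 N u α f₁ := AdjoinRoot.root (p0 N u α f₁)
abbrev ι₂ : B1 u g →+* C2 u f₁ g N' a := AdjoinRoot.of (p2 u f₁ g N' a)

/-- the inverse of `w` in `B1`. -/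
def winv : B1 u g := w u g ^ (g - 1) * AdjoinRoot.of (p1 u g) ((u⁻¹ : Bˣ) : B)

end Defs

section Cside

variable {B : Type u} [CommRing B] (N : ℕ) (u : Bˣ) (α : ℕ) (f₁ : B) (g N' α' a β : ℕ)

theorem w_pow : w u g ^ g = AdjoinRoot.of (p1 u g) (u : B) := root_pow_eq g _

theorem w_mul_winv (hg : 0 < g) : w u g * winv u g = 1 := by
  unfold winv
  rw [← mul_assoc, ← pow_succ', Nat.sub_add_cancel hg, w_pow, ← map_mul, Units.mul_inv, map_one]

theorem z_pow : z u f₁ g N' a ^ N' =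
    ι₂ u f₁ g N' a (w u g ^ a * AdjoinRoot.of (p1 u g) f₁) := root_pow_eq N' _

/-- images in `C2`. -/
abbrev wC : C2 u f₁ g N' a := ι₂ u f₁ g N' a (w u g)
abbrev wCinv : C2 u f₁ g N' a := ι₂ u f₁ g N' a (winv u g)
abbrev fC : C2 u f₁ g N' a := algebraMap B (C2 u f₁ g N' a) f₁

theorem algebraMap_C2 (b : B) : algebraMap B (C2 u f₁ g N' a) b =
    ι₂ u f₁ g N' a (AdjoinRoot.of (p1 u g) b) := by
  rw [AdjoinRoot.algebraMap_eq', RingHom.comp_apply, AdjoinRoot.algebraMap_eq]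

theorem z_pow' : z u f₁ g N' a ^ N' = wC u f₁ g N' a ^ a * fC u f₁ g N' a := by
  rw [z_pow, map_mul, map_pow, ← algebraMap_C2]

theorem wC_mul_inv (hg : 0 < g) : wC u f₁ g N' a * wCinv u f₁ g N' a = 1 := by
  rw [← map_mul, w_mul_winv u g hg, map_one]

theorem wC_pow : wC u f₁ g N' a ^ g = algebraMap B (C2 u f₁ g N' a) (u : B) := by
  rw [← map_pow, w_pow, algebraMap_C2]

theorem pow_add_mul_pow {R : Type*} [CommMonoid R] (x y : R) (h : x * y = 1) (m n : ℕ) :
    x ^ (m + n) * y ^ n = x ^ m := by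
  rw [pow_add, mul_assoc, ← mul_pow, h, one_pow, mul_one]

/-- the image of `t` in `C2`. -/
def tC : C2 u f₁ g N' a :=
  z u f₁ g N' a ^ α' * wC u f₁ g N' a * wCinv u f₁ g N' a ^ β

variable (hg : 0 < g) (hN' : 0 < N') (hNg : N' * g = N) (hαg : α' * g = α)
  (hab : a * α' + N' = β * N' + 1)

include hg hNg hαg hab in
theorem tC_pow_N : tC u f₁ g N' α' a β ^ N =
    algebraMap B (C2 u f₁ g N' a) ((u : B) * f₁ ^ α) := by
  have e1 : α' * N = N' * α := by rw [← hNg, ← hαg]; ring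
  have e2 : a * α + N = β * N + g := by
    calc a * α + N = (a * α' + N') * g := by rw [← hNg, ← hαg]; ring
      _ = (β * N' + 1) * g := by rw [hab]
      _ = β * N + g := by rw [← hNg]; ring
  unfold tC
  rw [mul_pow, mul_pow, ← pow_mul, ← pow_mul, e1, pow_mul, z_pow', mul_pow, ← pow_mul]
  calc (wC u f₁ g N' a ^ (a * α) * fC u f₁ g N' a ^ α) * wC u f₁ g N' a ^ N *
        wCinv u f₁ g N' a ^ (β * N)
      = fC u f₁ g N' a ^ α *
          (wC u f₁ g N' a ^ (a * α + N) * wCinv u f₁ g N' a ^ (β * N)) := by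
        rw [pow_add]; ring
    _ = fC u f₁ g N' a ^ α * wC u f₁ g N' a ^ g := by
        rw [e2, add_comm (β * N) g, pow_add_mul_pow _ _ (wC_mul_inv u f₁ g N' a hg)]
    _ = algebraMap B (C2 u f₁ g N' a) ((u : B) * f₁ ^ α) := by
        rw [wC_pow, map_mul, map_pow]; ring

include hg hab in
theorem tC_pow_N' : tC u f₁ g N' α' a β ^ N' =
    fC u f₁ g N' a ^ α' * wC u f₁ g N' a := by
  unfold tC
  rw [mul_pow, mul_pow, ← pow_mul, ← pow_mul, mul_comm α' N', pow_mul, z_pow', mul_pow,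
    ← pow_mul]
  calc (wC u f₁ g N' a ^ (a * α') * fC u f₁ g N' a ^ α') * wC u f₁ g N' a ^ N' *
        wCinv u f₁ g N' a ^ (β * N')
      = fC u f₁ g N' a ^ α' *
          (wC u f₁ g N' a ^ (a * α' + N') * wCinv u f₁ g N' a ^ (β * N')) := by
        rw [pow_add]; ring
    _ = fC u f₁ g N' a ^ α' * wC u f₁ g N' a := by
        rw [hab, add_comm (β * N') 1, pow_add_mul_pow _ _ (wC_mul_inv u f₁ g N' a hg), pow_one]

include hg in
theorem tC_pow_a (b : ℕ) (hβ : β = b + 1) (hab' : a * α' + N' = β * N' + 1) :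
    tC u f₁ g N' α' a β ^ a = z u f₁ g N' a * fC u f₁ g N' a ^ b := by
  have e1 : α' * a = N' * b + 1 := by
    rw [hβ] at hab'
    have : a * α' + N' = (b * N' + 1) + N' := by rw [hab']; ring
    have := Nat.add_right_cancel this
    rw [mul_comm α' a, this, mul_comm]
  unfold tC
  rw [mul_pow, mul_pow, ← pow_mul, ← pow_mul, e1, pow_succ, pow_mul, z_pow', mul_pow, ← pow_mul]
  calc (wC u f₁ g N' a ^ (a * b) * fC u f₁ g N' a ^ b) * z u f₁ g N' a * wC u f₁ g N' a ^ a *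
        wCinv u f₁ g N' a ^ (β * a)
      = z u f₁ g N' a * fC u f₁ g N' a ^ b *
          (wC u f₁ g N' a ^ (0 + β * a) * wCinv u f₁ g N' a ^ (β * a)) := by
        rw [zero_add, hβ, add_mul, one_mul, pow_add, mul_comm b a]; ring
    _ = z u f₁ g N' a * fC u f₁ g N' a ^ b := by
        rw [pow_add_mul_pow _ _ (wC_mul_inv u f₁ g N' a hg), pow_zero, mul_one]

/-- The map `A0 → C2`, `t ↦ tC`. -/
def ψ₀ : A0 N u α f₁ →+* C2 u f₁ g N' a :=
  AdjoinRoot.lift (algebraMap B (C2 u f₁ g N' a)) (tC u f₁ g N' α' a β) (by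
    rw [eval₂_pow_sub_C, tC_pow_N N u α f₁ g N' α' a β hg hNg hαg hab, sub_self])

theorem ψ₀_of (b : B) : ψ₀ N u α f₁ g N' α' a β hg hNg hαg hab (AdjoinRoot.of _ b) =
    algebraMap B (C2 u f₁ g N' a) b := AdjoinRoot.lift_of _

theorem ψ₀_t : ψ₀ N u α f₁ g N' α' a β hg hNg hαg hab (t N u α f₁) = tC u f₁ g N' α' a β :=
  AdjoinRoot.lift_root _

include hN' in
/-- Every element of `C2` is, up to a power of `f₁`, in the image of `ψ₀`. -/
theorem exists_pow_mul_eq (c : C2 u f₁ g N' a) : ∃ (m : ℕ) (a' : A0 N u α f₁),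
    fC u f₁ g N' a ^ m * c = ψ₀ N u α f₁ g N' α' a β hg hNg hαg hab a' := by
  set ψ := ψ₀ N u α f₁ g N' α' a β hg hNg hαg hab with hψ
  have hfψ : ψ (AdjoinRoot.of _ f₁) = fC u f₁ g N' a := ψ₀_of N u α f₁ g N' α' a β hg hNg hαg hab f₁
  let 𝒮 : Subring (C2 u f₁ g N' a) :=
    { carrier := {c | ∃ (m : ℕ) (a' : A0 N u α f₁), fC u f₁ g N' a ^ m * c = ψ a'}
      mul_mem' := by
        rintro c c' ⟨m, a', h⟩ ⟨m', a'', h'⟩
        refine ⟨m + m', a' * a'', ?_⟩
        rw [map_mul, ← h, ← h', pow_add]; ring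
      one_mem' := ⟨0, 1, by rw [pow_zero, one_mul, map_one]⟩
      add_mem' := by
        rintro c c' ⟨m, a', h⟩ ⟨m', a'', h'⟩
        refine ⟨m + m', AdjoinRoot.of _ f₁ ^ m' * a' + AdjoinRoot.of _ f₁ ^ m * a'', ?_⟩
        rw [map_add, map_mul, map_mul, map_pow, map_pow, hfψ, ← h, ← h', pow_add]; ring
      zero_mem' := ⟨0, 0, by rw [mul_zero, map_zero]⟩
      neg_mem' := by
        rintro c ⟨m, a', h⟩
        exact ⟨m, -a', by rw [map_neg, ← h, mul_neg]⟩ }
  have hB : ∀ b : B, algebraMap B (C2 u f₁ g N' a) b ∈ 𝒮 := fun b =>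
    ⟨0, AdjoinRoot.of _ b, by
      rw [pow_zero, one_mul, hψ, ψ₀_of]⟩
  have hw : wC u f₁ g N' a ∈ 𝒮 :=
    ⟨α', t N u α f₁ ^ N', by
      rw [map_pow, hψ, ψ₀_t, tC_pow_N' u f₁ g N' α' a β hg hab]⟩
  have h1 : ∀ r : B1 u g, ι₂ u f₁ g N' a r ∈ 𝒮 := by
    intro r
    have := mem_subring_of_gens (p1 u g) (𝒮.comap (ι₂ u f₁ g N' a))
      (fun b => by
        show ι₂ u f₁ g N' a (AdjoinRoot.of _ b) ∈ 𝒮
        rw [← algebraMap_C2]; exact hB b) hw r
    exact this
  have hz : z u f₁ g N' a ∈ 𝒮 := by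
    rcases Nat.eq_zero_or_pos β with hβ | hβ
    · have hN1 : N' = 1 := by
        rw [hβ, zero_mul, zero_add] at hab
        omega
      have : z u f₁ g N' a = z u f₁ g N' a ^ N' := by rw [hN1, pow_one]
      rw [this, z_pow]
      exact h1 _
    · obtain ⟨b, hb⟩ : ∃ b, β = b + 1 := ⟨β - 1, by omega⟩
      refine ⟨b, t N u α f₁ ^ a, ?_⟩
      rw [map_pow, hψ, ψ₀_t, tC_pow_a u f₁ g N' α' a β hg b hb hab, mul_comm]
  exact mem_subring_of_gens _ 𝒮 h1 hz c

end Cside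

section Mono

variable {G : Type*} [CommGroup G] (τ F : G)

/-- monomials `τ^i F^j`. -/
def M (i j : ℤ) : G := τ ^ i * F ^ j

theorem M_mul (i j i' j' : ℤ) : M τ F i j * M τ F i' j' = M τ F (i + i') (j + j') := by
  unfold M; rw [zpow_add, zpow_add]; exact mul_mul_mul_comm _ _ _ _

theorem M_zpow (i j n : ℤ) : M τ F i j ^ n = M τ F (i * n) (j * n) := by
  unfold M; rw [mul_zpow, ← zpow_mul, ← zpow_mul]

theorem M_pow (i j : ℤ) (n : ℕ) : M τ F i j ^ n = M τ F (i * n) (j * n) := by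
  rw [← zpow_natCast, M_zpow]

theorem M_inv (i j : ℤ) : (M τ F i j)⁻¹ = M τ F (-i) (-j) := by
  unfold M; rw [mul_inv, zpow_neg, zpow_neg]

theorem M_congr {i j i' j' : ℤ} (hi : i = i') (hj : j = j') : M τ F i j = M τ F i' j' := by
  rw [hi, hj]

theorem M_one_zero : M τ F 1 0 = τ := by unfold M; rw [zpow_one, zpow_zero, mul_one]

theorem M_zero_one : M τ F 0 1 = F := by unfold M; rw [zpow_zero, zpow_one, one_mul]

variable (U : G) (N α : ℕ) (hrel : τ ^ N = U * F ^ α)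

include hrel in
theorem U_eq : U = M τ F N (-(α : ℤ)) := by
  unfold M; rw [zpow_natCast, zpow_neg, zpow_natCast, hrel, mul_inv_cancel_right]

include hrel in
theorem M_add_N (l : ℕ) (hN : 0 < N) :
    M τ F ((l + N : ℕ) : ℤ) (-(((l + N) * α / N : ℕ) : ℤ)) =
      U * M τ F (l : ℤ) (-((l * α / N : ℕ) : ℤ)) := by
  have h1 : (l + N) * α / N = l * α / N + α := by
    rw [add_mul, mul_comm N α, Nat.add_mul_div_right _ _ hN]
  rw [h1, U_eq τ F U N α hrel, M_mul]
  apply M_congr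
  · push_cast; ring
  · push_cast; ring

variable (g N' α' a β : ℕ) (hNg : N' * g = N) (hαg : α' * g = α)
  (hab : a * α' + N' = β * N' + 1)

/-- the image of `w`. -/
def wK : G := M τ F N' (-(α' : ℤ))

/-- the image of `z`. -/
def zK : G := M τ F a (1 - (β : ℤ))

include hrel hNg hαg in
theorem wK_pow : wK τ F N' α' ^ g = U := by
  unfold wK
  rw [M_pow, U_eq τ F U N α hrel]
  apply M_congr
  · exact_mod_cast hNg
  · rw [neg_mul]; congr 1; exact_mod_cast hαg

include hab in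
theorem zK_pow : zK τ F a β ^ N' = wK τ F N' α' ^ a * F := by
  have h : (a : ℤ) * α' + N' = β * N' + 1 := by exact_mod_cast hab
  unfold zK wK
  rw [M_pow, M_pow]
  have h1 := M_mul τ F ((N' : ℤ) * a) (-(α' : ℤ) * a) 0 1
  rw [M_zero_one] at h1
  rw [h1]
  apply M_congr
  · ring
  · linear_combination h

include hab in
theorem tK_eq : zK τ F a β ^ α' * wK τ F N' α' * (wK τ F N' α')⁻¹ ^ β = τ := by
  have h : (a : ℤ) * α' + N' = β * N' + 1 := by exact_mod_cast hab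
  unfold zK wK
  rw [M_inv, M_pow, M_pow, M_mul, M_mul]
  have h2 : M τ F ((a : ℤ) * α' + N' + -(N' : ℤ) * β)
      ((1 - (β : ℤ)) * α' + -(α' : ℤ) + - -(α' : ℤ) * β) = M τ F 1 0 := by
    apply M_congr
    · linear_combination h
    · ring
  rw [h2, M_one_zero]

include hNg hαg hab in
theorem gen_eq_mono (hg : 0 < g) (l : ℕ) : ∃ (i : ℤ) (j : ℕ),
    M τ F (l : ℤ) (-((l * α / N : ℕ) : ℤ)) = wK τ F N' α' ^ i * zK τ F a β ^ j := by
  have h : (a : ℤ) * α' + N' = β * N' + 1 := by exact_mod_cast hab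
  have hq : l * α / N = α' * l / N' := by
    rw [← hNg, ← hαg, ← mul_assoc, mul_comm l α', Nat.mul_div_mul_right _ _ hg]
  have E₂ : (α' : ℤ) * l = N' * ((α' * l / N' : ℕ) : ℤ) + ((α' * l % N' : ℕ) : ℤ) := by
    exact_mod_cast (Nat.div_add_mod (α' * l) N').symm
  refine ⟨(a : ℤ) * ((α' * l / N' : ℕ) : ℤ) - l * ((β : ℤ) - 1), α' * l % N', ?_⟩
  rw [hq]
  unfold wK zK
  rw [M_zpow, M_pow, M_mul]
  apply M_congr
  · linear_combination (-(l : ℤ)) * h + (a : ℤ) * E₂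
  · linear_combination ((α' * l / N' : ℕ) : ℤ) * h + (1 - (β : ℤ)) * E₂

end Mono

section Kside

variable {B : Type u} [CommRing B] [IsDomain B] (N : ℕ) (u : Bˣ) (α : ℕ) (f₁ : B)
  (K : Type u) [CommRing K] [Algebra (A0 N u α f₁) K] [Algebra B K]
  [IsScalarTower B (A0 N u α f₁) K] [IsLocalization.Away (algebraMap B (A0 N u α f₁) f₁) K]

/-- `f₁` as a unit of `K`. -/
def Fu : Kˣ :=
  ⟨algebraMap B K f₁, IsLocalization.Away.invSelf (S := K) (algebraMap B (A0 N u α f₁) f₁),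
    by
      rw [IsScalarTower.algebraMap_apply B (A0 N u α f₁) K]
      exact IsLocalization.Away.mul_invSelf _,
    by
      rw [mul_comm, IsScalarTower.algebraMap_apply B (A0 N u α f₁) K]
      exact IsLocalization.Away.mul_invSelf _⟩

/-- `u` as a unit of `K`. -/
def Uu : Kˣ := Units.map (algebraMap B K : B →* K) u

theorem Uu_val : ((Uu u K : Kˣ) : K) = algebraMap B K (u : B) := rfl

theorem Fu_val : ((Fu N u α f₁ K : Kˣ) : K) = algebraMap B K f₁ := rfl

theorem tau_pow : (algebraMap (A0 N u α f₁) K (t N u α f₁)) ^ N =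
    ↑(Uu u K) * ↑(Fu N u α f₁ K) ^ α := by
  rw [← map_pow, root_pow_eq, Uu_val, Fu_val, ← map_pow, ← map_mul]
  exact (IsScalarTower.algebraMap_apply B (A0 N u α f₁) K _).symm

theorem tau_isUnit (hN : 0 < N) : IsUnit (algebraMap (A0 N u α f₁) K (t N u α f₁)) := by
  rw [← isUnit_pow_iff hN.ne', tau_pow]
  exact (Units.isUnit _).mul ((Units.isUnit _).pow _)

/-- `t` as a unit of `K`. -/
def τu (hN : 0 < N) : Kˣ := (tau_isUnit N u α f₁ K hN).unit

theorem τu_val (hN : 0 < N) : ((τu N u α f₁ K hN : Kˣ) : K) =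
    algebraMap (A0 N u α f₁) K (t N u α f₁) := IsUnit.unit_spec _

theorem hrelK (hN : 0 < N) : τu N u α f₁ K hN ^ N = Uu u K * Fu N u α f₁ K ^ α := by
  apply Units.ext
  rw [Units.val_pow_eq_pow_val, τu_val, tau_pow, Units.val_mul, Units.val_pow_eq_pow_val]

theorem gen_eq (hN : 0 < N) (l k : ℕ) :
    algebraMap (A0 N u α f₁) K (t N u α f₁ ^ l) *
      IsLocalization.Away.invSelf (S := K) (algebraMap B (A0 N u α f₁) f₁) ^ k =
    ((M (τu N u α f₁ K hN) (Fu N u α f₁ K) l (-(k : ℤ)) : Kˣ) : K) := by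
  unfold M
  rw [zpow_natCast, zpow_neg, zpow_natCast, ← inv_pow, Units.val_mul, Units.val_pow_eq_pow_val,
    Units.val_pow_eq_pow_val, τu_val, map_pow]
  rfl

variable (A : Subalgebra B K)
  (hA : A = Algebra.adjoin B (Set.range fun i : Fin N =>
    algebraMap (A0 N u α f₁) K (t N u α f₁ ^ (i : ℕ)) *
      IsLocalization.Away.invSelf (S := K) (algebraMap B (A0 N u α f₁) f₁) ^ ((i : ℕ) * α / N)))

include hA in
theorem gen_mem (hN : 0 < N) (l : ℕ) :
    ((M (τu N u α f₁ K hN) (Fu N u α f₁ K) l (-((l * α / N : ℕ) : ℤ)) : Kˣ) : K) ∈ A := by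
  induction l using Nat.strong_induction_on with
  | _ l ih =>
    by_cases hl : l < N
    · rw [hA, ← gen_eq]
      exact Algebra.subset_adjoin ⟨⟨l, hl⟩, rfl⟩
    · obtain ⟨l', rfl⟩ : ∃ l', l = l' + N := ⟨l - N, by omega⟩
      rw [M_add_N _ _ (Uu u K) N α (hrelK N u α f₁ K hN) l' hN, Units.val_mul]
      exact A.mul_mem (A.algebraMap_mem (u : B)) (ih l' (by omega))

variable (g N' α' a β : ℕ) (hg : 0 < g) (hN' : 0 < N') (hNg : N' * g = N) (hαg : α' * g = α)
  (hab : a * α' + N' = β * N' + 1) (h1 : N' = 1 → a = 0)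

include hA hg hN' hNg hαg in
theorem wK_mem (hN : 0 < N) :
    ((wK (τu N u α f₁ K hN) (Fu N u α f₁ K) N' α' : Kˣ) : K) ∈ A := by
  have h := gen_mem N u α f₁ K A hA hN N'
  have e : N' * α / N = α' := by
    rw [← hNg, ← hαg, mul_comm N' (α' * g), mul_assoc, mul_comm g N']
    exact Nat.mul_div_cancel _ (Nat.mul_pos hN' hg)
  rw [e] at h
  exact h

include hA hg hN' hNg hαg hab h1 in
theorem zK_mem (hN : 0 < N) :
    ((zK (τu N u α f₁ K hN) (Fu N u α f₁ K) a β : Kˣ) : K) ∈ A := by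
  by_cases hN1 : N' = 1
  · have ha := h1 hN1
    have hβ : β = 0 := by
      rw [ha, hN1] at hab
      omega
    unfold zK
    rw [ha, hβ]
    have : M (τu N u α f₁ K hN) (Fu N u α f₁ K) ((0 : ℕ) : ℤ) (1 - ((0 : ℕ) : ℤ)) =
        Fu N u α f₁ K := by
      rw [Nat.cast_zero, sub_zero, M_zero_one]
    rw [this, Fu_val]
    exact A.algebraMap_mem f₁
  · have hN2 : 2 ≤ N' := by omega
    have hβ : 1 ≤ β := by
      by_contra hcon
      have : β = 0 := by omega
      rw [this, zero_mul, zero_add] at hab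
      omega
    obtain ⟨b, rfl⟩ : ∃ b, β = b + 1 := ⟨β - 1, by omega⟩
    have hab' : a * α' = b * N' + 1 := by
      have := hab
      rw [add_mul, one_mul] at this
      linarith
    have h := gen_mem N u α f₁ K A hA hN a
    have e : a * α / N = b := by
      rw [← hNg, ← hαg, ← mul_assoc, Nat.mul_div_mul_right _ _ hg, hab']
      apply Nat.div_eq_of_lt_le
      · exact Nat.le_add_right _ _
      · rw [add_mul, one_mul]; omega
    rw [e] at h
    unfold zK
    have e2 : (1 - ((b + 1 : ℕ) : ℤ)) = -(b : ℤ) := by push_cast; ring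
    rw [e2]
    exact h

end Kside

section NZD

theorem algebraMap_mem_nzd {B S : Type*} [CommRing B] [IsDomain B] [CommRing S] [Algebra B S]
    [Module.IsTorsionFree B S] (b : B) (hb : b ≠ 0) : algebraMap B S b ∈ nonZeroDivisors S := by
  rw [mem_nonZeroDivisors_iff_right]
  intro x hx
  have hreg : IsSMulRegular S b := IsSMulRegular.of_ne_zero hb
  apply hreg
  show b • x = b • 0
  rw [smul_zero, Algebra.smul_def, mul_comm]
  exact hx

theorem nzd_of_pow {S : Type*} [CommRing S] (x : S) (n : ℕ) (hn : 0 < n)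
    (h : x ^ n ∈ nonZeroDivisors S) : x ∈ nonZeroDivisors S := by
  rw [mem_nonZeroDivisors_iff_right]
  intro y hy
  obtain ⟨k, rfl⟩ : ∃ k, n = k + 1 := ⟨n - 1, by omega⟩
  have : y * x ^ (k + 1) = 0 := by rw [pow_succ', ← mul_assoc, hy, zero_mul]
  exact (mul_right_mem_nonZeroDivisors_eq_zero_iff h).mp this

end NZD

section Phi

variable {B : Type u} [CommRing B] [IsDomain B] (N : ℕ) (u : Bˣ) (α : ℕ) (f₁ : B)
  (K : Type u) [CommRing K] [Algebra (A0 N u α f₁) K] [Algebra B K]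
  [IsScalarTower B (A0 N u α f₁) K] [IsLocalization.Away (algebraMap B (A0 N u α f₁) f₁) K]
  (g N' α' a β : ℕ) (hN : 0 < N) (hg : 0 < g) (hN' : 0 < N') (hNg : N' * g = N)
  (hαg : α' * g = α) (hab : a * α' + N' = β * N' + 1)

local notation "wKK" => wK (τu N u α f₁ K hN) (Fu N u α f₁ K) N' α'
local notation "zKK" => zK (τu N u α f₁ K hN) (Fu N u α f₁ K) a β

/-- `B1 → K`. -/
def φ₁ : B1 u g →ₐ[B] K :=
  AdjoinRoot.liftAlgHom (p1 u g) (Algebra.ofId B K) ((wKK : Kˣ) : K) (by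
    rw [eval₂_pow_sub_C]
    show ((wKK : Kˣ) : K) ^ g - algebraMap B K (u : B) = 0
    rw [← Units.val_pow_eq_pow_val,
      wK_pow _ _ (Uu u K) N α (hrelK N u α f₁ K hN) g N' α' hNg hαg, Uu_val, sub_self])

theorem φ₁_w : φ₁ N u α f₁ K g N' α' hN hNg hαg (w u g) = ((wKK : Kˣ) : K) :=
  AdjoinRoot.liftAlgHom_root _ _ _ _

theorem φ₁_of (b : B) : φ₁ N u α f₁ K g N' α' hN hNg hαg (AdjoinRoot.of _ b) =
    algebraMap B K b := by
  unfold φ₁
  rw [AdjoinRoot.liftAlgHom_of]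
  rfl

/-- `C2 → K`. -/
def φK : C2 u f₁ g N' a →ₐ[B] K :=
  AdjoinRoot.liftAlgHom (p2 u f₁ g N' a) (φ₁ N u α f₁ K g N' α' hN hNg hαg) ((zKK : Kˣ) : K) (by
    rw [eval₂_pow_sub_C]
    show ((zKK : Kˣ) : K) ^ N' -
      φ₁ N u α f₁ K g N' α' hN hNg hαg (w u g ^ a * AdjoinRoot.of (p1 u g) f₁) = 0
    rw [map_mul, map_pow, φ₁_w, φ₁_of, ← Units.val_pow_eq_pow_val, zK_pow _ _ N' α' a β hab,
      Units.val_mul, Units.val_pow_eq_pow_val, Fu_val, sub_self])

theorem φK_ι (r : B1 u g) : φK N u α f₁ K g N' α' a β hN hNg hαg hab (ι₂ u f₁ g N' a r) =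
    φ₁ N u α f₁ K g N' α' hN hNg hαg r :=
  AdjoinRoot.liftAlgHom_of _ _ _ _ _

theorem φK_z : φK N u α f₁ K g N' α' a β hN hNg hαg hab (z u f₁ g N' a) = ((zKK : Kˣ) : K) :=
  AdjoinRoot.liftAlgHom_root _ _ _ _

theorem φK_wC : φK N u α f₁ K g N' α' a β hN hNg hαg hab (wC u f₁ g N' a) =
    ((wKK : Kˣ) : K) := by
  rw [φK_ι, φ₁_w]

include hg in
theorem φK_wCinv : φK N u α f₁ K g N' α' a β hN hNg hαg hab (wCinv u f₁ g N' a) =
    (((wKK)⁻¹ : Kˣ) : K) := by
  refine (Units.inv_eq_of_mul_eq_one_right ?_).symm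
  rw [← φK_wC N u α f₁ K g N' α' a β hN hNg hαg hab, ← map_mul, wC_mul_inv u f₁ g N' a hg,
    map_one]

theorem φK_fC : φK N u α f₁ K g N' α' a β hN hNg hαg hab (fC u f₁ g N' a) =
    algebraMap B K f₁ := AlgHom.commutes _ _

variable (A : Subalgebra B K)
  (hA : A = Algebra.adjoin B (Set.range fun i : Fin N =>
    algebraMap (A0 N u α f₁) K (t N u α f₁ ^ (i : ℕ)) *
      IsLocalization.Away.invSelf (S := K) (algebraMap B (A0 N u α f₁) f₁) ^ ((i : ℕ) * α / N)))
  (h1 : N' = 1 → a = 0)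

include hA hg hN' h1 in
theorem φK_mem (c : C2 u f₁ g N' a) : φK N u α f₁ K g N' α' a β hN hNg hαg hab c ∈ A := by
  have hw := wK_mem N u α f₁ K A hA g N' α' hg hN' hNg hαg hN
  have hz := zK_mem N u α f₁ K A hA g N' α' a β hg hN' hNg hαg hab h1 hN
  have h2 : ∀ r : B1 u g, φ₁ N u α f₁ K g N' α' hN hNg hαg r ∈ A := fun r =>
    mem_subring_of_gens (p1 u g)
      (A.toSubring.comap (φ₁ N u α f₁ K g N' α' hN hNg hαg).toRingHom)
      (fun b => by
        show φ₁ N u α f₁ K g N' α' hN hNg hαg (AdjoinRoot.of _ b) ∈ A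
        rw [φ₁_of]; exact A.algebraMap_mem b)
      (by
        show φ₁ N u α f₁ K g N' α' hN hNg hαg (w u g) ∈ A
        rw [φ₁_w]; exact hw) r
  exact mem_subring_of_gens _
    (A.toSubring.comap (φK N u α f₁ K g N' α' a β hN hNg hαg hab).toRingHom)
    (fun r => by
      show φK N u α f₁ K g N' α' a β hN hNg hαg hab (ι₂ u f₁ g N' a r) ∈ A
      rw [φK_ι]; exact h2 r)
    (by
      show φK N u α f₁ K g N' α' a β hN hNg hαg hab (z u f₁ g N' a) ∈ A
      rw [φK_z]; exact hz) c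

include hg in
theorem φK_ψ₀ (a' : A0 N u α f₁) :
    φK N u α f₁ K g N' α' a β hN hNg hαg hab (ψ₀ N u α f₁ g N' α' a β hg hNg hαg hab a') =
      algebraMap (A0 N u α f₁) K a' := by
  have key : (φK N u α f₁ K g N' α' a β hN hNg hαg hab).toRingHom.comp
      (ψ₀ N u α f₁ g N' α' a β hg hNg hαg hab) = algebraMap (A0 N u α f₁) K := by
    apply AdjoinRoot.ringHom_ext
    · ext b
      show φK N u α f₁ K g N' α' a β hN hNg hαg hab
        (ψ₀ N u α f₁ g N' α' a β hg hNg hαg hab (AdjoinRoot.of _ b)) =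
          algebraMap (A0 N u α f₁) K (AdjoinRoot.of _ b)
      rw [ψ₀_of, AlgHom.commutes, ← AdjoinRoot.algebraMap_eq,
        ← IsScalarTower.algebraMap_apply]
    · show φK N u α f₁ K g N' α' a β hN hNg hαg hab
        (ψ₀ N u α f₁ g N' α' a β hg hNg hαg hab (t N u α f₁)) =
          algebraMap (A0 N u α f₁) K (t N u α f₁)
      rw [ψ₀_t]
      unfold tC
      rw [map_mul, map_mul, map_pow, map_pow, φK_z, φK_wC,
        φK_wCinv N u α f₁ K g N' α' a β hN hg hNg hαg hab, ← τu_val N u α f₁ K hN,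
        ← Units.val_pow_eq_pow_val, ← Units.val_pow_eq_pow_val, ← Units.val_mul, ← Units.val_mul,
        tK_eq _ _ N' α' a β hab]
  exact RingHom.congr_fun key a'

include hN in
theorem algebraMap_A0_injective (hf₁ : f₁ ≠ 0) :
    Function.Injective (algebraMap (A0 N u α f₁) K) := by
  haveI : Module.Free B (A0 N u α f₁) := (monic_pow_sub_C N hN _).free_adjoinRoot
  apply IsLocalization.injective K (M := Submonoid.powers (algebraMap B (A0 N u α f₁) f₁))
  exact Submonoid.powers_le.mpr (algebraMap_mem_nzd f₁ hf₁)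

include hg hN' in
theorem fC_mem_nzd (hf₁ : f₁ ≠ 0) : fC u f₁ g N' a ∈ nonZeroDivisors (C2 u f₁ g N' a) := by
  haveI : Module.Free B (B1 u g) := (monic_pow_sub_C g hg _).free_adjoinRoot
  haveI : Module.Free (B1 u g) (C2 u f₁ g N' a) := (monic_pow_sub_C N' hN' _).free_adjoinRoot
  haveI : Module.IsTorsionFree B (C2 u f₁ g N' a) := Module.IsTorsionFree.trans (B1 u g)
  exact algebraMap_mem_nzd f₁ hf₁

include hg hN' in
theorem z_mem_nzd (hf₁ : f₁ ≠ 0) : z u f₁ g N' a ∈ nonZeroDivisors (C2 u f₁ g N' a) := by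
  apply nzd_of_pow _ N' hN'
  rw [z_pow']
  refine Submonoid.mul_mem _ (Submonoid.pow_mem _ ?_ _) (fC_mem_nzd u f₁ g N' a hg hN' hf₁)
  exact IsUnit.mem_nonZeroDivisors (IsUnit.of_mul_eq_one _ (wC_mul_inv u f₁ g N' a hg))

include hg hN' in
theorem φK_injective (hf₁ : f₁ ≠ 0) :
    Function.Injective (φK N u α f₁ K g N' α' a β hN hNg hαg hab) := by
  rw [injective_iff_map_eq_zero]
  intro c hc
  obtain ⟨m, a', hm⟩ := exists_pow_mul_eq N u α f₁ g N' α' a β hg hN' hNg hαg hab c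
  have h2 : algebraMap (A0 N u α f₁) K a' = 0 := by
    rw [← φK_ψ₀ N u α f₁ K g N' α' a β hN hg hNg hαg hab, ← hm, map_mul, hc, mul_zero]
  have h3 : a' = 0 := algebraMap_A0_injective N u α f₁ K hN hf₁ (h2.trans (map_zero _).symm)
  rw [h3, map_zero] at hm
  exact (mul_left_mem_nonZeroDivisors_eq_zero_iff
    (Submonoid.pow_mem _ (fC_mem_nzd u f₁ g N' a hg hN' hf₁) m)).mp hm

/-- `w` as a unit of `C2`. -/
def wuC (hg : 0 < g) : (C2 u f₁ g N' a)ˣ :=
  ⟨wC u f₁ g N' a, wCinv u f₁ g N' a, wC_mul_inv u f₁ g N' a hg,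
    by rw [mul_comm]; exact wC_mul_inv u f₁ g N' a hg⟩

include hA hg in
theorem φK_surj (y : K) (hy : y ∈ A) :
    ∃ c, φK N u α f₁ K g N' α' a β hN hNg hαg hab c = y := by
  have hle : A ≤ (φK N u α f₁ K g N' α' a β hN hNg hαg hab).range := by
    rw [hA, Algebra.adjoin_le_iff]
    rintro _ ⟨i, rfl⟩
    show _ ∈ (φK N u α f₁ K g N' α' a β hN hNg hαg hab).range
    beta_reduce
    rw [gen_eq N u α f₁ K hN]
    obtain ⟨e, j, hej⟩ := gen_eq_mono (τu N u α f₁ K hN) (Fu N u α f₁ K) N α g N' α' a β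
      hNg hαg hab hg i
    rw [hej]
    refine ⟨((wuC u f₁ g N' a hg ^ e : (C2 u f₁ g N' a)ˣ) : C2 u f₁ g N' a) *
      z u f₁ g N' a ^ j, ?_⟩
    show φK N u α f₁ K g N' α' a β hN hNg hαg hab
      (((wuC u f₁ g N' a hg ^ e : (C2 u f₁ g N' a)ˣ) : C2 u f₁ g N' a) * z u f₁ g N' a ^ j) = _
    rw [map_mul, map_pow, φK_z, Units.val_mul, Units.val_pow_eq_pow_val]
    congr 1
    have hmap : Units.map ((φK N u α f₁ K g N' α' a β hN hNg hαg hab : C2 u f₁ g N' a →* K))
        (wuC u f₁ g N' a hg) = wKK :=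
      Units.ext (φK_wC N u α f₁ K g N' α' a β hN hNg hαg hab)
    rw [← hmap, ← map_zpow]
    rfl
  exact hle hy

end Phi

section Main

variable {B : Type u} [CommRing B] [IsDomain B] (N : ℕ) (u : Bˣ) (α : ℕ) (f₁ : B)
  (K : Type u) [CommRing K] [Algebra (A0 N u α f₁) K] [Algebra B K]
  [IsScalarTower B (A0 N u α f₁) K] [IsLocalization.Away (algebraMap B (A0 N u α f₁) f₁) K]
  (g N' α' a β : ℕ) (hN : 0 < N) (hg : 0 < g) (hN' : 0 < N') (hNg : N' * g = N)
  (hαg : α' * g = α) (hab : a * α' + N' = β * N' + 1)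

include hg hN' in
theorem isLocalization_z (hf₁ : f₁ ≠ 0) :
    @IsLocalization.Away (C2 u f₁ g N' a) _ (z u f₁ g N' a) K _
      (φK N u α f₁ K g N' α' a β hN hNg hαg hab).toRingHom.toAlgebra := by
  letI : Algebra (C2 u f₁ g N' a) K :=
    (φK N u α f₁ K g N' α' a β hN hNg hαg hab).toRingHom.toAlgebra
  have halg : ∀ c, algebraMap (C2 u f₁ g N' a) K c =
      φK N u α f₁ K g N' α' a β hN hNg hαg hab c := fun c => rfl
  show IsLocalization (Submonoid.powers (z u f₁ g N' a)) K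
  rw [isLocalization_iff]
  refine ⟨?_, ?_, ?_⟩
  · rintro ⟨_, n, rfl⟩
    rw [halg, map_pow, φK_z]
    exact (Units.isUnit _).pow n
  · intro x
    obtain ⟨⟨a', ⟨_, m, rfl⟩⟩, hx⟩ :=
      IsLocalization.surj (Submonoid.powers (algebraMap B (A0 N u α f₁) f₁)) x
    simp only at hx
    refine ⟨(ψ₀ N u α f₁ g N' α' a β hg hNg hαg hab a' * wC u f₁ g N' a ^ (a * m),
      ⟨z u f₁ g N' a ^ (N' * m), N' * m, rfl⟩), ?_⟩
    show x * algebraMap (C2 u f₁ g N' a) K (z u f₁ g N' a ^ (N' * m)) =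
      algebraMap (C2 u f₁ g N' a) K
        (ψ₀ N u α f₁ g N' α' a β hg hNg hαg hab a' * wC u f₁ g N' a ^ (a * m))
    rw [halg, halg]
    have e1 : φK N u α f₁ K g N' α' a β hN hNg hαg hab (z u f₁ g N' a ^ (N' * m)) =
        φK N u α f₁ K g N' α' a β hN hNg hαg hab (wC u f₁ g N' a) ^ (a * m) *
          algebraMap B K f₁ ^ m := by
      rw [pow_mul, z_pow', map_pow, map_mul, map_pow, φK_fC, mul_pow, ← pow_mul]
    have e2 : algebraMap (A0 N u α f₁) K (algebraMap B (A0 N u α f₁) f₁ ^ m) =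
        algebraMap B K f₁ ^ m := by
      rw [map_pow, ← IsScalarTower.algebraMap_apply]
    calc x * φK N u α f₁ K g N' α' a β hN hNg hαg hab (z u f₁ g N' a ^ (N' * m))
        = (x * algebraMap B K f₁ ^ m) *
            φK N u α f₁ K g N' α' a β hN hNg hαg hab (wC u f₁ g N' a) ^ (a * m) := by
          rw [e1]; ring
      _ = algebraMap (A0 N u α f₁) K a' *
            φK N u α f₁ K g N' α' a β hN hNg hαg hab (wC u f₁ g N' a) ^ (a * m) := by
          rw [← e2, hx]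
      _ = _ := by
          rw [map_mul, map_pow, φK_ψ₀ N u α f₁ K g N' α' a β hN hg hNg hαg hab]
  · intro x y hxy
    rw [halg, halg] at hxy
    exact ⟨1, by rw [φK_injective N u α f₁ K g N' α' a β hN hg hN' hNg hαg hab hf₁ hxy]⟩

include hg hN' in
theorem isRegularRing_quot [IsRegularRing B] (hgB : IsUnit ((g : ℕ) : B))
    [IsRegularRing (B ⧸ Ideal.span {f₁})] :
    IsRegularRing (C2 u f₁ g N' a ⧸ Ideal.span {z u f₁ g N' a}) := by
  let I : Ideal B := Ideal.span {f₁}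
  let v : (B ⧸ I)ˣ := Units.map (Ideal.Quotient.mk I : B →* B ⧸ I) u
  have hgI : IsUnit ((g : ℕ) : B ⧸ I) := by
    have := hgB.map (Ideal.Quotient.mk I)
    rwa [map_natCast] at this
  haveI : Algebra.Etale (B ⧸ I) (AdjoinRoot (X ^ g - C (v : B ⧸ I) : (B ⧸ I)[X])) :=
    etale_adjoinRoot g hg hgI v
  haveI R1 : IsRegularRing (AdjoinRoot (X ^ g - C (v : B ⧸ I) : (B ⧸ I)[X])) :=
    Groth.Agent.H63.SmoothRegular.isRegularRing_of_smooth (B ⧸ I) _
  have hpoly : (p1 u g).map (Ideal.Quotient.mk I) = X ^ g - C (v : B ⧸ I) := by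
    rw [Polynomial.map_sub, Polynomial.map_pow, Polynomial.map_X, Polynomial.map_C]
    rfl
  let e3 := AdjoinRoot.algEquivOfEq (B ⧸ I) _ _ hpoly
  haveI R2 : IsRegularRing (AdjoinRoot ((p1 u g).map (Ideal.Quotient.mk I))) :=
    IsRegularRing.of_ringEquiv e3.symm.toRingEquiv
  let e2 := AdjoinRoot.quotEquivQuotMap (p1 u g) I
  haveI R4 : IsRegularRing (B1 u g ⧸ I.map (AdjoinRoot.of (p1 u g))) :=
    IsRegularRing.of_ringEquiv (R := AdjoinRoot ((p1 u g).map (Ideal.Quotient.mk I)))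
      e2.symm.toRingEquiv
  have hunit : IsUnit (w u g ^ a) :=
    (IsUnit.of_mul_eq_one _ (w_mul_winv u g hg)).pow a
  have hideal : I.map (AdjoinRoot.of (p1 u g)) =
      Ideal.span {w u g ^ a * AdjoinRoot.of (p1 u g) f₁} := by
    rw [Ideal.span_singleton_mul_left_unit hunit, Ideal.map_span, Set.image_singleton]
  haveI R5 : IsRegularRing (B1 u g ⧸ Ideal.span {w u g ^ a * AdjoinRoot.of (p1 u g) f₁}) :=
    IsRegularRing.of_ringEquiv (Ideal.quotEquivOfEq hideal)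
  obtain ⟨e1⟩ := quotRootEquiv N' hN' (w u g ^ a * AdjoinRoot.of (p1 u g) f₁)
  exact IsRegularRing.of_ringEquiv e1

include u α f₁ hN in
theorem isRegularRing_K [IsRegularRing B] (hNB : IsUnit ((N : ℕ) : B)) : IsRegularRing K := by
  haveI : Algebra.Etale B (Localization.Away (algebraMap B (A0 N u α f₁) f₁)) :=
    etale_away N hN hNB u f₁ α
  haveI : IsRegularRing (Localization.Away (algebraMap B (A0 N u α f₁) f₁)) :=
    Groth.Agent.H63.SmoothRegular.isRegularRing_of_smooth B _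
  exact IsRegularRing.of_ringEquiv (IsLocalization.algEquiv
    (Submonoid.powers (algebraMap B (A0 N u α f₁) f₁))
    (Localization.Away (algebraMap B (A0 N u α f₁) f₁)) K).toRingEquiv

include hN hg hN' hNg hαg hab in
theorem main_abs [IsRegularRing B] (hNB : IsUnit ((N : ℕ) : B)) (hgB : IsUnit ((g : ℕ) : B))
    [IsRegularRing (B ⧸ Ideal.span {f₁})] (hf₁ : f₁ ≠ 0) (A : Subalgebra B K)
    (hA : A = Algebra.adjoin B (Set.range fun i : Fin N =>
      algebraMap (A0 N u α f₁) K (t N u α f₁ ^ (i : ℕ)) *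
        IsLocalization.Away.invSelf (S := K) (algebraMap B (A0 N u α f₁) f₁) ^
          ((i : ℕ) * α / N)))
    (h1 : N' = 1 → a = 0) :
    Module.Finite B A ∧ IsIntegralClosure A (A0 N u α f₁) K ∧ IsRegularRing A := by
  set Φ := φK N u α f₁ K g N' α' a β hN hNg hαg hab with hΦ
  let ΦA : C2 u f₁ g N' a →ₐ[B] A :=
    Φ.codRestrict A (φK_mem N u α f₁ K g N' α' a β hN hg hN' hNg hαg hab A hA h1)
  have hΦA : ∀ c, ((ΦA c : A) : K) = Φ c := fun c => rfl
  have hbij : Function.Bijective ΦA := by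
    constructor
    · intro c c' h
      apply φK_injective N u α f₁ K g N' α' a β hN hg hN' hNg hαg hab hf₁
      rw [← hΦ, ← hΦA, ← hΦA, h]
    · intro y
      obtain ⟨c, hc⟩ := φK_surj N u α f₁ K g N' α' a β hN hg hNg hαg hab A hA y.1 y.2
      exact ⟨c, Subtype.ext hc⟩
  let e : C2 u f₁ g N' a ≃ₐ[B] A := AlgEquiv.ofBijective ΦA hbij
  haveI : Module.Finite B (B1 u g) := (monic_pow_sub_C g hg _).finite_adjoinRoot
  haveI : Module.Finite (B1 u g) (C2 u f₁ g N' a) := (monic_pow_sub_C N' hN' _).finite_adjoinRoot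
  haveI : Module.Finite B (C2 u f₁ g N' a) := Module.Finite.trans (B1 u g) _
  haveI hfin : Module.Finite B A := Module.Finite.equiv e.toLinearEquiv
  letI : Algebra (C2 u f₁ g N' a) K := Φ.toRingHom.toAlgebra
  haveI : IsLocalization.Away (z u f₁ g N' a) K :=
    isLocalization_z N u α f₁ K g N' α' a β hN hg hN' hNg hαg hab hf₁
  haveI := isRegularRing_quot u f₁ g N' a hg hN' hgB
  haveI := isRegularRing_K N u α f₁ K hN hNB
  have hz := z_mem_nzd u f₁ g N' a hg hN' hf₁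
  haveI hregC : IsRegularRing (C2 u f₁ g N' a) := isRegularRing_of_nzd (z u f₁ g N' a) hz K
  haveI hregA : IsRegularRing A := IsRegularRing.of_ringEquiv e.toRingEquiv
  refine ⟨hfin, ?_, hregA⟩
  haveI : IsScalarTower B (C2 u f₁ g N' a) K :=
    IsScalarTower.of_algebraMap_eq (fun b => (Φ.commutes b).symm)
  haveI : Module.Finite B (A0 N u α f₁) := (monic_pow_sub_C N hN _).finite_adjoinRoot
  haveI : Algebra.IsIntegral B (A0 N u α f₁) := Algebra.IsIntegral.of_finite B _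
  haveI : Algebra.IsIntegral B A := Algebra.IsIntegral.of_finite B _
  constructor
  · exact Subtype.val_injective
  · intro x
    constructor
    · intro hx
      have hxB : IsIntegral B x := isIntegral_trans x hx
      have hxC : IsIntegral (C2 u f₁ g N' a) x := hxB.tower_top
      obtain ⟨c, hc⟩ := mem_range_of_isIntegral (z u f₁ g N' a) hz
        (fun m _ => regular_local_normal m) x hxC
      exact ⟨ΦA c, hc⟩
    · rintro ⟨y, rfl⟩
      have hy : IsIntegral B y := Algebra.IsIntegral.isIntegral y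
      have hy' : IsIntegral B (algebraMap A K y) := hy.algebraMap
      exact hy'.tower_top

end Main

end

end Groth.Agent.H34.CycAbs
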