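import Mathlib
import Groth.Agent.H34.CycAbs

/-!
# Normalization of a cyclic cover branched along a smooth divisor is regular (S16900)
-/

set_option autoImplicit false
set_option linter.style.haveILetI false
universe u

open Polynomial

namespace Groth.Agent.H34.CycMain

open Groth.Agent.H34.CycAbs

theorem exists_params (N α : ℕ) (hN : 0 < N) : ∃ g N' α' a β : ℕ, 0 < g ∧ 0 < N' ∧
    N' * g = N ∧ α' * g = α ∧ a * α' + N' = β * N' + 1 ∧ (N' = 1 → a = 0) := by
  have hg : 0 < Nat.gcd α N := Nat.gcd_pos_of_pos_right _ hN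
  have hNg : N / Nat.gcd α N * Nat.gcd α N = N := Nat.div_mul_cancel (Nat.gcd_dvd_right α N)
  have hαg : α / Nat.gcd α N * Nat.gcd α N = α := Nat.div_mul_cancel (Nat.gcd_dvd_left α N)
  have hN' : 0 < N / Nat.gcd α N :=
    Nat.div_pos (Nat.le_of_dvd hN (Nat.gcd_dvd_right α N)) hg
  have hcop : Nat.Coprime (α / Nat.gcd α N) (N / Nat.gcd α N) := Nat.coprime_div_gcd_div_gcd hg
  generalize N / Nat.gcd α N = N' at *
  generalize α / Nat.gcd α N = α' at *
  generalize Nat.gcd α N = g at *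
  by_cases h1 : N' = 1
  · exact ⟨g, N', α', 0, 0, hg, hN', hNg, hαg, by rw [h1, zero_mul, zero_mul], fun _ => rfl⟩
  · have h2 : 1 < N' := by omega
    obtain ⟨m, -, hm⟩ := Nat.exists_mul_mod_eq_one_of_coprime hcop h2
    refine ⟨g, N', α', m, α' * m / N' + 1, hg, hN', hNg, hαg, ?_, fun h => absurd h h1⟩
    have h3 := Nat.div_add_mod (α' * m) N'
    rw [hm] at h3
    generalize α' * m / N' = q at *
    have h4 : m * α' = N' * q + 1 := by rw [mul_comm]; exact h3.symm
    rw [h4]; ring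

theorem main (k : Type u) [Field k] [IsAlgClosed k]
    (B : Type u) [CommRing B] [IsDomain B] [Algebra k B] [Algebra.FiniteType k B]
    (hreg : ∀ (P : Ideal B) [P.IsPrime], IsRegularLocalRing (Localization.AtPrime P))
    (N : ℕ) (hN : 0 < N) (hNk : IsUnit ((N : ℕ) : k)) (u : Bˣ) (α : ℕ) (f₁ : B) (hf₁ : f₁ ≠ 0)
    (hD : ∀ (P : Ideal (B ⧸ Ideal.span ({f₁} : Set B))) [P.IsPrime], IsRegularLocalRing (Localization.AtPrime P))
    (A : Subalgebra B (Localization.Away
      (algebraMap B (AdjoinRoot (X ^ N - C ((u : B) * f₁ ^ α) : B[X])) f₁)))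
    (hA : A = Algebra.adjoin B (Set.range fun i : Fin N =>
      algebraMap (AdjoinRoot (X ^ N - C ((u : B) * f₁ ^ α) : B[X])) (Localization.Away
        (algebraMap B (AdjoinRoot (X ^ N - C ((u : B) * f₁ ^ α) : B[X])) f₁))
        (AdjoinRoot.root (X ^ N - C ((u : B) * f₁ ^ α) : B[X]) ^ (i : ℕ)) *
      IsLocalization.Away.invSelf (S := Localization.Away
        (algebraMap B (AdjoinRoot (X ^ N - C ((u : B) * f₁ ^ α) : B[X])) f₁))
        (algebraMap B (AdjoinRoot (X ^ N - C ((u : B) * f₁ ^ α) : B[X])) f₁) ^ ((i : ℕ) * α / N))) :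
    Module.Finite B A ∧
      IsIntegralClosure A (AdjoinRoot (X ^ N - C ((u : B) * f₁ ^ α) : B[X]))
        (Localization.Away (algebraMap B (AdjoinRoot (X ^ N - C ((u : B) * f₁ ^ α) : B[X])) f₁)) ∧
      ∀ (Q : Ideal A) [Q.IsPrime], IsRegularLocalRing (Localization.AtPrime Q) := by
  haveI : IsNoetherianRing B := Algebra.FiniteType.isNoetherianRing k B
  haveI : IsRegularRing B := isRegularRing_iff.mpr (fun P _ => hreg P)
  haveI : IsRegularRing (B ⧸ Ideal.span ({f₁} : Set B)) :=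
    isRegularRing_iff.mpr (fun P _ => hD P)
  have hNB : IsUnit ((N : ℕ) : B) := by
    have := hNk.map (algebraMap k B)
    rwa [map_natCast] at this
  obtain ⟨g, N', α', a, β, hg, hN', hNg, hαg, hab, h1⟩ := exists_params N α hN
  have hgB : IsUnit ((g : ℕ) : B) := by
    have h : ((N : ℕ) : B) = ((N' : ℕ) : B) * ((g : ℕ) : B) := by
      rw [← hNg]; push_cast; ring
    rw [h] at hNB
    exact isUnit_of_mul_isUnit_right hNB
  obtain ⟨r1, r2, r3⟩ := main_abs N u α f₁
    (Localization.Away (algebraMap B (AdjoinRoot (X ^ N - C ((u : B) * f₁ ^ α) : B[X])) f₁))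
    g N' α' a β hN hg hN' hNg hαg hab hNB hgB hf₁ A hA h1
  exact ⟨r1, r2, fun Q _ => IsRegularRing.isRegularLocalRing_localization Q⟩

end Groth.Agent.H34.CycMain
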