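import Groth.Agent.H34.KeyRat
import Groth.Agent.H54.KeyCIa

/-!
# Rational equivalence on a closed subscheme from divisors on the ambient scheme
-/

set_option autoImplicit false
set_option linter.style.haveILetI false

universe u

open CategoryTheory AlgebraicGeometry TopologicalSpace Opposite

namespace Groth.Agent.H34.KeyRel

open Groth.Agent.H54.KeyCIa (ordAt_residueFieldMap)

variable {X D : Scheme.{u}}

theorem finsum_eq_finsum_comp_of_support_subset_range {α β : Type*} (e : β → α)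
    (he : Function.Injective e) (F : α → ℤ) (h : ∀ a, F a ≠ 0 → a ∈ Set.range e) :
    ∑ᶠ a, F a = ∑ᶠ b, F (e b) := by
  rw [← finsum_mem_range he, ← finsum_mem_univ]
  refine finsum_mem_inter_support_eq F _ _ ?_
  ext a
  simp only [Set.univ_inter, Set.mem_inter_iff, Function.mem_support]
  exact ⟨fun ha => ⟨h a ha, ha⟩, fun ha => ha.2⟩

/-- The divisor of a function on a point of `D`, computed on `D` and on `X`. -/
theorem divFun_closedImmersion (i : D ⟶ X) [IsClosedImmersion i] (δ : X → ℤ) (d' d : D)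
    (g : X.residueField (i d')) :
    Cyc.divFun (fun d => δ (i d)) d' ((i.residueFieldMap d').hom g) d =
      Cyc.divFun δ (i d') g (i d) := by
  classical
  have hind : Topology.IsInducing (i : D → X) := i.isClosedEmbedding.isInducing
  unfold Cyc.divFun
  by_cases h : d' ⤳ d ∧ δ (i d) + 1 = δ (i d')
  · have h' : i d' ⤳ i d ∧ δ (i d) + 1 = δ (i d') := ⟨hind.specializes_iff.mpr h.1, h.2⟩
    rw [dif_pos h, dif_pos h']
    exact ordAt_residueFieldMap i h.1 h'.1 g
  · have h' : ¬ (i d' ⤳ i d ∧ δ (i d) + 1 = δ (i d')) := fun hc =>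
      h ⟨hind.specializes_iff.mp hc.1, hc.2⟩
    rw [dif_neg h, dif_neg h']

/-- (CIb) a sum of divisors of rational functions on points of `X` lying on the closed subscheme
`D` is rationally equivalent to zero on `D`. -/
theorem ratEquivZero_of_closedImmersion' (i : D ⟶ X) [IsClosedImmersion i] (δ : X → ℤ) (k : ℤ)
    {ι : Type u} (g : ι → (ξ : X) → X.residueField ξ) (hg0 : ∀ j ξ, g j ξ ≠ 0)
    (hgδ : ∀ j ξ, g j ξ ≠ 1 → δ ξ = k + 1)
    (hsupp : ∀ j ξ, g j ξ ≠ 1 → ξ ∈ Set.range i)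
    (hlf : ∀ x : X, ∃ U : Set X, IsOpen U ∧ x ∈ U ∧
      {p : ι × X | g p.1 p.2 ≠ 1 ∧ (closure {p.2} ∩ U).Nonempty}.Finite)
    (γ : AlgebraicCycle D ℤ)
    (hγ : ∀ d : D, γ d = ∑ᶠ j : ι, ∑ᶠ ξ : X, Cyc.divFun δ ξ (g j ξ) (i d)) :
    Cyc.RatEquivZero (fun d => δ (i d)) k γ := by
  classical
  have hinj : Function.Injective (i : D → X) := i.isClosedEmbedding.injective
  have hpinj : Function.Injective (fun p : ι × D => ((p.1, i p.2) : ι × X)) := by
    intro p p' h
    have h' : ((p.1, i p.2) : ι × X) = (p'.1, i p'.2) := h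
    have h1 : p.1 = p'.1 := (Prod.mk.inj h').1
    have h2 : i p.2 = i p'.2 := (Prod.mk.inj h').2
    exact Prod.ext h1 (hinj h2)
  refine ⟨{q : ι × D // g q.1 (i q.2) ≠ 1}, fun q => q.1.2,
    fun q => (i.residueFieldMap q.1.2).hom (g q.1.1 (i q.1.2)), ?_, ?_, ?_, ?_⟩
  · intro q
    exact hgδ _ _ q.2
  · intro q
    exact (map_ne_zero _).mpr (hg0 _ _)
  · intro d
    obtain ⟨U, hUo, hdU, hfin⟩ := hlf (i d)
    refine ⟨(i : D → X) ⁻¹' U, hUo.preimage i.continuous, hdU, ?_⟩
    have hfin' : ((fun p : ι × D => ((p.1, i p.2) : ι × X)) ⁻¹'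
        {p : ι × X | g p.1 p.2 ≠ 1 ∧ (closure {p.2} ∩ U).Nonempty}).Finite :=
      hfin.preimage hpinj.injOn
    refine Set.Finite.subset (hfin'.preimage (Subtype.val_injective.injOn)) ?_
    rintro q ⟨z, hz1, hz2⟩
    have hspec : q.1.2 ⤳ z := specializes_iff_mem_closure.mpr hz1
    exact ⟨q.2, ⟨i z, specializes_iff_mem_closure.mp (hspec.map i.continuous), hz2⟩⟩
  · intro d
    rw [hγ d]
    let G : ι × D → ℤ := fun p =>
      Cyc.divFun (fun d => δ (i d)) p.2 ((i.residueFieldMap p.2).hom (g p.1 (i p.2))) d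
    have hG : ∀ p, G p = Cyc.divFun δ (i p.2) (g p.1 (i p.2)) (i d) := fun p =>
      divFun_closedImmersion i δ p.2 d _
    have e1 : ∀ j, ∑ᶠ ξ : X, Cyc.divFun δ ξ (g j ξ) (i d) = ∑ᶠ d' : D, G (j, d') := by
      intro j
      rw [finsum_eq_finsum_comp_of_support_subset_range (i : D → X) hinj
        (fun ξ => Cyc.divFun δ ξ (g j ξ) (i d)) ?_]
      · exact finsum_congr (fun d' => (hG (j, d')).symm)
      · intro ξ hne
        refine hsupp j ξ (fun h1 => hne ?_)
        rw [h1]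
        exact divFun_one δ ξ (i d)
    have hGsupp : ∀ p, G p ≠ 0 → g p.1 (i p.2) ≠ 1 ∧ i p.2 ⤳ i d := by
      intro p hp
      rw [hG p] at hp
      refine ⟨fun h1 => hp ?_, (divFun_ne_zero hp).1⟩
      rw [h1]
      exact divFun_one δ _ _
    obtain ⟨U, hUo, hdU, hfin⟩ := hlf (i d)
    have hGfin : (Function.support G).Finite := by
      refine (hfin.preimage hpinj.injOn).subset (fun p hp => ?_)
      obtain ⟨h1, h2⟩ := hGsupp p hp
      exact ⟨h1, ⟨i d, specializes_iff_mem_closure.mp h2, hdU⟩⟩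
    rw [finsum_congr e1, ← finsum_curry G hGfin]
    symm
    show (∑ᶠ q : {q : ι × D // g q.1 (i q.2) ≠ 1}, G q.1) = _
    rw [finsum_subtype_eq_finsum_cond (f := G) (fun p => g p.1 (i p.2) ≠ 1)]
    refine finsum_congr (fun p => ?_)
    rw [finsum_eq_if]
    split_ifs with hp
    · rfl
    · by_contra hne
      exact hp (hGsupp p (Ne.symm hne)).1

end Groth.Agent.H34.KeyRel
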