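import Groth.Agent.H34.KeyGysin
import Groth.Agent.H34.KeyCIb

/-!
# The Gysin map of a zero scheme kills rational equivalence (S1929): assembly
-/

set_option autoImplicit false
set_option linter.style.haveILetI false

universe u

open CategoryTheory AlgebraicGeometry TopologicalSpace Opposite

namespace Groth.Agent.H34.KeyRel

open Groth.Agent.H95.C1Cap (ordAt_one)

variable {X : Scheme.{u}}

theorem gysinChoice_ne_zero (L : X.Modules) (s : L.presheaf.obj (Opposite.op ⊤))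
    (t : (ξ : X) → Cyc.secFibre L ξ) (ht : ∀ ξ, t ξ ≠ 0) (ξ : X) :
    Cyc.gysinChoice L s t ξ ≠ 0 := by
  classical
  unfold Cyc.gysinChoice
  split_ifs with h
  · exact h
  · exact ht ξ

theorem gysinChoice_eq (L : X.Modules) (s : L.presheaf.obj (Opposite.op ⊤))
    (t : (ξ : X) → Cyc.secFibre L ξ) (ξ : X)
    (h : (Submodule.Quotient.mk ((L.presheaf.germ ⊤ ξ trivial) s) : Cyc.secFibre L ξ) ≠ 0) :
    Cyc.gysinChoice L s t ξ =
      (Submodule.Quotient.mk ((L.presheaf.germ ⊤ ξ trivial) s) : Cyc.secFibre L ξ) := by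
  classical
  unfold Cyc.gysinChoice
  rw [if_pos h]

/-- S1929. -/
theorem gysin_ratEquivZero (X D : Scheme.{u}) (δ : X → ℤ) (hX : Cyc.IsSetup X δ)
    (L : X.Modules) (hL : PicF.IsInvertible L) (s : L.presheaf.obj (Opposite.op ⊤))
    (i : D ⟶ X) [IsClosedImmersion i] (hD : Cyc.IsZeroSchemeOf i L s) (k : ℤ)
    (α : AlgebraicCycle X ℤ) (h0 : Cyc.RatEquivZero δ (k + 1) α)
    (t : (ξ : X) → Cyc.secFibre L ξ) (ht : ∀ ξ, t ξ ≠ 0) (γ : AlgebraicCycle D ℤ)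
    (hγ : ∀ d : D, γ d = Cyc.c1CapFun δ L ⇑α (Cyc.gysinChoice L s t) (i d)) :
    Cyc.RatEquivZero (fun d => δ (i d)) k γ := by
  classical
  obtain ⟨ι, ζ, f, hζ, hf, hlf, hsum⟩ := h0
  have hO := isInvertible_structureModule X
  obtain ⟨v, hvdef⟩ : ∃ v, v = Cyc.gysinChoice L s t := ⟨_, rfl⟩
  have hv : ∀ ξ, v ξ ≠ 0 := fun ξ => by
    rw [hvdef]
    exact gysinChoice_ne_zero L s t ht ξ
  rw [← hvdef] at hγ
  obtain ⟨g, hgdef⟩ : ∃ g : ι → (ξ : X) → X.residueField ξ, g = fun j =>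
      gRel δ hO hL (ζ j) (ratSec (ζ j) (f j)) (v (ζ j)) v oneSec := ⟨_, rfl⟩
  have hg0 : ∀ j ξ, g j ξ ≠ 0 := fun j ξ => by
    rw [hgdef]
    exact gRel_ne_zero δ hX hO hL (ζ j) _ (ratSec_ne_zero (ζ j) (f j) (hf j)) _ (hv (ζ j))
      v hv oneSec oneSec_ne_zero ξ
  have hg1 : ∀ j ξ, g j ξ ≠ 1 → ζ j ⤳ ξ ∧ δ ξ + 1 = δ (ζ j) := fun j ξ h => by
    rw [hgdef] at h
    exact gRel_ne_one h
  have hglf : ∀ j (x : X), ∃ U : Set X, IsOpen U ∧ x ∈ U ∧
      {y : X | g j y ≠ 1 ∧ (closure {y} ∩ U).Nonempty}.Finite := fun j x => by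
    rw [hgdef]
    exact locallyFinite_gRel δ hX hO hL (ζ j) _ (ratSec_ne_zero (ζ j) (f j) (hf j)) _
      (hv (ζ j)) v oneSec x
  have hgsum : ∀ j x, ∑ᶠ ξ : X, Cyc.divFun δ ξ (g j ξ) x =
      Cyc.c1CapFun δ L (Cyc.secDivFun δ (Coh.structureModule X) (ζ j) (ratSec (ζ j) (f j))) v x -
        Cyc.c1CapFun δ (Coh.structureModule X) (Cyc.secDivFun δ L (ζ j) (v (ζ j))) oneSec x :=
    fun j x => by
    rw [hgdef]
    exact gRel_sum δ hX hO hL (ζ j) _ (ratSec_ne_zero (ζ j) (f j) (hf j)) _ (hv (ζ j))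
      v hv oneSec oneSec_ne_zero x
  -- support on D
  have hrange : IsClosed (Set.range i) := i.isClosedEmbedding.isClosed_range
  have hsupp : ∀ j ξ, g j ξ ≠ 1 → ξ ∈ Set.range i := by
    intro j ξ hne
    by_contra hξ
    apply hne
    have hζξ := (hg1 j ξ hne).1
    have hζ' : ζ j ∉ Set.range i := fun hmem =>
      hξ (hrange.closure_subset_iff.mpr (Set.singleton_subset_iff.mpr hmem)
        (specializes_iff_mem_closure.mp hζξ))
    rw [hD.1] at hξ hζ'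
    have e1 := gysinChoice_eq L s t ξ hξ
    have e2 := gysinChoice_eq L s t (ζ j) hζ'
    rw [← hvdef] at e1 e2
    rw [hgdef]
    exact gRel_eq_one_of_common_section δ hX hO hL (ζ j) _
      (ratSec_ne_zero (ζ j) (f j) (hf j)) _ (hv (ζ j)) v oneSec ξ s e2 e1 (hv ξ)
  refine ratEquivZero_of_closedImmersion' i δ k g hg0
    (fun j ξ h => by have := (hg1 j ξ h).2; have := hζ j; omega) hsupp ?_ γ (fun d => ?_)
  · -- local finiteness of the family of pairs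
    intro x
    obtain ⟨U₀, hU₀o, hxU₀, hZ₀⟩ := hlf x
    choose W hWo hxW hWfin using fun j => hglf j x
    have hUopen : IsOpen (U₀ ∩ ⋂ j ∈ {j | (closure {ζ j} ∩ U₀).Nonempty}, W j) :=
      hU₀o.inter (hZ₀.isOpen_biInter (fun j _ => hWo j))
    refine ⟨U₀ ∩ ⋂ j ∈ {j | (closure {ζ j} ∩ U₀).Nonempty}, W j, hUopen,
      ⟨hxU₀, Set.mem_iInter₂.mpr (fun j _ => hxW j)⟩, ?_⟩
    have hfinS : (⋃ j ∈ {j | (closure {ζ j} ∩ U₀).Nonempty},
        (fun y => ((j, y) : ι × X)) '' {y : X | g j y ≠ 1 ∧ (closure {y} ∩ W j).Nonempty}).Finite :=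
      hZ₀.biUnion (fun j _ => (hWfin j).image _)
    refine hfinS.subset ?_
    rintro p ⟨hp, ⟨z, hz1, hz2⟩⟩
    have hspec : p.2 ⤳ z := specializes_iff_mem_closure.mpr hz1
    have hp2 := hspec.mem_open hUopen hz2
    have hmem : p.1 ∈ {j | (closure {ζ j} ∩ U₀).Nonempty} :=
      ⟨p.2, specializes_iff_mem_closure.mp (hg1 p.1 p.2 hp).1, hp2.1⟩
    have hzW : z ∈ W p.1 := Set.mem_iInter₂.mp hz2.2 p.1 hmem
    exact Set.mem_biUnion hmem ⟨p.2, ⟨hp, ⟨z, hz1, hzW⟩⟩, rfl⟩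
  · -- the sum formula at `i d`
    obtain ⟨x, hx⟩ : ∃ x, x = i d := ⟨_, rfl⟩
    rw [hγ d, ← hx]
    have hterm : ∀ j, ∑ᶠ y : X, Cyc.divFun δ y (g j y) x =
        ∑ᶠ y : X, Cyc.divFun δ (ζ j) (f j) y * Cyc.secDivFun δ L y (v y) x := by
      intro j
      rw [hgsum j x, c1Cap_oneSec, sub_zero]
      unfold Cyc.c1CapFun
      refine finsum_congr (fun y => ?_)
      rw [secDivFun_ratSec]
    rw [finsum_congr hterm]
    unfold Cyc.c1CapFun
    have e1 : ∀ y, α y * Cyc.secDivFun δ L y (v y) x =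
        ∑ᶠ j, Cyc.divFun δ (ζ j) (f j) y * Cyc.secDivFun δ L y (v y) x := fun y => by
      rw [hsum y, finsum_mul]
    rw [finsum_congr e1]
    obtain ⟨U₀, hU₀o, hxU₀, hZ₀⟩ := hlf x
    have hE : (⋃ j ∈ {j | (closure {ζ j} ∩ U₀).Nonempty},
        {y : X | y ⤳ x ∧ Cyc.divFun δ (ζ j) (f j) y ≠ 0}).Finite :=
      hZ₀.biUnion (fun j _ => finite_divFun δ hX (ζ j) (f j) (hf j) x)
    refine finsum_exchange (fun j y => Cyc.divFun δ (ζ j) (f j) y * Cyc.secDivFun δ L y (v y) x)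
      hZ₀.toFinset hE.toFinset (fun j y hne => ?_)
    have h2 : Cyc.divFun δ (ζ j) (f j) y ≠ 0 := left_ne_zero_of_mul hne
    have h3 : Cyc.secDivFun δ L y (v y) x ≠ 0 := right_ne_zero_of_mul hne
    have h4 := (divFun_ne_zero h2).1
    have h5 := (secDivFun_ne_zero h3).1
    have hmem : j ∈ {j | (closure {ζ j} ∩ U₀).Nonempty} :=
      ⟨x, specializes_iff_mem_closure.mp (h4.trans h5), hxU₀⟩
    exact ⟨hZ₀.mem_toFinset.mpr hmem, hE.mem_toFinset.mpr (Set.mem_biUnion hmem ⟨h5, h2⟩)⟩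

end Groth.Agent.H34.KeyRel
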