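import Groth.Agent.H34.SubMain
import Groth.Agent.H34.KeyGysinMain

/-!
# `c₁(ι^*L) ∩ [Y]` on a closed subscheme versus `c₁(L) ∩ ι_*[Y]` (coefficientwise, with the
correcting principal divisors)
-/

set_option autoImplicit false
set_option linter.style.haveILetI false
universe u
open CategoryTheory AlgebraicGeometry TopologicalSpace Opposite

namespace Groth.Agent.H34.DivCap

open Groth.Agent.H34.SubPieces Groth.Agent.H34.SubMain
open Groth.Agent.H34.KeyRel (finsum_eq_finsum_comp_of_support_subset_range divFun_closedImmersion)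

variable {X Y : Scheme.{u}}

theorem divFun_mul (δ : X → ℤ) (ξ : X) {f g : X.residueField ξ} (hf : f ≠ 0) (hg : g ≠ 0)
    (x : X) : Cyc.divFun δ ξ (f * g) x = Cyc.divFun δ ξ f x + Cyc.divFun δ ξ g x := by
  classical
  unfold Cyc.divFun
  split_ifs with h
  · exact Groth.Agent.H95.SecOrd.ordAt_mul h.1 hf hg
  · rw [add_zero]

/-- Coefficientwise comparison of `c₁(ι^*L) ∩ [Y]_{k+1}` (on `Y`) with `c₁(L) ∩ ι_*[Y]_{k+1}`
(on `X`): they differ by principal divisors on the top-dimensional components of `Y`. -/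
theorem c1Cap_subscheme_closedImmersion (ι : Y ⟶ X) [IsClosedImmersion ι] (δ : X → ℤ)
    (hX : Cyc.IsSetup X δ) {L : X.Modules} (hL : PicF.IsInvertible L) (k : ℤ)
    (hY : ∀ y : Y, δ (ι y) ≤ k + 1)
    (v : (ξ : X) → Cyc.secFibre L ξ) (hv : ∀ ξ, v ξ ≠ 0)
    (u : (y : Y) → Cyc.secFibre ((Scheme.Modules.pullback ι).obj L) y) (hu : ∀ y, u y ≠ 0) :
    ∃ g : (y : Y) → X.residueField (ι y), (∀ y, g y ≠ 0) ∧ ∀ y' : Y,
      Cyc.c1CapFun (fun y => δ (ι y)) ((Scheme.Modules.pullback ι).obj L)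
        (Cyc.subschemeFun (fun y => δ (ι y)) (k + 1) (𝟙 Y)) u y' =
      Cyc.c1CapFun δ L (Cyc.subschemeFun δ (k + 1) ι) v (ι y') +
        ∑ᶠ y : Y, Cyc.subschemeFun (fun y => δ (ι y)) (k + 1) (𝟙 Y) y *
          Cyc.divFun δ (ι y) (g y) (ι y') := by
  classical
  have hinj : Function.Injective (ι : Y → X) := ι.isClosedEmbedding.injective
  choose g hg0 hg using fun y : Y =>
    secOrdAt_pullback_closedImmersion ι hL y (u y) (hu y) (v (ι y)) (hv _)
  refine ⟨g, hg0, fun y' => ?_⟩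
  set m : Y → ℤ := Cyc.subschemeFun (fun y => δ (ι y)) (k + 1) (𝟙 Y) with hm
  have hγ1 : Cyc.c1CapFun δ L (Cyc.subschemeFun δ (k + 1) ι) v (ι y') =
      ∑ᶠ y : Y, m y * Cyc.secDivFun δ L (ι y) (v (ι y)) (ι y') := by
    unfold Cyc.c1CapFun
    refine (finsum_eq_finsum_comp_of_support_subset_range (ι : Y → X) hinj
      (fun ξ => Cyc.subschemeFun δ (k + 1) ι ξ * Cyc.secDivFun δ L ξ (v ξ) (ι y'))
      ?_).trans ?_
    · intro ξ hξ
      by_contra hr
      apply hξ
      show Cyc.subschemeFun δ (k + 1) ι ξ * _ = 0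
      rw [subschemeFun_eq_zero_of_notMem_range ι δ (k + 1) ξ hr, zero_mul]
    · refine finsum_congr (fun y => ?_)
      show Cyc.subschemeFun δ (k + 1) ι (ι y) * _ = _
      rw [subschemeFun_closedImmersion ι δ (k + 1) y]
  have hterm : ∀ y : Y, m y * Cyc.secDivFun (fun y => δ (ι y))
      ((Scheme.Modules.pullback ι).obj L) y (u y) y' =
      m y * Cyc.secDivFun δ L (ι y) (v (ι y)) (ι y') +
        m y * Cyc.divFun δ (ι y) (g y) (ι y') := by
    intro y
    rw [secDivFun_closedImmersion ι δ y _ (v (ι y)) (g y) (hg y) y', mul_add]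
  obtain ⟨U, hUo, hxU, hfin⟩ := locallyFinite_top_points ι δ hX k hY (ι y')
  have hA : (Function.support fun y : Y =>
      m y * Cyc.secDivFun δ L (ι y) (v (ι y)) (ι y')).Finite := by
    refine hfin.subset (fun y hy => ?_)
    have h1 : m y ≠ 0 := left_ne_zero_of_mul hy
    have h2 : Cyc.secDivFun δ L (ι y) (v (ι y)) (ι y') ≠ 0 := right_ne_zero_of_mul hy
    have hsp : ι y ⤳ ι y' := by
      by_contra hn
      exact h2 (Groth.Agent.H95.C1Cap.secDivFun_eq_zero δ L _ _ _ hn)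
    exact ⟨subschemeFun_ne_zero (fun y => δ (ι y)) (k + 1) y h1, ι y',
      specializes_iff_mem_closure.mp hsp, hxU⟩
  have hB : (Function.support fun y : Y =>
      m y * Cyc.divFun δ (ι y) (g y) (ι y')).Finite := by
    refine hfin.subset (fun y hy => ?_)
    have h1 : m y ≠ 0 := left_ne_zero_of_mul hy
    have h2 : Cyc.divFun δ (ι y) (g y) (ι y') ≠ 0 := right_ne_zero_of_mul hy
    have hsp : ι y ⤳ ι y' := by
      by_contra hn
      exact h2 (Groth.Agent.H95.C1Cap.divFun_eq_zero δ _ _ _ hn)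
    exact ⟨subschemeFun_ne_zero (fun y => δ (ι y)) (k + 1) y h1, ι y',
      specializes_iff_mem_closure.mp hsp, hxU⟩
  rw [hγ1, ← finsum_add_distrib hA hB]
  unfold Cyc.c1CapFun
  exact finsum_congr hterm

end Groth.Agent.H34.DivCap
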