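import Groth.Agent.H34.DivPieces
import Groth.Agent.H34.DivCap
import Groth.Agent.S1923

/-!
# `i^*(div_N t) ∼ c₁(N|_D) ∩ [D]_{n-1}` on an effective Cartier divisor `D = Z(s)` (S1930)

Assembly: the relative key formula for the pair `(N, L)` at the generic point, with the rational
sections of `L` given by `s` off `D` (so the tame symbols are `1` off `D`), S1923
(`div_L(s) = [Z(s)]_{n-1}`), `[Z(s)]_{n-1} = [D]_{n-1}` and the closed-immersion dictionary.
-/

set_option autoImplicit false
set_option linter.style.haveILetI false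
universe u
open CategoryTheory AlgebraicGeometry TopologicalSpace Opposite

namespace Groth.Agent.H34.DivMain

open Groth.Agent.H34.DivPieces
open Groth.Agent.H34.SubPieces Groth.Agent.H34.SubMain Groth.Agent.H34.DivCap
open Groth.Agent.H34.KeyRel

/-- S1930. -/
theorem main (X D : Scheme.{u}) [IsIntegral X] (δ : X → ℤ) (hX : Cyc.IsSetup X δ) (n : ℤ)
    (hn : δ (genericPoint X) = n) (L : X.Modules) (hL : PicF.IsInvertible L)
    (s : L.presheaf.obj (Opposite.op ⊤))
    (hreg : ∀ x : X, Function.Injective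
      (fun a : X.presheaf.stalk x => a • (L.presheaf.germ ⊤ x trivial) s))
    (i : D ⟶ X) [IsClosedImmersion i] (hD : Cyc.IsZeroSchemeOf i L s) (N : X.Modules)
    (hN : PicF.IsInvertible N) (t : Cyc.secFibre N (genericPoint X)) (ht : t ≠ 0)
    (w : (ξ : X) → Cyc.secFibre L ξ) (hw : ∀ ξ, w ξ ≠ 0)
    (u : (d : D) → Cyc.secFibre ((Scheme.Modules.pullback i).obj N) d) (hu : ∀ d, u d ≠ 0)
    (γ₁ γ₂ : AlgebraicCycle D ℤ)
    (h₁ : ∀ d : D, γ₁ d = Cyc.c1CapFun δ L (Cyc.secDivFun δ N (genericPoint X) t)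
      (Cyc.gysinChoice L s w) (i d))
    (h₂ : ⇑γ₂ = Cyc.c1CapFun (fun d => δ (i d)) ((Scheme.Modules.pullback i).obj N)
      (Cyc.subschemeFun (fun d => δ (i d)) (n - 1) (𝟙 D)) u) :
    Cyc.RatEquiv (fun d => δ (i d)) (n - 2) γ₁ γ₂ := by
  classical
  have hinj : Function.Injective (i : D → X) := i.isClosedEmbedding.injective
  obtain ⟨sN, hsN⟩ := exists_secFibre_ne_zero N hN
  obtain ⟨sL, hsLdef⟩ : ∃ v, v = Cyc.gysinChoice L s w := ⟨_, rfl⟩
  have hsL : ∀ ξ, sL ξ ≠ 0 := fun ξ => by
    rw [hsLdef]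
    exact gysinChoice_ne_zero L s w hw ξ
  rw [← hsLdef] at h₁
  have hsη : (Submodule.Quotient.mk ((L.presheaf.germ ⊤ (genericPoint X) trivial) s) : Cyc.secFibre L (genericPoint X)) ≠ 0 := by
    exact mk_germ_genericPoint_ne_zero L s (hreg _)
  have esLη : sL (genericPoint X) = (Submodule.Quotient.mk ((L.presheaf.germ ⊤ (genericPoint X) trivial) s) :
      Cyc.secFibre L (genericPoint X)) := by
    rw [hsLdef]
    exact gysinChoice_eq L s w (genericPoint X) hsη
  have hgermη : (L.presheaf.germ ⊤ (genericPoint X) trivial) s ≠ 0 := by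
    intro h0
    apply hsη
    rw [h0]
    exact Submodule.Quotient.mk_zero _
  -- the tame symbols
  obtain ⟨g, hgdef⟩ : ∃ g : (ξ : X) → X.residueField ξ,
      g = gRel δ hN hL (genericPoint X) t (sL (genericPoint X)) sL sN := ⟨_, rfl⟩
  have hg0 : ∀ ξ, g ξ ≠ 0 := fun ξ => by
    rw [hgdef]
    exact gRel_ne_zero δ hX hN hL (genericPoint X) t ht (sL (genericPoint X)) (hsL (genericPoint X)) sL hsL sN hsN ξ
  have hg1 : ∀ ξ, g ξ ≠ 1 → (genericPoint X) ⤳ ξ ∧ δ ξ + 1 = δ (genericPoint X) := fun ξ h => by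
    rw [hgdef] at h
    exact gRel_ne_one h
  have hglf : ∀ x : X, ∃ U : Set X, IsOpen U ∧ x ∈ U ∧
      {y : X | g y ≠ 1 ∧ (closure {y} ∩ U).Nonempty}.Finite := fun x => by
    rw [hgdef]
    exact locallyFinite_gRel δ hX hN hL (genericPoint X) t ht (sL (genericPoint X)) (hsL (genericPoint X)) sL sN x
  have hgsum : ∀ x, ∑ᶠ ξ : X, Cyc.divFun δ ξ (g ξ) x =
      Cyc.c1CapFun δ L (Cyc.secDivFun δ N (genericPoint X) t) sL x -
        Cyc.c1CapFun δ N (Cyc.secDivFun δ L (genericPoint X) (sL (genericPoint X))) sN x := fun x => by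
    rw [hgdef]
    exact gRel_sum δ hX hN hL (genericPoint X) t ht (sL (genericPoint X)) (hsL (genericPoint X)) sL hsL sN hsN x
  have hsupp : ∀ ξ, g ξ ≠ 1 → ξ ∈ Set.range i := by
    intro ξ hne
    by_contra hξ
    apply hne
    rw [hD.1] at hξ
    have e1 := gysinChoice_eq L s w ξ hξ
    rw [← hsLdef] at e1
    rw [hgdef]
    exact gRel_eq_one_of_common_section δ hX hN hL (genericPoint X) t ht (sL (genericPoint X)) (hsL (genericPoint X)) sL sN ξ s esLη e1
      (hsL ξ)
  -- `div_L(s) = [D]_{n-1}`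
  have e23 : Cyc.secDivFun δ L (genericPoint X) (sL (genericPoint X)) = Cyc.subschemeFun δ (n - 1) i := by
    rw [esLη, Groth.Agent.S1923.result X δ hX n hn L hL s hgermη,
      zeroSectionFun_eq_subschemeFun δ (n - 1) L hL s i hD]
  -- dimension of `D`
  have hYd : ∀ d : D, δ (i d) ≤ (n - 2) + 1 := by
    intro d
    have hsp : (genericPoint X) ⤳ i d := genericPoint_specializes (i d)
    have hne : (genericPoint X) ≠ i d := by
      intro h
      have hmem : i d ∈ Set.range i := ⟨d, rfl⟩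
      rw [hD.1, ← h] at hmem
      exact hsη hmem
    have := (hX.2.2 (genericPoint X) (i d) hsp hne).1
    omega
  have hk : n - 2 + 1 = n - 1 := by ring
  obtain ⟨g', hg'0, hg'⟩ := c1Cap_subscheme_closedImmersion i δ hX hN (n - 2) hYd sN hsN u hu
  rw [hk] at hg'
  set m : D → ℤ := Cyc.subschemeFun (fun d => δ (i d)) (n - 1) (𝟙 D) with hm
  show Cyc.RatEquivZero (fun d => δ (i d)) (n - 2) (γ₁ - γ₂)
  refine ⟨{d : D // δ (i d) = n - 1}, fun j => j.1,
    fun j => (i.residueFieldMap j.1).hom (g (i j.1) * (g' j.1) ^ (-(m j.1))),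
    fun j => by have := j.2; show δ (i j.1) = n - 2 + 1; omega,
    fun j => (map_ne_zero _).mpr (mul_ne_zero (hg0 _) (zpow_ne_zero _ (hg'0 _))), ?_, ?_⟩
  · refine Groth.Agent.S1918.locallyFinite_pre i (fun j : {d : D // δ (i d) = n - 1} => j.1)
      (fun x => ?_)
    obtain ⟨U, hUo, hxU, hfin⟩ := locallyFinite_top_points i δ hX (n - 2) hYd x
    refine ⟨U, hUo, hxU, ?_⟩
    have e : {j : {d : D // δ (i d) = n - 1} | (closure {i j.1} ∩ U).Nonempty} ⊆
        Subtype.val ⁻¹' {d : D | δ (i d) = n - 2 + 1 ∧ (closure {i d} ∩ U).Nonempty} :=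
      fun j hj => ⟨by have := j.2; omega, hj⟩
    exact (hfin.preimage Subtype.val_injective.injOn).subset e
  · intro d'
    rw [Function.locallyFinsuppWithin.coe_sub, Pi.sub_apply, h₁ d', h₂, hg' d', ← e23]
    have hA := hgsum (i d')
    -- reindex the tame symbols over `D`
    have hG : ∑ᶠ ξ : X, Cyc.divFun δ ξ (g ξ) (i d') =
        ∑ᶠ d : D, Cyc.divFun δ (i d) (g (i d)) (i d') := by
      refine finsum_eq_finsum_comp_of_support_subset_range (i : D → X) hinj
        (fun ξ => Cyc.divFun δ ξ (g ξ) (i d')) (fun ξ hξ => ?_)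
      refine hsupp ξ (fun h1 => hξ ?_)
      show Cyc.divFun δ ξ (g ξ) (i d') = 0
      rw [h1]
      exact divFun_one δ ξ (i d')
    obtain ⟨U, hUo, hxU, hfin⟩ := locallyFinite_top_points i δ hX (n - 2) hYd (i d')
    obtain ⟨U', hU'o, hxU', hfin'⟩ := hglf (i d')
    have hGfin : (Function.support fun d : D => Cyc.divFun δ (i d) (g (i d)) (i d')).Finite := by
      refine (hfin'.preimage hinj.injOn).subset (fun d hd => ?_)
      have h1 : g (i d) ≠ 1 := fun h1 => hd (by
        show Cyc.divFun δ (i d) (g (i d)) (i d') = 0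
        rw [h1]
        exact divFun_one δ _ _)
      have hsp : i d ⤳ i d' := by
        by_contra hn'
        exact hd (Groth.Agent.H95.C1Cap.divFun_eq_zero δ _ _ _ hn')
      exact ⟨h1, i d', specializes_iff_mem_closure.mp hsp, hxU'⟩
    have hBfin : (Function.support fun d : D =>
        m d * Cyc.divFun δ (i d) (g' d) (i d')).Finite := by
      refine hfin.subset (fun d hd => ?_)
      have h1 : m d ≠ 0 := left_ne_zero_of_mul hd
      have h2 : Cyc.divFun δ (i d) (g' d) (i d') ≠ 0 := right_ne_zero_of_mul hd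
      have hsp : i d ⤳ i d' := by
        by_contra hn'
        exact h2 (Groth.Agent.H95.C1Cap.divFun_eq_zero δ _ _ _ hn')
      have := subschemeFun_ne_zero (fun d => δ (i d)) (n - 1) d h1
      exact ⟨by omega, i d', specializes_iff_mem_closure.mp hsp, hxU⟩
    have hterm : ∀ d : D, Cyc.divFun (fun d => δ (i d)) d
        ((i.residueFieldMap d).hom (g (i d) * (g' d) ^ (-(m d)))) d' =
        Cyc.divFun δ (i d) (g (i d)) (i d') - m d * Cyc.divFun δ (i d) (g' d) (i d') := by
      intro d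
      rw [divFun_closedImmersion i δ d d', divFun_mul δ _ (hg0 _) (zpow_ne_zero _ (hg'0 _)),
        Groth.Agent.H95.C1Cap.divFun_zpow δ _ (hg'0 d)]
      ring
    have hR : ∑ᶠ j : {d : D // δ (i d) = n - 1}, Cyc.divFun (fun d => δ (i d)) j.1
        ((i.residueFieldMap j.1).hom (g (i j.1) * (g' j.1) ^ (-(m j.1)))) d' =
        ∑ᶠ d : D, (Cyc.divFun δ (i d) (g (i d)) (i d') -
          m d * Cyc.divFun δ (i d) (g' d) (i d')) := by
      rw [finsum_eq_finsum_comp_of_support_subset_range
        (Subtype.val : {d : D // δ (i d) = n - 1} → D) Subtype.val_injective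
        (fun d => Cyc.divFun δ (i d) (g (i d)) (i d') -
          m d * Cyc.divFun δ (i d) (g' d) (i d')) ?_]
      · exact finsum_congr (fun j => hterm j.1)
      · intro d hd
        by_contra hr
        apply hd
        have hδ : δ (i d) ≠ n - 1 := fun h => hr ⟨⟨d, h⟩, rfl⟩
        have h1 : g (i d) = 1 := by
          by_contra hne
          have := (hg1 _ hne).2
          omega
        have h2 : m d = 0 := by
          by_contra hne
          exact hδ (subschemeFun_ne_zero (fun d => δ (i d)) (n - 1) d hne)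
        show Cyc.divFun δ (i d) (g (i d)) (i d') - m d * _ = 0
        rw [h1, h2, divFun_one, zero_mul, sub_zero]
    rw [hR, finsum_sub_distrib hGfin hBfin, ← hG, hA]
    ring

end Groth.Agent.H34.DivMain
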