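import Groth.Agent.H54.StubDiv_SN
import Groth.Agent.H60.StubDiv_ZS

/-!
# Pieces for S1930 (squad #5): adapter re-exporting the providers' theorems

* (ZS) `zeroSectionFun_eq_subschemeFun` — helper60 (`Groth.Agent.H60.StubDiv_ZS`)
* (NZ) `exists_secFibre_ne_zero`, (SN) `mk_germ_genericPoint_ne_zero` — helper54
  (`Groth.Agent.H54.StubDiv_SN`)
-/

set_option autoImplicit false
universe u
open CategoryTheory AlgebraicGeometry TopologicalSpace Opposite

namespace Groth.Agent.H34.DivPieces

variable {X D : Scheme.{u}}

/-- (ZS) The cycle of the zero scheme of a section, computed by `zeroSectionFun` and by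
`subschemeFun`. -/
theorem zeroSectionFun_eq_subschemeFun (δ : X → ℤ) (k : ℤ) (L : X.Modules)
    (hL : PicF.IsInvertible L) (s : L.presheaf.obj (Opposite.op ⊤)) (i : D ⟶ X)
    [IsClosedImmersion i] (hD : Cyc.IsZeroSchemeOf i L s) :
    Cyc.zeroSectionFun δ k L s = Cyc.subschemeFun δ k i :=
  Groth.Agent.H60.StubDiv_ZS.zeroSectionFun_eq_subschemeFun δ k L hL s i hD

/-- (NZ) An invertible module has a nowhere zero family of rational sections. -/
theorem exists_secFibre_ne_zero (N : X.Modules) (hN : PicF.IsInvertible N) :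
    ∃ v : (ξ : X) → Cyc.secFibre N ξ, ∀ ξ, v ξ ≠ 0 :=
  Groth.Agent.H54.StubDiv_SN.exists_secFibre_ne_zero N hN

/-- (SN) A section which is a nonzerodivisor at the generic point of an integral scheme is
nonzero in the fibre at the generic point. -/
theorem mk_germ_genericPoint_ne_zero [IsIntegral X] (L : X.Modules)
    (s : L.presheaf.obj (Opposite.op ⊤))
    (hreg : Function.Injective (fun a : X.presheaf.stalk (genericPoint X) =>
      a • (L.presheaf.germ ⊤ (genericPoint X) trivial) s)) :
    (Submodule.Quotient.mk ((L.presheaf.germ ⊤ (genericPoint X) trivial) s) :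
      Cyc.secFibre L (genericPoint X)) ≠ 0 :=
  Groth.Agent.H54.StubDiv_SN.mk_germ_genericPoint_ne_zero L s hreg

end Groth.Agent.H34.DivPieces
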