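import Mathlib
import Groth.Agent.H34.Euclid1

set_option autoImplicit false
set_option linter.style.haveILetI false

/-!
# S1836: local monomial factorizations in a finite extension of a one-dimensional local ring
-/

namespace Groth.Agent.H34.Euclid1

open IsLocalRing
open Groth.Agent.H34.RelLen

universe u

theorem final (A : Type u) [CommRing A] [IsNoetherianRing A] [IsLocalRing A]
    (hA : ringKrullDim A = 1) (r : ℕ) (a : Fin r → A) (ha : ∀ i, a i ∈ nonZeroDivisors A) :
    ∃ (B : Type u) (_ : CommRing B) (_ : Algebra A B),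
      (Function.Injective (algebraMap A B) ∧ Module.Finite A B ∧
        ∃ n : ℕ, ∀ r ∈ maximalIdeal A ^ n, ∀ b : B, r • b ∈ (algebraMap A B).range) ∧
      ∀ q : MaximalSpectrum B, ∃ π : Localization.AtPrime q.asIdeal,
        π ∈ nonZeroDivisors (Localization.AtPrime q.asIdeal) ∧
        ∀ i, ∃ (v : (Localization.AtPrime q.asIdeal)ˣ) (e : ℕ),
          algebraMap A (Localization.AtPrime q.asIdeal) (a i) =
            (v : Localization.AtPrime q.asIdeal) * π ^ e := by
  classical
  have hdim : Ring.KrullDimLE 1 A := Ring.krullDimLE_iff.mpr (by rw [hA, Nat.cast_one])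
  set M : Submonoid A := nonZeroDivisors A with hMdef
  set Q := Localization M with hQ
  set ι := algebraMap A Q with hι
  have hιinj : Function.Injective ι := IsLocalization.injective Q (le_refl M)
  set l : List Q := List.ofFn (fun i => ι (a i)) with hl
  have hbotfg : (Subalgebra.toSubmodule (⊥ : Subalgebra A Q)).FG := by
    rw [Algebra.toSubmodule_bot, Submodule.one_eq_span]
    exact Submodule.fg_span_singleton _
  have hlB : ∀ α ∈ l, α ∈ (⊥ : Subalgebra A Q) ∧ IsUnit α := by
    intro α hα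
    rw [hl, List.mem_ofFn] at hα
    obtain ⟨i, rfl⟩ := hα
    exact ⟨Subalgebra.algebraMap_mem _ _, IsLocalization.map_units Q (⟨a i, ha i⟩ : M)⟩
  obtain ⟨D, -, hDfg, hD⟩ := main M hA (le_refl M) l.length l rfl ⊥ hbotfg hlB
  refine ⟨D, inferInstance, inferInstance, ⟨?_, Module.Finite.of_fg hDfg, ?_⟩, ?_⟩
  · intro x y hxy
    exact hιinj (congrArg Subtype.val hxy)
  · obtain ⟨c, hc, hcD⟩ := exists_smul_mem_bot M _ hDfg
    have hrad : maximalIdeal A ≤ (Ideal.span {c}).radical := by
      rw [Ideal.radical_eq_sInf]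
      refine le_sInf ?_
      rintro P ⟨hcP, hP⟩
      have hcP' : c ∈ P := hcP (Ideal.mem_span_singleton_self _)
      rcases (Ring.krullDimLE_one_iff.mp hdim) P hP with hmin | hmax
      · exact absurd hc (notMem_nonZeroDivisors_of_mem_mem_minimalPrimes hcP' hmin)
      · rw [eq_maximalIdeal hmax]
    obtain ⟨n, hn⟩ := Ideal.exists_pow_le_of_le_radical_of_fg hrad (IsNoetherian.noetherian _)
    refine ⟨n, fun r hr y => ?_⟩
    obtain ⟨r', hr'⟩ := Ideal.mem_span_singleton'.mp (hn hr)
    obtain ⟨z, hz⟩ := hcD (y : Q) y.2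
    refine ⟨r' * z, Subtype.ext ?_⟩
    show ι (r' * z) = r • (y : Q)
    rw [map_mul, hz, ← hr', Algebra.smul_def, Algebra.smul_def, map_mul]
    ring
  · intro q
    obtain ⟨π, hπ, hmon⟩ := hD q
    refine ⟨π, hπ, fun i => ?_⟩
    have hmem : ι (a i) ∈ l := by
      rw [hl, List.mem_ofFn]
      exact ⟨i, rfl⟩
    have h1 := hmon (ι (a i)) hmem (D.algebraMap_mem (a i))
    obtain ⟨v, e, hve⟩ := h1
    refine ⟨v, e, ?_⟩
    rw [IsScalarTower.algebraMap_apply A D (Localization.AtPrime q.asIdeal)]
    exact hve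

end Groth.Agent.H34.Euclid1
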