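import Mathlib

namespace Groth.Agent.H34.FPFactor

open TensorProduct LinearMap

universe u

theorem factor (R : Type u) [CommRing R] {P M Q : Type u}
    [AddCommGroup P] [Module R P] [Module.FinitePresentation R P] [AddCommGroup M] [Module R M]
    [AddCommGroup Q] [Module R Q] (f : P →ₗ[R] M) (x : P ⊗[R] Q) (hx : f.rTensor Q x = 0) :
    ∃ (P' : Type u) (_ : AddCommGroup P') (_ : Module R P') (_ : Module.FinitePresentation R P')
      (f' : P →ₗ[R] P') (h : P' →ₗ[R] M), f = h ∘ₗ f' ∧ f'.rTensor Q x = 0 := by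
  classical
  have hP₀fg : (LinearMap.range f).FG := by
    rw [LinearMap.range_eq_map]; exact Submodule.FG.map _ Module.Finite.fg_top
  have hsub : (LinearMap.range f).subtype ∘ₗ f.rangeRestrict = f := by ext p; rfl
  have ht0 : rTensor Q (LinearMap.range f).subtype (rTensor Q f.rangeRestrict x) = 0 := by
    rw [← LinearMap.comp_apply, ← LinearMap.rTensor_comp, hsub]
    exact hx
  obtain ⟨J, hPJ, hJfg, hJ0⟩ := TensorProduct.eq_zero_of_fg_of_subtype_eq_zero hP₀fg ht0
  set g : P →ₗ[R] J := (Submodule.inclusion hPJ) ∘ₗ f.rangeRestrict with hg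
  have hg0 : rTensor Q g x = 0 := by
    rw [hg, LinearMap.rTensor_comp, LinearMap.comp_apply]; exact hJ0
  have : Module.Finite R J := Module.Finite.iff_fg.mpr hJfg
  obtain ⟨n, π, hπ⟩ := Module.Finite.exists_fin' R J
  set φ : (P × (Fin n → R)) →ₗ[R] J := g.coprod π with hφ
  have hφs : Function.Surjective φ := fun j => by
    obtain ⟨v, rfl⟩ := hπ j
    exact ⟨(0, v), by simp [hφ]⟩
  have hex : Function.Exact (rTensor Q (LinearMap.ker φ).subtype) (rTensor Q φ) :=
    rTensor_exact Q (LinearMap.exact_subtype_ker_map φ) hφs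
  have hφinl : φ ∘ₗ LinearMap.inl R P (Fin n → R) = g := by
    ext p; simp [hφ]
  have hy0 : rTensor Q φ (rTensor Q (LinearMap.inl R P (Fin n → R)) x) = 0 := by
    rw [← LinearMap.comp_apply, ← LinearMap.rTensor_comp, hφinl]; exact hg0
  obtain ⟨z, hz⟩ := (hex _).mp hy0
  obtain ⟨N₀, hN₀fg, w, hw⟩ := Submodule.exists_fg_le_eq_rTensor_subtype z
  set N : Submodule R (P × (Fin n → R)) := N₀.map (LinearMap.ker φ).subtype with hN
  have hNfg : N.FG := hN₀fg.map _
  have hNle : N ≤ LinearMap.ker φ := by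
    rw [hN]; exact Submodule.map_subtype_le _ _
  refine ⟨(P × (Fin n → R)) ⧸ N, inferInstance, inferInstance, ?_,
    N.mkQ ∘ₗ LinearMap.inl R P (Fin n → R), J.subtype ∘ₗ N.liftQ φ hNle, ?_, ?_⟩
  · exact Module.finitePresentation_of_surjective N.mkQ (Submodule.mkQ_surjective N)
      (by rw [Submodule.ker_mkQ]; exact hNfg)
  · ext p
    simp [hφ, hg]
  · rw [LinearMap.rTensor_comp, LinearMap.comp_apply, ← hz, hw,
      ← LinearMap.comp_apply, ← LinearMap.comp_apply, ← LinearMap.rTensor_comp,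
      ← LinearMap.rTensor_comp]
    have h0 : (N.mkQ ∘ₗ (LinearMap.ker φ).subtype) ∘ₗ N₀.subtype = 0 := by
      refine LinearMap.ext fun k => ?_
      change Submodule.Quotient.mk ((k : LinearMap.ker φ) : P × (Fin n → R)) = 0
      rw [Submodule.Quotient.mk_eq_zero]
      exact Submodule.mem_map.mpr ⟨k.1, k.2, rfl⟩
    rw [h0, LinearMap.rTensor_zero]; rfl

end Groth.Agent.H34.FPFactor
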