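import Mathlib
import Groth.Agent.H34.FSCompl
import Groth.Agent.S9259
import Groth.Agent.S2461
import Groth.Agent.S8804
import Groth.Agent.S0598

/-! Over a G-ring, Noetherian algebras which are formally smooth for an adic topology defined by an
ideal in the Jacobson radical are regular; completions of formally smooth Noetherian algebras
(helper34). -/

set_option autoImplicit false
universe u
open TensorProduct IsLocalRing

namespace Groth.Agent.H34.FSComplRegular

/-- Adic formal smoothness over a discrete base passes to localizations at primes. -/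
theorem fs_localization_bot {A B : Type u} [CommRing A] [CommRing B] [Algebra A B]
    (p : Ideal A) [p.IsPrime] (n : Ideal B) [n.IsPrime] (𝔟 : Ideal B) (h𝔟 : 𝔟 ≤ n)
    [Algebra (Localization.AtPrime p) (Localization.AtPrime n)]
    (hcomm : ∀ a : A, algebraMap (Localization.AtPrime p) (Localization.AtPrime n)
      (algebraMap A (Localization.AtPrime p) a) =
        algebraMap B (Localization.AtPrime n) (algebraMap A B a))
    (h : EGA41.IsFormallySmoothAdic A ⊥ B 𝔟) :
    CAlgX.IsAdicFormallySmooth (Localization.AtPrime p) (Localization.AtPrime n)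
      (maximalIdeal (Localization.AtPrime n)) := by
  intro C _ algC J hJ ψ hψ
  obtain ⟨k, hk⟩ := hψ
  let algAC : Algebra A C :=
    ((algebraMap (Localization.AtPrime p) C).comp
      (algebraMap A (Localization.AtPrime p))).toAlgebra
  have tow : IsScalarTower A (Localization.AtPrime p) C :=
    IsScalarTower.of_algebraMap_eq (fun _ => rfl)
  let u : B →ₐ[A] C ⧸ J :=
    { (ψ.toRingHom.comp (algebraMap B (Localization.AtPrime n))) with
      commutes' := fun a => by
        show ψ (algebraMap B (Localization.AtPrime n) (algebraMap A B a)) =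
          algebraMap A (C ⧸ J) a
        rw [← hcomm, ψ.commutes]
        rfl }
  have hu : ∀ x ∈ 𝔟 ^ k, u x = 0 := fun x hx => by
    show ψ (algebraMap B (Localization.AtPrime n) x) = 0
    apply hk
    rw [← Localization.AtPrime.map_eq_maximalIdeal (I := n), ← Ideal.map_pow]
    exact Ideal.mem_map_of_mem _ (Ideal.pow_right_mono h𝔟 k hx)
  obtain ⟨v, hv⟩ := h C J ⟨2, hJ⟩ ⟨1, by rw [pow_one, Ideal.map_bot]⟩ u ⟨k, hu⟩
  have hv' : ∀ b : B, Ideal.Quotient.mk J (v b) =
      ψ (algebraMap B (Localization.AtPrime n) b) := fun b => AlgHom.congr_fun hv b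
  have hunit : ∀ s : n.primeCompl, IsUnit (v.toRingHom s) := fun s => by
    rw [← IsNilpotent.isUnit_quotient_mk_iff (I := J) ⟨2, hJ⟩]
    show IsUnit (Ideal.Quotient.mk J (v s))
    rw [hv']
    exact (IsLocalization.map_units (Localization.AtPrime n) s).map ψ
  let χ₀ : Localization.AtPrime n →+* C :=
    IsLocalization.lift (M := n.primeCompl) (g := v.toRingHom) hunit
  have hχ₀ : ∀ b : B, χ₀ (algebraMap B (Localization.AtPrime n) b) = v b :=
    fun b => IsLocalization.lift_eq hunit b
  have hcommχ : ∀ x : Localization.AtPrime p,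
      χ₀ (algebraMap (Localization.AtPrime p) (Localization.AtPrime n) x) =
        algebraMap (Localization.AtPrime p) C x := by
    have : (χ₀.comp (algebraMap (Localization.AtPrime p) (Localization.AtPrime n))) =
        algebraMap (Localization.AtPrime p) C := by
      apply IsLocalization.ringHom_ext p.primeCompl
      ext a
      show χ₀ (algebraMap _ _ (algebraMap A _ a)) = algebraMap _ C (algebraMap A _ a)
      rw [hcomm, hχ₀, v.commutes]
      rfl
    exact fun x => RingHom.congr_fun this x
  refine ⟨{ χ₀ with commutes' := hcommχ }, ?_⟩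
  apply AlgHom.coe_ringHom_injective
  apply IsLocalization.ringHom_ext n.primeCompl
  ext b
  show Ideal.Quotient.mk J (χ₀ (algebraMap B _ b)) = ψ (algebraMap B _ b)
  rw [hχ₀, hv']

/-- Over a G-ring `D`, a Noetherian `D`-algebra `B` which is formally smooth for the adic topology
of an ideal contained in the Jacobson radical is regular over `D`. -/
theorem isRegularHom_of_fs_jacobson (D B : Type u) [CommRing D] [CommRing B] [Algebra D B]
    (hD : CAlg.IsGRing D) [IsNoetherianRing B] (𝔟 : Ideal B)
    (h𝔟 : 𝔟 ≤ Ideal.jacobson ⊥) (h : EGA41.IsFormallySmoothAdic D ⊥ B 𝔟) :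
    CAlg.IsRegularHom D B := by
  have hN := hD.1
  refine (Groth.Agent.S9259.result D B).2.mpr ?_
  intro n hn
  let alg : Algebra (Localization.AtPrime (Ideal.comap (algebraMap D B) n))
      (Localization.AtPrime n) :=
    (Localization.localRingHom (Ideal.comap (algebraMap D B) n) n (algebraMap D B) rfl).toAlgebra
  have hloc : IsLocalHom (algebraMap
      (Localization.AtPrime (Ideal.comap (algebraMap D B) n)) (Localization.AtPrime n)) :=
    Localization.isLocalHom_localRingHom _ _ _ _
  have hle : 𝔟 ≤ n := h𝔟.trans (sInf_le ⟨bot_le, hn⟩)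
  have hfs := fs_localization_bot (Ideal.comap (algebraMap D B) n) n 𝔟 hle
    (fun a => Localization.localRingHom_to_map _ _ _ rfl a) h
  exact Groth.Agent.H34.FSCompl.isRegularHom_of_fs _ _ (hD.2 _) hfs

/-- The completion (along any ideal) of a Noetherian formally smooth algebra over a G-ring is
regular over the base. -/
theorem isRegularHom_adicCompletion_of_formallySmooth (D P : Type u) [CommRing D] [CommRing P]
    [Algebra D P] (hD : CAlg.IsGRing D) [IsNoetherianRing P] [Algebra.FormallySmooth D P]
    (𝔟 : Ideal P) : CAlg.IsRegularHom D (AdicCompletion 𝔟 P) := by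
  have hfg : 𝔟.FG := (isNoetherianRing_iff_ideal_fg P).mp inferInstance 𝔟
  have hNB : IsNoetherianRing (AdicCompletion 𝔟 P) :=
    Groth.Agent.Lead.isNoetherianRing_adicCompletion 𝔟 hfg
  have hc : IsAdicComplete (𝔟.map (algebraMap P (AdicCompletion 𝔟 P))) (AdicCompletion 𝔟 P) :=
    AdicCompletion.isAdicComplete_self 𝔟 hfg
  have h0 : EGA41.IsFormallySmoothAdic D ⊥ P 𝔟 := by
    intro C _ _ J hJ _ u _
    exact Algebra.FormallySmooth.exists_lift J hJ u
  have h1 := (Groth.Agent.S2461.result (A := D) ⊥ 𝔟).mp h0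
  exact isRegularHom_of_fs_jacobson D _ hD _ (IsAdicComplete.le_jacobson_bot _) h1

/-- For a rig-closed prime `p` of an `I`-adically complete Noetherian ring `A`, `A/p` is a G-ring
(it is a complete local domain). -/
theorem isGRing_quotient_rigClosed (A : Type u) [CommRing A] [IsNoetherianRing A] (I : Ideal A)
    [IsAdicComplete I A] (p : PrimeSpectrum A)
    (hp : ¬ I ≤ p.asIdeal ∧ ∀ q : PrimeSpectrum A, p ≤ q → ¬ I ≤ q.asIdeal → q = p) :
    CAlg.IsGRing (A ⧸ p.asIdeal) := by
  have h := ((Groth.Agent.S8804.result A I p).out 0 2).mp hp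
  obtain ⟨-, hmax, hc⟩ := h
  have hdom : IsDomain (A ⧸ p.asIdeal) := Ideal.Quotient.isDomain _
  obtain ⟨m, hm⟩ := Ideal.exists_maximal (A ⧸ p.asIdeal)
  have hR : ((I.map (Ideal.Quotient.mk p.asIdeal)).radical).IsMaximal := hmax m hm ▸ hm
  have hloc : IsLocalRing (A ⧸ p.asIdeal) :=
    IsLocalRing.of_unique_max_ideal ⟨_, hR, fun m' hm' => hmax m' hm'⟩
  have e : maximalIdeal (A ⧸ p.asIdeal) = (I.map (Ideal.Quotient.mk p.asIdeal)).radical :=
    (IsLocalRing.eq_maximalIdeal hR).symm
  have hc' : IsAdicComplete (maximalIdeal (A ⧸ p.asIdeal)) (A ⧸ p.asIdeal) := e ▸ hc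
  exact Groth.Agent.S0598.result (A ⧸ p.asIdeal)

theorem main (A : Type u) [CommRing A] [IsNoetherianRing A] (I : Ideal A) [IsAdicComplete I A]
    (p : PrimeSpectrum A)
    (hp : ¬ I ≤ p.asIdeal ∧ ∀ q : PrimeSpectrum A, p ≤ q → ¬ I ≤ q.asIdeal → q = p) (n : ℕ) :
    CAlg.IsRegularHom (A ⧸ p.asIdeal)
      (AdicCompletion (I.map (algebraMap A (MvPolynomial (Fin n) (A ⧸ p.asIdeal))))
        (MvPolynomial (Fin n) (A ⧸ p.asIdeal))) :=
  isRegularHom_adicCompletion_of_formallySmooth _ _ (isGRing_quotient_rigClosed A I p hp) _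

end Groth.Agent.H34.FSComplRegular
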