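import Mathlib

set_option autoImplicit false
open CategoryTheory CategoryTheory.Limits

namespace Groth.Agent.H34

theorem finite_structuredArrow {A B : Type} [SmallCategory A] [SmallCategory B] (L : A ⥤ B) (Y : B)
    [Finite A] [∀ b b' : B, Finite (b ⟶ b')] : Finite (StructuredArrow Y L) := by
  apply Finite.of_injective (fun x : StructuredArrow Y L => (⟨x.right, x.hom⟩ : Σ a : A, Y ⟶ L.obj a))
  rintro ⟨⟨⟨⟩⟩, a, f⟩ ⟨⟨⟨⟩⟩, a', f'⟩ h
  simp only [Sigma.mk.injEq] at h
  obtain ⟨rfl, h2⟩ := h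
  have : f = f' := eq_of_heq h2
  subst this
  rfl

theorem finite_structuredArrow_hom {A B : Type} [SmallCategory A] [SmallCategory B] (L : A ⥤ B)
    (Y : B) [∀ a a' : A, Finite (a ⟶ a')] (x y : StructuredArrow Y L) : Finite (x ⟶ y) := by
  apply Finite.of_injective (fun φ : x ⟶ y => φ.right)
  intro φ ψ h
  exact StructuredArrow.hom_ext _ _ h

theorem finite_costructuredArrow {A B : Type} [SmallCategory A] [SmallCategory B] (L : A ⥤ B) (Y : B)
    [Finite A] [∀ b b' : B, Finite (b ⟶ b')] : Finite (CostructuredArrow L Y) := by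
  apply Finite.of_injective
    (fun x : CostructuredArrow L Y => (⟨x.left, x.hom⟩ : Σ a : A, L.obj a ⟶ Y))
  rintro ⟨a, ⟨⟨⟩⟩, f⟩ ⟨a', ⟨⟨⟩⟩, f'⟩ h
  simp only [Sigma.mk.injEq] at h
  obtain ⟨rfl, h2⟩ := h
  have : f = f' := eq_of_heq h2
  subst this
  rfl

theorem finite_costructuredArrow_hom {A B : Type} [SmallCategory A] [SmallCategory B] (L : A ⥤ B)
    (Y : B) [∀ a a' : A, Finite (a ⟶ a')] (x y : CostructuredArrow L Y) : Finite (x ⟶ y) := by
  apply Finite.of_injective (fun φ : x ⟶ y => φ.left)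
  intro φ ψ h
  exact CostructuredArrow.hom_ext _ _ h

theorem finite_truncated (m : ℕ) : Finite (SimplexCategory.Truncated m) := by
  apply Finite.of_injective
    (fun a : SimplexCategory.Truncated m => (⟨a.obj.len, Nat.lt_succ_of_le a.property⟩ : Fin (m + 1)))
  rintro ⟨⟨a⟩, ha⟩ ⟨⟨b⟩, hb⟩ h
  simp only [Fin.mk.injEq] at h
  subst h
  rfl

theorem finite_truncated_hom (m : ℕ) (a b : SimplexCategory.Truncated m) : Finite (a ⟶ b) := by
  apply Finite.of_injective (fun φ : a ⟶ b => φ.hom)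
  intro φ ψ h
  exact ObjectProperty.hom_ext _ h

theorem finite_op_hom {A : Type} [SmallCategory A] [∀ a a' : A, Finite (a ⟶ a')] (a b : Aᵒᵖ) :
    Finite (a ⟶ b) := by
  apply Finite.of_injective (fun φ : a ⟶ b => φ.unop)
  intro φ ψ h
  exact Quiver.Hom.unop_inj h

end Groth.Agent.H34
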