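import Groth.Agent.H34.Fitting9

set_option autoImplicit false
universe u v w

namespace Groth.Agent.H34.Fit

open Matrix TensorProduct CategoryTheory

/-- S6897. -/
theorem projdim_split_of_fittIdeal {R : Type u} [CommRing R] (M : Type u)
    [AddCommGroup M] [Module R M] [Module.FinitePresentation R M] (k : ℕ) (f : R)
    (hf0 : f ∈ nonZeroDivisors R)
    (hf : Fitt.ideal R M k = Ideal.span {f}) (hk : k = 0 ∨ Fitt.ideal R M (k - 1) = ⊥) :
    HasProjectiveDimensionLT (ModuleCat.of R M) 2 ∧
    (∀ x : M, (∃ n : ℕ, f ^ n • x = 0) ↔ f • x = 0) ∧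
    HasProjectiveDimensionLT (ModuleCat.of R ↥(LinearMap.ker (f • (LinearMap.id : M →ₗ[R] M)))) 2 ∧
    (∀ (p : Ideal R) [p.IsPrime], ∃ g : R, g ∉ p ∧
      Module.Free (Localization.Away g)
          (LocalizedModule (Submonoid.powers g) (M ⧸ LinearMap.ker (f • (LinearMap.id : M →ₗ[R] M)))) ∧
        Module.finrank (Localization.Away g)
          (LocalizedModule (Submonoid.powers g) (M ⧸ LinearMap.ker (f • (LinearMap.id : M →ₗ[R] M)))) = k) ∧
    Nonempty (M ≃ₗ[R] (M ⧸ LinearMap.ker (f • (LinearMap.id : M →ₗ[R] M))) ×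
      ↥(LinearMap.ker (f • (LinearMap.id : M →ₗ[R] M)))) := by
  classical
  have hfz : ∀ c : R, f * c = 0 → c = 0 := fun c hc =>
    (mul_right_mem_nonZeroDivisors_eq_zero_iff hf0).mp (by rw [mul_comm]; exact hc)
  obtain ⟨n, x, hx⟩ := Module.Finite.exists_fin (R := R) (M := M)
  set M' := LinearMap.ker (f • (LinearMap.id : M →ₗ[R] M)) with hM'
  have hM'mem : ∀ y : M, y ∈ M' ↔ f • y = 0 := fun y => by
    rw [hM', LinearMap.mem_ker]
    rfl
  have hlow : ∀ j, j < k → Fitt.ideal R M j = ⊥ := by
    intro j hj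
    rcases hk with hk | hk
    · omega
    · exact le_bot_iff.mp (hk ▸ fittIdeal_mono (by omega))
  have hx₁ := span_mkQ_eq_top x hx M'
  have htop : Fitt.ideal R (M ⧸ M') k = ⊤ :=
    fittIdeal_quotient_eq_top x hx k f hfz {z | IsRel x z} (fun z hz => hz)
      (by rw [← fittIdeal_eq_minorsIdeal x hx k]; exact hf) M' (fun y hy => (hM'mem y).mpr hy)
  have hbot : ∀ j, j < k → Fitt.ideal R (M ⧸ M') j = ⊥ := fun j hj =>
    fittIdeal_quotient_eq_bot x hx j f (eq_zero_of_pow_mul_eq_zero f hfz) (hlow j hj) M'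
      (fun y hy => ⟨1, by rw [pow_one]; exact (hM'mem y).mp hy⟩)
  have h4 := (locallyFree_iff_fittIdeal (M := M ⧸ M') k).mpr
    ⟨hbot, fun j hj => top_le_iff.mp (htop ▸ fittIdeal_mono hj)⟩
  have hπb : Function.Surjective (Fintype.linearCombination R (fun i => M'.mkQ (x i))) := by
    rw [← LinearMap.range_eq_top, Fintype.range_linearCombination, hx₁]
  have hkb : k = 0 ∨ Fitt.ideal R (M ⧸ M') (k - 1) = ⊥ := by
    rcases Nat.eq_zero_or_pos k with h | h
    · exact Or.inl h
    · exact Or.inr (hbot _ (by omega))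
  have hK1 : minorsIdeal (LinearMap.ker (Fintype.linearCombination R fun i => M'.mkQ (x i)) :
      Set (Fin n → R)) (n - k) = ⊤ := by
    rw [← relSet_eq_ker, ← fittIdeal_eq_minorsIdeal _ hx₁ k]
    exact htop
  have hK2 : minorsIdeal (LinearMap.ker (Fintype.linearCombination R fun i => M'.mkQ (x i)) :
      Set (Fin n → R)) (n - k + 1) = ⊥ := by
    rw [← relSet_eq_ker]
    exact minorsIdeal_succ_eq_bot _ hx₁ k hkb
  obtain ⟨s, hs⟩ := exists_section_of_minorsIdeal _ hπb (n - k) hK1 hK2
  let σ : (M ⧸ M') →ₗ[R] M := (Fintype.linearCombination R x) ∘ₗ s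
  have hσ : ∀ p, M'.mkQ (σ p) = p := by
    intro p
    have h1 : ∀ v : Fin n → R, M'.mkQ (Fintype.linearCombination R x v) =
        Fintype.linearCombination R (fun i => M'.mkQ (x i)) v := by
      intro v
      simp only [Fintype.linearCombination_apply, map_sum, map_smul]
    have h2 := LinearMap.congr_fun hs p
    rw [LinearMap.comp_apply, LinearMap.id_apply] at h2
    show M'.mkQ (Fintype.linearCombination R x (s p)) = p
    rw [h1]
    exact h2
  have htf : ∀ y : M ⧸ M', f • y = 0 → y = 0 := by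
    intro y hy
    have h1 : f • s y = 0 := by rw [← map_smul, hy, map_zero]
    have h2 : s y = 0 := by
      funext i
      have h3 := congrFun h1 i
      exact hfz _ h3
    have h3 := LinearMap.congr_fun hs y
    rw [LinearMap.comp_apply, h2, map_zero, LinearMap.id_apply] at h3
    exact h3.symm
  have htfpow : ∀ m : ℕ, ∀ y' : M ⧸ M', f ^ m • y' = 0 → y' = 0 := by
    intro m
    induction m with
    | zero =>
      intro y' h
      simpa using h
    | succ m ih =>
      intro y' h
      exact ih y' (htf _ (by rw [smul_smul, ← pow_succ']; exact h))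
  have h2 : ∀ y : M, (∃ m : ℕ, f ^ m • y = 0) ↔ f • y = 0 := by
    intro y
    constructor
    · rintro ⟨m, hm⟩
      rw [← hM'mem, ← Submodule.Quotient.mk_eq_zero]
      apply htfpow m
      rw [← Submodule.Quotient.mk_smul, hm, Submodule.Quotient.mk_zero]
    · intro h
      exact ⟨1, by rw [pow_one]; exact h⟩
  let ρ : M →ₗ[R] M' := LinearMap.codRestrict M' (LinearMap.id - σ ∘ₗ M'.mkQ) (fun m => by
    show m - σ (M'.mkQ m) ∈ M'
    rw [← Submodule.Quotient.mk_eq_zero M', Submodule.Quotient.mk_sub,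
      ← Submodule.mkQ_apply M' (σ _), hσ, Submodule.mkQ_apply, sub_self])
  have hmk0 : ∀ m' : M', M'.mkQ (m' : M) = 0 := by
    intro m'
    rw [Submodule.mkQ_apply, Submodule.Quotient.mk_eq_zero]
    exact m'.2
  have hρ : ∀ m' : M', ρ (m' : M) = m' := by
    intro m'
    apply Subtype.ext
    show (m' : M) - σ (M'.mkQ (m' : M)) = m'
    rw [hmk0, map_zero, sub_zero]
  have h5 : Nonempty (M ≃ₗ[R] (M ⧸ M') × M') := by
    refine ⟨LinearEquiv.ofLinear (LinearMap.prod M'.mkQ ρ) (LinearMap.coprod σ M'.subtype) ?_ ?_⟩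
    · refine LinearMap.ext (fun pm => ?_)
      obtain ⟨p, m'⟩ := pm
      have e1 : M'.mkQ (σ p + (m' : M)) = p := by rw [map_add, hσ, hmk0, add_zero]
      apply Prod.ext
      · exact e1
      · apply Subtype.ext
        show (σ p + (m' : M)) - σ (M'.mkQ (σ p + (m' : M))) = m'
        rw [e1]
        abel
    · refine LinearMap.ext (fun m => ?_)
      show σ (M'.mkQ m) + (m - σ (M'.mkQ m)) = m
      abel
  have hproj : Module.Projective R (LinearMap.ker (Fintype.linearCombination R x)) :=
    projective_of_minorsIdeal _ (n - k) f hfz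
      (by rw [← relSet_eq_ker, ← fittIdeal_eq_minorsIdeal x hx k]; exact hf)
      (by rw [← relSet_eq_ker]; exact minorsIdeal_succ_eq_bot x hx k hk)
  have hsurj : Function.Surjective (Fintype.linearCombination R x) := by
    rw [← LinearMap.range_eq_top, Fintype.range_linearCombination, hx]
  have hSE := LinearMap.shortExact_shortComplexKer hsurj
  have h1 : HasProjectiveDimensionLT (ModuleCat.of R M) 2 := by
    have : Projective (ModuleCat.of R (LinearMap.ker (Fintype.linearCombination R x))) :=
      (IsProjective.iff_projective _).mp hproj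
    have : Projective (ModuleCat.of R (Fin n → R)) :=
      (IsProjective.iff_projective _).mp inferInstance
    exact hSE.hasProjectiveDimensionLT_X₃ 1 inferInstance
      (hasProjectiveDimensionLT_of_ge _ 1 2 (by omega))
  have h3 : HasProjectiveDimensionLT (ModuleCat.of R M') 2 := by
    have := h1
    let rt : Retract (ModuleCat.of R M') (ModuleCat.of R M) :=
      { i := ModuleCat.ofHom M'.subtype
        r := ModuleCat.ofHom ρ
        retract := by
          ext m'
          exact congrArg Subtype.val (hρ m') }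
    exact rt.hasProjectiveDimensionLT 2
  exact ⟨h1, h2, h3, h4, h5⟩

end Groth.Agent.H34.Fit
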