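import Groth.Agent.H34.Fitting9

set_option autoImplicit false
universe u v w

namespace Groth.Agent.H34.Fit

open Matrix

variable {R : Type u} [CommRing R]

/-- The ideal of `p × p` minors of a matrix. -/
def matMinors {m n : ℕ} (S : Matrix (Fin n) (Fin m) R) (p : ℕ) : Ideal R :=
  Ideal.span {d | ∃ (e : Fin p → Fin n) (c : Fin p → Fin m), d = (S.submatrix e c).det}

theorem minorsIdeal_range_col {m n : ℕ} (S : Matrix (Fin n) (Fin m) R) (p : ℕ) :
    minorsIdeal (Set.range (fun c : Fin m => fun i : Fin n => S i c)) p = matMinors S p := by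
  apply le_antisymm
  · apply Ideal.span_le.mpr
    rintro d ⟨z, e, hz, rfl⟩
    choose c hc using hz
    apply Ideal.subset_span
    refine ⟨e, c, ?_⟩
    congr 1
    ext a b
    simp only [Matrix.of_apply, Matrix.submatrix_apply]
    exact (congrFun (hc b) (e a)).symm
  · apply Ideal.span_le.mpr
    rintro d ⟨e, c, rfl⟩
    apply Ideal.subset_span
    exact ⟨fun b => fun i => S i (c b), e, fun b => ⟨c b, rfl⟩, rfl⟩

theorem minorsIdeal_range_row {m n : ℕ} (S : Matrix (Fin n) (Fin m) R) (p : ℕ) :
    minorsIdeal (Set.range (fun i : Fin n => fun c : Fin m => S i c)) p = matMinors S p := by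
  apply le_antisymm
  · apply Ideal.span_le.mpr
    rintro d ⟨z, e, hz, rfl⟩
    choose i hi using hz
    apply Ideal.subset_span
    refine ⟨i, e, ?_⟩
    rw [← Matrix.det_transpose]
    congr 1
    ext a b
    simp only [Matrix.of_apply, Matrix.submatrix_apply, Matrix.transpose_apply]
    exact (congrFun (hi a) (e b)).symm
  · apply Ideal.span_le.mpr
    rintro d ⟨e, c, rfl⟩
    apply Ideal.subset_span
    refine ⟨fun b => fun c' => S (e b) c', c, fun b => ⟨e b, rfl⟩, ?_⟩
    rw [← Matrix.det_transpose]
    rfl

theorem matMinors_eq_bot_of_lt {m n : ℕ} (S : Matrix (Fin n) (Fin m) R) (p : ℕ) (h : m < p) :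
    matMinors S p = ⊥ := by
  classical
  rw [eq_bot_iff]
  apply Ideal.span_le.mpr
  rintro d ⟨e, c, rfl⟩
  have hne : ¬ Function.Injective c := by
    intro hc
    have := Fintype.card_le_of_injective c hc
    simp only [Fintype.card_fin] at this
    omega
  rw [Function.Injective] at hne
  simp only [not_forall] at hne
  obtain ⟨a, a', haa, hne'⟩ := hne
  rw [SetLike.mem_coe, Ideal.mem_bot]
  apply Matrix.det_zero_of_column_eq hne'
  intro k
  simp only [Matrix.submatrix_apply]
  rw [haa]

theorem fittIdeal_coker_eq_matMinors {m n : ℕ} (σ : (Fin m → R) →ₗ[R] (Fin n → R)) (k : ℕ) :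
    Fitt.ideal R ((Fin n → R) ⧸ LinearMap.range σ) k =
      matMinors (Matrix.of fun (i : Fin n) (c : Fin m) =>
        σ (fun j => if c = j then 1 else 0) i) (n - k) := by
  classical
  have hx : Submodule.span R (Set.range (fun i : Fin n =>
      (fun j : Fin n => if i = j then (1 : R) else 0))) = ⊤ := by
    rw [eq_top_iff]
    rintro v -
    rw [pi_eq_sum_univ v]
    exact Submodule.sum_mem _ (fun i _ => Submodule.smul_mem _ _ (Submodule.subset_span ⟨i, rfl⟩))
  have hxq := span_mkQ_eq_top _ hx (LinearMap.range σ)
  rw [fittIdeal_eq_minorsIdeal _ hxq k, ← minorsIdeal_range_col]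
  have hrel : {z : Fin n → R | IsRel (fun i : Fin n => (LinearMap.range σ).mkQ
      (fun j : Fin n => if i = j then (1 : R) else 0)) z} =
      (Submodule.span R (Set.range (fun c : Fin m => fun i : Fin n =>
        (Matrix.of fun (i : Fin n) (c : Fin m) => σ (fun j => if c = j then 1 else 0) i) i c)) :
        Set (Fin n → R)) := by
    ext z
    have h1 : (∑ i, z i • (LinearMap.range σ).mkQ
        (fun j : Fin n => if i = j then (1 : R) else 0)) = (LinearMap.range σ).mkQ z := by
      conv_rhs => rw [pi_eq_sum_univ z]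
      rw [map_sum]
      exact Finset.sum_congr rfl (fun i _ => (map_smul _ _ _).symm)
    show (∑ i, z i • (LinearMap.range σ).mkQ
        (fun j : Fin n => if i = j then (1 : R) else 0)) = 0 ↔ z ∈ Submodule.span R _
    rw [h1, Submodule.mkQ_apply, Submodule.Quotient.mk_eq_zero]
    have h2 : LinearMap.range σ = Submodule.span R (Set.range (fun c : Fin m =>
        σ (fun j => if c = j then 1 else 0))) := by
      apply le_antisymm
      · rintro _ ⟨v, rfl⟩
        rw [LinearMap.pi_apply_eq_sum_univ σ v]
        exact Submodule.sum_mem _ (fun c _ => Submodule.smul_mem _ _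
          (Submodule.subset_span ⟨c, rfl⟩))
      · apply Submodule.span_le.mpr
        rintro _ ⟨c, rfl⟩
        exact ⟨_, rfl⟩
    rw [h2]
    rfl
  rw [hrel, minorsIdeal_span]

theorem fittIdeal_coker_dualMap_eq_matMinors {m n : ℕ} (σ : (Fin m → R) →ₗ[R] (Fin n → R))
    (k : ℕ) :
    Fitt.ideal R (Module.Dual R (Fin m → R) ⧸ LinearMap.range σ.dualMap) k =
      matMinors (Matrix.of fun (i : Fin n) (c : Fin m) =>
        σ (fun j => if c = j then 1 else 0) i) (m - k) := by
  classical
  set S : Matrix (Fin n) (Fin m) R := Matrix.of fun (i : Fin n) (c : Fin m) =>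
    σ (fun j => if c = j then 1 else 0) i with hS
  have hdual : ∀ φ : Module.Dual R (Fin m → R), φ = ∑ c, φ (fun j => if c = j then 1 else 0) •
      (LinearMap.proj c : Module.Dual R (Fin m → R)) := by
    intro φ
    apply LinearMap.ext
    intro v
    rw [LinearMap.pi_apply_eq_sum_univ φ v, LinearMap.sum_apply]
    refine Finset.sum_congr rfl (fun c _ => ?_)
    rw [LinearMap.smul_apply, LinearMap.proj_apply, smul_eq_mul, smul_eq_mul, mul_comm]
  have hy : Submodule.span R (Set.range (fun c : Fin m =>
      (LinearMap.proj c : Module.Dual R (Fin m → R)))) = ⊤ := by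
    rw [eq_top_iff]
    rintro φ -
    rw [hdual φ]
    exact Submodule.sum_mem _ (fun c _ => Submodule.smul_mem _ _ (Submodule.subset_span ⟨c, rfl⟩))
  have hyq := span_mkQ_eq_top _ hy (LinearMap.range σ.dualMap)
  rw [fittIdeal_eq_minorsIdeal _ hyq k, ← minorsIdeal_range_row]
  have hrel : {w : Fin m → R | IsRel (fun c : Fin m => (LinearMap.range σ.dualMap).mkQ
      (LinearMap.proj c : Module.Dual R (Fin m → R))) w} =
      (Submodule.span R (Set.range (fun i : Fin n => fun c : Fin m => S i c)) :
        Set (Fin m → R)) := by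
    ext w
    have h1 : (∑ c, w c • (LinearMap.range σ.dualMap).mkQ
        (LinearMap.proj c : Module.Dual R (Fin m → R))) =
        (LinearMap.range σ.dualMap).mkQ
          (∑ c, w c • (LinearMap.proj c : Module.Dual R (Fin m → R))) := by
      rw [map_sum]
      exact Finset.sum_congr rfl (fun c _ => (map_smul _ _ _).symm)
    show (∑ c, w c • (LinearMap.range σ.dualMap).mkQ
        (LinearMap.proj c : Module.Dual R (Fin m → R))) = 0 ↔ w ∈ Submodule.span R _
    rw [h1, Submodule.mkQ_apply, Submodule.Quotient.mk_eq_zero]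
    constructor
    · rintro ⟨ψ, hψ⟩
      have hw : w = ∑ i, ψ (fun j => if i = j then 1 else 0) • (fun c : Fin m => S i c) := by
        funext c
        have h3 := LinearMap.congr_fun hψ (fun j => if c = j then 1 else 0)
        rw [LinearMap.dualMap_apply, LinearMap.pi_apply_eq_sum_univ ψ, LinearMap.sum_apply] at h3
        have h4 : (∑ c', (w c' • (LinearMap.proj c' : Module.Dual R (Fin m → R)))
            (fun j => if c = j then (1 : R) else 0)) = w c := by
          simp only [LinearMap.smul_apply, LinearMap.proj_apply, smul_eq_mul]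
          rw [Finset.sum_mul_boole]
          simp
        rw [h4] at h3
        rw [← h3, Finset.sum_apply]
        refine Finset.sum_congr rfl (fun i _ => ?_)
        simp only [Pi.smul_apply, smul_eq_mul, hS, Matrix.of_apply]
        ring
      rw [hw]
      exact Submodule.sum_mem _ (fun i _ => Submodule.smul_mem _ _
        (Submodule.subset_span ⟨i, rfl⟩))
    · intro hw
      refine Submodule.span_induction (p := fun w _ =>
        (∑ c, w c • (LinearMap.proj c : Module.Dual R (Fin m → R))) ∈
          LinearMap.range σ.dualMap) ?_ ?_ ?_ ?_ hw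
      · rintro _ ⟨i, rfl⟩
        refine ⟨LinearMap.proj i, ?_⟩
        apply LinearMap.ext
        intro v
        rw [LinearMap.dualMap_apply, LinearMap.proj_apply, LinearMap.pi_apply_eq_sum_univ σ v,
          LinearMap.sum_apply, Finset.sum_apply]
        refine Finset.sum_congr rfl (fun c _ => ?_)
        simp only [Pi.smul_apply, smul_eq_mul, LinearMap.smul_apply, LinearMap.proj_apply, hS,
          Matrix.of_apply]
        ring
      · simp
      · intro a b _ _ ha hb
        simp only [Pi.add_apply, add_smul, Finset.sum_add_distrib]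
        exact Submodule.add_mem _ ha hb
      · intro r a _ ha
        simp only [Pi.smul_apply, smul_eq_mul, mul_smul]
        rw [← Finset.smul_sum]
        exact Submodule.smul_mem _ _ ha
  rw [hrel, minorsIdeal_span]

/-- S14347. -/
theorem fittIdeal_coker_dual_shift (m n : ℕ) (σ : (Fin m → R) →ₗ[R] (Fin n → R))
    (hσ : Function.Injective σ) :
    (∀ j : ℕ, Fitt.ideal R ((Fin n → R) ⧸ LinearMap.range σ) (n - m + j) =
        Fitt.ideal R (Module.Dual R (Fin m → R) ⧸ LinearMap.range σ.dualMap) j) ∧
      ∀ i : ℕ, i < n - m → Fitt.ideal R ((Fin n → R) ⧸ LinearMap.range σ) i = ⊥ := by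
  constructor
  · intro j
    rw [fittIdeal_coker_eq_matMinors, fittIdeal_coker_dualMap_eq_matMinors]
    by_cases hR : Nontrivial R
    · have hmn : m ≤ n := le_of_fin_injective R σ hσ
      have h0 : n - (n - m + j) = m - j := by omega
      rw [h0]
    · rw [not_nontrivial_iff_subsingleton] at hR
      apply SetLike.ext
      intro x
      rw [Subsingleton.elim x 0]
      simp
  · intro i hi
    rw [fittIdeal_coker_eq_matMinors]
    exact matMinors_eq_bot_of_lt _ _ (by omega)

end Groth.Agent.H34.Fit
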