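import Groth.Agent.H34.Fitting4
import Groth.Agent.H34.Fitting3

set_option autoImplicit false
universe u v w

namespace Groth.Agent.H34.Fit

open Matrix

variable {R : Type u} [CommRing R] {M : Type v} [AddCommGroup M] [Module R M]

/-- Padding a generating family indexed by a small finite type to one indexed by `Fin k`. -/
theorem exists_fin_generators_of_card_le {A : Type*} {N : Type*} [Semiring A] [AddCommMonoid N]
    [Module A N] {C : Type*} [Fintype C] (y : C → N) (h : Submodule.span A (Set.range y) = ⊤)
    (k : ℕ) (hk : Fintype.card C ≤ k) : ∃ g : Fin k → N, Submodule.span A (Set.range g) = ⊤ := by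
  classical
  let eC : C ≃ Fin (Fintype.card C) := Fintype.equivFin C
  refine ⟨fun j => if h : (j : ℕ) < Fintype.card C then y (eC.symm ⟨j, h⟩) else 0, ?_⟩
  rw [eq_top_iff, ← h]
  apply Submodule.span_le.mpr
  rintro _ ⟨c, rfl⟩
  apply Submodule.subset_span
  refine ⟨⟨eC c, lt_of_lt_of_le (eC c).isLt hk⟩, ?_⟩
  have h1 : ((eC c : Fin _) : ℕ) < Fintype.card C := (eC c).isLt
  simp only [dif_pos h1, Fin.eta, Equiv.symm_apply_apply]

theorem D_mono {ι : Type*} [Fintype ι] [DecidableEq ι] (x : ι → M) {k k' : ℕ} (h : k ≤ k') :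
    D R x k ≤ D R x k' :=
  Ideal.span_mono (by
    rintro d ⟨a, S, hS, hrel, rfl⟩
    exact ⟨a, S, hS.trans h, hrel, rfl⟩)

theorem fittIdeal_mono [Module.Finite R M] {k k' : ℕ} (h : k ≤ k') :
    Fitt.ideal R M k ≤ Fitt.ideal R M k' := by
  classical
  obtain ⟨n, x, hx⟩ := Module.Finite.exists_fin (R := R) (M := M)
  rw [fittIdeal_eq_D x hx, fittIdeal_eq_D x hx]
  exact D_mono x h

/-- `δ • x (e a₀)` lies in the span of the `x c`, `c ∉ range e`, for a minor `δ`. -/
theorem minor_smul_mem_span {n q : ℕ} (x : Fin n → M) (z : Fin q → Fin n → R)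
    (hz : ∀ b, IsRel x (z b)) (e : Fin q → Fin n) (he : Function.Injective e) (a₀ : Fin q) :
    (Matrix.of fun a b => z b (e a)).det • x (e a₀) ∈
      Submodule.span R (Set.range (fun c : {c : Fin n // c ∉ Set.range e} => x c.1)) := by
  classical
  set N := Submodule.span R (Set.range (fun c : {c : Fin n // c ∉ Set.range e} => x c.1))
  let t : Fin n → R := fun i =>
    ((Matrix.of fun b a => z b (e a)).adjugate *ᵥ (fun b => z b i)) a₀
  have htrel : IsRel x t := cramer_rel x z hz e a₀
  unfold IsRel at htrel
  rw [← Finset.add_sum_erase Finset.univ _ (Finset.mem_univ (e a₀))] at htrel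
  have h1 : t (e a₀) = (Matrix.of fun a b => z b (e a)).det := by
    rw [show t (e a₀) = _ from cramer_coeff_self z e a₀ a₀, if_pos rfl]
  rw [h1] at htrel
  have h5 : ∑ i ∈ Finset.univ.erase (e a₀), t i • x i ∈ N := by
    refine Submodule.sum_mem _ (fun i hi => ?_)
    have hi' : i ≠ e a₀ := Finset.ne_of_mem_erase hi
    by_cases h6 : i ∈ Set.range e
    · obtain ⟨a, rfl⟩ := h6
      have hne : a₀ ≠ a := fun h => hi' (by rw [h])
      have h7 : t (e a) = 0 := by
        rw [show t (e a) = _ from cramer_coeff_self z e a₀ a, if_neg hne]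
      rw [h7, zero_smul]
      exact N.zero_mem
    · exact N.smul_mem _ (Submodule.subset_span ⟨⟨i, h6⟩, rfl⟩)
  have h8 := eq_neg_of_add_eq_zero_left htrel
  rw [h8]
  exact N.neg_mem h5

/-- If a submonoid element multiplies each generator into the span of `y`, then the images of
`y` generate the localized module. -/
theorem span_localizedModule_eq_top (S : Submonoid R) {n : ℕ} (x : Fin n → M)
    (hx : Submodule.span R (Set.range x) = ⊤) {C : Type*} (y : C → M)
    (h : ∀ i, ∃ s ∈ S, s • x i ∈ Submodule.span R (Set.range y)) :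
    Submodule.span (Localization S) (Set.range (fun c => LocalizedModule.mkLinearMap S M (y c))) = ⊤ := by
  set ι := LocalizedModule.mkLinearMap S M
  set W := Submodule.span (Localization S) (Set.range (fun c => ι (y c)))
  have hinv : ∀ (s : S) (v : LocalizedModule S M), (s : R) • v ∈ W → v ∈ W := by
    intro s v hv
    have h1 := W.smul_mem (IsLocalization.mk' (Localization S) (1 : R) s) hv
    rwa [← algebraMap_smul (Localization S) (s : R) v, smul_smul, mul_comm,
      IsLocalization.mk'_spec', map_one, one_smul] at h1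
  have hN : ∀ m ∈ Submodule.span R (Set.range y), ι m ∈ W := by
    intro m hm
    induction hm using Submodule.span_induction with
    | mem m hm =>
      obtain ⟨c, rfl⟩ := hm
      exact Submodule.subset_span ⟨c, rfl⟩
    | zero => simp
    | add a b _ _ ha hb =>
      rw [map_add]
      exact W.add_mem ha hb
    | smul r a _ ha =>
      rw [map_smul, ← algebraMap_smul (Localization S) r (ι a)]
      exact W.smul_mem _ ha
  have hM : ∀ m : M, ι m ∈ W := by
    intro m
    have hm : m ∈ Submodule.span R (Set.range x) := by rw [hx]; trivial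
    induction hm using Submodule.span_induction with
    | mem m hm =>
      obtain ⟨i, rfl⟩ := hm
      obtain ⟨s, hs, hsx⟩ := h i
      apply hinv ⟨s, hs⟩
      rw [← map_smul]
      exact hN _ hsx
    | zero => simp
    | add a b _ _ ha hb =>
      rw [map_add]
      exact W.add_mem ha hb
    | smul r a _ ha =>
      rw [map_smul, ← algebraMap_smul (Localization S) r (ι a)]
      exact W.smul_mem _ ha
  rw [eq_top_iff]
  rintro v -
  obtain ⟨⟨m, s⟩, hms⟩ := IsLocalizedModule.surj S ι v
  apply hinv s
  have h2 : (s : R) • v = ι m := hms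
  rw [h2]
  exact hM m

/-- A minor lying in `S` makes the localized module generated by `k` elements. -/
theorem exists_generators_localizedModule (S : Submonoid R) {n : ℕ} (x : Fin n → M)
    (hx : Submodule.span R (Set.range x) = ⊤) (k : ℕ) (z : Fin (n - k) → Fin n → R)
    (hz : ∀ b, IsRel x (z b)) (e : Fin (n - k) → Fin n) (he : Function.Injective e)
    (hδ : (Matrix.of fun a b => z b (e a)).det ∈ S) :
    ∃ g : Fin k → LocalizedModule S M, Submodule.span (Localization S) (Set.range g) = ⊤ := by
  classical
  have h1 := span_localizedModule_eq_top S x hx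
    (fun c : {c : Fin n // c ∉ Set.range e} => x c.1) (fun i => by
      by_cases hi : i ∈ Set.range e
      · obtain ⟨a₀, rfl⟩ := hi
        exact ⟨_, hδ, minor_smul_mem_span x z hz e he a₀⟩
      · exact ⟨1, S.one_mem, by rw [one_smul]; exact Submodule.subset_span ⟨⟨i, hi⟩, rfl⟩⟩)
  exact exists_fin_generators_of_card_le _ h1 k (card_compl_range_le e he)

end Groth.Agent.H34.Fit
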