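import Groth.Agent.H34.Fitting5

set_option autoImplicit false
universe u v w

namespace Groth.Agent.H34.Fit

open Matrix TensorProduct

variable {R : Type u} [CommRing R] {M : Type v} [AddCommGroup M] [Module R M]

/-- If `k` elements generate `S⁻¹M`, then `Fit_k(M)` meets `S`. -/
theorem exists_mem_fittIdeal_of_span_localizedModule [Module.Finite R M] (S : Submonoid R) (k : ℕ)
    (g : Fin k → LocalizedModule S M)
    (hg : Submodule.span (Localization S) (Set.range g) = ⊤) :
    ∃ s ∈ S, s ∈ Fitt.ideal R M k := by
  have h1 : Fitt.ideal (Localization S) (LocalizedModule S M) k = ⊤ :=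
    fittIdeal_eq_top_of_span g hg
  have h2 : Fitt.ideal (Localization S) (LocalizedModule S M) k ≤
      Fitt.ideal (Localization S) (Localization S ⊗[R] M) k :=
    fittIdeal_le_of_surjective (LocalizedModule.equivTensorProduct S M).toLinearMap
      (LocalizedModule.equivTensorProduct S M).surjective k
  rw [h1, fittIdeal_baseChange (Localization S) k] at h2
  by_contra hcon
  have hdisj : Disjoint (S : Set R) (Fitt.ideal R M k : Set R) := by
    rw [Set.disjoint_left]
    intro s hs hs'
    exact hcon ⟨s, hs, hs'⟩
  exact (IsLocalization.map_algebraMap_ne_top_iff_disjoint (M := S) (S := Localization S)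
    (Fitt.ideal R M k)).mpr hdisj (top_le_iff.mp h2)

/-- Over a field, `Fit_k(V) = (1)` exactly when `dim V ≤ k`. -/
theorem fittIdeal_eq_top_iff_finrank_le {K : Type u} [Field K] {V : Type v} [AddCommGroup V]
    [Module K V] [Module.Finite K V] (k : ℕ) :
    Fitt.ideal K V k = ⊤ ↔ Module.finrank K V ≤ k := by
  classical
  let b : Module.Basis (Fin (Module.finrank K V)) K V := Module.finBasis K V
  have hb : Submodule.span K (Set.range (fun i => b i)) = ⊤ := b.span_eq
  constructor
  · intro h
    by_contra hlt
    rw [not_le] at hlt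
    have h1 : Fitt.ideal K V k ≤ ⊥ := by
      rw [fittIdeal_eq_minorsIdeal (fun i => b i) hb k]
      apply Ideal.span_le.mpr
      rintro d ⟨z, e, hz, rfl⟩
      have hz0 : ∀ b', z b' = 0 := fun b' => by
        funext i
        exact Fintype.linearIndependent_iff.mp b.linearIndependent (z b') (hz b') i
      have : Nonempty (Fin (Module.finrank K V - k)) := ⟨⟨0, by omega⟩⟩
      have h0 : (Matrix.of fun a b' => z b' (e a)) = 0 := by
        ext a b'
        simp [hz0 b']
      rw [h0, Matrix.det_zero]
      exact Ideal.zero_mem _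
    rw [h] at h1
    exact bot_ne_top (top_le_iff.mp h1)
  · intro h
    rw [eq_top_iff, ← fittIdeal_eq_top_of_span (fun i => b i) hb]
    exact fittIdeal_mono h

/-- If `Fit_k(M)` is not contained in the ideal `p`, some `(n-k)`-minor of the relations among
a generating `n`-tuple, with injective row selection, is not in `p`. -/
theorem exists_minor_notMem {n : ℕ} (x : Fin n → M) (hx : Submodule.span R (Set.range x) = ⊤)
    (k : ℕ) (p : Ideal R) (h : ¬ Fitt.ideal R M k ≤ p) :
    ∃ (z : Fin (n - k) → Fin n → R) (e : Fin (n - k) → Fin n), (∀ b, IsRel x (z b)) ∧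
      Function.Injective e ∧ (Matrix.of fun a b => z b (e a)).det ∉ p := by
  classical
  rw [fittIdeal_eq_minorsIdeal x hx k] at h
  by_contra hcon
  apply h
  apply Ideal.span_le.mpr
  rintro d ⟨z, e, hz, rfl⟩
  by_contra hd
  apply hcon
  refine ⟨z, e, hz, ?_, hd⟩
  intro a a' haa
  by_contra hne
  apply hd
  have h0 : (Matrix.of fun a b => z b (e a)).det = 0 := by
    apply Matrix.det_zero_of_row_eq hne
    funext b
    simp only [Matrix.of_apply]
    rw [haa]
  rw [SetLike.mem_coe, h0]
  exact p.zero_mem

/-- Residue field criterion. -/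
theorem not_fittIdeal_le_iff_finrank_le {R : Type u} [CommRing R] (M : Type u) [AddCommGroup M]
    [Module R M] [Module.Finite R M] (k : ℕ) (p : Ideal R) [p.IsPrime] :
    ¬ Fitt.ideal R M k ≤ p ↔ Module.finrank p.ResidueField (p.ResidueField ⊗[R] M) ≤ k := by
  rw [← fittIdeal_eq_top_iff_finrank_le, fittIdeal_baseChange p.ResidueField k]
  constructor
  · intro h
    obtain ⟨x, hxI, hxp⟩ := Set.not_subset.mp h
    have hne : algebraMap R p.ResidueField x ≠ 0 := fun h0 =>
      hxp (Ideal.algebraMap_residueField_eq_zero.mp h0)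
    exact Ideal.eq_top_of_isUnit_mem _ (Ideal.mem_map_of_mem _ hxI) (isUnit_iff_ne_zero.mpr hne)
  · intro h hle
    have h1 : (Fitt.ideal R M k).map (algebraMap R p.ResidueField) = ⊥ := by
      rw [Ideal.map_eq_bot_iff_le_ker, Ideal.ker_algebraMap_residueField]
      exact hle
    rw [h1] at h
    exact bot_ne_top h

/-- Local generation criterion. -/
theorem not_fittIdeal_le_iff_exists_generators [Module.Finite R M] (k : ℕ) (p : Ideal R)
    [p.IsPrime] :
    ¬ Fitt.ideal R M k ≤ p ↔ ∃ g : Fin k → LocalizedModule p.primeCompl M,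
      Submodule.span (Localization.AtPrime p) (Set.range g) = ⊤ := by
  constructor
  · intro h
    obtain ⟨n, x, hx⟩ := Module.Finite.exists_fin (R := R) (M := M)
    obtain ⟨z, e, hz, he, hd⟩ := exists_minor_notMem x hx k p h
    exact exists_generators_localizedModule p.primeCompl x hx k z hz e he hd
  · rintro ⟨g, hg⟩ hle
    obtain ⟨s, hs, hs'⟩ := exists_mem_fittIdeal_of_span_localizedModule p.primeCompl k g hg
    exact hs (hle hs')

/-- Generation on a principal open neighbourhood. -/
theorem not_fittIdeal_le_iff_exists_away [Module.Finite R M] (k : ℕ) (p : Ideal R)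
    [p.IsPrime] :
    ¬ Fitt.ideal R M k ≤ p ↔ ∃ f : R, f ∉ p ∧
      ∃ g : Fin k → LocalizedModule (Submonoid.powers f) M,
        Submodule.span (Localization.Away f) (Set.range g) = ⊤ := by
  constructor
  · intro h
    obtain ⟨n, x, hx⟩ := Module.Finite.exists_fin (R := R) (M := M)
    obtain ⟨z, e, hz, he, hd⟩ := exists_minor_notMem x hx k p h
    exact ⟨_, hd, exists_generators_localizedModule (Submonoid.powers _) x hx k z hz e he
      (Submonoid.mem_powers _)⟩
  · rintro ⟨f, hf, g, hg⟩ hle
    obtain ⟨s, ⟨N, rfl⟩, hs'⟩ :=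
      exists_mem_fittIdeal_of_span_localizedModule (Submonoid.powers f) k g hg
    exact hf (Ideal.IsPrime.mem_of_pow_mem inferInstance N (hle hs'))

end Groth.Agent.H34.Fit
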