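import Groth.Agent.H34.Fitting7
import Groth.Prelude.Def_BlowUp2
import Groth.Prelude.Def_FlatCA

set_option autoImplicit false
universe u v w

namespace Groth.Agent.H34.Fit

open Matrix TensorProduct

section Quot

variable {A : Type u} [CommRing A] {N : Type v} [AddCommGroup N] [Module A N]

theorem span_mkQ_eq_top {n : ℕ} (x : Fin n → N) (hx : Submodule.span A (Set.range x) = ⊤)
    (T : Submodule A N) : Submodule.span A (Set.range (fun i => T.mkQ (x i))) = ⊤ := by
  have h : Submodule.map T.mkQ (Submodule.span A (Set.range x)) =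
      Submodule.span A (T.mkQ '' Set.range x) := Submodule.map_span _ _
  rw [hx, Submodule.map_top, Submodule.range_mkQ, ← Set.range_comp] at h
  exact h.symm

theorem cramer_coeff_mem' {n q : ℕ} (Z : Set (Fin n → A)) (z : Fin q → Fin n → A)
    (hz : ∀ b, z b ∈ Z) (e : Fin q → Fin n) (a₀ : Fin q) (c : Fin n) :
    ((Matrix.of fun b a => z b (e a)).adjugate *ᵥ (fun b => z b c)) a₀ ∈ minorsIdeal Z q := by
  classical
  rw [← Matrix.cramer_eq_adjugate_mulVec, Matrix.cramer_apply]
  apply Ideal.subset_span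
  refine ⟨z, Function.update e a₀ c, hz, ?_⟩
  rw [← Matrix.det_transpose]
  congr 1
  ext b a
  simp only [Matrix.updateCol_apply, Matrix.of_apply, Matrix.transpose_apply, Function.update_apply]
  split_ifs <;> rfl

theorem minorsIdeal_fg_of_finite {κ : Type*} [Finite κ] {G : Set (κ → A)} (hG : G.Finite) (p : ℕ) :
    (minorsIdeal G p).FG := by
  classical
  have : Finite G := hG.to_subtype
  have h1 : minorsIdeal G p =
      Ideal.span (Set.range (fun ze : (Fin p → G) × (Fin p → κ) =>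
        (Matrix.of fun a b => (ze.1 b : κ → A) (ze.2 a)).det)) := by
    apply le_antisymm
    · apply Ideal.span_le.mpr
      rintro d ⟨z, e, hz, rfl⟩
      apply Ideal.subset_span
      exact ⟨(fun b => ⟨z b, hz b⟩, e), rfl⟩
    · apply Ideal.span_le.mpr
      rintro d ⟨⟨z, e⟩, rfl⟩
      apply Ideal.subset_span
      exact ⟨fun b => (z b).1, e, fun b => (z b).2, rfl⟩
  rw [h1]
  exact Submodule.fg_span (Set.finite_range _)

theorem eq_zero_of_pow_mul_eq_zero (a : A) (ha : ∀ c : A, a * c = 0 → c = 0) :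
    ∀ (m : ℕ) (c : A), a ^ m * c = 0 → c = 0 := by
  intro m
  induction m with
  | zero =>
    intro c hc
    simpa using hc
  | succ m ih =>
    intro c hc
    apply ih
    apply ha
    rw [← mul_assoc, ← pow_succ']
    exact hc

/-- If a subfamily of relations has minors ideal generated by a nonzerodivisor `a`, then after
dividing by a submodule containing the `a`-torsion the `k`-th Fitting ideal is the unit ideal. -/
theorem fittIdeal_quotient_eq_top {n : ℕ} (x : Fin n → N)
    (hx : Submodule.span A (Set.range x) = ⊤) (k : ℕ) (a : A)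
    (ha : ∀ c : A, a * c = 0 → c = 0)
    (Z : Set (Fin n → A)) (hZ : ∀ z ∈ Z, IsRel x z)
    (hfit : minorsIdeal Z (n - k) = Ideal.span {a}) (T : Submodule A N)
    (hT : ∀ y : N, a • y = 0 → y ∈ T) :
    Fitt.ideal A (N ⧸ T) k = ⊤ := by
  classical
  have hcancel : ∀ c c' : A, a * c = a * c' → c = c' := fun c c' h =>
    sub_eq_zero.mp (ha _ (by rw [mul_sub, h, sub_self]))
  have hxb := span_mkQ_eq_top x hx T
  rw [fittIdeal_eq_minorsIdeal _ hxb k]
  let C : Set A := {c | ∃ (z : Fin (n - k) → Fin n → A) (e : Fin (n - k) → Fin n),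
    (∀ b, z b ∈ Z) ∧ (Matrix.of fun a' b => z b (e a')).det = a * c}
  have hC1 : Ideal.span C = ⊤ := by
    have h1 : minorsIdeal Z (n - k) ≤ Ideal.span {a} * Ideal.span C := by
      apply Ideal.span_le.mpr
      rintro d ⟨z, e, hz, rfl⟩
      have hd : (Matrix.of fun a' b => z b (e a')).det ∈ Ideal.span {a} := by
        rw [← hfit]
        exact Ideal.subset_span ⟨z, e, hz, rfl⟩
      obtain ⟨c, hc⟩ := Ideal.mem_span_singleton'.mp hd
      rw [SetLike.mem_coe, Ideal.mem_span_singleton_mul]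
      exact ⟨c, Ideal.subset_span ⟨z, e, hz, by rw [← hc, mul_comm]⟩, by rw [← hc, mul_comm]⟩
    have h2 : a ∈ Ideal.span {a} * Ideal.span C :=
      h1 (by rw [hfit]; exact Ideal.mem_span_singleton_self a)
    obtain ⟨j, hj, hja⟩ := Ideal.mem_span_singleton_mul.mp h2
    have hj1 : j = 1 := hcancel j 1 (by rw [hja, mul_one])
    rw [Ideal.eq_top_iff_one, ← hj1]
    exact hj
  have hC2 : ∀ c ∈ C, c ^ (n - k) ∈
      minorsIdeal {z | IsRel (fun i => T.mkQ (x i)) z} (n - k) := by
    rintro c ⟨z, e, hz, hdet⟩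
    let t : Fin (n - k) → Fin n → A := fun a₀ i =>
      ((Matrix.of fun b a' => z b (e a')).adjugate *ᵥ (fun b => z b i)) a₀
    have ht_mem : ∀ a₀ i, t a₀ i ∈ Ideal.span {a} := fun a₀ i => by
      rw [← hfit]
      exact cramer_coeff_mem' Z z hz e a₀ i
    choose t' ht' using fun a₀ i => Ideal.mem_span_singleton'.mp (ht_mem a₀ i)
    have hrel : ∀ a₀, IsRel (fun i => T.mkQ (x i)) (t' a₀) := by
      intro a₀
      have h1 : IsRel x (t a₀) := cramer_rel x z (fun b => hZ _ (hz b)) e a₀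
      have h2 : a • ∑ i, t' a₀ i • x i = 0 := by
        unfold IsRel at h1
        rw [Finset.smul_sum, ← h1]
        refine Finset.sum_congr rfl (fun i _ => ?_)
        rw [smul_smul, mul_comm, ht']
      have h3 := hT _ h2
      have h4 : T.mkQ (∑ i, t' a₀ i • x i) = 0 := by
        rw [Submodule.mkQ_apply, Submodule.Quotient.mk_eq_zero]
        exact h3
      show ∑ i, t' a₀ i • T.mkQ (x i) = 0
      calc ∑ i, t' a₀ i • T.mkQ (x i) = T.mkQ (∑ i, t' a₀ i • x i) := by
            rw [map_sum]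
            exact Finset.sum_congr rfl (fun i _ => (map_smul _ _ _).symm)
        _ = 0 := h4
    have hmat : (Matrix.of fun a' b => t' b (e a')) = Matrix.diagonal (fun _ => c) := by
      ext a' b
      apply hcancel
      have h1 : a * t' b (e a') = if b = a' then a * c else 0 := by
        rw [mul_comm a (t' b (e a')), ht' b (e a'),
          show t b (e a') = _ from cramer_coeff_self z e b a', hdet]
      rw [Matrix.of_apply, h1, Matrix.diagonal_apply]
      by_cases hba : b = a'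
      · rw [if_pos hba, if_pos hba.symm]
      · rw [if_neg hba, if_neg (fun h => hba h.symm), mul_zero]
    apply Ideal.subset_span
    refine ⟨t', e, hrel, ?_⟩
    rw [hmat, Matrix.det_diagonal, Finset.prod_const, Finset.card_univ, Fintype.card_fin]
  rw [eq_top_iff, ← Ideal.span_pow_eq_top C hC1 (n - k)]
  apply Ideal.span_le.mpr
  rintro _ ⟨c, hc, rfl⟩
  exact hC2 c hc

/-- Dividing by power torsion of a nonzerodivisor keeps vanishing Fitting ideals zero. -/
theorem fittIdeal_quotient_eq_bot {n : ℕ} (x : Fin n → N)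
    (hx : Submodule.span A (Set.range x) = ⊤) (j : ℕ) (a : A)
    (ha : ∀ (m : ℕ) (c : A), a ^ m * c = 0 → c = 0)
    (hfit : Fitt.ideal A N j = ⊥) (T : Submodule A N)
    (hT : ∀ y ∈ T, ∃ m : ℕ, a ^ m • y = 0) :
    Fitt.ideal A (N ⧸ T) j = ⊥ := by
  classical
  have hxb := span_mkQ_eq_top x hx T
  rw [fittIdeal_eq_minorsIdeal x hx j] at hfit
  rw [eq_bot_iff, fittIdeal_eq_minorsIdeal _ hxb j]
  apply Ideal.span_le.mpr
  rintro d ⟨z, e, hz, rfl⟩
  have h1 : ∀ b, ∃ m : ℕ, a ^ m • ∑ i, z b i • x i = 0 := fun b => by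
    apply hT
    rw [← Submodule.Quotient.mk_eq_zero T, ← Submodule.mkQ_apply, map_sum]
    have h := hz b
    calc ∑ i, T.mkQ (z b i • x i) = ∑ i, z b i • T.mkQ (x i) :=
          Finset.sum_congr rfl (fun i _ => map_smul _ _ _)
      _ = 0 := h
  choose m hm using h1
  have hmm : ∀ b, IsRel x (fun i => a ^ (∑ b', m b') * z b i) := by
    intro b
    have hle : m b ≤ ∑ b', m b' :=
      Finset.single_le_sum (fun _ _ => Nat.zero_le _) (Finset.mem_univ b)
    obtain ⟨l, hl⟩ := Nat.exists_eq_add_of_le hle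
    have h2 : a ^ (∑ b', m b') • ∑ i, z b i • x i = 0 := by
      rw [hl, pow_add, mul_comm, mul_smul, hm b, smul_zero]
    rw [Finset.smul_sum] at h2
    unfold IsRel
    rw [← h2]
    exact Finset.sum_congr rfl (fun i _ => mul_smul _ _ _)
  have h2 : (Matrix.of fun a' b => a ^ (∑ b', m b') * z b (e a')).det ∈
      minorsIdeal {z | IsRel x z} (n - j) :=
    Ideal.subset_span ⟨fun b i => a ^ (∑ b', m b') * z b i, e, hmm, rfl⟩
  rw [hfit, Ideal.mem_bot] at h2
  have h3 : (Matrix.of fun a' b => a ^ (∑ b', m b') * z b (e a')) =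
      (a ^ (∑ b', m b')) • (Matrix.of fun a' b => z b (e a')) := by
    ext a' b
    simp
  rw [h3, Matrix.det_smul, Fintype.card_fin, ← pow_mul] at h2
  rw [SetLike.mem_coe, Ideal.mem_bot]
  exact ha _ _ h2

end Quot

section Local

variable {R : Type u} [CommRing R] {M : Type v} [AddCommGroup M] [Module R M]

theorem exists_pow_mul_eq_zero_of_local (d s : R)
    (h : ∀ (p : Ideal R) [p.IsPrime], s ∉ p → ∃ t, t ∉ p ∧ t * d = 0) :
    ∃ m : ℕ, s ^ m * d = 0 := by
  by_contra hcon
  let J : Ideal R := LinearMap.ker (LinearMap.toSpanSingleton R R d)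
  have hJ : ∀ c, c ∈ J ↔ c * d = 0 := fun c => by
    rw [LinearMap.mem_ker, LinearMap.toSpanSingleton_apply, smul_eq_mul]
  have hdisj : Disjoint (J : Set R) (Submonoid.powers s : Set R) := by
    rw [Set.disjoint_left]
    rintro c hc ⟨m, rfl⟩
    exact hcon ⟨m, (hJ _).mp hc⟩
  obtain ⟨p, hp, hJp, hps⟩ := Ideal.exists_le_prime_disjoint J (Submonoid.powers s) hdisj
  have hs : s ∉ p := fun hs => Set.disjoint_left.mp hps hs (Submonoid.mem_powers s)
  obtain ⟨t, ht, htd⟩ := h p hs
  exact ht (hJp ((hJ t).mpr htd))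

theorem exists_mul_eq_zero_of_free_localization [Module.Finite R M] (S : Submonoid R)
    [Nontrivial (Localization S)] [Module.Free (Localization S) (LocalizedModule S M)] (r : ℕ)
    (hrank : Module.finrank (Localization S) (LocalizedModule S M) = r) {j : ℕ} (hj : j < r)
    {d : R} (hd : d ∈ Fitt.ideal R M j) : ∃ t ∈ S, t * d = 0 := by
  let b := Module.finBasisOfFinrankEq (Localization S) (LocalizedModule S M) hrank
  have h2 := fittIdeal_eq_bot_of_basis b hj
  rw [fittIdeal_localizedModule] at h2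
  have h3 : algebraMap R (Localization S) d = 0 := by
    have h4 : algebraMap R (Localization S) d ∈
        (Fitt.ideal R M j).map (algebraMap R (Localization S)) := Ideal.mem_map_of_mem _ hd
    rw [h2] at h4
    exact (Submodule.mem_bot _).mp h4
  obtain ⟨⟨t, ht⟩, htd⟩ := (IsLocalization.map_eq_zero_iff S (Localization S) d).mp h3
  exact ⟨t, ht, htd⟩

end Local

section BlowUp

theorem blowup_facts {R : Type u} [CommRing R] (I : Ideal R) (a : R) (R₁ : Type u) [CommRing R₁]
    [Algebra R R₁] (e : R₁ ≃ₐ[R] ↥(BlowUp.affineAlgebra R I a)) :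
    (∀ c : R₁, algebraMap R R₁ a * c = 0 → c = 0) ∧
      (∀ x ∈ I, ∃ q : R₁, algebraMap R R₁ x = algebraMap R R₁ a * q) := by
  constructor
  · intro c hc
    have h1 : e (algebraMap R R₁ a * c) = 0 := by rw [hc, map_zero]
    rw [map_mul, e.commutes] at h1
    have h2 : ((algebraMap R ↥(BlowUp.affineAlgebra R I a) a * e c :
        ↥(BlowUp.affineAlgebra R I a)) : Localization.Away a) = 0 := by
      rw [h1]
      rfl
    rw [Subalgebra.coe_mul, Subalgebra.coe_algebraMap] at h2
    have hu : IsUnit (algebraMap R (Localization.Away a) a) :=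
      IsLocalization.map_units _ (⟨a, Submonoid.mem_powers a⟩ : Submonoid.powers a)
    have h3 : ((e c : ↥(BlowUp.affineAlgebra R I a)) : Localization.Away a) = 0 :=
      (hu.mul_right_eq_zero).mp h2
    have h4 : e c = 0 := Subtype.ext h3
    exact e.injective (by rw [h4, map_zero])
  · intro x hx
    let qB : ↥(BlowUp.affineAlgebra R I a) :=
      ⟨IsLocalization.mk' (Localization.Away a) x (⟨a, Submonoid.mem_powers a⟩ : Submonoid.powers a),
        by
          unfold BlowUp.affineAlgebra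
          exact Algebra.subset_adjoin ⟨x, hx, rfl⟩⟩
    refine ⟨e.symm qB, ?_⟩
    apply e.injective
    rw [map_mul, e.commutes, e.commutes, AlgEquiv.apply_symm_apply]
    apply Subtype.ext
    rw [Subalgebra.coe_mul, Subalgebra.coe_algebraMap, Subalgebra.coe_algebraMap]
    exact (IsLocalization.mk'_spec' _ x _).symm

theorem map_eq_span_singleton {R : Type u} [CommRing R] {R₁ : Type v} [CommRing R₁] [Algebra R R₁]
    (I : Ideal R) (a : R) (ha : a ∈ I)
    (hdiv : ∀ x ∈ I, ∃ q : R₁, algebraMap R R₁ x = algebraMap R R₁ a * q) :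
    I.map (algebraMap R R₁) = Ideal.span {algebraMap R R₁ a} := by
  apply le_antisymm
  · rw [Ideal.map_le_iff_le_comap]
    intro x hx
    obtain ⟨q, hq⟩ := hdiv x hx
    rw [Ideal.mem_comap, hq]
    exact Ideal.mul_mem_right _ _ (Ideal.mem_span_singleton_self _)
  · rw [Ideal.span_singleton_le_iff_mem]
    exact Ideal.mem_map_of_mem _ ha

/-- Core: the strict transform is locally free of rank `r`. -/
theorem strictTransform_locallyFree {R : Type u} [CommRing R] (M : Type u) [AddCommGroup M]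
    [Module R M] [Module.Finite R M] {n : ℕ} (x : Fin n → M)
    (hx : Submodule.span R (Set.range x) = ⊤) (r : ℕ)
    (R₁ : Type u) [CommRing R₁] [Algebra R R₁] (a' b' f' : R₁) (hab : a' = f' * b')
    (ha : ∀ c : R₁, a' * c = 0 → c = 0)
    (K₀ : Set (Fin n → R)) (hK₀ : ∀ z ∈ K₀, IsRel x z)
    (hJ : (minorsIdeal K₀ (n - r)).map (algebraMap R R₁) = Ideal.span {b'})
    (hlow : ∀ j, j < r → (Fitt.ideal R M j).map (algebraMap R R₁) = ⊥) :
    ∀ (p' : Ideal R₁) [p'.IsPrime], ∃ g : R₁, g ∉ p' ∧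
      Module.Free (Localization.Away g) (LocalizedModule (Submonoid.powers g)
        ((R₁ ⊗[R] M) ⧸ FlatCA.powTorsion R₁ a' (R₁ ⊗[R] M))) ∧
      Module.finrank (Localization.Away g) (LocalizedModule (Submonoid.powers g)
        ((R₁ ⊗[R] M) ⧸ FlatCA.powTorsion R₁ a' (R₁ ⊗[R] M))) = r := by
  classical
  have hx₁ := span_one_tmul_eq_top R₁ x hx
  have hb : ∀ c : R₁, b' * c = 0 → c = 0 := fun c hc =>
    ha c (by rw [hab, mul_assoc, hc, mul_zero])
  have hapow := eq_zero_of_pow_mul_eq_zero a' ha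
  have hTmem : ∀ y ∈ FlatCA.powTorsion R₁ a' (R₁ ⊗[R] M), ∃ m : ℕ, a' ^ m • y = 0 := by
    intro y hy
    have hdir : Directed (· ≤ ·)
        (fun m : ℕ => Submodule.torsionBy R₁ (R₁ ⊗[R] M) (a' ^ m)) := by
      apply Monotone.directed_le
      apply monotone_nat_of_le_succ
      intro m y hy
      rw [Submodule.mem_torsionBy_iff] at hy ⊢
      rw [pow_succ', mul_smul, hy, smul_zero]
    unfold FlatCA.powTorsion at hy
    exact (Submodule.mem_iSup_of_directed _ hdir).mp hy
  have hTker : ∀ y : R₁ ⊗[R] M, b' • y = 0 → y ∈ FlatCA.powTorsion R₁ a' (R₁ ⊗[R] M) := by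
    intro y hy
    unfold FlatCA.powTorsion
    apply Submodule.mem_iSup_of_mem 1
    rw [Submodule.mem_torsionBy_iff, pow_one, hab, mul_smul, hy, smul_zero]
  have hZ₁ : ∀ z ∈ (fun z : Fin n → R => fun i => algebraMap R R₁ (z i)) '' K₀,
      IsRel (fun i => (1 : R₁) ⊗ₜ[R] x i) z := by
    rintro _ ⟨z, hz, rfl⟩
    have h1 := hK₀ z hz
    unfold IsRel at h1 ⊢
    have h2 : ∀ i, algebraMap R R₁ (z i) • ((1 : R₁) ⊗ₜ[R] x i) =
        (1 : R₁) ⊗ₜ[R] (z i • x i) := by
      intro i
      rw [algebraMap_smul, TensorProduct.tmul_smul]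
    simp only [h2]
    rw [← TensorProduct.tmul_sum, h1, TensorProduct.tmul_zero]
  have hfit₁ : minorsIdeal ((fun z : Fin n → R => fun i => algebraMap R R₁ (z i)) '' K₀) (n - r) =
      Ideal.span {b'} := by
    rw [minorsIdeal_image_map (algebraMap R R₁) K₀ (n - r), hJ]
  have htop : Fitt.ideal R₁ ((R₁ ⊗[R] M) ⧸ FlatCA.powTorsion R₁ a' (R₁ ⊗[R] M)) r = ⊤ :=
    fittIdeal_quotient_eq_top _ hx₁ r b' hb _ hZ₁ hfit₁ _ hTker
  have hbot : ∀ j, j < r →
      Fitt.ideal R₁ ((R₁ ⊗[R] M) ⧸ FlatCA.powTorsion R₁ a' (R₁ ⊗[R] M)) j = ⊥ := fun j hj =>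
    fittIdeal_quotient_eq_bot _ hx₁ j a' hapow
      (by rw [fittIdeal_baseChange R₁ j, hlow j hj]) _ hTmem
  exact (locallyFree_iff_fittIdeal
    (M := (R₁ ⊗[R] M) ⧸ FlatCA.powTorsion R₁ a' (R₁ ⊗[R] M)) r).mpr
    ⟨hbot, fun j hj => top_le_iff.mp (htop ▸ fittIdeal_mono hj)⟩

/-- S6914. -/
theorem strictTransform_fittIdeal_eq_top {R : Type u} [CommRing R] (M : Type u) [AddCommGroup M]
    [Module R M] [Module.Finite R M] (k : ℕ) (a : R) (ha : a ∈ Fitt.ideal R M k)
    (R₁ : Type u) [CommRing R₁] [Algebra R R₁]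
    (e : R₁ ≃ₐ[R] ↥(BlowUp.affineAlgebra R (Fitt.ideal R M k) a)) :
    Fitt.ideal R₁ ((R₁ ⊗[R] M) ⧸ FlatCA.powTorsion R₁ (algebraMap R R₁ a) (R₁ ⊗[R] M)) k = ⊤ := by
  classical
  obtain ⟨n, x, hx⟩ := Module.Finite.exists_fin (R := R) (M := M)
  obtain ⟨hnzd, hdiv⟩ := blowup_facts (Fitt.ideal R M k) a R₁ e
  have hx₁ := span_one_tmul_eq_top R₁ x hx
  have hfit : minorsIdeal {z | IsRel (fun i => (1 : R₁) ⊗ₜ[R] x i) z} (n - k) =
      Ideal.span {algebraMap R R₁ a} := by
    rw [← fittIdeal_eq_minorsIdeal _ hx₁ k, fittIdeal_baseChange R₁ k]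
    exact map_eq_span_singleton _ a ha hdiv
  refine fittIdeal_quotient_eq_top _ hx₁ k _ hnzd _ (fun z hz => hz) hfit _ (fun y hy => ?_)
  unfold FlatCA.powTorsion
  apply Submodule.mem_iSup_of_mem 1
  rw [Submodule.mem_torsionBy_iff, pow_one]
  exact hy

/-- S6915. -/
theorem strictTransform_locallyFree_of_free_away {R : Type u} [CommRing R] (M : Type u)
    [AddCommGroup M] [Module R M] [Module.Finite R M] (k : ℕ)
    (hfree : ∀ (p : Ideal R) [p.IsPrime], ¬ Fitt.ideal R M k ≤ p →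
      Module.Free (Localization.AtPrime p) (LocalizedModule p.primeCompl M) ∧
        Module.finrank (Localization.AtPrime p) (LocalizedModule p.primeCompl M) = k)
    (a : R) (ha : a ∈ Fitt.ideal R M k) (R₁ : Type u) [CommRing R₁] [Algebra R R₁]
    (e : R₁ ≃ₐ[R] ↥(BlowUp.affineAlgebra R (Fitt.ideal R M k) a)) :
    ∀ (p' : Ideal R₁) [p'.IsPrime], ∃ g : R₁, g ∉ p' ∧
      Module.Free (Localization.Away g) (LocalizedModule (Submonoid.powers g)
        ((R₁ ⊗[R] M) ⧸ FlatCA.powTorsion R₁ (algebraMap R R₁ a) (R₁ ⊗[R] M))) ∧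
      Module.finrank (Localization.Away g) (LocalizedModule (Submonoid.powers g)
        ((R₁ ⊗[R] M) ⧸ FlatCA.powTorsion R₁ (algebraMap R R₁ a) (R₁ ⊗[R] M))) = k := by
  classical
  obtain ⟨n, x, hx⟩ := Module.Finite.exists_fin (R := R) (M := M)
  obtain ⟨hnzd, hdiv⟩ := blowup_facts (Fitt.ideal R M k) a R₁ e
  refine strictTransform_locallyFree M x hx k R₁ (algebraMap R R₁ a) (algebraMap R R₁ a) 1
    (one_mul _).symm hnzd {z | IsRel x z} (fun z hz => hz) ?_ ?_
  · rw [← fittIdeal_eq_minorsIdeal x hx k]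
    exact map_eq_span_singleton _ a ha hdiv
  · intro j hj
    rw [eq_bot_iff, Ideal.map_le_iff_le_comap]
    intro d hd
    rw [Ideal.mem_comap, Ideal.mem_bot]
    obtain ⟨m, hm⟩ := exists_pow_mul_eq_zero_of_local d a (fun p hp hap => by
      have hnle : ¬ Fitt.ideal R M k ≤ p := fun hle => hap (hle ha)
      obtain ⟨hfr, hrk⟩ := hfree p hnle
      obtain ⟨t, ht, htd⟩ := exists_mul_eq_zero_of_free_localization p.primeCompl k hrk hj hd
      exact ⟨t, ht, htd⟩)
    apply eq_zero_of_pow_mul_eq_zero _ hnzd m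
    rw [← map_pow, ← map_mul, hm, map_zero]

/-- S6924. -/
theorem exists_ideal_strictTransform_locallyFree {R : Type u} [CommRing R] (M : Type u)
    [AddCommGroup M] [Module R M] [Module.Finite R M] (f : R) (r : ℕ)
    (hf : ∀ (p : Ideal R) [p.IsPrime], f ∉ p → ∃ g : R, g ∉ p ∧ g ∈ (Ideal.span {f}).radical ∧
      Module.Free (Localization.Away g) (LocalizedModule (Submonoid.powers g) M) ∧
        Module.finrank (Localization.Away g) (LocalizedModule (Submonoid.powers g) M) = r) :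
    ∃ I : Ideal R, I.FG ∧ I.radical = (Ideal.span {f}).radical ∧ ∀ a ∈ I, ∀ (R₁ : Type u)
      [CommRing R₁] [Algebra R R₁] (e : R₁ ≃ₐ[R] ↥(BlowUp.affineAlgebra R I a)),
      ∀ (p' : Ideal R₁) [p'.IsPrime], ∃ g : R₁, g ∉ p' ∧
        Module.Free (Localization.Away g) (LocalizedModule (Submonoid.powers g)
          ((R₁ ⊗[R] M) ⧸ FlatCA.powTorsion R₁ (algebraMap R R₁ a) (R₁ ⊗[R] M))) ∧
        Module.finrank (Localization.Away g) (LocalizedModule (Submonoid.powers g)
          ((R₁ ⊗[R] M) ⧸ FlatCA.powTorsion R₁ (algebraMap R R₁ a) (R₁ ⊗[R] M))) = r := by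
  classical
  obtain ⟨n, x, hx⟩ := Module.Finite.exists_fin (R := R) (M := M)
  have hrad : f ∈ (Fitt.ideal R M r).radical := by
    rw [Ideal.radical_eq_sInf, Ideal.mem_sInf]
    rintro p ⟨hle, hp⟩
    by_contra hfp
    have := hp
    obtain ⟨g, hg, -, hfr, hrk⟩ := hf p hfp
    have := nontrivial_away_of_notMem p g hg
    let b := Module.finBasisOfFinrankEq (Localization.Away g)
      (LocalizedModule (Submonoid.powers g) M) hrk
    exact (not_fittIdeal_le_iff_exists_away r p).mpr ⟨g, hg, fun i => b i, b.span_eq⟩ hle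
  obtain ⟨N, hN⟩ := hrad
  rw [fittIdeal_eq_minorsIdeal x hx r] at hN
  unfold minorsIdeal at hN
  obtain ⟨T', hT'sub, hT'mem⟩ := Submodule.mem_span_finite_of_mem_span hN
  have hch : ∀ δ : {δ // δ ∈ T'}, ∃ (z : Fin (n - r) → Fin n → R) (e : Fin (n - r) → Fin n),
      (∀ b, z b ∈ {z | IsRel x z}) ∧ (δ : R) = (Matrix.of fun a b => z b (e a)).det :=
    fun δ => hT'sub δ.2
  choose zz ee hzz hdet using hch
  let K₀ : Set (Fin n → R) := Set.range (fun p : {δ // δ ∈ T'} × Fin (n - r) => zz p.1 p.2)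
  have hK₀fin : K₀.Finite := Set.finite_range _
  have hK₀ : ∀ z ∈ K₀, IsRel x z := by
    rintro _ ⟨p, rfl⟩
    exact hzz p.1 p.2
  have hfNJ : f ^ N ∈ minorsIdeal K₀ (n - r) := by
    have hle : Ideal.span (T' : Set R) ≤ minorsIdeal K₀ (n - r) := by
      apply Ideal.span_le.mpr
      intro δ hδ
      apply Ideal.subset_span
      exact ⟨zz ⟨δ, hδ⟩, ee ⟨δ, hδ⟩, fun b => ⟨(⟨δ, hδ⟩, b), rfl⟩, hdet ⟨δ, hδ⟩⟩
    exact hle hT'mem
  have hJfg : (minorsIdeal K₀ (n - r)).FG := minorsIdeal_fg_of_finite hK₀fin (n - r)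
  refine ⟨Ideal.span {f} * minorsIdeal K₀ (n - r), ?_, ?_, ?_⟩
  · exact Ideal.FG.mul (Submodule.fg_span_singleton f) hJfg
  · apply le_antisymm
    · exact Ideal.radical_mono Ideal.mul_le_left
    · rw [Ideal.radical_le_radical_iff, Ideal.span_singleton_le_iff_mem]
      refine ⟨N + 1, ?_⟩
      rw [pow_succ']
      exact Ideal.mul_mem_mul (Ideal.mem_span_singleton_self f) hfNJ
  · intro a ha R₁ _ _ e
    obtain ⟨b, hb, hfb⟩ := Ideal.mem_span_singleton_mul.mp ha
    obtain ⟨hnzd, hdiv⟩ := blowup_facts (Ideal.span {f} * minorsIdeal K₀ (n - r)) a R₁ e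
    have hab : algebraMap R R₁ a = algebraMap R R₁ f * algebraMap R R₁ b := by
      rw [← map_mul, hfb]
    have hfnzd : ∀ c : R₁, algebraMap R R₁ f * c = 0 → c = 0 := fun c hc =>
      hnzd c (by rw [hab, mul_comm (algebraMap R R₁ f), mul_assoc, hc, mul_zero])
    refine strictTransform_locallyFree M x hx r R₁ (algebraMap R R₁ a) (algebraMap R R₁ b)
      (algebraMap R R₁ f) hab hnzd K₀ hK₀ ?_ ?_
    · apply le_antisymm
      · rw [Ideal.map_le_iff_le_comap]
        intro y hy
        have hfy : f * y ∈ Ideal.span {f} * minorsIdeal K₀ (n - r) :=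
          Ideal.mul_mem_mul (Ideal.mem_span_singleton_self f) hy
        obtain ⟨q, hq⟩ := hdiv _ hfy
        rw [Ideal.mem_comap, Ideal.mem_span_singleton']
        refine ⟨q, ?_⟩
        have h0 : algebraMap R R₁ f * (algebraMap R R₁ y - algebraMap R R₁ b * q) = 0 := by
          rw [mul_sub, ← map_mul, hq, hab, mul_assoc, sub_self]
        rw [mul_comm]
        exact (sub_eq_zero.mp (hfnzd _ h0)).symm
      · rw [Ideal.span_singleton_le_iff_mem]
        exact Ideal.mem_map_of_mem _ hb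
    · intro j hj
      rw [eq_bot_iff, Ideal.map_le_iff_le_comap]
      intro d hd
      rw [Ideal.mem_comap, Ideal.mem_bot]
      obtain ⟨m, hm⟩ := exists_pow_mul_eq_zero_of_local d f (fun p hp hfp => by
        obtain ⟨g, hg, -, hfr, hrk⟩ := hf p hfp
        have := nontrivial_away_of_notMem p g hg
        obtain ⟨t, ⟨l, rfl⟩, htd⟩ :=
          exists_mul_eq_zero_of_free_localization (Submonoid.powers g) r hrk hj hd
        exact ⟨g ^ l, fun h => hg (Ideal.IsPrime.mem_of_pow_mem hp l h), htd⟩)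
      apply eq_zero_of_pow_mul_eq_zero _ hfnzd m
      rw [← map_pow, ← map_mul, hm, map_zero]

end BlowUp

end Groth.Agent.H34.Fit
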