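import Mathlib

set_option autoImplicit false
universe u

namespace Groth.Agent.H34

open scoped nonZeroDivisors

/-- A finite torsion-free module over a domain embeds into a finite free module. -/
theorem exists_injective_into_free (R : Type u) [CommRing R] [IsDomain R] (M : Type u)
    [AddCommGroup M] [Module R M] [Module.Finite R M] [Module.IsTorsionFree R M] :
    ∃ (n : ℕ) (f : M →ₗ[R] (Fin n → R)), Function.Injective f := by
  classical
  let S := nonZeroDivisors R
  let K := FractionRing R
  let V := LocalizedModule S M
  let ι : M →ₗ[R] V := LocalizedModule.mkLinearMap S M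
  have hι : Function.Injective ι := by
    rw [IsLocalizedModule.injective_iff_isRegular S ι]
    intro c
    have hc : IsRegular (c : R) := IsRegular.of_ne_zero (nonZeroDivisors.ne_zero c.2)
    exact hc.isSMulRegular
  let n := Module.finrank K V
  let b : Module.Basis (Fin n) K V := Module.finBasis K V
  -- coordinate maps
  let c : Fin n → (M →ₗ[R] K) := fun i => ((b.coord i).restrictScalars R) ∘ₗ ι
  obtain ⟨G, hG⟩ := (Module.finite_def.mp (inferInstance : Module.Finite R M))
  obtain ⟨d, hd⟩ := IsLocalization.exist_integer_multiples_of_finite S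
    (fun p : Fin n × G => c p.1 p.2.1)
  let I : Submodule R K := LinearMap.range (Algebra.linearMap R K)
  have hI : ∀ (i : Fin n) (m : M), (d : R) • c i m ∈ I := by
    intro i m
    have hm : m ∈ Submodule.span R (G : Set M) := by rw [hG]; trivial
    induction hm using Submodule.span_induction with
    | mem y hy =>
      obtain ⟨r, hr⟩ := hd (i, ⟨y, hy⟩)
      exact ⟨r, hr⟩
    | zero => simp
    | add y z _ _ hy hz =>
      rw [map_add, smul_add]
      exact I.add_mem hy hz
    | smul r y _ hy =>
      rw [map_smul, smul_comm]
      exact I.smul_mem r hy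
  have hinjK : Function.Injective (Algebra.linearMap R K) := IsFractionRing.injective R K
  let e : R ≃ₗ[R] I := LinearEquiv.ofInjective (Algebra.linearMap R K) hinjK
  let ψ : Fin n → (M →ₗ[R] R) := fun i =>
    e.symm.toLinearMap ∘ₗ (((d : R) • c i).codRestrict I (fun m => hI i m))
  refine ⟨n, LinearMap.pi ψ, ?_⟩
  rw [← LinearMap.ker_eq_bot, Submodule.eq_bot_iff]
  intro m hm
  rw [LinearMap.mem_ker] at hm
  apply hι
  rw [map_zero]
  apply b.ext_elem
  intro i
  have h1 : ψ i m = 0 := congrFun hm i
  have h2 : (((d : R) • c i).codRestrict I (fun m => hI i m)) m = 0 := by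
    have : e.symm ((((d : R) • c i).codRestrict I (fun m => hI i m)) m) = 0 := h1
    simpa using this
  have h3 : (d : R) • c i m = 0 := by
    have := congrArg Subtype.val h2
    simpa using this
  have hdK : algebraMap R K (d : R) ≠ 0 := by
    intro h0
    exact nonZeroDivisors.ne_zero d.2 (hinjK (by simpa using h0))
  have h4 : c i m = 0 := by
    rw [Algebra.smul_def] at h3
    exact (mul_eq_zero.mp h3).resolve_left hdK
  simpa [c] using h4

end Groth.Agent.H34
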