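import Groth.Agent.H34.Reflexive
import Groth.Agent.H34.TorsionFreeEmb

set_option autoImplicit false
universe u v w

namespace Groth.Agent.H34

/-- Lifting a linear map through a surjection killing its kernel. -/
theorem exists_factor_of_ker_le {R : Type u} [CommRing R] {A : Type v} {B : Type w} {C : Type*}
    [AddCommGroup A] [Module R A] [AddCommGroup B] [Module R B] [AddCommGroup C] [Module R C]
    (π : A →ₗ[R] B) (hπ : Function.Surjective π) (ℓ : A →ₗ[R] C)
    (hker : LinearMap.ker π ≤ LinearMap.ker ℓ) : ∃ y : B →ₗ[R] C, ∀ a, y (π a) = ℓ a := by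
  refine ⟨((LinearMap.ker π).liftQ ℓ hker) ∘ₗ (π.quotKerEquivOfSurjective hπ).symm.toLinearMap, ?_⟩
  intro a
  have h1 : (π.quotKerEquivOfSurjective hπ).symm (π a) = Submodule.Quotient.mk a := by
    rw [LinearEquiv.symm_apply_eq]
    rfl
  rw [LinearMap.comp_apply, LinearEquiv.coe_coe, h1, Submodule.liftQ_apply]

/-- A finite reflexive module over a Noetherian domain embeds in a finite free module with
torsion-free cokernel. -/
theorem exists_injective_free_torsionFree_coker (R : Type u) [CommRing R] [IsDomain R]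
    [IsNoetherianRing R] (M : Type v) [AddCommGroup M] [Module R M] [Module.Finite R M]
    [Module.IsReflexive R M] :
    ∃ (n : ℕ) (f : M →ₗ[R] (Fin n → R)), Function.Injective f ∧
      Module.IsTorsionFree R ((Fin n → R) ⧸ LinearMap.range f) := by
  classical
  have : Module.Finite R (Module.Dual R M) := inferInstance
  obtain ⟨n, π, hπ⟩ := Module.Finite.exists_fin' R (Module.Dual R M)
  let f : M →ₗ[R] (Fin n → R) :=
    LinearMap.pi (fun i => π (fun j => if i = j then 1 else 0))
  have hpair : ∀ (a : Fin n → R) (x : M), π a x = ∑ i, a i * f x i := by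
    intro a x
    rw [LinearMap.pi_apply_eq_sum_univ π a, LinearMap.sum_apply]
    exact Finset.sum_congr rfl (fun i _ => rfl)
  have hfinj : Function.Injective f := by
    rw [injective_iff_map_eq_zero]
    intro x hx
    apply (Module.bijective_dual_eval R M).1
    rw [map_zero]
    refine LinearMap.ext fun φ => ?_
    obtain ⟨a, rfl⟩ := hπ φ
    rw [Module.Dual.eval_apply, hpair, hx]
    simp
  refine ⟨n, f, hfinj, Module.IsTorsionFree.of_smul_eq_zero ?_⟩
  intro r q hrq
  by_cases hr : r = 0
  · exact Or.inl hr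
  right
  obtain ⟨v, rfl⟩ := Submodule.Quotient.mk_surjective _ q
  rw [← Submodule.Quotient.mk_smul, Submodule.Quotient.mk_eq_zero] at hrq
  rw [Submodule.Quotient.mk_eq_zero]
  obtain ⟨x, hx⟩ := hrq
  let ℓ : (Fin n → R) →ₗ[R] R := ∑ i, v i • LinearMap.proj i
  have hℓ : ∀ a : Fin n → R, ℓ a = ∑ i, a i * v i := by
    intro a
    simp [ℓ, LinearMap.sum_apply, mul_comm]
  have hker : LinearMap.ker π ≤ LinearMap.ker ℓ := by
    intro a ha
    rw [LinearMap.mem_ker] at ha ⊢
    have h1 : r * ℓ a = 0 := by
      rw [hℓ, Finset.mul_sum]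
      have h2 : π a x = 0 := by rw [ha]; rfl
      rw [hpair, hx] at h2
      rw [← h2]
      refine Finset.sum_congr rfl (fun i _ => ?_)
      rw [Pi.smul_apply, smul_eq_mul]
      ring
    exact (mul_eq_zero.mp h1).resolve_left hr
  obtain ⟨y, hy⟩ := exists_factor_of_ker_le π hπ ℓ hker
  obtain ⟨x', hx'⟩ := (Module.bijective_dual_eval R M).2 y
  refine ⟨x', ?_⟩
  funext i
  have h1 : f x' i = y (π (fun j => if i = j then 1 else 0)) := by
    rw [← hx']
    rfl
  rw [h1, hy, hℓ]
  simp

/-- A finite power of a reflexive module is reflexive. -/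
theorem isReflexive_pi_fin (R : Type u) [CommRing R] (N : Type v) [AddCommGroup N] [Module R N]
    [Module.IsReflexive R N] : ∀ n : ℕ, Module.IsReflexive R (Fin n → N)
  | 0 => ⟨⟨fun _ _ _ => Subsingleton.elim _ _, fun y => ⟨0, by
      refine LinearMap.ext fun φ => ?_
      have : φ = 0 := LinearMap.ext fun x => by rw [Subsingleton.elim x 0, map_zero, map_zero]
      rw [this, map_zero, map_zero]⟩⟩⟩
  | n + 1 => by
      have := isReflexive_pi_fin R N n
      exact Module.equiv (Fin.consLinearEquiv R (fun _ : Fin (n + 1) => N))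

end Groth.Agent.H34
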