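import Groth.Agent.H34.Fitting8
import Groth.Agent.H34.Reflexive2

set_option autoImplicit false
universe u v w

namespace Groth.Agent.H34.Fit

open Matrix TensorProduct CategoryTheory

variable {R : Type u} [CommRing R] {M : Type v} [AddCommGroup M] [Module R M]

theorem minorsIdeal_eq_bot_of_card_lt {κ : Type*} [Fintype κ] (Z : Set (κ → R)) (p : ℕ)
    (h : Fintype.card κ < p) : minorsIdeal Z p = ⊥ := by
  classical
  rw [eq_bot_iff]
  apply Ideal.span_le.mpr
  rintro d ⟨z, e, hz, rfl⟩
  have hne : ¬ Function.Injective e := by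
    intro he
    have := Fintype.card_le_of_injective e he
    rw [Fintype.card_fin] at this
    omega
  rw [Function.Injective] at hne
  simp only [not_forall] at hne
  obtain ⟨a, a', haa, hne'⟩ := hne
  rw [SetLike.mem_coe, Ideal.mem_bot]
  apply Matrix.det_zero_of_row_eq hne'
  funext b
  simp only [Matrix.of_apply]
  rw [haa]

theorem minorsIdeal_succ_eq_bot {n : ℕ} (x : Fin n → M)
    (hx : Submodule.span R (Set.range x) = ⊤) (k : ℕ)
    (hk : k = 0 ∨ Fitt.ideal R M (k - 1) = ⊥) :
    minorsIdeal {z : Fin n → R | IsRel x z} (n - k + 1) = ⊥ := by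
  by_cases hk0 : k = 0
  · subst hk0
    exact minorsIdeal_eq_bot_of_card_lt _ _ (by rw [Fintype.card_fin]; omega)
  · rcases hk with hk | hk
    · exact absurd hk hk0
    · rw [fittIdeal_eq_minorsIdeal x hx (k - 1)] at hk
      by_cases hkn : k ≤ n
      · have h0 : n - (k - 1) = n - k + 1 := by omega
        rw [h0] at hk
        exact hk
      · have h0 : n - (k - 1) = 0 := by omega
        rw [h0, minorsIdeal_zero] at hk
        have h01 : (1 : R) = 0 := by
          have h1 : (1 : R) ∈ (⊤ : Ideal R) := trivial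
          rw [hk] at h1
          exact (Submodule.mem_bot R).mp h1
        rw [eq_bot_iff]
        intro d _
        rw [Ideal.mem_bot, ← mul_one d, h01, mul_zero]

theorem span_cofactors_eq_top {κ : Type*} (Z : Set (κ → R)) (p : ℕ) (a : R)
    (ha : ∀ c : R, a * c = 0 → c = 0) (hfit : minorsIdeal Z p = Ideal.span {a}) :
    Ideal.span {c | ∃ (z : Fin p → κ → R) (e : Fin p → κ), (∀ b, z b ∈ Z) ∧
      (Matrix.of fun a' b => z b (e a')).det = a * c} = ⊤ := by
  have hcancel : ∀ c c' : R, a * c = a * c' → c = c' := fun c c' h =>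
    sub_eq_zero.mp (ha _ (by rw [mul_sub, h, sub_self]))
  have h1 : minorsIdeal Z p ≤ Ideal.span {a} * Ideal.span {c | ∃ (z : Fin p → κ → R)
      (e : Fin p → κ), (∀ b, z b ∈ Z) ∧ (Matrix.of fun a' b => z b (e a')).det = a * c} := by
    apply Ideal.span_le.mpr
    rintro d ⟨z, e, hz, rfl⟩
    have hd : (Matrix.of fun a' b => z b (e a')).det ∈ Ideal.span {a} := by
      rw [← hfit]
      exact Ideal.subset_span ⟨z, e, hz, rfl⟩
    obtain ⟨c, hc⟩ := Ideal.mem_span_singleton'.mp hd
    rw [SetLike.mem_coe, Ideal.mem_span_singleton_mul]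
    exact ⟨c, Ideal.subset_span ⟨z, e, hz, by rw [← hc, mul_comm]⟩, by rw [← hc, mul_comm]⟩
  have h2 := h1 (by rw [hfit]; exact Ideal.mem_span_singleton_self a)
  obtain ⟨j, hj, hja⟩ := Ideal.mem_span_singleton_mul.mp h2
  have hj1 : j = 1 := hcancel j 1 (by rw [hja, mul_one])
  rw [Ideal.eq_top_iff_one, ← hj1]
  exact hj

/-- Core identity: if all `(q+1)`-minors of `K` vanish, a `q`-minor times the Cramer
combination annihilates. -/
theorem minor_smul_sub_eq_zero {n q : ℕ} (K : Submodule R (Fin n → R))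
    (h2 : minorsIdeal (K : Set (Fin n → R)) (q + 1) = ⊥)
    (z : Fin q → Fin n → R) (hz : ∀ b, z b ∈ K) (e : Fin q → Fin n) (v : Fin n → R)
    (hv : v ∈ K) (i : Fin n) :
    (Matrix.of fun a b => z b (e a)).det * ((Matrix.of fun a b => z b (e a)).det * v i -
      ∑ b, ((Matrix.of fun a b => z b (e a)).adjugate *ᵥ (fun a => v (e a))) b * z b i) = 0 := by
  classical
  set A : Matrix (Fin q) (Fin q) R := Matrix.of fun a b => z b (e a) with hA
  set y : Fin q → R := A.adjugate *ᵥ (fun a => v (e a)) with hy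
  set u : Fin n → R := A.det • v - ∑ b, y b • z b with hu
  have hu_i : ∀ i, u i = A.det * v i - ∑ b, y b * z b i := by
    intro i
    rw [hu]
    simp only [Pi.sub_apply, Pi.smul_apply, smul_eq_mul, Finset.sum_apply]
  have hu_mem : u ∈ K :=
    K.sub_mem (K.smul_mem _ hv) (K.sum_mem (fun b _ => K.smul_mem _ (hz b)))
  have hu_e : ∀ a, u (e a) = 0 := by
    intro a
    rw [hu_i]
    have h4 : ∑ b, y b * z b (e a) = (A *ᵥ y) a :=
      Finset.sum_congr rfl (fun b _ => mul_comm _ _)
    rw [h4, hy, Matrix.mulVec_mulVec, Matrix.mul_adjugate, Matrix.smul_mulVec, Matrix.one_mulVec]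
    simp only [Pi.smul_apply, smul_eq_mul, sub_self]
  set z' : Fin (q + 1) → Fin n → R := Fin.snoc z u with hz'
  set e' : Fin (q + 1) → Fin n := Fin.snoc e i with he'
  set B : Matrix (Fin (q + 1)) (Fin (q + 1)) R := Matrix.of fun a b => z' b (e' a) with hB
  have hmem : B.det ∈ minorsIdeal (K : Set (Fin n → R)) (q + 1) := by
    apply Ideal.subset_span
    refine ⟨z', e', ?_, rfl⟩
    intro b
    refine Fin.lastCases ?_ (fun b' => ?_) b
    · rw [hz', Fin.snoc_last]
      exact hu_mem
    · rw [hz', Fin.snoc_castSucc]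
      exact hz b'
  rw [h2, Ideal.mem_bot] at hmem
  have hzero : ∀ a : Fin q, B (Fin.castSucc a) (Fin.last q) = 0 := by
    intro a
    rw [hB, Matrix.of_apply, hz', he', Fin.snoc_last, Fin.snoc_castSucc]
    exact hu_e a
  have hlast : B (Fin.last q) (Fin.last q) = u i := by
    rw [hB, Matrix.of_apply, hz', he', Fin.snoc_last, Fin.snoc_last]
  have hsub : B.submatrix (Fin.last q).succAbove (Fin.last q).succAbove = A := by
    ext a b
    rw [Matrix.submatrix_apply, Fin.succAbove_last, hB, Matrix.of_apply, hz', he',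
      Fin.snoc_castSucc, Fin.snoc_castSucc]
    rfl
  have hsign : ∀ m : ℕ, (-1 : R) ^ (m + m) = 1 := fun m => Even.neg_one_pow ⟨m, rfl⟩
  have hdetB : B.det = A.det * u i := by
    rw [Matrix.det_succ_column B (Fin.last q), Fin.sum_univ_castSucc, Finset.sum_eq_zero,
      zero_add, hlast, hsub, hsign, one_mul, mul_comm]
    intro a _
    rw [hzero a, mul_zero, zero_mul]
  rw [← hu_i, ← hdetB]
  exact hmem

theorem exists_coeff_map {n q : ℕ} (K : Submodule R (Fin n → R)) (f : R)
    (hf : ∀ c : R, f * c = 0 → c = 0)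
    (h1 : minorsIdeal (K : Set (Fin n → R)) q ≤ Ideal.span {f})
    (h2 : minorsIdeal (K : Set (Fin n → R)) (q + 1) = ⊥)
    (z : Fin q → Fin n → R) (hz : ∀ b, z b ∈ K) (e : Fin q → Fin n) (c : R)
    (hdet : (Matrix.of fun a b => z b (e a)).det = f * c) :
    ∃ g : K →ₗ[R] (Fin q → R), ∀ v : K, ∑ b, g v b • z b = (c * c) • (v : Fin n → R) := by
  classical
  have hcancel : ∀ c c' : R, f * c = f * c' → c = c' := fun c c' h =>
    sub_eq_zero.mp (hf _ (by rw [mul_sub, h, sub_self]))
  let ΛL : K →ₗ[R] (Fin q → R) :=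
    (Matrix.mulVecLin (Matrix.of fun a b => z b (e a)).adjugate) ∘ₗ
      (LinearMap.funLeft R R e) ∘ₗ K.subtype
  have hΛ : ∀ (v : K) (b : Fin q), ΛL v b =
      ((Matrix.of fun a b => z b (e a)).adjugate *ᵥ (fun a => (v : Fin n → R) (e a))) b :=
    fun v b => rfl
  have hΛmem : ∀ (v : K) (b : Fin q), ΛL v b ∈ Ideal.span {f} := by
    intro v b
    apply h1
    rw [hΛ, ← Matrix.cramer_eq_adjugate_mulVec, Matrix.cramer_apply]
    apply Ideal.subset_span
    refine ⟨Function.update z b (v : Fin n → R), e, ?_, ?_⟩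
    · intro b'
      by_cases hb : b' = b
      · subst hb
        rw [Function.update_self]
        exact v.2
      · rw [Function.update_of_ne hb]
        exact hz b'
    · rw [minor_update]
  choose lam hlam using fun (v : K) (b : Fin q) => Ideal.mem_span_singleton'.mp (hΛmem v b)
  have hadd : ∀ (v w : K) (b : Fin q), lam (v + w) b = lam v b + lam w b := by
    intro v w b
    apply hcancel
    rw [mul_add, mul_comm f (lam (v + w) b), mul_comm f (lam v b), mul_comm f (lam w b),
      hlam, hlam, hlam, map_add]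
    rfl
  have hsmul : ∀ (r : R) (v : K) (b : Fin q), lam (r • v) b = r * lam v b := by
    intro r v b
    apply hcancel
    rw [mul_comm f (lam (r • v) b), hlam, mul_comm f, mul_assoc, hlam, map_smul]
    rfl
  let g : K →ₗ[R] (Fin q → R) :=
    { toFun := fun v b => c * lam v b
      map_add' := fun v w => by
        funext b
        show c * lam (v + w) b = c * lam v b + c * lam w b
        rw [hadd, mul_add]
      map_smul' := fun r v => by
        funext b
        show c * lam (r • v) b = r * (c * lam v b)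
        rw [hsmul]
        ring }
  refine ⟨g, fun v => ?_⟩
  funext i
  have hcore := minor_smul_sub_eq_zero K h2 z hz e (v : Fin n → R) v.2 i
  rw [hdet] at hcore
  have hsum : ∑ b, ((Matrix.of fun a b => z b (e a)).adjugate *ᵥ
      (fun a => (v : Fin n → R) (e a))) b * z b i = f * ∑ b, lam v b * z b i := by
    rw [Finset.mul_sum]
    refine Finset.sum_congr rfl (fun b _ => ?_)
    rw [← hΛ, ← hlam]
    ring
  rw [hsum] at hcore
  have hkey : c * (c * (v : Fin n → R) i - ∑ b, lam v b * z b i) = 0 := by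
    apply hf
    apply hf
    linear_combination hcore
  rw [mul_sub, sub_eq_zero] at hkey
  calc (∑ b, g v b • z b) i = c * ∑ b, lam v b * z b i := by
        rw [Finset.sum_apply, Finset.mul_sum]
        refine Finset.sum_congr rfl (fun b _ => ?_)
        show c * lam v b * z b i = c * (lam v b * z b i)
        ring
    _ = c * (c * (v : Fin n → R) i) := hkey.symm
    _ = ((c * c) • (v : Fin n → R)) i := by
        show _ = c * c * (v : Fin n → R) i
        ring

/-- A submodule of `R^n` whose `q`-minors generate `(f)`, `f` a nonzerodivisor, and whose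
`(q+1)`-minors vanish, is projective. -/
theorem projective_of_minorsIdeal {n : ℕ} (K : Submodule R (Fin n → R)) (q : ℕ) (f : R)
    (hf : ∀ c : R, f * c = 0 → c = 0)
    (h1 : minorsIdeal (K : Set (Fin n → R)) q = Ideal.span {f})
    (h2 : minorsIdeal (K : Set (Fin n → R)) (q + 1) = ⊥) : Module.Projective R K := by
  classical
  let J : Ideal R :=
    { carrier := {r | ∃ i : K →ₗ[R] (K →₀ R),
        (Finsupp.linearCombination R (id : K → K)) ∘ₗ i = r • LinearMap.id}
      add_mem' := by
        rintro r s ⟨i, hi⟩ ⟨j, hj⟩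
        exact ⟨i + j, by rw [LinearMap.comp_add, hi, hj, add_smul]⟩
      zero_mem' := ⟨0, by rw [LinearMap.comp_zero, zero_smul]⟩
      smul_mem' := by
        rintro s r ⟨i, hi⟩
        exact ⟨s • i, by rw [LinearMap.comp_smul, hi, smul_smul]; rfl⟩ }
  have hC1 := span_cofactors_eq_top (K : Set (Fin n → R)) q f hf h1
  have hJ : ∀ c ∈ {c | ∃ (z : Fin q → Fin n → R) (e : Fin q → Fin n),
      (∀ b, z b ∈ (K : Set (Fin n → R))) ∧ (Matrix.of fun a' b => z b (e a')).det = f * c},
      c ^ 2 ∈ J := by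
    rintro c ⟨z, e, hz, hdet⟩
    obtain ⟨g, hg⟩ := exists_coeff_map K f hf h1.le h2 z hz e c hdet
    show ∃ i : K →ₗ[R] (K →₀ R),
      (Finsupp.linearCombination R (id : K → K)) ∘ₗ i = (c ^ 2) • LinearMap.id
    refine ⟨∑ b, (Finsupp.lsingle (⟨z b, hz b⟩ : K)) ∘ₗ (LinearMap.proj b) ∘ₗ g, ?_⟩
    apply LinearMap.ext
    intro v
    apply Subtype.ext
    rw [LinearMap.comp_apply, LinearMap.sum_apply, map_sum]
    simp only [LinearMap.comp_apply, LinearMap.proj_apply, Finsupp.lsingle_apply,
      Finsupp.linearCombination_single, id]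
    rw [Submodule.coe_sum, LinearMap.smul_apply, LinearMap.id_apply, Submodule.coe_smul, pow_two,
      ← hg v]
    rfl
  have h3 := Ideal.span_pow_eq_top _ hC1 2
  rw [Ideal.eq_top_iff_one] at h3
  obtain ⟨i, hi⟩ := (Ideal.span_le.mpr (by rintro _ ⟨c, hc, rfl⟩; exact hJ c hc)) h3
  rw [one_smul] at hi
  exact Module.projective_def'.mpr ⟨i, hi⟩

/-- A quotient of `R^n` whose relation module has unit `q`-minors ideal and vanishing
`(q+1)`-minors is a retract of `R^n`. -/
theorem exists_section_of_minorsIdeal {P : Type v} [AddCommGroup P] [Module R P] {n : ℕ}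
    (π : (Fin n → R) →ₗ[R] P) (hπ : Function.Surjective π) (q : ℕ)
    (h1 : minorsIdeal (LinearMap.ker π : Set (Fin n → R)) q = ⊤)
    (h2 : minorsIdeal (LinearMap.ker π : Set (Fin n → R)) (q + 1) = ⊥) :
    ∃ s : P →ₗ[R] (Fin n → R), π ∘ₗ s = LinearMap.id := by
  classical
  let J : Ideal R :=
    { carrier := {r | ∃ s : P →ₗ[R] (Fin n → R), π ∘ₗ s = r • LinearMap.id}
      add_mem' := by
        rintro r r' ⟨s, hs⟩ ⟨s', hs'⟩
        exact ⟨s + s', by rw [LinearMap.comp_add, hs, hs', add_smul]⟩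
      zero_mem' := ⟨0, by rw [LinearMap.comp_zero, zero_smul]⟩
      smul_mem' := by
        rintro t r ⟨s, hs⟩
        exact ⟨t • s, by rw [LinearMap.comp_smul, hs, smul_smul]; rfl⟩ }
  have hJ : ∀ d ∈ {d | ∃ (z : Fin q → Fin n → R) (e : Fin q → Fin n),
      (∀ b, z b ∈ (LinearMap.ker π : Set (Fin n → R))) ∧
        d = (Matrix.of fun a b => z b (e a)).det}, d ^ 2 ∈ J := by
    rintro _ ⟨z, e, hz, rfl⟩
    set A : Matrix (Fin q) (Fin q) R := Matrix.of fun a b => z b (e a) with hA
    let W : (Fin n → R) →ₗ[R] (Fin n → R) :=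
      (Matrix.mulVecLin (Matrix.of fun (i : Fin n) (b : Fin q) => z b i)) ∘ₗ
        (Matrix.mulVecLin A.adjugate) ∘ₗ (LinearMap.funLeft R R e)
    let U : (Fin n → R) →ₗ[R] (Fin n → R) := A.det • (A.det • LinearMap.id - W)
    have hU : ∀ v i, U v i = A.det * (A.det * v i -
        ∑ b, z b i * (A.adjugate *ᵥ (fun a => v (e a))) b) := fun v i => rfl
    have hker : LinearMap.ker π ≤ LinearMap.ker U := by
      intro v hv
      rw [LinearMap.mem_ker]
      funext i
      rw [hU]
      have h5 := minor_smul_sub_eq_zero (LinearMap.ker π) h2 z hz e v hv i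
      refine Eq.trans ?_ h5
      show A.det * (A.det * v i - ∑ b, z b i * (A.adjugate *ᵥ (fun a => v (e a))) b) =
        A.det * (A.det * v i - ∑ b, (A.adjugate *ᵥ (fun a => v (e a))) b * z b i)
      congr 2
      exact Finset.sum_congr rfl (fun b _ => mul_comm _ _)
    obtain ⟨Ub, hUb⟩ := Groth.Agent.H34.exists_factor_of_ker_le π hπ U hker
    show ∃ s : P →ₗ[R] (Fin n → R), π ∘ₗ s = (A.det ^ 2) • LinearMap.id
    refine ⟨Ub, ?_⟩
    apply LinearMap.ext
    intro p
    obtain ⟨v, rfl⟩ := hπ p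
    rw [LinearMap.comp_apply, hUb]
    have hUv : U v = (A.det ^ 2) • v -
        ∑ b, (A.det * (A.adjugate *ᵥ (fun a => v (e a))) b) • z b := by
      funext i
      rw [hU]
      simp only [Pi.sub_apply, Pi.smul_apply, Finset.sum_apply, smul_eq_mul]
      rw [mul_sub, Finset.mul_sum]
      congr 1
      · ring
      · exact Finset.sum_congr rfl (fun b _ => by ring)
    rw [hUv, map_sub, map_smul, map_sum, Finset.sum_eq_zero, sub_zero]
    · rfl
    · intro b _
      rw [map_smul, LinearMap.mem_ker.mp (hz b), smul_zero]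
  have h3 := Ideal.span_pow_eq_top _ (show Ideal.span {d | ∃ (z : Fin q → Fin n → R)
    (e : Fin q → Fin n), (∀ b, z b ∈ (LinearMap.ker π : Set (Fin n → R))) ∧
      d = (Matrix.of fun a b => z b (e a)).det} = ⊤ from h1) 2
  rw [Ideal.eq_top_iff_one] at h3
  obtain ⟨s, hs⟩ := (Ideal.span_le.mpr (by rintro _ ⟨d, hd, rfl⟩; exact hJ d hd)) h3
  exact ⟨s, by rw [hs, one_smul]⟩

end Groth.Agent.H34.Fit
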