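import Mathlib
import Groth.Prelude.Def_CAlg
import Groth.Agent.S2938
import Groth.Agent.H15.Depth

set_option autoImplicit false

namespace Groth.Agent.H34.FlatHt

universe u

open TensorProduct Groth.Agent.H15.Depth RingTheory.Sequence

section

variable {A B : Type u} [CommRing A] [CommRing B] [Algebra A B] [Module.Flat A B]

theorem one_tmul_ne_zero (M : Type u) [AddCommGroup M] [Module A M] (m : M) (p : Ideal A)
    (hp : ∀ a : A, a • m = 0 ↔ a ∈ p) (hpB : p.map (algebraMap A B) ≠ ⊤) :
    (1 : B) ⊗ₜ[A] m ≠ 0 := by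
  intro h0
  have hex : Function.Exact p.subtype (LinearMap.toSpanSingleton A M m) := by
    intro a
    rw [LinearMap.toSpanSingleton_apply, hp a]
    simp
  have hex' := Module.Flat.lTensor_exact B hex
  have h1 : (LinearMap.lTensor B (LinearMap.toSpanSingleton A M m)) ((1 : B) ⊗ₜ (1 : A)) = 0 := by
    rw [LinearMap.lTensor_tmul, LinearMap.toSpanSingleton_apply, one_smul, h0]
  obtain ⟨t, ht⟩ := (hex' _).mp h1
  have key : ∀ t : B ⊗[A] p, TensorProduct.rid A B (LinearMap.lTensor B p.subtype t) ∈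
      p.map (algebraMap A B) := by
    intro t
    induction t using TensorProduct.induction_on with
    | zero => simp
    | tmul b a =>
      rw [LinearMap.lTensor_tmul, TensorProduct.rid_tmul, Submodule.subtype_apply,
        Algebra.smul_def]
      exact Ideal.mul_mem_right _ _ (Ideal.mem_map_of_mem _ a.2)
    | add x y hx hy =>
      rw [map_add, map_add]
      exact Ideal.add_mem _ hx hy
  have h2 := key t
  rw [ht, TensorProduct.rid_tmul, one_smul] at h2
  exact hpB ((Ideal.eq_top_iff_one _).mpr h2)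

variable [IsNoetherianRing A] {I : Ideal A}
  (hI : ∀ p : PrimeSpectrum A, I ≤ p.asIdeal →
    ∃ q : PrimeSpectrum B, q.asIdeal.comap (algebraMap A B) = p.asIdeal)

include hI

theorem hasSocle_baseChange (M : Type u) [AddCommGroup M] [Module A M] (h : HasSocle I M) :
    HasSocle (I.map (algebraMap A B)) (B ⊗[A] M) := by
  obtain ⟨m, hm, hIm⟩ := h
  obtain ⟨P, hP, hle⟩ := exists_le_isAssociatedPrime_of_isNoetherianRing A m hm
  obtain ⟨hPp, m', hPeq⟩ := isAssociatedPrime_iff.mp hP
  have hIP : I ≤ P := fun a ha => hle (by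
    rw [Submodule.mem_colon_singleton, Submodule.mem_bot]
    exact hIm a ha)
  have hp : ∀ a : A, a • m' = 0 ↔ a ∈ P := fun a => by
    rw [hPeq, Submodule.mem_colon_singleton, Submodule.mem_bot]
  obtain ⟨q, hq⟩ := hI ⟨P, hPp⟩ hIP
  have hle' : P.map (algebraMap A B) ≤ q.asIdeal := Ideal.map_le_iff_le_comap.mpr hq.ge
  have hpB : P.map (algebraMap A B) ≠ ⊤ := fun h => q.isPrime.ne_top (top_le_iff.mp (h ▸ hle'))
  refine ⟨(1 : B) ⊗ₜ[A] m', one_tmul_ne_zero M m' P hp hpB, ?_⟩
  intro t ht
  refine Submodule.span_induction (p := fun t _ => t • ((1 : B) ⊗ₜ[A] m') = 0) ?_ ?_ ?_ ?_ ht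
  · rintro _ ⟨a, ha, rfl⟩
    rw [TensorProduct.smul_tmul', smul_eq_mul, mul_one, Algebra.algebraMap_eq_smul_one,
      TensorProduct.smul_tmul, (hp a).mpr (hIP ha), TensorProduct.tmul_zero]
  · rw [zero_smul]
  · intro x y _ _ hx hy
    rw [add_smul, hx, hy, add_zero]
  · intro b x _ hx
    rw [smul_eq_mul, mul_smul, hx, smul_zero]

theorem smul_top_baseChange_ne_top (M : Type u) [AddCommGroup M] [Module A M]
    (hIM : I • (⊤ : Submodule A M) ≠ ⊤) :
    (I.map (algebraMap A B)) • (⊤ : Submodule B (B ⊗[A] M)) ≠ ⊤ := by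
  intro htop
  have hQ : Nontrivial (M ⧸ I • (⊤ : Submodule A M)) :=
    Submodule.Quotient.nontrivial_iff.mpr hIM
  obtain ⟨x, hx⟩ := exists_ne (0 : M ⧸ I • (⊤ : Submodule A M))
  have hkillQ : ∀ a ∈ I, ∀ x : M ⧸ I • (⊤ : Submodule A M), a • x = 0 := by
    intro a ha x
    obtain ⟨y, rfl⟩ := Submodule.Quotient.mk_surjective _ x
    rw [← Submodule.Quotient.mk_smul, Submodule.Quotient.mk_eq_zero]
    exact Submodule.smul_mem_smul ha trivial
  have hsoc : HasSocle I (M ⧸ I • (⊤ : Submodule A M)) := ⟨x, hx, fun a ha => hkillQ a ha x⟩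
  obtain ⟨z, hz, -⟩ := hasSocle_baseChange hI _ hsoc
  have claim : ∀ r ∈ I.map (algebraMap A B), ∀ n : B ⊗[A] (M ⧸ I • (⊤ : Submodule A M)),
      r • n = 0 := by
    intro r hr n
    refine Submodule.span_induction (p := fun r _ => r • n = 0) ?_ ?_ ?_ ?_ hr
    · rintro _ ⟨a, ha, rfl⟩
      induction n using TensorProduct.induction_on with
      | zero => rw [smul_zero]
      | tmul b y =>
        rw [TensorProduct.smul_tmul', smul_eq_mul, ← Algebra.smul_def, TensorProduct.smul_tmul,
          hkillQ a ha, TensorProduct.tmul_zero]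
      | add y y' hy hy' => rw [smul_add, hy, hy', add_zero]
    · rw [zero_smul]
    · intro x y _ _ hx hy
      rw [add_smul, hx, hy, add_zero]
    · intro b x _ hx
      rw [smul_eq_mul, mul_smul, hx, smul_zero]
  let g : B ⊗[A] M →ₗ[B] B ⊗[A] (M ⧸ I • (⊤ : Submodule A M)) :=
    (Submodule.mkQ (I • (⊤ : Submodule A M))).baseChange B
  have hg : Function.Surjective g :=
    LinearMap.lTensor_surjective B (Submodule.mkQ_surjective _)
  obtain ⟨w, rfl⟩ := hg z
  apply hz
  have hw : w ∈ (I.map (algebraMap A B)) • (⊤ : Submodule B (B ⊗[A] M)) := by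
    rw [htop]; trivial
  refine Submodule.smul_induction_on hw ?_ ?_
  · intro r hr n _
    rw [map_smul]
    exact claim r hr _
  · intro x y hx hy
    rw [map_add, hx, hy, add_zero]

theorem hasSeq_of_baseChange [IsNoetherianRing B] (n : ℕ) :
    ∀ (M : Type u) [AddCommGroup M] [Module A M] [Module.Finite A M],
      HasSeq (I.map (algebraMap A B)) (B ⊗[A] M) n → HasSeq I M n := by
  induction n with
  | zero => intro M _ _ _ _; exact hasSeq_zero
  | succ n ih =>
    intro M _ _ _ h
    obtain ⟨x, hx, hxr⟩ : ∃ x ∈ I, IsSMulRegular M x := by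
      rcases exists_regular_or_hasSocle (I := I) M with h1 | hsoc
      · exact h1
      · exfalso
        obtain ⟨y, hy, hyr, -⟩ := hasSeq_succ_iff.mp h
        exact (hasSocle_baseChange hI M hsoc).not_regular hy hyr
    have hxB : algebraMap A B x ∈ I.map (algebraMap A B) := Ideal.mem_map_of_mem _ hx
    have hxrB : IsSMulRegular (B ⊗[A] M) (algebraMap A B x) :=
      hxr.of_flat_of_isBaseChange (TensorProduct.isBaseChange A M B)
    have h1 : HasSeq (I.map (algebraMap A B)) (QuotSMulTop (algebraMap A B x) (B ⊗[A] M)) n :=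
      hasSeq_quot_of_hasSeq_succ hxB hxrB h
    have h2 : HasSeq (I.map (algebraMap A B)) (B ⊗[A] QuotSMulTop x M) n :=
      h1.congr (QuotSMulTop.algebraMapTensorEquivTensorQuotSMulTop x M B)
    exact hasSeq_succ_iff.mpr ⟨x, hx, hxr, ih (QuotSMulTop x M) h2⟩

theorem idealDepth_baseChange_eq [IsNoetherianRing B] (M : Type u) [AddCommGroup M] [Module A M]
    [Module.Finite A M] :
    LocCoh.idealDepth (I.map (algebraMap A B)) (B ⊗[A] M) = LocCoh.idealDepth I M := by
  by_cases hIM : I • (⊤ : Submodule A M) = ⊤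
  · rw [idealDepth_eq_top_of_smul_top_eq_top hIM,
      idealDepth_eq_top_of_smul_top_eq_top (Groth.Agent.S2938.smul_top_baseChange_eq_top I M hIM)]
  · have hJ := smul_top_baseChange_ne_top hI M hIM
    apply le_antisymm
    · rw [← ENat.forall_natCast_le_iff_le]
      intro n hn
      rw [le_idealDepth_iff hJ] at hn
      rw [le_idealDepth_iff hIM]
      exact hasSeq_of_baseChange hI n M hn
    · rw [← ENat.forall_natCast_le_iff_le]
      intro n hn
      rw [le_idealDepth_iff hIM] at hn
      rw [le_idealDepth_iff hJ]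
      exact Groth.Agent.S2938.hasSeq_baseChange I M hn

theorem height_map_eq [IsNoetherianRing B] : (I.map (algebraMap A B)).height = I.height := by
  apply le_antisymm
  · conv_rhs => rw [Ideal.height_eq_inf_minimalPrimes I]
    refine le_iInf₂ fun p hp => ?_
    have hpp : p.IsPrime := hp.1.1
    obtain ⟨q, hq⟩ := hI ⟨p, hpp⟩ hp.1.2
    obtain ⟨q', hq'min, hq'le⟩ := Ideal.exists_minimalPrimes_le
      (I := p.map (algebraMap A B)) (J := q.asIdeal) (Ideal.map_le_iff_le_comap.mpr hq.ge)
    have hq'p : q'.IsPrime := hq'min.1.1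
    have hover : q'.comap (algebraMap A B) = p :=
      le_antisymm ((Ideal.comap_mono hq'le).trans hq.le) (Ideal.map_le_iff_le_comap.mp hq'min.1.2)
    have : q'.LiesOver p := ⟨hover.symm⟩
    have hht := Ideal.height_eq_height_add_of_liesOver_of_hasGoingDown p q'
    have hzero : (q'.map (Ideal.Quotient.mk (p.map (algebraMap A B)))).height = 0 := by
      have h1 := hq'min
      rw [Ideal.minimalPrimes_eq_comap] at h1
      obtain ⟨Q, hQ, rfl⟩ := h1
      rw [Ideal.map_comap_of_surjective _ Ideal.Quotient.mk_surjective]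
      have : Q.IsPrime := hQ.1.1
      exact Ideal.height_eq_zero_iff.mpr hQ
    rw [hzero, add_zero] at hht
    calc (I.map (algebraMap A B)).height ≤ q'.height :=
          Ideal.height_mono ((Ideal.map_mono hp.1.2).trans hq'min.1.2)
      _ = p.height := hht
  · conv_rhs => rw [Ideal.height_eq_inf_minimalPrimes (I.map (algebraMap A B))]
    refine le_iInf₂ fun q hq => ?_
    have hqp : q.IsPrime := hq.1.1
    have : q.LiesOver (q.comap (algebraMap A B)) := ⟨rfl⟩
    have hht := Ideal.height_eq_height_add_of_liesOver_of_hasGoingDown (q.comap (algebraMap A B)) q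
    rw [hht]
    exact le_trans (Ideal.height_mono (Ideal.map_le_iff_le_comap.mp hq.1.2)) le_self_add

end

end Groth.Agent.H34.FlatHt
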