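import Mathlib
import Groth.Agent.H34.Reflexive2

set_option autoImplicit false

namespace Groth.Agent.H34.FourTerm

universe u

open Function

section Basic

variable {R : Type u} [CommRing R] {M : Type u} [AddCommGroup M] [Module R M]

/-- The map into `Rⁿ` whose coordinates are the images of the standard basis under `π`. -/
noncomputable def dualPi {n : ℕ} (π : (Fin n → R) →ₗ[R] Module.Dual R M) :
    M →ₗ[R] (Fin n → R) :=
  LinearMap.pi (fun i => π (fun j => if i = j then 1 else 0))

theorem pair {n : ℕ} (π : (Fin n → R) →ₗ[R] Module.Dual R M) (a : Fin n → R) (x : M) :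
    π a x = ∑ i, a i * dualPi π x i := by
  classical
  rw [LinearMap.pi_apply_eq_sum_univ π a, LinearMap.sum_apply]
  exact Finset.sum_congr rfl (fun i _ => rfl)

theorem dualPi_injective {n : ℕ} (π : (Fin n → R) →ₗ[R] Module.Dual R M) (hπ : Surjective π)
    (hM : Injective (Module.Dual.eval R M)) : Injective (dualPi π) := by
  rw [injective_iff_map_eq_zero]
  intro x hx
  apply hM
  rw [map_zero]
  refine LinearMap.ext fun φ => ?_
  obtain ⟨a, rfl⟩ := hπ φ
  rw [Module.Dual.eval_apply, pair, hx]
  simp

theorem eval_coker_injective {n : ℕ} (π : (Fin n → R) →ₗ[R] Module.Dual R M)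
    (hπ : Surjective π) (hM : Surjective (Module.Dual.eval R M)) :
    Injective (Module.Dual.eval R ((Fin n → R) ⧸ LinearMap.range (dualPi π))) := by
  classical
  rw [injective_iff_map_eq_zero]
  intro q hq
  obtain ⟨v, rfl⟩ := Submodule.Quotient.mk_surjective _ q
  rw [Submodule.Quotient.mk_eq_zero]
  let ℓ : (Fin n → R) → ((Fin n → R) →ₗ[R] R) := fun a => ∑ i, a i • LinearMap.proj i
  have hℓ : ∀ a y : Fin n → R, ℓ a y = ∑ i, a i * y i := by
    intro a y
    simp [ℓ, LinearMap.sum_apply]
  let ℓv : (Fin n → R) →ₗ[R] R := ∑ i, v i • LinearMap.proj i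
  have hℓv : ∀ a : Fin n → R, ℓv a = ∑ i, a i * v i := by
    intro a
    simp [ℓv, LinearMap.sum_apply, mul_comm]
  have hker : LinearMap.ker π ≤ LinearMap.ker ℓv := by
    intro a ha
    rw [LinearMap.mem_ker] at ha ⊢
    have hle : LinearMap.range (dualPi π) ≤ LinearMap.ker (ℓ a) := by
      rintro _ ⟨x, rfl⟩
      rw [LinearMap.mem_ker, hℓ, ← pair, ha]
      rfl
    have h1 := LinearMap.congr_fun hq ((LinearMap.range (dualPi π)).liftQ (ℓ a) hle)
    rw [Module.Dual.eval_apply, LinearMap.zero_apply, Submodule.liftQ_apply, hℓ] at h1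
    rw [hℓv]
    exact h1
  obtain ⟨y, hy⟩ := Groth.Agent.H34.exists_factor_of_ker_le π hπ ℓv hker
  obtain ⟨x', hx'⟩ := hM y
  refine ⟨x', ?_⟩
  funext i
  have h1 : dualPi π x' i = y (π (fun j => if i = j then 1 else 0)) := by
    rw [← hx']
    rfl
  rw [h1, hy, hℓv]
  simp

end Basic

section Core

variable {R : Type u} [CommRing R] [IsNoetherianRing R] {M : Type u} [AddCommGroup M]
  [Module R M] [Module.Finite R M]

theorem core {n : ℕ} (π : (Fin n → R) →ₗ[R] Module.Dual R M) (hπ : Surjective π)
    (p : Ideal R) [p.IsPrime]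
    [Module.Free (Localization.AtPrime p) (LocalizedModule p.primeCompl M)] :
    Module.Free (Localization.AtPrime p)
      (LocalizedModule p.primeCompl ((Fin n → R) ⧸ LinearMap.range (dualPi π))) := by
  classical
  have : Module.FinitePresentation R M := Module.finitePresentation_of_finite R M
  -- Step A
  have hA : ∀ θ : LocalizedModule p.primeCompl M →ₗ[Localization.AtPrime p]
      Localization.AtPrime p, ∃ c : Fin n → Localization.AtPrime p, ∀ x : M,
      θ (LocalizedModule.mkLinearMap p.primeCompl M x) =
        ∑ i, c i * algebraMap R (Localization.AtPrime p) (dualPi π x i) := by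
    intro θ
    obtain ⟨h, u, hu⟩ := Module.FinitePresentation.exists_lift_of_isLocalizedModule p.primeCompl
      (Algebra.linearMap R (Localization.AtPrime p))
      ((θ.restrictScalars R) ∘ₗ LocalizedModule.mkLinearMap p.primeCompl M)
    obtain ⟨a, rfl⟩ := hπ h
    refine ⟨fun i => IsLocalization.mk' (Localization.AtPrime p) (a i) u, fun x => ?_⟩
    have h1 := LinearMap.congr_fun hu x
    rw [LinearMap.comp_apply, LinearMap.smul_apply, LinearMap.comp_apply,
      LinearMap.restrictScalars_apply, Algebra.linearMap_apply, Submonoid.smul_def,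
      Algebra.smul_def, pair, map_sum] at h1
    apply (IsLocalization.map_units (Localization.AtPrime p) u).mul_left_cancel
    rw [← h1, Finset.mul_sum]
    refine Finset.sum_congr rfl fun i _ => ?_
    rw [map_mul, ← mul_assoc, IsLocalization.mk'_spec']
  -- Step B
  let b := Module.Free.chooseBasis (Localization.AtPrime p) (LocalizedModule p.primeCompl M)
  choose c hc using fun k => hA (b.coord k)
  let nn : Fin n → LocalizedModule p.primeCompl M := fun i => ∑ k, c k i • b k
  have hB : ∀ x : M, LocalizedModule.mkLinearMap p.primeCompl M x =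
      ∑ i, (dualPi π x i) • nn i := by
    intro x
    conv_lhs => rw [← b.sum_repr (LocalizedModule.mkLinearMap p.primeCompl M x)]
    simp_rw [← Module.Basis.coord_apply, hc, nn, Finset.sum_smul, Finset.smul_sum]
    rw [Finset.sum_comm]
    refine Finset.sum_congr rfl fun i _ => Finset.sum_congr rfl fun k _ => ?_
    rw [← algebraMap_smul (Localization.AtPrime p) (dualPi π x i), smul_smul, mul_comm]
  -- Step C
  let s₀ : (Fin n → R) →ₗ[R] LocalizedModule p.primeCompl M :=
    ∑ i, (LinearMap.toSpanSingleton R _ (nn i)) ∘ₗ LinearMap.proj i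
  have hs₀ : ∀ y, s₀ y = ∑ i, y i • nn i := by
    intro y
    simp [s₀, LinearMap.sum_apply, LinearMap.toSpanSingleton_apply]
  let s₁ : LocalizedModule p.primeCompl (Fin n → R) →ₗ[R] LocalizedModule p.primeCompl M :=
    IsLocalizedModule.lift p.primeCompl (LocalizedModule.mkLinearMap p.primeCompl (Fin n → R)) s₀
      (fun u => IsLocalizedModule.map_units (LocalizedModule.mkLinearMap p.primeCompl M) u)
  have hs₁ : ∀ y, s₁ (LocalizedModule.mkLinearMap p.primeCompl _ y) = s₀ y :=
    IsLocalizedModule.lift_apply p.primeCompl _ s₀ _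
  let s : LocalizedModule p.primeCompl (Fin n → R) →ₗ[Localization.AtPrime p]
      LocalizedModule p.primeCompl M :=
    LinearMap.extendScalarsOfIsLocalization p.primeCompl (Localization.AtPrime p) s₁
  let f' : LocalizedModule p.primeCompl M →ₗ[Localization.AtPrime p]
      LocalizedModule p.primeCompl (Fin n → R) := LocalizedModule.map p.primeCompl (dualPi π)
  have hsf : s ∘ₗ f' = LinearMap.id := by
    apply LinearMap.restrictScalars_injective R
    apply IsLocalizedModule.linearMap_ext p.primeCompl
      (LocalizedModule.mkLinearMap p.primeCompl M) (LocalizedModule.mkLinearMap p.primeCompl M)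
    refine LinearMap.ext fun x => ?_
    show s₁ (LocalizedModule.map p.primeCompl (dualPi π)
      (LocalizedModule.mkLinearMap p.primeCompl M x)) = LocalizedModule.mkLinearMap p.primeCompl M x
    rw [LocalizedModule.mkLinearMap_apply, LocalizedModule.map_mk,
      ← LocalizedModule.mkLinearMap_apply, hs₁, hs₀, ← hB, LocalizedModule.mkLinearMap_apply]
  -- Step D
  let π' := LocalizedModule.map p.primeCompl (LinearMap.range (dualPi π)).mkQ
  have hex : Function.Exact f' π' :=
    LocalizedModule.map_exact p.primeCompl (dualPi π) (LinearMap.range (dualPi π)).mkQ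
      (LinearMap.exact_map_mkQ_range (dualPi π))
  have hsurj : Surjective π' :=
    LocalizedModule.map_surjective p.primeCompl _ (Submodule.mkQ_surjective _)
  have h10 : (Surjective π' ∧ ∃ l, l ∘ₗ f' = LinearMap.id) →
      (Injective f' ∧ ∃ l, π' ∘ₗ l = LinearMap.id) :=
    ((Function.Exact.split_tfae' hex).out 1 0).mp
  obtain ⟨-, l, hl⟩ := h10 ⟨hsurj, s, hsf⟩
  have : Module.Free (Localization.AtPrime p) (LocalizedModule p.primeCompl (Fin n → R)) :=
    Module.free_of_isLocalizedModule p.primeCompl
      (LocalizedModule.mkLinearMap p.primeCompl (Fin n → R))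
  have : Module.Projective (Localization.AtPrime p)
      (LocalizedModule p.primeCompl ((Fin n → R) ⧸ LinearMap.range (dualPi π))) :=
    Module.Projective.of_split l π' hl
  exact Module.free_of_flat_of_isLocalRing

end Core

theorem main (B : Type u) [CommRing B] [IsNoetherianRing B]
    (J : Ideal B) (F : Type u) [AddCommGroup F] [Module B F] [Module.Finite B F]
    [Module.IsReflexive B F]
    (hU : ∀ q : PrimeSpectrum B, ¬ J ≤ q.asIdeal →
      Module.Free (Localization.AtPrime q.asIdeal) (LocalizedModule q.asIdeal.primeCompl F)) :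
    ∃ (n m : ℕ) (g : F →ₗ[B] (Fin n → B)) (h : (Fin n → B) →ₗ[B] (Fin m → B)),
      Function.Injective g ∧ Function.Exact g h ∧
      ∀ q : PrimeSpectrum B, ¬ J ≤ q.asIdeal →
        Module.Free (Localization.AtPrime q.asIdeal)
          (LocalizedModule q.asIdeal.primeCompl ((Fin m → B) ⧸ LinearMap.range h)) := by
  have : Module.Finite B (Module.Dual B F) := inferInstance
  obtain ⟨n, π₁, hπ₁⟩ := Module.Finite.exists_fin' B (Module.Dual B F)
  have hg : Injective (dualPi π₁) :=
    dualPi_injective π₁ hπ₁ (Module.bijective_dual_eval B F).1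
  have hC := eval_coker_injective π₁ hπ₁ (Module.bijective_dual_eval B F).2
  have : Module.Finite B (Module.Dual B ((Fin n → B) ⧸ LinearMap.range (dualPi π₁))) :=
    inferInstance
  obtain ⟨m, π₂, hπ₂⟩ := Module.Finite.exists_fin' B
    (Module.Dual B ((Fin n → B) ⧸ LinearMap.range (dualPi π₁)))
  have hhbar : Injective (dualPi π₂) := dualPi_injective π₂ hπ₂ hC
  refine ⟨n, m, dualPi π₁, dualPi π₂ ∘ₗ (LinearMap.range (dualPi π₁)).mkQ, hg, ?_, ?_⟩
  · intro y
    rw [LinearMap.comp_apply, ← map_zero (dualPi π₂), hhbar.eq_iff, Submodule.mkQ_apply,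
      Submodule.Quotient.mk_eq_zero]
    rfl
  · intro q hq
    have := hU q hq
    have hCfree : Module.Free (Localization.AtPrime q.asIdeal)
        (LocalizedModule q.asIdeal.primeCompl ((Fin n → B) ⧸ LinearMap.range (dualPi π₁))) :=
      core π₁ hπ₁ q.asIdeal
    have hr : LinearMap.range (dualPi π₂ ∘ₗ (LinearMap.range (dualPi π₁)).mkQ) =
        LinearMap.range (dualPi π₂) :=
      LinearMap.range_comp_of_range_eq_top _ (Submodule.range_mkQ _)
    rw [hr]
    exact core π₂ hπ₂ q.asIdeal

end Groth.Agent.H34.FourTerm
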