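import Groth.Agent.H34.GRingLoc
import Mathlib.AlgebraicGeometry.Noetherian
import Mathlib.AlgebraicGeometry.AffineScheme

/-! G-schemes: the G-ring condition on affine opens is local (helper34). -/

set_option autoImplicit false
universe u
open CategoryTheory AlgebraicGeometry

namespace Groth.Agent.H34.GScheme

theorem main (X : Scheme.{u}) :
    (∀ x : X, ∃ U : X.Opens, x ∈ U ∧ IsAffineOpen U ∧ CAlg.IsGRing Γ(X, U)) ↔
      ∀ U : X.Opens, IsAffineOpen U → CAlg.IsGRing Γ(X, U) := by
  constructor
  · intro H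
    choose V hxV hV hG using H
    have hLN : IsLocallyNoetherian X := by
      apply isLocallyNoetherian_of_affine_cover (ι := X) (S := fun x => ⟨V x, hV x⟩)
      · rw [eq_top_iff]
        intro x _
        exact TopologicalSpace.Opens.mem_iSup.mpr ⟨x, hxV x⟩
      · intro x
        exact (hG x).1
    intro U hU
    refine ⟨IsLocallyNoetherian.component_noetherian ⟨U, hU⟩, ?_⟩
    intro p hp
    let P : PrimeSpectrum Γ(X, U) := ⟨p, hp⟩
    have hyU : hU.fromSpec P ∈ U := by
      have h1 : hU.fromSpec P ∈ Set.range hU.fromSpec := Set.mem_range_self P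
      rw [hU.range_fromSpec] at h1
      exact h1
    let aU := TopCat.Presheaf.algebra_section_stalk X.presheaf (⟨hU.fromSpec P, hyU⟩ : U)
    have hlocU : IsLocalization.AtPrime (X.presheaf.stalk (hU.fromSpec P)) P.asIdeal :=
      hU.isLocalization_stalk' P hyU
    let aV := TopCat.Presheaf.algebra_section_stalk X.presheaf
      (⟨hU.fromSpec P, hxV (hU.fromSpec P)⟩ : V (hU.fromSpec P))
    have hlocV : IsLocalization.AtPrime (X.presheaf.stalk (hU.fromSpec P))
        ((hV (hU.fromSpec P)).primeIdealOf ⟨hU.fromSpec P, hxV (hU.fromSpec P)⟩).asIdeal :=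
      (hV (hU.fromSpec P)).isLocalization_stalk ⟨hU.fromSpec P, hxV (hU.fromSpec P)⟩
    let eU := IsLocalization.algEquiv p.primeCompl (X.presheaf.stalk (hU.fromSpec P))
      (Localization.AtPrime p)
    let eV := IsLocalization.algEquiv
      ((hV (hU.fromSpec P)).primeIdealOf
        ⟨hU.fromSpec P, hxV (hU.fromSpec P)⟩).asIdeal.primeCompl
      (X.presheaf.stalk (hU.fromSpec P))
      (Localization.AtPrime ((hV (hU.fromSpec P)).primeIdealOf
        ⟨hU.fromSpec P, hxV (hU.fromSpec P)⟩).asIdeal)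
    have hreg := (hG (hU.fromSpec P)).2
      ((hV (hU.fromSpec P)).primeIdealOf ⟨hU.fromSpec P, hxV (hU.fromSpec P)⟩).asIdeal
    have hNV : IsNoetherianRing Γ(X, V (hU.fromSpec P)) := (hG (hU.fromSpec P)).1
    exact Groth.Agent.H34.GRingLoc.isRegularHom_cpl_of_ringEquiv
      (eV.symm.toRingEquiv.trans eU.toRingEquiv) hreg
  · intro H x
    obtain ⟨U, hU, hxU, -⟩ :=
      AlgebraicGeometry.exists_isAffineOpen_mem_and_subset (X := X) (x := x) (U := ⊤) trivial
    exact ⟨U, hxU, hU, H U hU⟩

end Groth.Agent.H34.GScheme
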