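import Groth.Agent.H34.DivCap

/-!
# `i^* i_* α ∼ c₁(L|_D) ∩ α` on the zero scheme `D = Z(s)` (S6465)
-/

set_option autoImplicit false
set_option linter.style.haveILetI false
universe u
open CategoryTheory AlgebraicGeometry TopologicalSpace Opposite

namespace Groth.Agent.H34.GysinSelf

open Groth.Agent.H34.SubPieces Groth.Agent.H34.SubMain Groth.Agent.H34.DivCap
open Groth.Agent.H34.KeyRel

variable {X D : Scheme.{u}}

/-- Local finiteness of the support of a cycle, in the form used by `Cyc.RatEquivZero`. -/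
theorem locallyFinite_support (α : AlgebraicCycle D ℤ) (d₀ : D) :
    ∃ U : Set D, IsOpen U ∧ d₀ ∈ U ∧
      {j : {d : D // α d ≠ 0} | (closure {j.1} ∩ U).Nonempty}.Finite := by
  obtain ⟨T, hT, hfin⟩ := α.supportLocallyFiniteWithinDomain d₀ (Set.mem_univ _)
  obtain ⟨U, hUT, hUo, hd₀U⟩ := mem_nhds_iff.mp hT
  refine ⟨U, hUo, hd₀U, (hfin.preimage Subtype.val_injective.injOn).subset ?_⟩
  rintro j ⟨z, hz1, hz2⟩
  have hjU : j.1 ∈ U := (specializes_iff_mem_closure.mpr hz1).mem_open hUo hz2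
  exact ⟨hUT hjU, j.2⟩

/-- S6465. -/
theorem main (X D : Scheme.{u}) (δ : X → ℤ) (hX : Cyc.IsSetup X δ) (L : X.Modules)
    (hL : PicF.IsInvertible L) (s : L.presheaf.obj (Opposite.op ⊤)) (i : D ⟶ X)
    [IsClosedImmersion i] (hD : Cyc.IsZeroSchemeOf i L s) (k : ℤ) (α : AlgebraicCycle D ℤ)
    (hα : α ∈ Cyc.Zk D (fun d => δ (i d)) k) (w : (ξ : X) → Cyc.secFibre L ξ)
    (hw : ∀ ξ, w ξ ≠ 0) (t : (d : D) → Cyc.secFibre ((Scheme.Modules.pullback i).obj L) d)
    (ht : ∀ d, t d ≠ 0) (ζ₁ ζ₂ : AlgebraicCycle D ℤ)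
    (h₁ : ∀ d, ζ₁ d = Cyc.c1CapFun δ L ⇑(AlgebraicCycle.map i (fun d => δ (i d)) δ α)
      (Cyc.gysinChoice L s w) (i d))
    (h₂ : ⇑ζ₂ = Cyc.c1CapFun (fun d => δ (i d)) ((Scheme.Modules.pullback i).obj L) ⇑α t) :
    Cyc.RatEquiv (fun d => δ (i d)) (k - 1) ζ₁ ζ₂ := by
  classical
  have hinj : Function.Injective (i : D → X) := i.isClosedEmbedding.injective
  have hdeg := Groth.Agent.H85.CycImm.residueDegree_eq_one i (fun y => i.stalkMap_surjective y)
  obtain ⟨sL, hsLdef⟩ : ∃ v, v = Cyc.gysinChoice L s w := ⟨_, rfl⟩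
  have hsL : ∀ ξ, sL ξ ≠ 0 := fun ξ => by
    rw [hsLdef]
    exact gysinChoice_ne_zero L s w hw ξ
  rw [← hsLdef] at h₁
  choose g hg0 hg using fun d : D =>
    secOrdAt_pullback_closedImmersion i hL d (t d) (ht d) (sL (i d)) (hsL _)
  show Cyc.RatEquivZero (fun d => δ (i d)) (k - 1) (ζ₁ - ζ₂)
  refine ⟨{d : D // α d ≠ 0}, fun j => j.1,
    fun j => (i.residueFieldMap j.1).hom ((g j.1) ^ (-(α j.1))), fun j => ?_,
    fun j => (map_ne_zero _).mpr (zpow_ne_zero _ (hg0 _)), locallyFinite_support α, ?_⟩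
  · have h := hα j.1
    have : δ (i j.1) = k := by
      by_contra hne
      exact j.2 (h hne)
    show δ (i j.1) = k - 1 + 1
    omega
  · intro d'
    rw [Function.locallyFinsuppWithin.coe_sub, Pi.sub_apply, h₁ d', h₂]
    have hγ1 : Cyc.c1CapFun δ L ⇑(AlgebraicCycle.map i (fun d => δ (i d)) δ α) sL (i d') =
        ∑ᶠ d : D, α d * Cyc.secDivFun δ L (i d) (sL (i d)) (i d') := by
      unfold Cyc.c1CapFun
      refine (finsum_eq_finsum_comp_of_support_subset_range (i : D → X) hinj
        (fun ξ => AlgebraicCycle.map i (fun d => δ (i d)) δ α ξ *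
          Cyc.secDivFun δ L ξ (sL ξ) (i d')) ?_).trans ?_
      · intro ξ hξ
        by_contra hr
        apply hξ
        show AlgebraicCycle.map i (fun d => δ (i d)) δ α ξ * _ = 0
        rw [Groth.Agent.S1918.map_apply_of_notMem_range i (fun d => δ (i d)) δ α ξ hr, zero_mul]
      · refine finsum_congr (fun d => ?_)
        show AlgebraicCycle.map i (fun d => δ (i d)) δ α (i d) * _ = _
        rw [Groth.Agent.S1918.map_apply_of_injective i hinj hdeg (fun d => δ (i d)) δ
          (fun y => rfl) α d]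
    have hterm : ∀ d : D, α d * Cyc.secDivFun (fun d => δ (i d))
        ((Scheme.Modules.pullback i).obj L) d (t d) d' =
        α d * Cyc.secDivFun δ L (i d) (sL (i d)) (i d') +
          α d * Cyc.divFun δ (i d) (g d) (i d') := by
      intro d
      rw [secDivFun_closedImmersion i δ d _ (sL (i d)) (g d) (hg d) d', mul_add]
    have hfin := finite_support_specializes α d'
    have hA : (Function.support fun d : D =>
        α d * Cyc.secDivFun δ L (i d) (sL (i d)) (i d')).Finite := by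
      refine hfin.subset (fun d hd => ?_)
      have h1 : α d ≠ 0 := left_ne_zero_of_mul hd
      have h2 : Cyc.secDivFun δ L (i d) (sL (i d)) (i d') ≠ 0 := right_ne_zero_of_mul hd
      have hsp : i d ⤳ i d' := (secDivFun_ne_zero h2).1
      exact ⟨h1, i.isClosedEmbedding.isInducing.specializes_iff.mp hsp⟩
    have hB : (Function.support fun d : D =>
        α d * Cyc.divFun δ (i d) (g d) (i d')).Finite := by
      refine hfin.subset (fun d hd => ?_)
      have h1 : α d ≠ 0 := left_ne_zero_of_mul hd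
      have h2 : Cyc.divFun δ (i d) (g d) (i d') ≠ 0 := right_ne_zero_of_mul hd
      have hsp : i d ⤳ i d' := by
        by_contra hn'
        exact h2 (Groth.Agent.H95.C1Cap.divFun_eq_zero δ _ _ _ hn')
      exact ⟨h1, i.isClosedEmbedding.isInducing.specializes_iff.mp hsp⟩
    have hR : ∑ᶠ j : {d : D // α d ≠ 0}, Cyc.divFun (fun d => δ (i d)) j.1
        ((i.residueFieldMap j.1).hom ((g j.1) ^ (-(α j.1)))) d' =
        - ∑ᶠ d : D, α d * Cyc.divFun δ (i d) (g d) (i d') := by
      rw [← finsum_neg_distrib]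
      rw [finsum_eq_finsum_comp_of_support_subset_range
        (Subtype.val : {d : D // α d ≠ 0} → D) Subtype.val_injective
        (fun d => -(α d * Cyc.divFun δ (i d) (g d) (i d'))) ?_]
      · refine finsum_congr (fun j => ?_)
        rw [divFun_closedImmersion i δ j.1 d',
          Groth.Agent.H95.C1Cap.divFun_zpow δ _ (hg0 j.1) _ _, neg_mul]
      · intro d hd
        have h1 : α d ≠ 0 := by
          intro h0
          apply hd
          simp [h0]
        exact ⟨⟨d, h1⟩, rfl⟩
    rw [hγ1, hR]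
    unfold Cyc.c1CapFun
    rw [finsum_congr hterm, finsum_add_distrib hA hB]
    ring

end Groth.Agent.H34.GysinSelf
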