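import Groth.Agent.H34.KeyComm

/-!
# `c₁(L) ∩ -` kills rational equivalence (S1921) from the relative key formula
-/

set_option autoImplicit false
set_option linter.style.haveILetI false

universe u

open CategoryTheory AlgebraicGeometry TopologicalSpace Opposite

namespace Groth.Agent.H34.KeyRel

open Groth.Agent.H95.C1Cap (ordAt_one)
open Groth.Agent.H95.SecOrd
open Groth.Agent.H18.TensorGen (IsGen isGen_one isInvertible_of_isGen)

variable {X : Scheme.{u}}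

section Unit

/-- The structure sheaf as a module is invertible. -/
theorem isInvertible_structureModule (X : Scheme.{u}) :
    PicF.IsInvertible (Coh.structureModule X) :=
  isInvertible_of_isGen _ (fun _ => ⟨⊤, _, trivial, isGen_one ⊤⟩)

/-- The class of the section `1` in the fibre of the structure sheaf. -/
noncomputable def oneSec (y : X) : Cyc.secFibre (Coh.structureModule X) y :=
  Submodule.Quotient.mk ((Coh.structureModule X).presheaf.germ ⊤ y trivial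
    (show Γ(Coh.structureModule X, ⊤) from (1 : Γ(X, ⊤))))

/-- The rational section of the structure sheaf on the closure of `ζ` defined by `f ∈ κ(ζ)`. -/
noncomputable def ratSec (ζ : X) (f : X.residueField ζ) : Cyc.secFibre (Coh.structureModule X) ζ :=
  (Classical.choose (IsLocalRing.residue_surjective f) : X.presheaf.stalk ζ) • oneSec ζ

theorem residue_choose (ζ : X) (f : X.residueField ζ) :
    X.residue ζ (Classical.choose (IsLocalRing.residue_surjective f) : X.presheaf.stalk ζ) = f :=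
  Classical.choose_spec (IsLocalRing.residue_surjective f)

theorem smul_oneSec_ne_zero (y : X) (c : X.presheaf.stalk y) (hc : X.residue y c ≠ 0) :
    c • oneSec y ≠ 0 := by
  intro h0
  have hm := mem_maximalIdeal_of_smul_mk_eq_zero (isGen_one (X := X) ⊤) y trivial c h0
  exact hc ((residue_eq_zero_iff c).mpr hm)

theorem oneSec_ne_zero (y : X) : oneSec y ≠ 0 := by
  have h := smul_oneSec_ne_zero y 1 (by rw [map_one]; exact one_ne_zero)
  rwa [one_smul] at h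

theorem ratSec_ne_zero (ζ : X) (f : X.residueField ζ) (hf : f ≠ 0) : ratSec ζ f ≠ 0 :=
  smul_oneSec_ne_zero ζ _ (by rw [residue_choose]; exact hf)

theorem secDivFun_smul_oneSec (δ : X → ℤ) (ζ : X) (c : X.presheaf.stalk ζ) (y : X) :
    Cyc.secDivFun δ (Coh.structureModule X) ζ (c • oneSec ζ) y =
      Cyc.divFun δ ζ (X.residue ζ c) y := by
  classical
  unfold Cyc.secDivFun Cyc.divFun
  split_ifs with h
  · exact secOrdAt_eq_of_isGen (isGen_one (X := X) ⊤) h.1 trivial trivial _ c rfl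
  · rfl

theorem secDivFun_ratSec (δ : X → ℤ) (ζ : X) (f : X.residueField ζ) (y : X) :
    Cyc.secDivFun δ (Coh.structureModule X) ζ (ratSec ζ f) y = Cyc.divFun δ ζ f y := by
  unfold ratSec
  rw [secDivFun_smul_oneSec, residue_choose]

theorem secDivFun_oneSec (δ : X → ℤ) (y x : X) :
    Cyc.secDivFun δ (Coh.structureModule X) y (oneSec y) x = 0 := by
  have h := secDivFun_smul_oneSec δ y 1 x
  rw [one_smul, map_one] at h
  rw [h]
  exact divFun_one δ y x

theorem c1Cap_oneSec (δ : X → ℤ) (β : X → ℤ) (x : X) :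
    Cyc.c1CapFun δ (Coh.structureModule X) β oneSec x = 0 := by
  unfold Cyc.c1CapFun
  refine finsum_eq_zero_of_forall_eq_zero (fun y => ?_)
  rw [secDivFun_oneSec, mul_zero]

end Unit

/-- A sum of divisors of locally finite families indexed by a locally finite family of points is
rationally equivalent to zero. -/
theorem ratEquivZero_of_indexed_family (δ : X → ℤ) (k : ℤ) {ι : Type u} (ζ : ι → X)
    (hζ : ∀ i, δ (ζ i) = k + 2)
    (hlf : ∀ x : X, ∃ U : Set X, IsOpen U ∧ x ∈ U ∧ {i | (closure {ζ i} ∩ U).Nonempty}.Finite)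
    (g : (i : ι) → (y : X) → X.residueField y) (hg0 : ∀ i y, g i y ≠ 0)
    (hglf : ∀ i (x : X), ∃ U : Set X, IsOpen U ∧ x ∈ U ∧
      {y : X | g i y ≠ 1 ∧ (closure {y} ∩ U).Nonempty}.Finite)
    (hg1 : ∀ i y, g i y ≠ 1 → ζ i ⤳ y ∧ δ y + 1 = δ (ζ i))
    (γ : AlgebraicCycle X ℤ)
    (hγ : ∀ x, γ x = ∑ᶠ i : ι, ∑ᶠ y : X, Cyc.divFun δ y (g i y) x) :
    Cyc.RatEquivZero δ k γ := by
  classical
  refine ⟨{p : ι × X // g p.1 p.2 ≠ 1}, fun p => p.1.2, fun p => g p.1.1 p.1.2, ?_, ?_, ?_, ?_⟩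
  · intro p
    show δ p.1.2 = k + 1
    have h1 := (hg1 p.1.1 p.1.2 p.2).2
    have h2 := hζ p.1.1
    omega
  · intro p
    exact hg0 _ _
  · intro x
    obtain ⟨U₀, hU₀o, hxU₀, hZ₀⟩ := hlf x
    choose W hWo hxW hWfin using fun i => hglf i x
    have hUopen : IsOpen (U₀ ∩ ⋂ i ∈ {i | (closure {ζ i} ∩ U₀).Nonempty}, W i) :=
      hU₀o.inter (hZ₀.isOpen_biInter (fun i _ => hWo i))
    refine ⟨U₀ ∩ ⋂ i ∈ {i | (closure {ζ i} ∩ U₀).Nonempty}, W i, hUopen,
      ⟨hxU₀, Set.mem_iInter₂.mpr (fun i _ => hxW i)⟩, ?_⟩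
    have hfinS : (⋃ i ∈ {i | (closure {ζ i} ∩ U₀).Nonempty},
        (fun y => ((i, y) : ι × X)) '' {y : X | g i y ≠ 1 ∧ (closure {y} ∩ W i).Nonempty}).Finite :=
      hZ₀.biUnion (fun i _ => (hWfin i).image _)
    refine Set.Finite.subset (hfinS.preimage (Subtype.val_injective.injOn)) ?_
    rintro p ⟨z, hz1, hz2⟩
    have hspec : p.1.2 ⤳ z := specializes_iff_mem_closure.mpr hz1
    have hp2 := hspec.mem_open hUopen hz2
    have hmem : p.1.1 ∈ {i | (closure {ζ i} ∩ U₀).Nonempty} :=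
      ⟨p.1.2, specializes_iff_mem_closure.mp (hg1 p.1.1 p.1.2 p.2).1, hp2.1⟩
    have hzW : z ∈ W p.1.1 := Set.mem_iInter₂.mp hz2.2 p.1.1 hmem
    exact Set.mem_preimage.mpr
      (Set.mem_biUnion hmem ⟨p.1.2, ⟨p.2, ⟨z, hz1, hzW⟩⟩, rfl⟩)
  · intro x
    rw [hγ x]
    let G : ι × X → ℤ := fun q => Cyc.divFun δ q.2 (g q.1 q.2) x
    have hGsupp : ∀ q, G q ≠ 0 → ζ q.1 ⤳ x ∧ g q.1 q.2 ≠ 1 ∧ q.2 ⤳ x := by
      intro q hq
      have hq' : Cyc.divFun δ q.2 (g q.1 q.2) x ≠ 0 := hq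
      have h2 : g q.1 q.2 ≠ 1 := by
        intro h0
        apply hq'
        rw [h0]
        exact divFun_one δ q.2 x
      have h3 := (divFun_ne_zero hq').1
      exact ⟨((hg1 _ _ h2).1).trans h3, h2, h3⟩
    obtain ⟨U₀, hU₀o, hxU₀, hZ₀⟩ := hlf x
    choose W hWo hxW hWfin using fun i => hglf i x
    have hfinS : (⋃ i ∈ {i | (closure {ζ i} ∩ U₀).Nonempty},
        (fun y => ((i, y) : ι × X)) '' {y : X | g i y ≠ 1 ∧ (closure {y} ∩ W i).Nonempty}).Finite :=
      hZ₀.biUnion (fun i _ => (hWfin i).image _)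
    have hGfin : (Function.support G).Finite := by
      refine hfinS.subset (fun q hq => ?_)
      obtain ⟨h1, h2, h3⟩ := hGsupp q hq
      have hmem : q.1 ∈ {i | (closure {ζ i} ∩ U₀).Nonempty} :=
        ⟨x, specializes_iff_mem_closure.mp h1, hxU₀⟩
      refine Set.mem_biUnion hmem
        ⟨q.2, ⟨h2, ⟨x, specializes_iff_mem_closure.mp h3, hxW q.1⟩⟩, rfl⟩
    have e1 : ∀ i, ∑ᶠ y : X, Cyc.divFun δ y (g i y) x = ∑ᶠ y : X, G (i, y) := fun i => rfl
    rw [finsum_congr e1, ← finsum_curry G hGfin]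
    symm
    show (∑ᶠ p : {p : ι × X // g p.1 p.2 ≠ 1}, G p.1) = _
    rw [finsum_subtype_eq_finsum_cond (f := G) (fun p => g p.1 p.2 ≠ 1)]
    refine finsum_congr (fun q => ?_)
    rw [finsum_eq_if]
    split_ifs with hq
    · rfl
    · by_contra hne
      exact hq (hGsupp q (Ne.symm hne)).2.1

/-- S1921: `c₁(L) ∩ α ∼ 0` for `α ∼ 0`. -/
theorem c1Cap_ratEquivZero (X : Scheme.{u}) (δ : X → ℤ) (hX : Cyc.IsSetup X δ) (L : X.Modules)
    (hL : PicF.IsInvertible L) (k : ℤ) (α : AlgebraicCycle X ℤ)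
    (h0 : Cyc.RatEquivZero δ (k + 1) α) (s : (ξ : X) → Cyc.secFibre L ξ) (hs : ∀ ξ, s ξ ≠ 0)
    (γ : AlgebraicCycle X ℤ) (hγ : ⇑γ = Cyc.c1CapFun δ L ⇑α s) : Cyc.RatEquivZero δ k γ := by
  classical
  obtain ⟨ι, ζ, f, hζ, hf, hlf, hsum⟩ := h0
  have hO := isInvertible_structureModule X
  choose g hg0 hglf hg1 hgsum using fun i =>
    rkf X δ hX (Coh.structureModule X) L hO hL (ζ i) (ratSec (ζ i) (f i))
      (ratSec_ne_zero (ζ i) (f i) (hf i)) (s (ζ i)) (hs (ζ i)) s hs oneSec oneSec_ne_zero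
  refine ratEquivZero_of_indexed_family δ k ζ (fun i => by rw [hζ i]; ring) hlf g hg0 hglf hg1 γ
    (fun x => ?_)
  have hterm : ∀ i, ∑ᶠ y : X, Cyc.divFun δ y (g i y) x =
      ∑ᶠ y : X, Cyc.divFun δ (ζ i) (f i) y * Cyc.secDivFun δ L y (s y) x := by
    intro i
    rw [hgsum i x, c1Cap_oneSec, sub_zero]
    unfold Cyc.c1CapFun
    refine finsum_congr (fun y => ?_)
    rw [secDivFun_ratSec]
  rw [finsum_congr hterm, hγ]
  unfold Cyc.c1CapFun
  have e1 : ∀ y, α y * Cyc.secDivFun δ L y (s y) x =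
      ∑ᶠ i, Cyc.divFun δ (ζ i) (f i) y * Cyc.secDivFun δ L y (s y) x := fun y => by
    rw [hsum y, finsum_mul]
  rw [finsum_congr e1]
  -- exchange
  obtain ⟨U₀, hU₀o, hxU₀, hZ₀⟩ := hlf x
  have hE : (⋃ i ∈ {i | (closure {ζ i} ∩ U₀).Nonempty},
      {y : X | y ⤳ x ∧ Cyc.divFun δ (ζ i) (f i) y ≠ 0}).Finite :=
    hZ₀.biUnion (fun i _ => finite_divFun δ hX (ζ i) (f i) (hf i) x)
  refine finsum_exchange (fun i y => Cyc.divFun δ (ζ i) (f i) y * Cyc.secDivFun δ L y (s y) x)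
    hZ₀.toFinset hE.toFinset (fun i y hne => ?_)
  have h2 : Cyc.divFun δ (ζ i) (f i) y ≠ 0 := left_ne_zero_of_mul hne
  have h3 : Cyc.secDivFun δ L y (s y) x ≠ 0 := right_ne_zero_of_mul hne
  have h4 := (divFun_ne_zero h2).1
  have h5 := (secDivFun_ne_zero h3).1
  have hmem : i ∈ {i | (closure {ζ i} ∩ U₀).Nonempty} :=
    ⟨x, specializes_iff_mem_closure.mp (h4.trans h5), hxU₀⟩
  exact ⟨hZ₀.mem_toFinset.mpr hmem, hE.mem_toFinset.mpr (Set.mem_biUnion hmem ⟨h5, h2⟩)⟩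

end Groth.Agent.H34.KeyRel
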