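import Groth.Agent.H34.GysinPieces
import Groth.Agent.H34.GysinSelf
import Groth.Agent.H34.KeyRat

/-!
# `i^*(c₁(N) ∩ α) ∼ c₁(N|_D) ∩ i^*α` on the zero scheme `D = Z(s)` (S6466)
-/

set_option autoImplicit false
set_option linter.style.haveILetI false
universe u
open CategoryTheory AlgebraicGeometry TopologicalSpace Opposite

namespace Groth.Agent.H34.GysinC1

open Groth.Agent.H34.GysinPieces
open Groth.Agent.H34.SubPieces Groth.Agent.H34.SubMain Groth.Agent.H34.DivCap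
open Groth.Agent.H34.KeyRel
open Groth.Agent.H95.C1Cap (divFun_zpow finsum_c1_sub finite_support_mul)

variable {X D : Scheme.{u}}

/-- The double family lemma, supported on a closed subscheme. -/
theorem ratEquivZero_of_double_family_closedImmersion (i : D ⟶ X) [IsClosedImmersion i]
    (δ : X → ℤ) (k : ℤ) (α : AlgebraicCycle X ℤ) (hα : α ∈ Cyc.Zk X δ (k + 2))
    (g : (ζ ξ : X) → X.residueField ξ) (hg0 : ∀ ζ ξ, g ζ ξ ≠ 0)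
    (hglf : ∀ ζ (x : X), ∃ U : Set X, IsOpen U ∧ x ∈ U ∧
      {ξ : X | g ζ ξ ≠ 1 ∧ (closure {ξ} ∩ U).Nonempty}.Finite)
    (hg1 : ∀ ζ ξ, g ζ ξ ≠ 1 → ζ ⤳ ξ ∧ δ ξ + 1 = δ ζ)
    (hsupp : ∀ ζ ξ, g ζ ξ ≠ 1 → ξ ∈ Set.range i)
    (γ : AlgebraicCycle D ℤ)
    (hγ : ∀ d, γ d = ∑ᶠ ζ : X, α ζ * ∑ᶠ ξ : X, Cyc.divFun δ ξ (g ζ ξ) (i d)) :
    Cyc.RatEquivZero (fun d => δ (i d)) k γ := by
  classical
  have hne : ∀ ζ ξ, (g ζ ξ) ^ (α ζ) ≠ 1 → α ζ ≠ 0 ∧ g ζ ξ ≠ 1 := by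
    intro ζ ξ h
    exact ⟨fun h0 => h (by rw [h0, zpow_zero]), fun h1 => h (by rw [h1, one_zpow])⟩
  refine ratEquivZero_of_closedImmersion' i δ k (fun ζ ξ => (g ζ ξ) ^ (α ζ))
    (fun ζ ξ => zpow_ne_zero _ (hg0 ζ ξ)) ?_ ?_ ?_ γ ?_
  · intro ζ ξ h
    obtain ⟨h1, h2⟩ := hne ζ ξ h
    have h3 := (hg1 ζ ξ h2).2
    have h4 : δ ζ = k + 2 := by
      by_contra hc
      exact h1 (hα ζ hc)
    omega
  · intro ζ ξ h
    exact hsupp ζ ξ (hne ζ ξ h).2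
  · intro x
    obtain ⟨t, ht, hfin⟩ := α.supportLocallyFiniteWithinDomain x (Set.mem_univ x)
    obtain ⟨U₀, hU₀t, hU₀o, hxU₀⟩ := mem_nhds_iff.mp ht
    have hZ₀ : {ζ : X | ζ ∈ U₀ ∧ α ζ ≠ 0}.Finite :=
      hfin.subset (fun ζ hζ => ⟨hU₀t hζ.1, hζ.2⟩)
    choose W hWo hxW hWfin using fun ζ => hglf ζ x
    have hUopen : IsOpen (U₀ ∩ ⋂ ζ ∈ {ζ : X | ζ ∈ U₀ ∧ α ζ ≠ 0}, W ζ) :=
      hU₀o.inter (hZ₀.isOpen_biInter (fun ζ _ => hWo ζ))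
    refine ⟨_, hUopen, ⟨hxU₀, Set.mem_iInter₂.mpr (fun ζ _ => hxW ζ)⟩, ?_⟩
    have hfinS : (⋃ ζ ∈ {ζ : X | ζ ∈ U₀ ∧ α ζ ≠ 0},
        (fun ξ => ((ζ, ξ) : X × X)) ''
          {ξ : X | g ζ ξ ≠ 1 ∧ (closure {ξ} ∩ W ζ).Nonempty}).Finite :=
      hZ₀.biUnion (fun ζ _ => (hWfin ζ).image _)
    refine hfinS.subset ?_
    rintro p ⟨hp, ⟨z, hz1, hz2⟩⟩
    obtain ⟨h1, h2⟩ := hne p.1 p.2 hp
    have hspec : p.2 ⤳ z := specializes_iff_mem_closure.mpr hz1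
    have hp2 := hspec.mem_open hUopen hz2
    have hp1 := ((hg1 p.1 p.2 h2).1).mem_open hUopen hp2
    have hmem : p.1 ∈ {ζ : X | ζ ∈ U₀ ∧ α ζ ≠ 0} := ⟨hp1.1, h1⟩
    have hzW : z ∈ W p.1 := Set.mem_iInter₂.mp hz2.2 p.1 hmem
    exact Set.mem_biUnion hmem ⟨p.2, ⟨h2, ⟨z, hz1, hzW⟩⟩, rfl⟩
  · intro d
    rw [hγ d]
    refine finsum_congr (fun ζ => ?_)
    rw [mul_finsum]
    refine finsum_congr (fun ξ => ?_)
    exact (divFun_zpow δ ξ (hg0 ζ ξ) (α ζ) (i d)).symm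

/-- `c₁(L) ∩ α`, computed with the Gysin choice of rational sections, is supported on `D`. -/
theorem c1Cap_gysinChoice_eq_zero (i : D ⟶ X) [IsClosedImmersion i] (δ : X → ℤ) {L : X.Modules}
    (hL : PicF.IsInvertible L) (s : L.presheaf.obj (Opposite.op ⊤))
    (hD : Cyc.IsZeroSchemeOf i L s) (w : (ξ : X) → Cyc.secFibre L ξ) (ζ ξ : X)
    (hξ : ξ ∉ Set.range i) :
    Cyc.secDivFun δ L ζ (Cyc.gysinChoice L s w ζ) ξ = 0 := by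
  classical
  by_cases hsp : ζ ⤳ ξ
  · have hζ : ζ ∉ Set.range i := fun hmem =>
      hξ (Groth.Agent.S1918.mem_range_of_specializes i hmem hsp)
    rw [hD.1] at hξ hζ
    rw [gysinChoice_eq L s w ζ hζ]
    exact secDivFun_global_eq_zero δ hL s ζ ξ hξ
  · exact Groth.Agent.H95.C1Cap.secDivFun_eq_zero δ L ζ _ ξ hsp

/-- S6466. -/
theorem main (X D : Scheme.{u}) (δ : X → ℤ) (hX : Cyc.IsSetup X δ) (L N : X.Modules)
    (hL : PicF.IsInvertible L) (hN : PicF.IsInvertible N) (s : L.presheaf.obj (Opposite.op ⊤))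
    (i : D ⟶ X) [IsClosedImmersion i] (hD : Cyc.IsZeroSchemeOf i L s) (k : ℤ)
    (α : AlgebraicCycle X ℤ) (hα : α ∈ Cyc.Zk X δ k) (w : (ξ : X) → Cyc.secFibre L ξ)
    (hw : ∀ ξ, w ξ ≠ 0) (v : (ξ : X) → Cyc.secFibre N ξ) (hv : ∀ ξ, v ξ ≠ 0)
    (t : (d : D) → Cyc.secFibre ((Scheme.Modules.pullback i).obj N) d) (ht : ∀ d, t d ≠ 0)
    (β : AlgebraicCycle X ℤ) (hβ : ⇑β = Cyc.c1CapFun δ N ⇑α v) (γ : D → ℤ)
    (hγ : γ = fun d => Cyc.c1CapFun δ L ⇑α (Cyc.gysinChoice L s w) (i d))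
    (ζ₁ ζ₂ : AlgebraicCycle D ℤ)
    (h₁ : ∀ d, ζ₁ d = Cyc.c1CapFun δ L ⇑β (Cyc.gysinChoice L s w) (i d))
    (h₂ : ⇑ζ₂ = Cyc.c1CapFun (fun d => δ (i d)) ((Scheme.Modules.pullback i).obj N) γ t) :
    Cyc.RatEquiv (fun d => δ (i d)) (k - 2) ζ₁ ζ₂ := by
  classical
  have hinj : Function.Injective (i : D → X) := i.isClosedEmbedding.injective
  have hO := isInvertible_structureModule X
  obtain ⟨sL, hsLdef⟩ : ∃ v, v = Cyc.gysinChoice L s w := ⟨_, rfl⟩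
  have hsL : ∀ ξ, sL ξ ≠ 0 := fun ξ => by
    rw [hsLdef]
    exact gysinChoice_ne_zero L s w hw ξ
  have hsL0 : ∀ ζ ξ, ξ ∉ Set.range i → Cyc.secDivFun δ L ζ (sL ζ) ξ = 0 := fun ζ ξ hξ => by
    rw [hsLdef]
    exact c1Cap_gysinChoice_eq_zero i δ hL s hD w ζ ξ hξ
  rw [← hsLdef] at h₁ hγ
  -- the comparison functions on the points of `D`, indexed by the points of `X`
  have hex : ∀ ξ : X, ∃ gξ : X.residueField ξ, gξ ≠ 0 ∧ ∀ d : D, i d = ξ → ∀ d' : D,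
      Cyc.secDivFun (fun d => δ (i d)) ((Scheme.Modules.pullback i).obj N) d (t d) d' =
        Cyc.secDivFun δ N ξ (v ξ) (i d') + Cyc.divFun δ ξ gξ (i d') := by
    intro ξ
    by_cases hξ : ξ ∈ Set.range i
    · obtain ⟨d₀, rfl⟩ := hξ
      obtain ⟨g, hg0, hg⟩ := secOrdAt_pullback_closedImmersion i hN d₀ (t d₀) (ht d₀)
        (v (i d₀)) (hv _)
      refine ⟨g, hg0, fun d hd d' => ?_⟩
      have hdd : d = d₀ := hinj hd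
      subst hdd
      exact secDivFun_closedImmersion i δ d _ (v (i d)) g hg d'
    · exact ⟨1, one_ne_zero, fun d hd => absurd ⟨d, hd⟩ hξ⟩
  choose g'' hg''0 hg'' using hex
  -- the tame symbols
  obtain ⟨G, hGdef⟩ : ∃ G : (ζ ξ : X) → X.residueField ξ,
      G = fun ζ => gRel δ hN hL ζ (v ζ) (sL ζ) sL v := ⟨_, rfl⟩
  have hG0 : ∀ ζ ξ, G ζ ξ ≠ 0 := fun ζ ξ => by
    rw [hGdef]
    exact gRel_ne_zero δ hX hN hL ζ (v ζ) (hv ζ) (sL ζ) (hsL ζ) sL hsL v hv ξ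
  have hG1 : ∀ ζ ξ, G ζ ξ ≠ 1 → ζ ⤳ ξ ∧ δ ξ + 1 = δ ζ := fun ζ ξ h => by
    rw [hGdef] at h
    exact gRel_ne_one h
  have hGlf : ∀ ζ (x : X), ∃ U : Set X, IsOpen U ∧ x ∈ U ∧
      {y : X | G ζ y ≠ 1 ∧ (closure {y} ∩ U).Nonempty}.Finite := fun ζ x => by
    rw [hGdef]
    exact locallyFinite_gRel δ hX hN hL ζ (v ζ) (hv ζ) (sL ζ) (hsL ζ) sL v x
  have hGsum : ∀ ζ x, ∑ᶠ ξ : X, Cyc.divFun δ ξ (G ζ ξ) x =
      Cyc.c1CapFun δ L (Cyc.secDivFun δ N ζ (v ζ)) sL x -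
        Cyc.c1CapFun δ N (Cyc.secDivFun δ L ζ (sL ζ)) v x := fun ζ x => by
    rw [hGdef]
    exact gRel_sum δ hX hN hL ζ (v ζ) (hv ζ) (sL ζ) (hsL ζ) sL hsL v hv x
  have hGsupp : ∀ ζ ξ, G ζ ξ ≠ 1 → ξ ∈ Set.range i := by
    intro ζ ξ hne
    by_contra hξ
    apply hne
    have hζξ := (hG1 ζ ξ hne).1
    have hζ' : ζ ∉ Set.range i := fun hmem =>
      hξ (Groth.Agent.S1918.mem_range_of_specializes i hmem hζξ)
    rw [hD.1] at hξ hζ'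
    have e1 := gysinChoice_eq L s w ξ hξ
    have e2 := gysinChoice_eq L s w ζ hζ'
    rw [← hsLdef] at e1 e2
    rw [hGdef]
    exact gRel_eq_one_of_common_section δ hX hN hL ζ (v ζ) (hv ζ) (sL ζ) (hsL ζ) sL v ξ s e2 e1
      (hsL ξ)
  -- the merged family
  obtain ⟨K, hKdef⟩ : ∃ K : (ζ ξ : X) → X.residueField ξ,
      K = fun ζ ξ => G ζ ξ * ((g'' ξ) ^ (Cyc.secDivFun δ L ζ (sL ζ) ξ))⁻¹ := ⟨_, rfl⟩
  have hK0 : ∀ ζ ξ, K ζ ξ ≠ 0 := fun ζ ξ => by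
    rw [hKdef]
    exact mul_ne_zero (hG0 ζ ξ) (inv_ne_zero (zpow_ne_zero _ (hg''0 ξ)))
  have hKne : ∀ ζ ξ, K ζ ξ ≠ 1 → G ζ ξ ≠ 1 ∨ Cyc.secDivFun δ L ζ (sL ζ) ξ ≠ 0 := by
    intro ζ ξ h
    by_contra hc
    push Not at hc
    apply h
    rw [hKdef]
    show G ζ ξ * ((g'' ξ) ^ (Cyc.secDivFun δ L ζ (sL ζ) ξ))⁻¹ = 1
    rw [hc.1, hc.2, zpow_zero, inv_one, mul_one]
  have hK1 : ∀ ζ ξ, K ζ ξ ≠ 1 → ζ ⤳ ξ ∧ δ ξ + 1 = δ ζ := by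
    intro ζ ξ h
    rcases hKne ζ ξ h with h1 | h1
    · exact hG1 ζ ξ h1
    · exact secDivFun_ne_zero h1
  have hKsupp : ∀ ζ ξ, K ζ ξ ≠ 1 → ξ ∈ Set.range i := by
    intro ζ ξ h
    rcases hKne ζ ξ h with h1 | h1
    · exact hGsupp ζ ξ h1
    · by_contra hξ
      exact h1 (hsL0 ζ ξ hξ)
  have hKlf : ∀ ζ (x : X), ∃ U : Set X, IsOpen U ∧ x ∈ U ∧
      {y : X | K ζ y ≠ 1 ∧ (closure {y} ∩ U).Nonempty}.Finite := by
    intro ζ x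
    obtain ⟨U₁, hU₁o, hxU₁, hf₁⟩ := hGlf ζ x
    obtain ⟨U₂, hU₂o, hxU₂, hf₂⟩ := locallyFinite_secDivFun δ hX hL ζ (sL ζ) (hsL ζ) x
    refine ⟨U₁ ∩ U₂, hU₁o.inter hU₂o, ⟨hxU₁, hxU₂⟩, (hf₁.union hf₂).subset ?_⟩
    rintro y ⟨hy, ⟨z, hz1, hz2⟩⟩
    rcases hKne ζ y hy with h1 | h1
    · exact Or.inl ⟨h1, ⟨z, hz1, hz2.1⟩⟩
    · exact Or.inr ⟨h1, ⟨z, hz1, hz2.2⟩⟩
  have hα' : α ∈ Cyc.Zk X δ (k - 2 + 2) := by
    have : k - 2 + 2 = k := by ring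
    rw [this]
    exact hα
  show Cyc.RatEquivZero (fun d => δ (i d)) (k - 2) (ζ₁ - ζ₂)
  refine ratEquivZero_of_double_family_closedImmersion i δ (k - 2) α hα' K hK0 hKlf hK1 hKsupp
    (ζ₁ - ζ₂) (fun d' => ?_)
  obtain ⟨x, hx⟩ : ∃ x, x = i d' := ⟨_, rfl⟩
  rw [Function.locallyFinsuppWithin.coe_sub, Pi.sub_apply, h₁ d', h₂, ← hx]
  -- the function `A = c₁(L) ∩ α` on `X`
  obtain ⟨A, hAdef⟩ : ∃ A : X → ℤ, A = Cyc.c1CapFun δ L ⇑α sL := ⟨_, rfl⟩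
  have hA0 : ∀ ξ, ξ ∉ Set.range i → A ξ = 0 := by
    intro ξ hξ
    rw [hAdef]
    unfold Cyc.c1CapFun
    refine finsum_eq_zero_of_forall_eq_zero (fun ζ => ?_)
    rw [hsL0 ζ ξ hξ, mul_zero]
  have hγA : ∀ d, γ d = A (i d) := fun d => by rw [hγ, hAdef]
  -- finiteness of the points of `A` through `x`
  have hAfin : {ξ : X | A ξ ≠ 0 ∧ ξ ⤳ x}.Finite := by
    have hZ := finite_support_specializes α x
    have hE : (⋃ ζ ∈ {ζ : X | α ζ ≠ 0 ∧ ζ ⤳ x},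
        {ξ : X | ξ ⤳ x ∧ Cyc.secDivFun δ L ζ (sL ζ) ξ ≠ 0}).Finite :=
      hZ.biUnion (fun ζ _ => finite_secDivFun δ hX hL ζ (sL ζ) (hsL ζ) x)
    refine hE.subset ?_
    rintro ξ ⟨hAξ, hξx⟩
    have hexζ : ∃ ζ, α ζ * Cyc.secDivFun δ L ζ (sL ζ) ξ ≠ 0 := by
      by_contra hcon
      push Not at hcon
      apply hAξ
      rw [hAdef]
      exact finsum_eq_zero_of_forall_eq_zero hcon
    obtain ⟨ζ, hζ⟩ := hexζ
    have h1 : α ζ ≠ 0 := left_ne_zero_of_mul hζ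
    have h2 : Cyc.secDivFun δ L ζ (sL ζ) ξ ≠ 0 := right_ne_zero_of_mul hζ
    have h3 : ζ ⤳ ξ := (secDivFun_ne_zero h2).1
    exact Set.mem_biUnion (show ζ ∈ {ζ : X | α ζ ≠ 0 ∧ ζ ⤳ x} from ⟨h1, h3.trans hξx⟩)
      ⟨hξx, h2⟩
  -- `ζ₂` in terms of `A`
  have hζ2 : Cyc.c1CapFun (fun d => δ (i d)) ((Scheme.Modules.pullback i).obj N) γ t d' =
      Cyc.c1CapFun δ N A v x +
        Cyc.c1CapFun δ (Coh.structureModule X) A (fun ξ => ratSec ξ (g'' ξ)) x := by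
    unfold Cyc.c1CapFun
    have e1 : ∀ d : D, γ d * Cyc.secDivFun (fun d => δ (i d))
        ((Scheme.Modules.pullback i).obj N) d (t d) d' =
        A (i d) * (Cyc.secDivFun δ N (i d) (v (i d)) x + Cyc.divFun δ (i d) (g'' (i d)) x) := by
      intro d
      rw [hγA d, hg'' (i d) d rfl d', hx]
    rw [finsum_congr e1]
    have e2 := finsum_eq_finsum_comp_of_support_subset_range (i : D → X) hinj
      (fun ξ => A ξ * (Cyc.secDivFun δ N ξ (v ξ) x + Cyc.divFun δ ξ (g'' ξ) x))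
      (fun ξ hξ => by
        by_contra hr
        apply hξ
        show A ξ * _ = 0
        rw [hA0 ξ hr, zero_mul])
    rw [← e2]
    have e3 : ∀ ξ, A ξ * (Cyc.secDivFun δ N ξ (v ξ) x + Cyc.divFun δ ξ (g'' ξ) x) =
        A ξ * Cyc.secDivFun δ N ξ (v ξ) x +
          A ξ * Cyc.secDivFun δ (Coh.structureModule X) ξ (ratSec ξ (g'' ξ)) x := by
      intro ξ
      rw [secDivFun_ratSec, mul_add]
    rw [finsum_congr e3]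
    refine finsum_add_distrib (hAfin.subset ?_) (hAfin.subset ?_)
    · intro ξ hξ
      have h1 : A ξ ≠ 0 := left_ne_zero_of_mul hξ
      have h2 : Cyc.secDivFun δ N ξ (v ξ) x ≠ 0 := right_ne_zero_of_mul hξ
      exact ⟨h1, (secDivFun_ne_zero h2).1⟩
    · intro ξ hξ
      have h1 : A ξ ≠ 0 := left_ne_zero_of_mul hξ
      have h2 : Cyc.secDivFun δ (Coh.structureModule X) ξ (ratSec ξ (g'' ξ)) x ≠ 0 :=
        right_ne_zero_of_mul hξ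
      exact ⟨h1, (secDivFun_ne_zero h2).1⟩
  rw [hζ2, hβ, hAdef, c1Cap_c1Cap δ hX hN α v hv sL x, c1Cap_c1Cap δ hX hL α sL hsL v x,
    c1Cap_c1Cap δ hX hL α sL hsL (fun ξ => ratSec ξ (g'' ξ)) x, ← sub_sub,
    finsum_c1_sub α x
      (fun ζ => Cyc.c1CapFun δ L (Cyc.secDivFun δ N ζ (v ζ)) sL x)
      (fun ζ => Cyc.c1CapFun δ N (Cyc.secDivFun δ L ζ (sL ζ)) v x)
      (fun ζ hn => c1Cap_eq_zero_rel δ ζ (v ζ) sL x (fun h => hn h.1))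
      (fun ζ hn => c1Cap_eq_zero_rel δ ζ (sL ζ) v x (fun h => hn h.1)),
    finsum_c1_sub α x
      (fun ζ => Cyc.c1CapFun δ L (Cyc.secDivFun δ N ζ (v ζ)) sL x -
        Cyc.c1CapFun δ N (Cyc.secDivFun δ L ζ (sL ζ)) v x)
      (fun ζ => Cyc.c1CapFun δ (Coh.structureModule X) (Cyc.secDivFun δ L ζ (sL ζ))
        (fun ξ => ratSec ξ (g'' ξ)) x)
      (fun ζ hn => by
        show _ - _ = (0 : ℤ)
        rw [c1Cap_eq_zero_rel δ ζ (v ζ) sL x (fun h => hn h.1),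
          c1Cap_eq_zero_rel δ ζ (sL ζ) v x (fun h => hn h.1), sub_zero])
      (fun ζ hn => c1Cap_eq_zero_rel δ ζ (sL ζ) _ x (fun h => hn h.1))]
  refine finsum_congr (fun ζ => ?_)
  congr 1
  -- the inner identity for a fixed `ζ`
  rw [← hGsum ζ x]
  unfold Cyc.c1CapFun
  have hf1 : (Function.support fun ξ : X => Cyc.divFun δ ξ (G ζ ξ) x).Finite := by
    obtain ⟨U, hUo, hxU, hfin⟩ := hGlf ζ x
    refine hfin.subset (fun ξ hξ => ?_)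
    have h1 : G ζ ξ ≠ 1 := fun h1 => hξ (by
      show Cyc.divFun δ ξ (G ζ ξ) x = 0
      rw [h1]
      exact divFun_one δ ξ x)
    have hsp : ξ ⤳ x := (divFun_ne_zero hξ).1
    exact ⟨h1, x, specializes_iff_mem_closure.mp hsp, hxU⟩
  have hf2 : (Function.support fun ξ : X => Cyc.secDivFun δ L ζ (sL ζ) ξ *
      Cyc.secDivFun δ (Coh.structureModule X) ξ (ratSec ξ (g'' ξ)) x).Finite := by
    refine (finite_secDivFun δ hX hL ζ (sL ζ) (hsL ζ) x).subset (fun ξ hξ => ?_)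
    have h1 : Cyc.secDivFun δ L ζ (sL ζ) ξ ≠ 0 := left_ne_zero_of_mul hξ
    have h2 : Cyc.secDivFun δ (Coh.structureModule X) ξ (ratSec ξ (g'' ξ)) x ≠ 0 :=
      right_ne_zero_of_mul hξ
    exact ⟨(secDivFun_ne_zero h2).1, h1⟩
  rw [← finsum_sub_distrib hf1 hf2]
  refine finsum_congr (fun ξ => ?_)
  rw [hKdef]
  show _ = Cyc.divFun δ ξ (G ζ ξ * ((g'' ξ) ^ (Cyc.secDivFun δ L ζ (sL ζ) ξ))⁻¹) x
  rw [divFun_mul δ ξ (hG0 ζ ξ) (inv_ne_zero (zpow_ne_zero _ (hg''0 ξ))),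
    Groth.Agent.S1918.divFun_inv δ ξ (zpow_ne_zero _ (hg''0 ξ)), divFun_zpow δ ξ (hg''0 ξ),
    secDivFun_ratSec]
  ring

end Groth.Agent.H34.GysinC1
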