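import Groth.Agent.H34.GysinCmpPieces

/-!
# (CMP) for S1931: the divisor of a section cutting out `D ×_X D'` on `D`
-/

set_option autoImplicit false
universe u
open CategoryTheory CategoryTheory.Limits AlgebraicGeometry TopologicalSpace Opposite

namespace Groth.Agent.H34.GysinCmp

open Groth.Agent.H18.TensorGen (IsGen exists_isGen)
open OmegaSh (pullSect)
open Groth.Agent.H95.SecOrd
open Groth.Agent.H95.AssGen (GenAt genAt_of_isGen germ_eq_smul_germ isUnit_germ_of_genAt)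
open Groth.Agent.H34.GysinCmpPieces

variable {X D D' : Scheme.{u}}

/-- the stalk ideal of a zero scheme is generated by the coefficient of the section on any free
generator. -/
theorem ker_stalkMap_eq_span {Y Z : Scheme.{u}} {N : Y.Modules}
    (σ : N.presheaf.obj (Opposite.op ⊤)) (j : Z ⟶ Y) [IsClosedImmersion j]
    (hZ : Cyc.IsZeroSchemeOf j N σ) (z : Z) {V : Y.Opens} {τ : Γ(N, V)} (hτ : IsGen N V τ)
    (hzV : j z ∈ V) (A : Y.presheaf.stalk (j z))
    (hA : N.presheaf.germ ⊤ (j z) trivial σ = A • N.presheaf.germ V (j z) hzV τ) :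
    RingHom.ker (j.stalkMap z).hom = Ideal.span {A} := by
  obtain ⟨U, hU, hxU, -⟩ := TopologicalSpace.Opens.isBasis_iff_nbhd.mp Y.isBasis_affineOpens
    (show j z ∈ (⊤ : Y.Opens) from trivial)
  rw [Groth.Agent.H9.ker_stalkMap_of_isClosedImmersion j ⟨U, hU⟩ z hxU]
  exact ideal_map_germ_eq_span σ j hZ z (j z) rfl ⟨U, hU⟩ hxU _ (genAt_of_isGen hτ _ hzV)
    (eq_zero_of_smul_germ_eq_zero hτ _ hzV) A hA

/-- (CMP) On `D`, a section `σ'` of `i^*L'` cutting out the fibre product `E = D ×_X D'` (given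
by an abstract pullback square) has the same divisor (on the closure of any point of `D` outside
`D'`) as the section `s'` of `L'` cutting out `D'`. -/
theorem secDivFun_zeroScheme_pullback {E : Scheme.{u}} (δ : X → ℤ) (hX : Cyc.IsSetup X δ)
    {L' : X.Modules} (hL' : PicF.IsInvertible L') (s' : L'.presheaf.obj (Opposite.op ⊤))
    (i : D ⟶ X) (i' : D' ⟶ X) [IsClosedImmersion i] [IsClosedImmersion i']
    (hD' : Cyc.IsZeroSchemeOf i' L' s') (q : E ⟶ D) (q' : E ⟶ D') (hpb : IsPullback q q' i i')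
    (σ' : ((Scheme.Modules.pullback i).obj L').presheaf.obj (Opposite.op ⊤))
    (hσ' : Cyc.IsZeroSchemeOf q ((Scheme.Modules.pullback i).obj L') σ')
    (d d'' : D)
    (hd : (Submodule.Quotient.mk ((L'.presheaf.germ ⊤ (i d) trivial) s') :
      Cyc.secFibre L' (i d)) ≠ 0) :
    Cyc.secDivFun (fun d => δ (i d)) ((Scheme.Modules.pullback i).obj L') d
        (Submodule.Quotient.mk
          ((((Scheme.Modules.pullback i).obj L').presheaf.germ ⊤ d trivial) σ')) d'' =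
      Cyc.secDivFun δ L' (i d)
        (Submodule.Quotient.mk ((L'.presheaf.germ ⊤ (i d) trivial) s')) (i d'') := by
  classical
  have hqci : IsClosedImmersion q :=
    MorphismProperty.of_isPullback (P := @IsClosedImmersion) hpb.flip inferInstance
  have hind : Topology.IsInducing (i : D → X) := i.isClosedEmbedding.isInducing
  unfold Cyc.secDivFun
  by_cases h : d ⤳ d'' ∧ δ (i d'') + 1 = δ (i d)
  swap
  · have h' : ¬ (i d ⤳ i d'' ∧ δ (i d'') + 1 = δ (i d)) := fun hc =>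
      h ⟨hind.specializes_iff.mp hc.1, hc.2⟩
    rw [dif_neg h, dif_neg h']
  have h' : i d ⤳ i d'' ∧ δ (i d'') + 1 = δ (i d) := ⟨hind.specializes_iff.mpr h.1, h.2⟩
  rw [dif_pos h, dif_pos h']
  -- generators
  obtain ⟨V, τ, hx''V, hτ⟩ := exists_isGen hL' (i d'')
  have hxV : i d ∈ V := h'.1.mem_open V.isOpen hx''V
  have hτ' := Groth.Agent.H34.SubGen.isGen_pullSect i hL' hτ
  have hd''V' : d'' ∈ i ⁻¹ᵁ V := hx''V
  have hdV' : d ∈ i ⁻¹ᵁ V := hxV
  -- coefficient of `s'` on `τ`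
  obtain ⟨b, hb⟩ := (hτ (V ⊓ ⊤) inf_le_left).2
    (L'.presheaf.map (homOfLE (inf_le_right : V ⊓ ⊤ ≤ ⊤)).op s')
  have hb' : L'.presheaf.map (homOfLE (inf_le_right : V ⊓ ⊤ ≤ ⊤)).op s' =
      b • L'.presheaf.map (homOfLE (inf_le_left : V ⊓ ⊤ ≤ V)).op τ := hb.symm
  have hgX : ∀ (z : X) (hz : z ∈ V), L'.presheaf.germ ⊤ z trivial s' =
      X.presheaf.germ (V ⊓ ⊤) z ⟨hz, trivial⟩ b • L'.presheaf.germ V z hz τ := fun z hz =>
    germ_eq_smul_germ τ s' b hb' z hz trivial ⟨hz, trivial⟩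
  -- coefficient of `σ'` on `pullSect τ`
  obtain ⟨a, ha⟩ := (hτ' (i ⁻¹ᵁ V ⊓ ⊤) inf_le_left).2
    (((Scheme.Modules.pullback i).obj L').presheaf.map
      (homOfLE (inf_le_right : i ⁻¹ᵁ V ⊓ ⊤ ≤ ⊤)).op σ')
  have ha' : ((Scheme.Modules.pullback i).obj L').presheaf.map
      (homOfLE (inf_le_right : i ⁻¹ᵁ V ⊓ ⊤ ≤ ⊤)).op σ' =
      a • ((Scheme.Modules.pullback i).obj L').presheaf.map
        (homOfLE (inf_le_left : i ⁻¹ᵁ V ⊓ ⊤ ≤ i ⁻¹ᵁ V)).op (pullSect i L' V τ) := ha.symm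
  have hgD : ∀ (z : D) (hz : z ∈ i ⁻¹ᵁ V),
      ((Scheme.Modules.pullback i).obj L').presheaf.germ ⊤ z trivial σ' =
      D.presheaf.germ (i ⁻¹ᵁ V ⊓ ⊤) z ⟨hz, trivial⟩ a •
        ((Scheme.Modules.pullback i).obj L').presheaf.germ (i ⁻¹ᵁ V) z hz (pullSect i L' V τ) :=
    fun z hz => germ_eq_smul_germ (pullSect i L' V τ) σ' a ha' z hz trivial ⟨hz, trivial⟩
  have e1 := secOrdAt_eq_of_isGen hτ' h.1 hd''V' hdV'
    (Submodule.Quotient.mk
      ((((Scheme.Modules.pullback i).obj L').presheaf.germ ⊤ d trivial) σ'))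
    (D.presheaf.germ (i ⁻¹ᵁ V ⊓ ⊤) d ⟨hdV', trivial⟩ a)
    (by rw [hgD d hdV', Submodule.Quotient.mk_smul])
  have e2 := secOrdAt_eq_of_isGen hτ h'.1 hx''V hxV
    (Submodule.Quotient.mk ((L'.presheaf.germ ⊤ (i d) trivial) s'))
    (X.presheaf.germ (V ⊓ ⊤) (i d) ⟨hxV, trivial⟩ b)
    (by rw [hgX (i d) hxV, Submodule.Quotient.mk_smul])
  rw [e1, e2]
  -- the key claim: the two coefficients differ by a unit at `d''`
  have key : ∃ w : D.presheaf.stalk d'', IsUnit w ∧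
      D.presheaf.germ (i ⁻¹ᵁ V ⊓ ⊤) d'' ⟨hd''V', trivial⟩ a =
        w * (i.stalkMap d'').hom (X.presheaf.germ (V ⊓ ⊤) (i d'') ⟨hx''V, trivial⟩ b) := by
    by_cases hr : d'' ∈ Set.range q
    · obtain ⟨e, rfl⟩ := hr
      apply exists_isUnit_mul_of_span_eq
      rw [← ker_stalkMap_eq_span σ' q hσ' e hτ' hd''V' _ (hgD (q e) hd''V')]
      obtain ⟨U, hU, hxU, -⟩ := TopologicalSpace.Opens.isBasis_iff_nbhd.mp X.isBasis_affineOpens
        (show i (q e) ∈ (⊤ : X.Opens) from trivial)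
      rw [Groth.Agent.H27.GG_CORE.ker_stalkMap_of_isPullback i i' q q' hpb e ⟨U, hU⟩ hxU]
      have hx : i' (q' e) = i (q e) := by
        have := congrArg (fun f : E ⟶ X => f e) hpb.w
        simpa using this.symm
      rw [ideal_map_germ_eq_span s' i' hD' (q' e) (i (q e)) hx ⟨U, hU⟩ hxU _
        (genAt_of_isGen hτ _ hx''V) (eq_zero_of_smul_germ_eq_zero hτ _ hx''V) _
        (hgX (i (q e)) hx''V), Ideal.map_span, Set.image_singleton]
    · have hne : (Submodule.Quotient.mk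
          ((((Scheme.Modules.pullback i).obj L').presheaf.germ ⊤ d'' trivial) σ') :
          Cyc.secFibre ((Scheme.Modules.pullback i).obj L') d'') ≠ 0 := by
        intro h0
        apply hr
        rw [hσ'.1]
        exact h0
      have hA : IsUnit (D.presheaf.germ (i ⁻¹ᵁ V ⊓ ⊤) d'' ⟨hd''V', trivial⟩ a) :=
        isUnit_of_mk_ne_zero d'' hd''V' _ hne _
          (by rw [hgD d'' hd''V', Submodule.Quotient.mk_smul])
      have hne' : (Submodule.Quotient.mk ((L'.presheaf.germ ⊤ (i d'') trivial) s') :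
          Cyc.secFibre L' (i d'')) ≠ 0 := by
        intro h0
        have hmem : i d'' ∈ Set.range i' := by
          rw [hD'.1]
          exact h0
        obtain ⟨d', hd'⟩ := hmem
        obtain ⟨e, he, -⟩ := exists_point_of_isPullback i i' q q' hpb d'' d' hd'.symm
        exact hr ⟨e, he⟩
      have hB : IsUnit (X.presheaf.germ (V ⊓ ⊤) (i d'') ⟨hx''V, trivial⟩ b) :=
        isUnit_of_mk_ne_zero (i d'') hx''V _ hne' _
          (by rw [hgX (i d'') hx''V, Submodule.Quotient.mk_smul])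
      have hB' := hB.map (i.stalkMap d'').hom
      refine ⟨_ * ↑hB'.unit⁻¹, hA.mul (Units.isUnit _), ?_⟩
      rw [mul_assoc, IsUnit.val_inv_mul, mul_one]
  obtain ⟨w, hw, hwA⟩ := key
  have hP' : d'' ∈ i ⁻¹ᵁ (V ⊓ ⊤) := ⟨hx''V, trivial⟩
  have hP : d ∈ i ⁻¹ᵁ (V ⊓ ⊤) := ⟨hxV, trivial⟩
  have r1 : D.residue d (D.presheaf.germ (i ⁻¹ᵁ V ⊓ ⊤) d ⟨hdV', trivial⟩ a) =
      Cyc.specMap d'' d h.1 (D.presheaf.germ (i ⁻¹ᵁ V ⊓ ⊤) d'' ⟨hd''V', trivial⟩ a) :=
    (specMap_germ h.1 _ _ a).symm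
  have r2 : Cyc.specMap d'' d h.1
      ((i.stalkMap d'').hom (X.presheaf.germ (V ⊓ ⊤) (i d'') ⟨hx''V, trivial⟩ b)) =
      (i.residueFieldMap d).hom
        (X.residue (i d) (X.presheaf.germ (V ⊓ ⊤) (i d) ⟨hxV, trivial⟩ b)) := by
    rw [Scheme.Hom.germ_stalkMap_apply i (V ⊓ ⊤) d'' hP' b, specMap_germ h.1 hP' hP,
      ← Scheme.Hom.germ_stalkMap_apply i (V ⊓ ⊤) d hP b]
    have := congrArg (fun φ => φ.hom (X.presheaf.germ (V ⊓ ⊤) (i d) ⟨hxV, trivial⟩ b))
      (Scheme.residue_residueFieldMap i d)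
    exact this.symm
  rw [r1, hwA, map_mul, r2, mul_comm, ordAt_mul_specMap_unit h.1 _ hw,
    Groth.Agent.H54.KeyCIa.ordAt_residueFieldMap i h.1 h'.1 _]

end Groth.Agent.H34.GysinCmp
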