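import Groth.Agent.H34.GysinC1
import Groth.Agent.H44.StubSub_SC
import Groth.Agent.H27.GG_CORE
import Groth.Agent.H36.CMP_CA
import Groth.Agent.H36.CMP_CB
import Groth.Agent.H34.GysinCmpCC
import Groth.Agent.H36.CMP_CD

/-!
# Mini-squad #8 pieces for (CMP) of S1931

Re-exports (exact statements used by `GysinCmp`):
* (CA) `eq_zero_of_smul_germ_eq_zero` — helper36 (`Groth.Agent.H36.CMP_CA`);
* (CB) `exists_isUnit_mul_of_span_eq` — helper36 (`Groth.Agent.H36.CMP_CB`), also helper80;
* (CC) `ideal_map_germ_eq_span` — own copy `Groth.Agent.H34.GysinCmpCC` (helper27 proved the same in parallel);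
* (CD) `exists_point_of_isPullback` — helper36 (`Groth.Agent.H36.CMP_CD`), also helper80.
-/

set_option autoImplicit false
universe u
open CategoryTheory CategoryTheory.Limits AlgebraicGeometry TopologicalSpace Opposite

namespace Groth.Agent.H34.GysinCmpPieces

open Groth.Agent.H18.TensorGen (IsGen exists_isGen)
open Groth.Agent.H95.AssGen (GenAt genAt_of_isGen)

/-- (CA) a free generator on an open is torsion-free in the stalk. -/
theorem eq_zero_of_smul_germ_eq_zero {X : Scheme.{u}} {L : X.Modules} {V : X.Opens} {τ : Γ(L, V)}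
    (hτ : IsGen L V τ) (z : X) (hz : z ∈ V) (c : X.presheaf.stalk z)
    (hc : c • L.presheaf.germ V z hz τ = 0) : c = 0 :=
  Groth.Agent.H36.CMP_CA.eq_zero_of_smul_germ_eq_zero hτ z hz c hc

/-- (CB) in a local ring, two generators of the same principal ideal differ by a unit. -/
theorem exists_isUnit_mul_of_span_eq {R : Type*} [CommRing R] [IsLocalRing R] (a b : R)
    (h : Ideal.span {a} = Ideal.span {b}) : ∃ w : R, IsUnit w ∧ a = w * b :=
  Groth.Agent.H36.CMP_CB.exists_isUnit_mul_of_span_eq a b h

/-- (CC) transport-free form of the second half of `IsZeroSchemeOf`: at a point `x = i' d'`, the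
ideal of `D'` in `O_{X,x}` is generated by the coefficient of `s'_x` on ANY torsion-free generator
of `L'_x`. -/
theorem ideal_map_germ_eq_span {X D' : Scheme.{u}} {L' : X.Modules}
    (s' : L'.presheaf.obj (Opposite.op ⊤)) (i' : D' ⟶ X) [IsClosedImmersion i']
    (hD' : Cyc.IsZeroSchemeOf i' L' s') (d' : D') (x : X) (hx : i' d' = x) (U : X.affineOpens)
    (hxU : x ∈ U.1) (t : L'.presheaf.stalk x) (ht : GenAt L' t)
    (hinj : ∀ c : X.presheaf.stalk x, c • t = 0 → c = 0) (B : X.presheaf.stalk x)
    (hB : L'.presheaf.germ ⊤ x trivial s' = B • t) :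
    (i'.ker.ideal U).map (X.presheaf.germ U.1 x hxU).hom = Ideal.span {B} :=
  Groth.Agent.H34.GysinCmpCC.ideal_map_germ_eq_span s' i' hD' d' x hx U hxU t ht hinj B hB

/-- (CD) points of an abstract pullback square of schemes. -/
theorem exists_point_of_isPullback {X D D' E : Scheme.{u}} (i : D ⟶ X) (i' : D' ⟶ X)
    (q : E ⟶ D) (q' : E ⟶ D') (hpb : IsPullback q q' i i') (d : D) (d' : D')
    (h : i d = i' d') : ∃ e : E, q e = d ∧ q' e = d' :=
  Groth.Agent.H36.CMP_CD.exists_point_of_isPullback i i' q q' hpb d d' h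

end Groth.Agent.H34.GysinCmpPieces
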