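import Groth.Agent.H34.GysinC1

/-!
# Gysin maps of two zero schemes commute (S1931): the general comparison step
-/

set_option autoImplicit false
set_option linter.style.haveILetI false
universe u
open CategoryTheory CategoryTheory.Limits AlgebraicGeometry TopologicalSpace Opposite

namespace Groth.Agent.H34.GysinComm

open Groth.Agent.H34.GysinPieces
open Groth.Agent.H34.SubPieces Groth.Agent.H34.SubMain Groth.Agent.H34.DivCap
open Groth.Agent.H34.KeyRel Groth.Agent.H34.GysinC1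
open Groth.Agent.H95.C1Cap (divFun_zpow finsum_c1_sub finite_support_mul)

variable {X D : Scheme.{u}}

/-- The comparison step: `c₁(i^*N) ∩ i^*α` on `D` in terms of cycles on `X`, with correcting
rational functions which are `1` off a set `S` off which no correction is needed. -/
theorem c1Cap_gysin_expand (δ : X → ℤ) (hX : Cyc.IsSetup X δ) {L N : X.Modules}
    (hL : PicF.IsInvertible L) (hN : PicF.IsInvertible N) (s : L.presheaf.obj (Opposite.op ⊤))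
    (i : D ⟶ X) [IsClosedImmersion i] (hD : Cyc.IsZeroSchemeOf i L s)
    (α : AlgebraicCycle X ℤ) (w : (ξ : X) → Cyc.secFibre L ξ) (hw : ∀ ξ, w ξ ≠ 0)
    (v : (ξ : X) → Cyc.secFibre N ξ) (hv : ∀ ξ, v ξ ≠ 0)
    (t : (d : D) → Cyc.secFibre ((Scheme.Modules.pullback i).obj N) d) (ht : ∀ d, t d ≠ 0)
    (S : Set X)
    (hS : ∀ d : D, i d ∉ S → ∀ d' : D,
      Cyc.secDivFun (fun d => δ (i d)) ((Scheme.Modules.pullback i).obj N) d (t d) d' =
        Cyc.secDivFun δ N (i d) (v (i d)) (i d')) :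
    ∃ g'' : (ξ : X) → X.residueField ξ, (∀ ξ, g'' ξ ≠ 0) ∧ (∀ ξ, g'' ξ ≠ 1 → ξ ∈ S) ∧
      ∀ d' : D,
        Cyc.c1CapFun (fun d => δ (i d)) ((Scheme.Modules.pullback i).obj N)
          (fun d => Cyc.c1CapFun δ L ⇑α (Cyc.gysinChoice L s w) (i d)) t d' =
        (∑ᶠ ζ : X, α ζ * Cyc.c1CapFun δ N
          (Cyc.secDivFun δ L ζ (Cyc.gysinChoice L s w ζ)) v (i d')) +
        ∑ᶠ ζ : X, α ζ * ∑ᶠ ξ : X, Cyc.secDivFun δ L ζ (Cyc.gysinChoice L s w ζ) ξ *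
          Cyc.divFun δ ξ (g'' ξ) (i d') := by
  classical
  have hinj : Function.Injective (i : D → X) := i.isClosedEmbedding.injective
  obtain ⟨sL, hsLdef⟩ : ∃ v, v = Cyc.gysinChoice L s w := ⟨_, rfl⟩
  have hsL : ∀ ξ, sL ξ ≠ 0 := fun ξ => by
    rw [hsLdef]
    exact gysinChoice_ne_zero L s w hw ξ
  have hsL0 : ∀ ζ ξ, ξ ∉ Set.range i → Cyc.secDivFun δ L ζ (sL ζ) ξ = 0 := fun ζ ξ hξ => by
    rw [hsLdef]
    exact c1Cap_gysinChoice_eq_zero i δ hL s hD w ζ ξ hξ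
  rw [← hsLdef]
  have hex : ∀ ξ : X, ∃ gξ : X.residueField ξ, gξ ≠ 0 ∧ (gξ ≠ 1 → ξ ∈ S) ∧
      ∀ d : D, i d = ξ → ∀ d' : D,
      Cyc.secDivFun (fun d => δ (i d)) ((Scheme.Modules.pullback i).obj N) d (t d) d' =
        Cyc.secDivFun δ N ξ (v ξ) (i d') + Cyc.divFun δ ξ gξ (i d') := by
    intro ξ
    by_cases hξS : ξ ∈ S
    · by_cases hξ : ξ ∈ Set.range i
      · obtain ⟨d₀, rfl⟩ := hξ
        obtain ⟨g, hg0, hg⟩ := secOrdAt_pullback_closedImmersion i hN d₀ (t d₀) (ht d₀)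
          (v (i d₀)) (hv _)
        refine ⟨g, hg0, fun _ => hξS, fun d hd d' => ?_⟩
        have hdd : d = d₀ := hinj hd
        subst hdd
        exact secDivFun_closedImmersion i δ d _ (v (i d)) g hg d'
      · exact ⟨1, one_ne_zero, fun h => absurd rfl h, fun d hd => absurd ⟨d, hd⟩ hξ⟩
    · refine ⟨1, one_ne_zero, fun h => absurd rfl h, fun d hd d' => ?_⟩
      subst hd
      rw [hS d hξS d', divFun_one, add_zero]
  choose g'' hg''0 hg''S hg'' using hex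
  refine ⟨g'', hg''0, hg''S, fun d' => ?_⟩
  obtain ⟨x, hx⟩ : ∃ x, x = i d' := ⟨_, rfl⟩
  rw [← hx]
  obtain ⟨A, hAdef⟩ : ∃ A : X → ℤ, A = Cyc.c1CapFun δ L ⇑α sL := ⟨_, rfl⟩
  have hA0 : ∀ ξ, ξ ∉ Set.range i → A ξ = 0 := by
    intro ξ hξ
    rw [hAdef]
    unfold Cyc.c1CapFun
    refine finsum_eq_zero_of_forall_eq_zero (fun ζ => ?_)
    rw [hsL0 ζ ξ hξ, mul_zero]
  have hAfin : {ξ : X | A ξ ≠ 0 ∧ ξ ⤳ x}.Finite := by
    have hZ := finite_support_specializes α x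
    have hE : (⋃ ζ ∈ {ζ : X | α ζ ≠ 0 ∧ ζ ⤳ x},
        {ξ : X | ξ ⤳ x ∧ Cyc.secDivFun δ L ζ (sL ζ) ξ ≠ 0}).Finite :=
      hZ.biUnion (fun ζ _ => finite_secDivFun δ hX hL ζ (sL ζ) (hsL ζ) x)
    refine hE.subset ?_
    rintro ξ ⟨hAξ, hξx⟩
    have hexζ : ∃ ζ, α ζ * Cyc.secDivFun δ L ζ (sL ζ) ξ ≠ 0 := by
      by_contra hcon
      push Not at hcon
      apply hAξ
      rw [hAdef]
      exact finsum_eq_zero_of_forall_eq_zero hcon
    obtain ⟨ζ, hζ⟩ := hexζ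
    have h1 : α ζ ≠ 0 := left_ne_zero_of_mul hζ
    have h2 : Cyc.secDivFun δ L ζ (sL ζ) ξ ≠ 0 := right_ne_zero_of_mul hζ
    have h3 : ζ ⤳ ξ := (secDivFun_ne_zero h2).1
    exact Set.mem_biUnion (show ζ ∈ {ζ : X | α ζ ≠ 0 ∧ ζ ⤳ x} from ⟨h1, h3.trans hξx⟩)
      ⟨hξx, h2⟩
  have hζ2 : Cyc.c1CapFun (fun d => δ (i d)) ((Scheme.Modules.pullback i).obj N)
      (fun d => Cyc.c1CapFun δ L ⇑α sL (i d)) t d' =
      Cyc.c1CapFun δ N A v x +
        Cyc.c1CapFun δ (Coh.structureModule X) A (fun ξ => ratSec ξ (g'' ξ)) x := by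
    unfold Cyc.c1CapFun
    have e1 : ∀ d : D, (∑ᶠ ξ : X, α ξ * Cyc.secDivFun δ L ξ (sL ξ) (i d)) *
        Cyc.secDivFun (fun d => δ (i d))
        ((Scheme.Modules.pullback i).obj N) d (t d) d' =
        A (i d) * (Cyc.secDivFun δ N (i d) (v (i d)) x + Cyc.divFun δ (i d) (g'' (i d)) x) := by
      intro d
      rw [hg'' (i d) d rfl d', hx, hAdef]
      rfl
    rw [finsum_congr e1]
    have e2 := finsum_eq_finsum_comp_of_support_subset_range (i : D → X) hinj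
      (fun ξ => A ξ * (Cyc.secDivFun δ N ξ (v ξ) x + Cyc.divFun δ ξ (g'' ξ) x))
      (fun ξ hξ => by
        by_contra hr
        apply hξ
        show A ξ * _ = 0
        rw [hA0 ξ hr, zero_mul])
    rw [← e2]
    have e3 : ∀ ξ, A ξ * (Cyc.secDivFun δ N ξ (v ξ) x + Cyc.divFun δ ξ (g'' ξ) x) =
        A ξ * Cyc.secDivFun δ N ξ (v ξ) x +
          A ξ * Cyc.secDivFun δ (Coh.structureModule X) ξ (ratSec ξ (g'' ξ)) x := by
      intro ξ
      rw [secDivFun_ratSec, mul_add]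
    rw [finsum_congr e3]
    refine finsum_add_distrib (hAfin.subset ?_) (hAfin.subset ?_)
    · intro ξ hξ
      have h1 : A ξ ≠ 0 := left_ne_zero_of_mul hξ
      have h2 : Cyc.secDivFun δ N ξ (v ξ) x ≠ 0 := right_ne_zero_of_mul hξ
      exact ⟨h1, (secDivFun_ne_zero h2).1⟩
    · intro ξ hξ
      have h1 : A ξ ≠ 0 := left_ne_zero_of_mul hξ
      have h2 : Cyc.secDivFun δ (Coh.structureModule X) ξ (ratSec ξ (g'' ξ)) x ≠ 0 :=
        right_ne_zero_of_mul hξ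
      exact ⟨h1, (secDivFun_ne_zero h2).1⟩
  rw [hζ2, hAdef, c1Cap_c1Cap δ hX hL α sL hsL v x,
    c1Cap_c1Cap δ hX hL α sL hsL (fun ξ => ratSec ξ (g'' ξ)) x]
  congr 1
  refine finsum_congr (fun ζ => ?_)
  congr 1
  unfold Cyc.c1CapFun
  refine finsum_congr (fun ξ => ?_)
  rw [secDivFun_ratSec]

end Groth.Agent.H34.GysinComm
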