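import Groth.Agent.H34.GysinCommPieces
import Groth.Agent.H34.GysinComm

/-!
# Gysin maps of two zero schemes commute (S1931): assembly
-/

set_option autoImplicit false
set_option linter.style.haveILetI false
universe u
open CategoryTheory CategoryTheory.Limits AlgebraicGeometry TopologicalSpace Opposite

namespace Groth.Agent.H34.GysinComm

open Groth.Agent.H34.GysinCommPieces

theorem finsum_three {ι : Type*} (F₁ F₂ F₃ : ι → ℤ) (h₁ : (Function.support F₁).Finite)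
    (h₂ : (Function.support F₂).Finite) (h₃ : (Function.support F₃).Finite) :
    ∑ᶠ j, (-F₁ j + F₂ j - F₃ j) = -(∑ᶠ j, F₁ j) + (∑ᶠ j, F₂ j) - ∑ᶠ j, F₃ j := by
  have h₁' : (Function.support fun j => -F₁ j).Finite := by
    refine h₁.subset (fun j hj => ?_)
    simp only [Function.mem_support, ne_eq, neg_eq_zero] at hj ⊢
    exact hj
  have h₁₂ : (Function.support fun j => -F₁ j + F₂ j).Finite :=
    (h₁'.union h₂).subset (Function.support_add _ _)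
  rw [finsum_sub_distrib h₁₂ h₃, finsum_add_distrib h₁' h₂, finsum_neg_distrib]

theorem finsum_c1_four {X : Scheme.{u}} (α : AlgebraicCycle X ℤ) (x : X) (d₁ d₂ d₃ d₄ : X → ℤ)
    (h₁ : ∀ ξ, ¬ ξ ⤳ x → d₁ ξ = 0) (h₂ : ∀ ξ, ¬ ξ ⤳ x → d₂ ξ = 0)
    (h₃ : ∀ ξ, ¬ ξ ⤳ x → d₃ ξ = 0) (h₄ : ∀ ξ, ¬ ξ ⤳ x → d₄ ξ = 0) :
    ((∑ᶠ ξ, α ξ * d₁ ξ) + ∑ᶠ ξ, α ξ * d₂ ξ) - ((∑ᶠ ξ, α ξ * d₃ ξ) + ∑ᶠ ξ, α ξ * d₄ ξ) =
      ∑ᶠ ξ, α ξ * (d₁ ξ + d₂ ξ - d₃ ξ - d₄ ξ) := by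
  have h₁₂₃ : ∀ ξ, ¬ ξ ⤳ x → d₁ ξ + d₂ ξ - d₃ ξ = 0 := fun ξ hn => by
    rw [h₁ ξ hn, h₂ ξ hn, h₃ ξ hn]
    ring
  rw [← sub_sub, Groth.Agent.H95.C1Cap.finsum_c1_add_sub α x d₁ d₂ d₃ h₁ h₂ h₃,
    Groth.Agent.H95.C1Cap.finsum_c1_sub α x (fun ξ => d₁ ξ + d₂ ξ - d₃ ξ) d₄ h₁₂₃ h₄]

open Groth.Agent.H34.GysinPieces
open Groth.Agent.H34.SubPieces Groth.Agent.H34.SubMain Groth.Agent.H34.DivCap
open Groth.Agent.H34.KeyRel Groth.Agent.H34.GysinC1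
open Groth.Agent.H95.C1Cap (divFun_zpow)

/-- S1931. -/
theorem main (X D D' : Scheme.{u}) (δ : X → ℤ) (hX : Cyc.IsSetup X δ) (L L' : X.Modules)
    (hL : PicF.IsInvertible L) (hL' : PicF.IsInvertible L')
    (s : L.presheaf.obj (Opposite.op ⊤)) (s' : L'.presheaf.obj (Opposite.op ⊤))
    (i : D ⟶ X) (i' : D' ⟶ X) [IsClosedImmersion i] [IsClosedImmersion i']
    (hD : Cyc.IsZeroSchemeOf i L s) (hD' : Cyc.IsZeroSchemeOf i' L' s')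
    (σ' : ((Scheme.Modules.pullback i).obj L').presheaf.obj (Opposite.op ⊤))
    (hσ' : Cyc.IsZeroSchemeOf (pullback.fst i i') ((Scheme.Modules.pullback i).obj L') σ')
    (σ : ((Scheme.Modules.pullback i').obj L).presheaf.obj (Opposite.op ⊤))
    (hσ : Cyc.IsZeroSchemeOf (pullback.snd i i') ((Scheme.Modules.pullback i').obj L) σ)
    (k : ℤ) (α : AlgebraicCycle X ℤ) (hα : α ∈ Cyc.Zk X δ k)
    (w : (ξ : X) → Cyc.secFibre L ξ) (hw : ∀ ξ, w ξ ≠ 0)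
    (w' : (ξ : X) → Cyc.secFibre L' ξ) (hw' : ∀ ξ, w' ξ ≠ 0)
    (w₁ : (d : D) → Cyc.secFibre ((Scheme.Modules.pullback i).obj L') d) (hw₁ : ∀ d, w₁ d ≠ 0)
    (w₂ : (d : D') → Cyc.secFibre ((Scheme.Modules.pullback i').obj L) d) (hw₂ : ∀ d, w₂ d ≠ 0)
    (γ : D → ℤ) (hγ : γ = fun d => Cyc.c1CapFun δ L ⇑α (Cyc.gysinChoice L s w) (i d))
    (γ' : D' → ℤ) (hγ' : γ' = fun d => Cyc.c1CapFun δ L' ⇑α (Cyc.gysinChoice L' s' w') (i' d))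
    (ζ₁ ζ₂ : AlgebraicCycle (pullback i i') ℤ)
    (h₁ : ∀ z, ζ₁ z = Cyc.c1CapFun (fun d => δ (i d)) ((Scheme.Modules.pullback i).obj L') γ
      (Cyc.gysinChoice ((Scheme.Modules.pullback i).obj L') σ' w₁) (pullback.fst i i' z))
    (h₂ : ∀ z, ζ₂ z = Cyc.c1CapFun (fun d => δ (i' d)) ((Scheme.Modules.pullback i').obj L) γ'
      (Cyc.gysinChoice ((Scheme.Modules.pullback i').obj L) σ w₂) (pullback.snd i i' z)) :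
    Cyc.RatEquiv (fun z => δ (i (pullback.fst i i' z))) (k - 2) ζ₁ ζ₂ := by
  classical
  subst hγ hγ'
  have hpb : IsPullback (pullback.fst i i') (pullback.snd i i') i i' :=
    IsPullback.of_hasPullback i i'
  have hcond : ∀ z : ↥(pullback i i'), i' (pullback.snd i i' z) = i (pullback.fst i i' z) := by
    intro z
    have h := congrArg (fun f : pullback i i' ⟶ X => f z) (pullback.condition (f := i) (g := i'))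
    exact h.symm
  -- the Gysin sections
  have hsL : ∀ ξ, Cyc.gysinChoice L s w ξ ≠ 0 := gysinChoice_ne_zero L s w hw
  have hsL' : ∀ ξ, Cyc.gysinChoice L' s' w' ξ ≠ 0 := gysinChoice_ne_zero L' s' w' hw'
  have hτ' : ∀ d, Cyc.gysinChoice ((Scheme.Modules.pullback i).obj L') σ' w₁ d ≠ 0 :=
    gysinChoice_ne_zero _ σ' w₁ hw₁
  have hτ : ∀ d, Cyc.gysinChoice ((Scheme.Modules.pullback i').obj L) σ w₂ d ≠ 0 :=
    gysinChoice_ne_zero _ σ w₂ hw₂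
  have hsL0 : ∀ ζ ξ, ξ ∉ Set.range i →
      Cyc.secDivFun δ L ζ (Cyc.gysinChoice L s w ζ) ξ = 0 := fun ζ ξ hξ =>
    c1Cap_gysinChoice_eq_zero i δ hL s hD w ζ ξ hξ
  have hsL'0 : ∀ ζ ξ, ξ ∉ Set.range i' →
      Cyc.secDivFun δ L' ζ (Cyc.gysinChoice L' s' w' ζ) ξ = 0 := fun ζ ξ hξ =>
    c1Cap_gysinChoice_eq_zero i' δ hL' s' hD' w' ζ ξ hξ
  -- no correction off the other divisor
  have hS₁ : ∀ d : D, i d ∉ Set.range i' → ∀ d' : D,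
      Cyc.secDivFun (fun d => δ (i d)) ((Scheme.Modules.pullback i).obj L') d
        (Cyc.gysinChoice ((Scheme.Modules.pullback i).obj L') σ' w₁ d) d' =
      Cyc.secDivFun δ L' (i d) (Cyc.gysinChoice L' s' w' (i d)) (i d') := by
    intro d hd d'
    have h2 : d ∉ Set.range (pullback.fst i i') := by
      rw [Scheme.Pullback.range_fst]
      exact hd
    rw [hD'.1] at hd
    rw [hσ'.1] at h2
    rw [gysinChoice_eq _ σ' w₁ d h2, gysinChoice_eq L' s' w' (i d) hd]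
    exact secDivFun_zeroScheme_pullback δ hX hL' s' i i' hD' _ _ hpb σ' hσ' d d' hd
  have hS₂ : ∀ d : D', i' d ∉ Set.range i → ∀ d' : D',
      Cyc.secDivFun (fun d => δ (i' d)) ((Scheme.Modules.pullback i').obj L) d
        (Cyc.gysinChoice ((Scheme.Modules.pullback i').obj L) σ w₂ d) d' =
      Cyc.secDivFun δ L (i' d) (Cyc.gysinChoice L s w (i' d)) (i' d') := by
    intro d hd d'
    have h2 : d ∉ Set.range (pullback.snd i i') := by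
      rw [Scheme.Pullback.range_snd]
      exact hd
    rw [hD.1] at hd
    rw [hσ.1] at h2
    rw [gysinChoice_eq _ σ w₂ d h2, gysinChoice_eq L s w (i' d) hd]
    exact secDivFun_zeroScheme_pullback δ hX hL s i' i hD _ _ hpb.flip σ hσ d d' hd
  obtain ⟨g₁, hg₁0, hg₁S, hexp₁⟩ := c1Cap_gysin_expand δ hX hL hL' s i hD α w hw
    (Cyc.gysinChoice L' s' w') hsL' _ hτ' (Set.range i') hS₁
  obtain ⟨g₂, hg₂0, hg₂S, hexp₂⟩ := c1Cap_gysin_expand δ hX hL' hL s' i' hD' α w' hw'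
    (Cyc.gysinChoice L s w) hsL _ hτ (Set.range i) hS₂
  obtain ⟨sL, hsLdef⟩ : ∃ v, v = Cyc.gysinChoice L s w := ⟨_, rfl⟩
  obtain ⟨sL', hsL'def⟩ : ∃ v, v = Cyc.gysinChoice L' s' w' := ⟨_, rfl⟩
  rw [← hsLdef] at hsL hsL0 hexp₁ hexp₂ h₁
  rw [← hsL'def] at hsL' hsL'0 hexp₁ hexp₂ h₂
  -- the tame symbols
  obtain ⟨G, hGdef⟩ : ∃ G : (ζ ξ : X) → X.residueField ξ,
      G = fun ζ => gRel δ hL' hL ζ (sL' ζ) (sL ζ) sL sL' := ⟨_, rfl⟩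
  have hG0 : ∀ ζ ξ, G ζ ξ ≠ 0 := fun ζ ξ => by
    rw [hGdef]
    exact gRel_ne_zero δ hX hL' hL ζ (sL' ζ) (hsL' ζ) (sL ζ) (hsL ζ) sL hsL sL' hsL' ξ
  have hG1 : ∀ ζ ξ, G ζ ξ ≠ 1 → ζ ⤳ ξ ∧ δ ξ + 1 = δ ζ := fun ζ ξ h => by
    rw [hGdef] at h
    exact gRel_ne_one h
  have hGlf : ∀ ζ (x : X), ∃ U : Set X, IsOpen U ∧ x ∈ U ∧
      {y : X | G ζ y ≠ 1 ∧ (closure {y} ∩ U).Nonempty}.Finite := fun ζ x => by
    rw [hGdef]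
    exact locallyFinite_gRel δ hX hL' hL ζ (sL' ζ) (hsL' ζ) (sL ζ) (hsL ζ) sL sL' x
  have hGsum : ∀ ζ x, ∑ᶠ ξ : X, Cyc.divFun δ ξ (G ζ ξ) x =
      Cyc.c1CapFun δ L (Cyc.secDivFun δ L' ζ (sL' ζ)) sL x -
        Cyc.c1CapFun δ L' (Cyc.secDivFun δ L ζ (sL ζ)) sL' x := fun ζ x => by
    rw [hGdef]
    exact gRel_sum δ hX hL' hL ζ (sL' ζ) (hsL' ζ) (sL ζ) (hsL ζ) sL hsL sL' hsL' x
  have hGsupp : ∀ ζ ξ, G ζ ξ ≠ 1 → ξ ∈ Set.range i ∧ ξ ∈ Set.range i' := by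
    intro ζ ξ hne
    have hζξ := (hG1 ζ ξ hne).1
    constructor
    · by_contra hξ
      apply hne
      have hζ' : ζ ∉ Set.range i := fun hmem =>
        hξ (Groth.Agent.S1918.mem_range_of_specializes i hmem hζξ)
      rw [hD.1] at hξ hζ'
      have e1 := gysinChoice_eq L s w ξ hξ
      have e2 := gysinChoice_eq L s w ζ hζ'
      rw [← hsLdef] at e1 e2
      rw [hGdef]
      exact gRel_eq_one_of_common_section δ hX hL' hL ζ (sL' ζ) (hsL' ζ) (sL ζ) (hsL ζ) sL sL'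
        ξ s e2 e1 (hsL ξ)
    · by_contra hξ
      apply hne
      have hζ' : ζ ∉ Set.range i' := fun hmem =>
        hξ (Groth.Agent.S1918.mem_range_of_specializes i' hmem hζξ)
      rw [hD'.1] at hξ hζ'
      have e1 := gysinChoice_eq L' s' w' ξ hξ
      have e2 := gysinChoice_eq L' s' w' ζ hζ'
      rw [← hsL'def] at e1 e2
      rw [hGdef]
      exact gRel_eq_one_of_common_section_left δ hX hL' hL ζ (sL' ζ) (hsL' ζ) (sL ζ) (hsL ζ)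
        sL sL' ξ s' e2 e1 (hsL' ξ)
  -- the merged family
  obtain ⟨K, hKdef⟩ : ∃ K : (ζ ξ : X) → X.residueField ξ,
      K = fun ζ ξ => (G ζ ξ)⁻¹ * (g₁ ξ) ^ (Cyc.secDivFun δ L ζ (sL ζ) ξ) *
        ((g₂ ξ) ^ (Cyc.secDivFun δ L' ζ (sL' ζ) ξ))⁻¹ := ⟨_, rfl⟩
  have hK0 : ∀ ζ ξ, K ζ ξ ≠ 0 := fun ζ ξ => by
    rw [hKdef]
    exact mul_ne_zero (mul_ne_zero (inv_ne_zero (hG0 ζ ξ)) (zpow_ne_zero _ (hg₁0 ξ)))
      (inv_ne_zero (zpow_ne_zero _ (hg₂0 ξ)))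
  have hKne : ∀ ζ ξ, K ζ ξ ≠ 1 → G ζ ξ ≠ 1 ∨
      (g₁ ξ ≠ 1 ∧ Cyc.secDivFun δ L ζ (sL ζ) ξ ≠ 0) ∨
      (g₂ ξ ≠ 1 ∧ Cyc.secDivFun δ L' ζ (sL' ζ) ξ ≠ 0) := by
    intro ζ ξ h
    by_contra hc
    push Not at hc
    obtain ⟨c1, c2, c3⟩ := hc
    apply h
    rw [hKdef]
    show (G ζ ξ)⁻¹ * (g₁ ξ) ^ (Cyc.secDivFun δ L ζ (sL ζ) ξ) *
      ((g₂ ξ) ^ (Cyc.secDivFun δ L' ζ (sL' ζ) ξ))⁻¹ = 1
    have e1 : (g₁ ξ) ^ (Cyc.secDivFun δ L ζ (sL ζ) ξ) = 1 := by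
      by_cases hg : g₁ ξ = 1
      · rw [hg, one_zpow]
      · rw [c2 hg, zpow_zero]
    have e2 : (g₂ ξ) ^ (Cyc.secDivFun δ L' ζ (sL' ζ) ξ) = 1 := by
      by_cases hg : g₂ ξ = 1
      · rw [hg, one_zpow]
      · rw [c3 hg, zpow_zero]
    rw [c1, e1, e2, inv_one, mul_one, mul_one]
  have hK1 : ∀ ζ ξ, K ζ ξ ≠ 1 → ζ ⤳ ξ ∧ δ ξ + 1 = δ ζ := by
    intro ζ ξ h
    rcases hKne ζ ξ h with h1 | h1 | h1
    · exact hG1 ζ ξ h1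
    · exact secDivFun_ne_zero h1.2
    · exact secDivFun_ne_zero h1.2
  have hKsupp : ∀ ζ ξ, K ζ ξ ≠ 1 → ξ ∈ Set.range (pullback.fst i i' ≫ i) := by
    intro ζ ξ h
    rw [Scheme.Pullback.range_fst_comp]
    rcases hKne ζ ξ h with h1 | h1 | h1
    · exact hGsupp ζ ξ h1
    · refine ⟨?_, hg₁S ξ h1.1⟩
      by_contra hξ
      exact h1.2 (hsL0 ζ ξ hξ)
    · refine ⟨hg₂S ξ h1.1, ?_⟩
      by_contra hξ
      exact h1.2 (hsL'0 ζ ξ hξ)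
  have hKlf : ∀ ζ (x : X), ∃ U : Set X, IsOpen U ∧ x ∈ U ∧
      {y : X | K ζ y ≠ 1 ∧ (closure {y} ∩ U).Nonempty}.Finite := by
    intro ζ x
    obtain ⟨U₁, hU₁o, hxU₁, hf₁⟩ := hGlf ζ x
    obtain ⟨U₂, hU₂o, hxU₂, hf₂⟩ := locallyFinite_secDivFun δ hX hL ζ (sL ζ) (hsL ζ) x
    obtain ⟨U₃, hU₃o, hxU₃, hf₃⟩ := locallyFinite_secDivFun δ hX hL' ζ (sL' ζ) (hsL' ζ) x
    refine ⟨U₁ ∩ U₂ ∩ U₃, (hU₁o.inter hU₂o).inter hU₃o, ⟨⟨hxU₁, hxU₂⟩, hxU₃⟩,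
      ((hf₁.union hf₂).union hf₃).subset ?_⟩
    rintro y ⟨hy, ⟨z, hz1, hz2⟩⟩
    rcases hKne ζ y hy with h1 | h1 | h1
    · exact Or.inl (Or.inl ⟨h1, ⟨z, hz1, hz2.1.1⟩⟩)
    · exact Or.inl (Or.inr ⟨h1.2, ⟨z, hz1, hz2.1.2⟩⟩)
    · exact Or.inr ⟨h1.2, ⟨z, hz1, hz2.2⟩⟩
  have hα' : α ∈ Cyc.Zk X δ (k - 2 + 2) := by
    have : k - 2 + 2 = k := by ring
    rw [this]
    exact hα
  show Cyc.RatEquivZero (fun z => δ (i (pullback.fst i i' z))) (k - 2) (ζ₁ - ζ₂)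
  refine ratEquivZero_of_double_family_closedImmersion (pullback.fst i i' ≫ i) δ (k - 2) α hα' K
    hK0 hKlf hK1 hKsupp (ζ₁ - ζ₂) (fun z => ?_)
  obtain ⟨x, hx⟩ : ∃ x, x = i (pullback.fst i i' z) := ⟨_, rfl⟩
  have hx' : i' (pullback.snd i i' z) = x := by rw [hx, hcond z]
  have hxj : (pullback.fst i i' ≫ i) z = x := by rw [hx]; rfl
  rw [Function.locallyFinsuppWithin.coe_sub, Pi.sub_apply, h₁ z, h₂ z, hexp₁, hexp₂, hx', ← hx,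
    hxj]
  have hQ0 : ∀ (a : (ζ ξ : X) → ℤ) (g : (ξ : X) → X.residueField ξ)
      (ha : ∀ ζ ξ, a ζ ξ ≠ 0 → ζ ⤳ ξ) (ζ : X), ¬ ζ ⤳ x →
      ∑ᶠ ξ : X, a ζ ξ * Cyc.divFun δ ξ (g ξ) x = 0 := by
    intro a g ha ζ hn
    refine finsum_eq_zero_of_forall_eq_zero (fun ξ => ?_)
    by_cases h0 : a ζ ξ = 0
    · rw [h0, zero_mul]
    · have hsp : ¬ ξ ⤳ x := fun h => hn ((ha ζ ξ h0).trans h)
      rw [Groth.Agent.H95.C1Cap.divFun_eq_zero δ ξ _ x hsp, mul_zero]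
  rw [finsum_c1_four α x
    (fun ζ => Cyc.c1CapFun δ L' (Cyc.secDivFun δ L ζ (sL ζ)) sL' x)
    (fun ζ => ∑ᶠ ξ : X, Cyc.secDivFun δ L ζ (sL ζ) ξ * Cyc.divFun δ ξ (g₁ ξ) x)
    (fun ζ => Cyc.c1CapFun δ L (Cyc.secDivFun δ L' ζ (sL' ζ)) sL x)
    (fun ζ => ∑ᶠ ξ : X, Cyc.secDivFun δ L' ζ (sL' ζ) ξ * Cyc.divFun δ ξ (g₂ ξ) x)
    (fun ζ hn => c1Cap_eq_zero_rel δ ζ (sL ζ) sL' x (fun h => hn h.1))
    (hQ0 (fun ζ ξ => Cyc.secDivFun δ L ζ (sL ζ) ξ) g₁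
      (fun ζ ξ h => (secDivFun_ne_zero h).1))
    (fun ζ hn => c1Cap_eq_zero_rel δ ζ (sL' ζ) sL x (fun h => hn h.1))
    (hQ0 (fun ζ ξ => Cyc.secDivFun δ L' ζ (sL' ζ) ξ) g₂
      (fun ζ ξ h => (secDivFun_ne_zero h).1))]
  refine finsum_congr (fun ζ => ?_)
  congr 1
  -- the inner identity for a fixed `ζ`
  have hf1 : (Function.support fun ξ : X => Cyc.divFun δ ξ (G ζ ξ) x).Finite := by
    obtain ⟨U, hUo, hxU, hfin⟩ := hGlf ζ x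
    refine hfin.subset (fun ξ hξ => ?_)
    have h1 : G ζ ξ ≠ 1 := fun h1 => hξ (by
      show Cyc.divFun δ ξ (G ζ ξ) x = 0
      rw [h1]
      exact divFun_one δ ξ x)
    have hsp : ξ ⤳ x := (divFun_ne_zero hξ).1
    exact ⟨h1, x, specializes_iff_mem_closure.mp hsp, hxU⟩
  have hf2 : (Function.support fun ξ : X => Cyc.secDivFun δ L ζ (sL ζ) ξ *
      Cyc.divFun δ ξ (g₁ ξ) x).Finite := by
    refine (finite_secDivFun δ hX hL ζ (sL ζ) (hsL ζ) x).subset (fun ξ hξ => ?_)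
    have h1 : Cyc.secDivFun δ L ζ (sL ζ) ξ ≠ 0 := left_ne_zero_of_mul hξ
    have h2 : Cyc.divFun δ ξ (g₁ ξ) x ≠ 0 := right_ne_zero_of_mul hξ
    exact ⟨(divFun_ne_zero h2).1, h1⟩
  have hf3 : (Function.support fun ξ : X => Cyc.secDivFun δ L' ζ (sL' ζ) ξ *
      Cyc.divFun δ ξ (g₂ ξ) x).Finite := by
    refine (finite_secDivFun δ hX hL' ζ (sL' ζ) (hsL' ζ) x).subset (fun ξ hξ => ?_)
    have h1 : Cyc.secDivFun δ L' ζ (sL' ζ) ξ ≠ 0 := left_ne_zero_of_mul hξ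
    have h2 : Cyc.divFun δ ξ (g₂ ξ) x ≠ 0 := right_ne_zero_of_mul hξ
    exact ⟨(divFun_ne_zero h2).1, h1⟩
  have hterm : ∀ ξ : X, Cyc.divFun δ ξ (K ζ ξ) x =
      -Cyc.divFun δ ξ (G ζ ξ) x +
        Cyc.secDivFun δ L ζ (sL ζ) ξ * Cyc.divFun δ ξ (g₁ ξ) x -
        Cyc.secDivFun δ L' ζ (sL' ζ) ξ * Cyc.divFun δ ξ (g₂ ξ) x := by
    intro ξ
    rw [hKdef]
    show Cyc.divFun δ ξ ((G ζ ξ)⁻¹ * (g₁ ξ) ^ (Cyc.secDivFun δ L ζ (sL ζ) ξ) *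
      ((g₂ ξ) ^ (Cyc.secDivFun δ L' ζ (sL' ζ) ξ))⁻¹) x = _
    rw [divFun_mul δ ξ (mul_ne_zero (inv_ne_zero (hG0 ζ ξ)) (zpow_ne_zero _ (hg₁0 ξ)))
        (inv_ne_zero (zpow_ne_zero _ (hg₂0 ξ))),
      divFun_mul δ ξ (inv_ne_zero (hG0 ζ ξ)) (zpow_ne_zero _ (hg₁0 ξ)),
      Groth.Agent.S1918.divFun_inv δ ξ (hG0 ζ ξ),
      Groth.Agent.S1918.divFun_inv δ ξ (zpow_ne_zero _ (hg₂0 ξ)),
      divFun_zpow δ ξ (hg₁0 ξ), divFun_zpow δ ξ (hg₂0 ξ)]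
    ring
  rw [finsum_congr hterm, finsum_three _ _ _ hf1 hf2 hf3, hGsum ζ x]
  ring

end Groth.Agent.H34.GysinComm
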