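import Groth.Agent.H34.GysinC1
import Groth.Agent.H60.StubGG_SYM
import Groth.Agent.H34.GysinCmp

/-!
# Squad #7 pieces for S1931 (`Cyc.gysin_gysin_comm`)

Re-exports, with the exact statements the assembly in `GysinCommMain` uses, of
* (SYM) `gRel_eq_one_of_common_section_left` — proved by helper60 (`Groth.Agent.H60.StubGG_SYM`);
* (CMP) `secDivFun_zeroScheme_pullback` — assembled in `Groth.Agent.H34.GysinCmp` from helper27's core fact and mini-squad #8.
-/

set_option autoImplicit false
universe u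
open CategoryTheory CategoryTheory.Limits AlgebraicGeometry TopologicalSpace Opposite

namespace Groth.Agent.H34.GysinCommPieces

open Groth.Agent.H34.KeyRel

variable {X D D' : Scheme.{u}}

/-- (SYM) mirror image of `gRel_eq_one_of_common_section`: the common global section is a section
of the FIRST module `L`. -/
theorem gRel_eq_one_of_common_section_left (δ : X → ℤ) (hX : Cyc.IsSetup X δ) {L N : X.Modules}
    (hL : PicF.IsInvertible L) (hN : PicF.IsInvertible N) (ζ : X)
    (s : Cyc.secFibre L ζ) (hs : s ≠ 0) (t : Cyc.secFibre N ζ) (ht : t ≠ 0)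
    (u : (ξ : X) → Cyc.secFibre N ξ) (v : (ξ : X) → Cyc.secFibre L ξ) (ξ : X)
    (σ : L.presheaf.obj (Opposite.op ⊤))
    (hσζ : s = (Submodule.Quotient.mk (L.presheaf.germ ⊤ ζ trivial σ) : Cyc.secFibre L ζ))
    (hσξ : v ξ = (Submodule.Quotient.mk (L.presheaf.germ ⊤ ξ trivial σ) : Cyc.secFibre L ξ))
    (hvξ : v ξ ≠ 0) : gRel δ hL hN ζ s t u v ξ = 1 :=
  Groth.Agent.H60.StubGG_SYM.gRel_eq_one_of_common_section_left δ hX hL hN ζ s hs t ht u v ξ σ
    hσζ hσξ hvξ

/-- (CMP) On `D`, a section `σ'` of `i^*L'` cutting out the fibre product `E = D ×_X D'` (given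
by an abstract pullback square) has the same divisor (on the closure of any point of `D` outside
`D'`) as the section `s'` of `L'` cutting out `D'`. -/
theorem secDivFun_zeroScheme_pullback {E : Scheme.{u}} (δ : X → ℤ) (hX : Cyc.IsSetup X δ)
    {L' : X.Modules} (hL' : PicF.IsInvertible L') (s' : L'.presheaf.obj (Opposite.op ⊤))
    (i : D ⟶ X) (i' : D' ⟶ X) [IsClosedImmersion i] [IsClosedImmersion i']
    (hD' : Cyc.IsZeroSchemeOf i' L' s') (q : E ⟶ D) (q' : E ⟶ D') (hpb : IsPullback q q' i i')
    (σ' : ((Scheme.Modules.pullback i).obj L').presheaf.obj (Opposite.op ⊤))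
    (hσ' : Cyc.IsZeroSchemeOf q ((Scheme.Modules.pullback i).obj L') σ')
    (d d'' : D)
    (hd : (Submodule.Quotient.mk ((L'.presheaf.germ ⊤ (i d) trivial) s') :
      Cyc.secFibre L' (i d)) ≠ 0) :
    Cyc.secDivFun (fun d => δ (i d)) ((Scheme.Modules.pullback i).obj L') d
        (Submodule.Quotient.mk
          ((((Scheme.Modules.pullback i).obj L').presheaf.germ ⊤ d trivial) σ')) d'' =
      Cyc.secDivFun δ L' (i d)
        (Submodule.Quotient.mk ((L'.presheaf.germ ⊤ (i d) trivial) s')) (i d'') :=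
  Groth.Agent.H34.GysinCmp.secDivFun_zeroScheme_pullback δ hX hL' s' i i' hD' q q' hpb σ' hσ'
    d d'' hd

end Groth.Agent.H34.GysinCommPieces
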