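import Groth.Agent.H84.G6_SUPP
import Groth.Agent.H87.G6_LFS

/-!
# Pieces for S6466 (squad #6): adapter re-exporting the providers' theorems

* (LFS) `locallyFinite_secDivFun` — helper87 (`Groth.Agent.H87.G6_LFS`)
* (SUPP) `secDivFun_global_eq_zero` — helper84 (`Groth.Agent.H84.G6_SUPP`)
-/

set_option autoImplicit false
universe u
open CategoryTheory AlgebraicGeometry TopologicalSpace Opposite

namespace Groth.Agent.H34.GysinPieces

variable {X D : Scheme.{u}}

/-- (LFS) The support of the divisor of a rational section of an invertible module is locally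
finite. -/
theorem locallyFinite_secDivFun (δ : X → ℤ) (hX : Cyc.IsSetup X δ) {L : X.Modules}
    (hL : PicF.IsInvertible L) (ζ : X) (s : Cyc.secFibre L ζ) (hs : s ≠ 0) (x : X) :
    ∃ U : Set X, IsOpen U ∧ x ∈ U ∧
      {ξ : X | Cyc.secDivFun δ L ζ s ξ ≠ 0 ∧ (closure {ξ} ∩ U).Nonempty}.Finite :=
  Groth.Agent.H87.G6_LFS.locallyFinite_secDivFun δ hX hL ζ s hs x

/-- (SUPP) The divisor of the rational section given by a global section `σ` vanishes at the
points where `σ` does not vanish. -/
theorem secDivFun_global_eq_zero (δ : X → ℤ) {L : X.Modules} (hL : PicF.IsInvertible L)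
    (σ : L.presheaf.obj (Opposite.op ⊤)) (ζ ξ : X)
    (hξ : (Submodule.Quotient.mk ((L.presheaf.germ ⊤ ξ trivial) σ) : Cyc.secFibre L ξ) ≠ 0) :
    Cyc.secDivFun δ L ζ (Submodule.Quotient.mk ((L.presheaf.germ ⊤ ζ trivial) σ)) ξ = 0 :=
  Groth.Agent.H84.G6_SUPP.secDivFun_global_eq_zero δ hL σ ζ ξ hξ

end Groth.Agent.H34.GysinPieces
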