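import Mathlib
import Groth.Agent.H34.HensGRing
import Groth.Agent.H34.GRingLoc
import Groth.Agent.H34.GRingQuot
import Groth.Agent.H44.DVRExc
import Groth.Agent.H47.Hens3
import Groth.Agent.H47.HensNoeth
import Groth.Agent.H20.PolyGRing2
import Groth.Agent.S0599
import Groth.Agent.S13598
import Groth.Agent.S13404

/-! A henselian local ring is a directed colimit of henselian local G-rings (helper34). -/

set_option autoImplicit false
set_option maxHeartbeats 1600000
set_option linter.style.haveILetI false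
universe u
open IsLocalRing

namespace Groth.Agent.H34.HensColimG

open Groth.Agent.H47.Hens

/-- The integers, in an arbitrary universe. -/
abbrev Z : Type u := ULift.{u} ℤ

instance : IsDomain Z.{u} := (ULift.ringEquiv : Z.{u} ≃+* ℤ).toMulEquiv.isDomain ℤ

instance : CharZero Z.{u} :=
  charZero_of_injective_ringHom (f := (ULift.ringEquiv.symm : ℤ ≃+* Z.{u}).toRingHom)
    (ULift.ringEquiv.symm : ℤ ≃+* Z.{u}).injective

instance : IsPrincipalIdealRing Z.{u} :=
  IsPrincipalIdealRing.of_surjective (ULift.ringEquiv.symm : ℤ ≃+* Z.{u}).toRingHom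
    (ULift.ringEquiv.symm : ℤ ≃+* Z.{u}).surjective

theorem isGRing_Z : CAlg.IsGRing Z.{u} :=
  (Groth.Agent.H44.DVRExc.isExcellent_of_isDedekindDomain_charZero Z.{u}).2.2.1

/-- The universal map from the henselization to a henselian local ring is local. -/
theorem isLocalHom_of_comp (R : Type u) [CommRing R] [IsLocalRing R] (T : Type u) [CommRing T]
    [IsLocalRing T] (f : R →+* T) (hf : IsLocalHom f) (g : Hloc R →+* T)
    (hg : g.comp (algebraMap R (Hloc R)) = f) : IsLocalHom g := by
  have hI := Groth.Agent.H47.HensNoeth.isIndEtaleLocal_Hloc R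
  apply ((IsLocalRing.local_hom_TFAE g).out 0 2).mpr
  rw [← hI.map_max, Ideal.map_map, hg]
  exact ((IsLocalRing.local_hom_TFAE f).out 0 2).mp hf

section Abstract

variable (A : Type u) [CommRing A] [HenselianLocalRing A]
  (ι : Type u) [Preorder ι] [IsDirectedOrder ι] [Nonempty ι]
  (B : ι → Type u) [∀ i, CommRing (B i)] [∀ i, IsLocalRing (B i)] [∀ i, IsNoetherianRing (B i)]

theorem abstract_main (hG : ∀ i, CAlg.IsGRing (B i))
    (φ : ∀ i, B i →+* A) (hφ : ∀ i, IsLocalHom (φ i))
    (τ : ∀ i j, i ≤ j → (B i →+* B j)) (hτ : ∀ i j h, IsLocalHom (τ i j h))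
    (hcomp : ∀ i j h, (φ j).comp (τ i j h) = φ i)
    (hcover : ∀ a : A, ∃ i, a ∈ (φ i).range) :
    ∃ (G : ι → Type u) (_ : ∀ i, CommRing (G i)) (f : ∀ i j : ι, i ≤ j → (G i →+* G j))
      (_ : DirectedSystem G (fun i j h => f i j h)),
      (∀ i, HenselianLocalRing (G i) ∧ CAlg.IsGRing (G i)) ∧
      (∀ (i j : ι) (h : i ≤ j), IsLocalHom (f i j h)) ∧
      Nonempty (A ≃+* DirectLimit G f) := by
  classical
  have huniv : ∀ i, ∃! g : Hloc (B i) →+* A, g.comp (algebraMap (B i) (Hloc (B i))) = φ i :=
    fun i => Hensel.IsHenselization.universal (R := B i) (S := Hloc (B i)) A (φ i) (hφ i)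
  let ψ : ∀ i, Hloc (B i) →+* A := fun i => (huniv i).choose
  have hψ : ∀ i, (ψ i).comp (algebraMap (B i) (Hloc (B i))) = φ i :=
    fun i => (huniv i).choose_spec.1
  have hψu : ∀ i (g : Hloc (B i) →+* A), g.comp (algebraMap (B i) (Hloc (B i))) = φ i → g = ψ i :=
    fun i g hg => (huniv i).choose_spec.2 g hg
  have hlocψ : ∀ i, IsLocalHom (ψ i) :=
    fun i => isLocalHom_of_comp (B i) A (φ i) (hφ i) (ψ i) (hψ i)
  have hmono : ∀ i j (_ : i ≤ j), (ψ i).range ≤ (ψ j).range := by
    intro i j h
    have hloc : IsLocalHom ((algebraMap (B j) (Hloc (B j))).comp (τ i j h)) := by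
      haveI := hτ i j h
      exact RingHom.isLocalHom_comp _ _
    obtain ⟨θ, hθ, -⟩ := Hensel.IsHenselization.universal (R := B i) (S := Hloc (B i))
      (Hloc (B j)) ((algebraMap (B j) (Hloc (B j))).comp (τ i j h)) hloc
    have h1 : ((ψ j).comp θ).comp (algebraMap (B i) (Hloc (B i))) = φ i := by
      rw [RingHom.comp_assoc, hθ, ← RingHom.comp_assoc, hψ j, hcomp i j h]
    have h2 : (ψ j).comp θ = ψ i := hψu i _ h1
    rintro _ ⟨y, rfl⟩
    exact ⟨θ y, by rw [← h2]; rfl⟩
  let G : ι → Type u := fun i => ↥(ψ i).range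
  let f : ∀ i j : ι, i ≤ j → (G i →+* G j) := fun i j h => Subring.inclusion (hmono i j h)
  have hds : DirectedSystem G (fun i j h => f i j h) :=
    ⟨fun _ _ => Subtype.ext rfl, fun _ _ _ _ _ _ => Subtype.ext rfl⟩
  refine ⟨G, fun i => inferInstance, f, hds, ?_, ?_, ?_⟩
  · intro i
    have hker : RingHom.ker (ψ i) ≠ ⊤ := RingHom.ker_ne_top _
    haveI : Nontrivial (Hloc (B i) ⧸ RingHom.ker (ψ i)) := Ideal.Quotient.nontrivial_iff.mpr hker
    haveI : IsLocalRing (Hloc (B i) ⧸ RingHom.ker (ψ i)) :=
      IsLocalRing.of_surjective' (Ideal.Quotient.mk _) Ideal.Quotient.mk_surjective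
    haveI hh := Groth.Agent.S13598.henselian_quotient (RingHom.ker (ψ i))
    refine ⟨Groth.Agent.S13404.henselian_of_ringEquiv (RingHom.quotientKerEquivRange (ψ i)), ?_⟩
    have h1 : CAlg.IsGRing (Hloc (B i)) :=
      Groth.Agent.H34.HensGRing.isGRing_hens (B i) (Hloc (B i)) (hG i)
    have h2 := Groth.Agent.H34.GRingQuot.isGRing_quotient (Hloc (B i)) h1 (RingHom.ker (ψ i))
    exact Groth.Agent.H20.PolyGRing.isGRing_of_ringEquiv
      (RingHom.quotientKerEquivRange (ψ i)) h2
  · intro i j h
    refine ⟨fun x hx => ?_⟩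
    obtain ⟨y, hy⟩ := x.2
    have h1 : IsUnit ((ψ j).range.subtype (f i j h x)) := hx.map _
    have h2 : IsUnit (ψ i y) := by
      rw [hy]
      exact h1
    have h3 : IsUnit y := (hlocψ i).map_nonunit y h2
    have h4 : IsUnit ((ψ i).rangeRestrict y) := h3.map _
    have h5 : (ψ i).rangeRestrict y = x := Subtype.ext hy
    rwa [h5] at h4
  · let g : ∀ i, G i →+* A := fun i => (ψ i).range.subtype
    have compat : ∀ i j h (x : G i), g i x = g j (f i j h x) := fun _ _ _ _ => rfl
    let L : DirectLimit G f →+* A :=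
      { toFun := DirectLimit.lift f (fun i => ⇑(g i)) compat
        map_one' := DirectLimit.lift_one g compat
        map_mul' := DirectLimit.lift_mul g compat
        map_zero' := DirectLimit.lift_zero g compat
        map_add' := DirectLimit.lift_add g compat }
    have hinj : Function.Injective L :=
      DirectLimit.lift_injective f _ compat (fun i => Subtype.val_injective)
    have hsurj : Function.Surjective L := by
      intro a
      obtain ⟨i, b, hb⟩ := hcover a
      have ha : a ∈ (ψ i).range := ⟨algebraMap (B i) (Hloc (B i)) b, by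
        rw [← hb, ← hψ i]; rfl⟩
      exact ⟨⟦⟨i, ⟨a, ha⟩⟩⟧, rfl⟩
    exact ⟨(RingEquiv.ofBijective L ⟨hinj, hsurj⟩).symm⟩

end Abstract


section Concrete

variable (A : Type u) [CommRing A]

/-- `A` as an algebra over the integers lifted to the universe of `A`. -/
@[reducible] noncomputable def algZ : Algebra Z.{u} A :=
  ((Int.castRingHom A).comp (ULift.ringEquiv : Z.{u} ≃+* ℤ).toRingHom).toAlgebra

attribute [local instance] algZ

variable [HenselianLocalRing A]

/-- the finitely generated subring generated by `s`. -/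
noncomputable def As (s : Finset A) : Subalgebra Z.{u} A := Algebra.adjoin Z.{u} (s : Set A)

instance (s : Finset A) : Algebra.FiniteType Z.{u} (As A s) :=
  (Subalgebra.fg_iff_finiteType _).mp (Subalgebra.fg_adjoin_finset s)

/-- the contraction of the maximal ideal. -/
noncomputable def ps (s : Finset A) : Ideal (As A s) := (maximalIdeal A).comap (As A s).val

instance (s : Finset A) : (ps A s).IsPrime := Ideal.comap_isPrime _ _

theorem mem_ps (s : Finset A) (x : As A s) : x ∈ ps A s ↔ (x : A) ∈ maximalIdeal A := Iff.rfl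

/-- the local ring of the finitely generated subring. -/
abbrev Bs (s : Finset A) : Type u := Localization.AtPrime (ps A s)

theorem isUnit_val (s : Finset A) (y : (ps A s).primeCompl) :
    IsUnit ((As A s).val.toRingHom (y : As A s)) := by
  have h : ((y : As A s) : A) ∉ maximalIdeal A := fun h => y.2 ((mem_ps A s _).mpr h)
  exact IsLocalRing.notMem_maximalIdeal.mp h

/-- the map to `A`. -/
noncomputable def φs (s : Finset A) : Bs A s →+* A :=
  IsLocalization.lift (M := (ps A s).primeCompl) (S := Bs A s) (g := (As A s).val.toRingHom)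
    (isUnit_val A s)

theorem φs_algebraMap (s : Finset A) (x : As A s) : φs A s (algebraMap (As A s) (Bs A s) x) = x :=
  IsLocalization.lift_eq (isUnit_val A s) x

theorem isLocalHom_φs (s : Finset A) : IsLocalHom (φs A s) := by
  refine ⟨fun x hx => ?_⟩
  obtain ⟨⟨a, t⟩, hxs⟩ := IsLocalization.surj (ps A s).primeCompl x
  have h1 : φs A s x * ((t : As A s) : A) = (a : A) := by
    rw [← φs_algebraMap A s (t : As A s), ← φs_algebraMap A s a, ← map_mul]
    exact congrArg (φs A s) hxs
  have h2 : IsUnit ((a : As A s) : A) := by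
    rw [← h1]
    exact hx.mul (isUnit_val A s t)
  have h3 : a ∉ ps A s := fun h =>
    (IsLocalRing.mem_maximalIdeal _).mp ((mem_ps A s a).mp h) h2
  have h4 : IsUnit (algebraMap (As A s) (Bs A s) a) :=
    IsLocalization.map_units (Bs A s) (⟨a, h3⟩ : (ps A s).primeCompl)
  rw [← hxs] at h4
  exact isUnit_of_mul_isUnit_left h4

theorem As_mono {s t : Finset A} (h : s ≤ t) : As A s ≤ As A t :=
  Algebra.adjoin_mono (Finset.coe_subset.mpr h)

theorem ps_comap {s t : Finset A} (h : s ≤ t) :
    ps A s = (ps A t).comap (Subalgebra.inclusion (As_mono A h)).toRingHom := by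
  ext x
  rfl

/-- the transition maps. -/
noncomputable def τs (s t : Finset A) (h : s ≤ t) : Bs A s →+* Bs A t :=
  Localization.localRingHom (ps A s) (ps A t) (Subalgebra.inclusion (As_mono A h)).toRingHom
    (ps_comap A h)

theorem φs_comp_τs (s t : Finset A) (h : s ≤ t) : (φs A t).comp (τs A s t h) = φs A s := by
  apply IsLocalization.ringHom_ext (ps A s).primeCompl
  ext x
  simp only [RingHom.comp_apply]
  rw [τs, Localization.localRingHom_to_map, φs_algebraMap, φs_algebraMap]
  rfl

theorem isGRing_Bs (s : Finset A) : CAlg.IsGRing (Bs A s) :=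
  Groth.Agent.H34.GRingLoc.isGRing_localization _
    (Groth.Agent.S0599.result Z.{u} isGRing_Z (As A s)) _

/-- **S9309**. -/
theorem main : ∃ (ι : Type u) (_ : Preorder ι) (_ : IsDirectedOrder ι) (_ : Nonempty ι)
    (G : ι → Type u) (_ : ∀ i, CommRing (G i)) (f : ∀ i j : ι, i ≤ j → (G i →+* G j))
    (_ : DirectedSystem G (fun i j h => f i j h)),
    (∀ i, HenselianLocalRing (G i) ∧ CAlg.IsGRing (G i)) ∧
    (∀ (i j : ι) (h : i ≤ j), IsLocalHom (f i j h)) ∧
    Nonempty (A ≃+* DirectLimit G f) := by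
  classical
  haveI : ∀ s : Finset A, IsNoetherianRing (Bs A s) := fun s => (isGRing_Bs A s).1
  obtain ⟨G, iG, f, hds, h1, h2, h3⟩ := abstract_main A (Finset A) (fun s => Bs A s)
    (isGRing_Bs A) (φs A) (isLocalHom_φs A) (τs A)
    (fun s t h => Localization.isLocalHom_localRingHom _ _ _ _)
    (φs_comp_τs A)
    (fun a => ⟨{a}, algebraMap (As A {a}) (Bs A {a})
      ⟨a, Algebra.subset_adjoin (by simp)⟩, φs_algebraMap A {a} _⟩)
  exact ⟨Finset A, inferInstance, inferInstance, inferInstance, G, iG, f, hds, h1, h2, h3⟩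

end Concrete

end Groth.Agent.H34.HensColimG
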