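import Groth.Agent.S2646
import Groth.Agent.S0499
import Groth.Agent.S4749
import Groth.Agent.H34.CplBC
import Groth.Agent.H34.ComplQuot
import Groth.Agent.H34.OnePlusDomain

/-! The completion of a Noetherian henselian local domain with geometrically normal formal fibres
is a domain (helper34). -/

set_option autoImplicit false
universe u
open IsLocalRing TensorProduct

namespace Groth.Agent.H34.HensCplDomain

/-- a domain which is a finite product of local rings is local. -/
theorem isLocalRing_of_pi (S : Type u) [CommRing S] [IsDomain S] (ι : Type u) [Fintype ι]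
    (A : ι → Type u) [∀ i, CommRing (A i)] (hA : ∀ i, IsLocalRing (A i))
    (e : S ≃+* (∀ i, A i)) : IsLocalRing S := by
  classical
  have hne : Nonempty ι := by
    by_contra hemp
    rw [not_nonempty_iff] at hemp
    have h1 : e 1 = e 0 := Subsingleton.elim _ _
    exact one_ne_zero (e.injective h1)
  have hsub : Subsingleton ι := by
    constructor
    intro i j
    by_contra hij
    have hx : e.symm (Pi.single i 1) * e.symm (Pi.single j 1) = 0 := by
      rw [← map_mul, ← map_zero e.symm]
      congr 1
      ext k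
      by_cases hk : k = i
      · subst hk
        simp [hij]
      · simp [hk]
    rcases mul_eq_zero.mp hx with h | h
    · have h2 : (Pi.single i 1 : ∀ i, A i) = 0 := by
        rw [← e.apply_symm_apply (Pi.single i 1), h, map_zero]
      have h3 := congrFun h2 i
      simp at h3
    · have h2 : (Pi.single j 1 : ∀ i, A i) = 0 := by
        rw [← e.apply_symm_apply (Pi.single j 1), h, map_zero]
      have h3 := congrFun h2 j
      simp at h3
  let _ : Unique ι := uniqueOfSubsingleton (Classical.choice hne)
  have hloc : IsLocalRing (A default) := hA default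
  exact (e.trans (RingEquiv.piUnique A)).symm.isLocalRing

section core
variable (A A' : Type u) [CommRing A] [CommRing A'] [IsNoetherianRing A] [IsLocalRing A]
  [IsLocalRing A'] [Algebra A A'] [Module.Finite A A']

attribute [local instance] Algebra.TensorProduct.rightAlgebra

theorem isIntegral_right : Algebra.IsIntegral (EGA4.Cpl A) (A' ⊗[A] EGA4.Cpl A) := by
  have h1 : Algebra.IsIntegral (EGA4.Cpl A) (EGA4.Cpl A ⊗[A] A') := inferInstance
  let e : EGA4.Cpl A ⊗[A] A' →ₐ[EGA4.Cpl A] A' ⊗[A] EGA4.Cpl A :=
    { (Algebra.TensorProduct.comm A (EGA4.Cpl A) A').toRingEquiv.toRingHom with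
      commutes' := fun c => by
        show (Algebra.TensorProduct.comm A (EGA4.Cpl A) A') (c ⊗ₜ[A] (1 : A')) = _
        rw [Algebra.TensorProduct.comm_tmul]
        rfl }
  exact Algebra.IsIntegral.of_surjective e
    (Algebra.TensorProduct.comm A (EGA4.Cpl A) A').surjective

theorem isLocalHom_of_finite : IsLocalHom (algebraMap A A') := by
  have hint : Algebra.IsIntegral A A' := Algebra.IsIntegral.of_finite A A'
  refine ((IsLocalRing.local_hom_TFAE (algebraMap A A')).out 0 4).mpr ?_
  have := Ideal.isMaximal_comap_of_isIntegral_of_isMaximal (R := A) (maximalIdeal A')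
  exact IsLocalRing.eq_maximalIdeal this

/-- every maximal ideal of `A' ⊗ Â` is `m_{A'} (A' ⊗ Â)`. -/
theorem key (M : Ideal (A' ⊗[A] EGA4.Cpl A)) (hM : M.IsMaximal) :
    M = (maximalIdeal A').map (algebraMap A' (A' ⊗[A] EGA4.Cpl A)) := by
  have hint : Algebra.IsIntegral A A' := Algebra.IsIntegral.of_finite A A'
  have hlh : IsLocalHom (algebraMap A A') := isLocalHom_of_finite A A'
  have hint2 := isIntegral_right A A'
  have hMp : M.IsPrime := hM.isPrime
  have hMc : (M.comap (algebraMap (EGA4.Cpl A) (A' ⊗[A] EGA4.Cpl A))).IsMaximal :=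
    Ideal.isMaximal_comap_of_isIntegral_of_isMaximal (R := EGA4.Cpl A) M
  have hMc' := IsLocalRing.eq_maximalIdeal hMc
  have hqA : (M.comap (algebraMap A' (A' ⊗[A] EGA4.Cpl A))).comap (algebraMap A A') =
      maximalIdeal A := by
    rw [Ideal.comap_comap, ← IsScalarTower.algebraMap_eq]
    have h5 : algebraMap A (A' ⊗[A] EGA4.Cpl A) =
        (algebraMap (EGA4.Cpl A) (A' ⊗[A] EGA4.Cpl A)).comp (algebraMap A (EGA4.Cpl A)) := by
      ext a
      exact ((Algebra.TensorProduct.includeRight :
        EGA4.Cpl A →ₐ[A] A' ⊗[A] EGA4.Cpl A).commutes a).symm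
    rw [h5, ← Ideal.comap_comap, hMc', IsLocalRing.maximalIdeal_comap]
  have hqmax : (M.comap (algebraMap A' (A' ⊗[A] EGA4.Cpl A))).IsMaximal := by
    apply Ideal.isMaximal_of_isIntegral_of_isMaximal_comap (R := A)
    rw [hqA]
    exact maximalIdeal.isMaximal A
  exact Groth.Agent.H34.CplBC.n'_eq A A' M (IsLocalRing.eq_maximalIdeal hqmax)

theorem core [IsDomain A'] [IsIntegrallyClosed A'] (hinj : Function.Injective (algebraMap A A'))
    (h : EGA4.HasGeomNormalFormalFibres A) : IsDomain (EGA4.Cpl A) := by
  have hN' : IsNoetherianRing A' := IsNoetherianRing.of_finite A A'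
  have hNH0 : EGA4.IsNormalHom A (EGA4.Cpl A) := ⟨inferInstance, h⟩
  have hft : Algebra.FiniteType A A' := inferInstance
  have hNH : EGA4.IsNormalHom A' (A' ⊗[A] EGA4.Cpl A) :=
    (Groth.Agent.S4749.result A (EGA4.Cpl A) A' (Or.inr hft)).1 hNH0
  have hNB : IsNoetherianRing (A' ⊗[A] EGA4.Cpl A) := by
    have h2 : Module.Finite (EGA4.Cpl A) (EGA4.Cpl A ⊗[A] A') := inferInstance
    have h3 : IsNoetherianRing (EGA4.Cpl A ⊗[A] A') :=
      IsNoetherianRing.of_finite (EGA4.Cpl A) _
    exact isNoetherianRing_of_ringEquiv _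
      (Algebra.TensorProduct.comm A (EGA4.Cpl A) A').toRingEquiv
  have hnorm : EGA4.IsNormalRing (A' ⊗[A] EGA4.Cpl A) :=
    Groth.Agent.H34.OnePlus.isNormalRing_of_isNormalHom A' _ hNH
      (Groth.Agent.H34.OnePlusDomain.isNormalRing_of_isIntegrallyClosed _)
  have hinjR : Function.Injective (algebraMap (EGA4.Cpl A) (A' ⊗[A] EGA4.Cpl A)) :=
    Algebra.TensorProduct.includeRight_injective hinj
  have hntB : Nontrivial (A' ⊗[A] EGA4.Cpl A) := hinjR.nontrivial
  have hlocB : IsLocalRing (A' ⊗[A] EGA4.Cpl A) := by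
    obtain ⟨M₀, hM₀⟩ := Ideal.exists_maximal (A' ⊗[A] EGA4.Cpl A)
    exact IsLocalRing.of_unique_max_ideal
      ⟨M₀, hM₀, fun M hM => by rw [key A A' M hM, key A A' M₀ hM₀]⟩
  have hdB : IsDomain (A' ⊗[A] EGA4.Cpl A) := by
    obtain ⟨hd, -⟩ := hnorm (maximalIdeal (A' ⊗[A] EGA4.Cpl A))
    have hle : (maximalIdeal (A' ⊗[A] EGA4.Cpl A)).primeCompl ≤
        nonZeroDivisors (A' ⊗[A] EGA4.Cpl A) := by
      intro s hs
      exact (IsLocalRing.notMem_maximalIdeal.mp hs).mem_nonZeroDivisors
    have hinjL := IsLocalization.injective (Localization.AtPrime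
      (maximalIdeal (A' ⊗[A] EGA4.Cpl A))) hle
    exact hinjL.isDomain (algebraMap _ _)
  exact hinjR.isDomain (algebraMap (EGA4.Cpl A) (A' ⊗[A] EGA4.Cpl A))

end core

theorem main (A : Type u) [CommRing A] [IsNoetherianRing A] [HenselianLocalRing A] [IsDomain A]
    (h : EGA4.HasGeomNormalFormalFibres A) : IsDomain (EGA4.Cpl A) := by
  obtain ⟨-, hfin⟩ := Groth.Agent.S2646.result A h
  have hfin' : Module.Finite A (integralClosure A (FractionRing A)) := hfin
  have hic : IsIntegrallyClosed (integralClosure A (FractionRing A)) :=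
    integralClosure.isIntegrallyClosedOfFiniteExtension (FractionRing A)
  obtain ⟨ι, hι, Ai, hAi, hloc, ⟨e⟩⟩ :=
    Groth.Agent.S0499.result A (integralClosure A (FractionRing A))
  have hlocA' : IsLocalRing (integralClosure A (FractionRing A)) :=
    isLocalRing_of_pi (integralClosure A (FractionRing A)) ι Ai hloc e
  have hinj : Function.Injective (algebraMap A (integralClosure A (FractionRing A))) := by
    have h1 : Function.Injective (algebraMap A (FractionRing A)) :=
      IsFractionRing.injective A (FractionRing A)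
    rw [IsScalarTower.algebraMap_eq A (integralClosure A (FractionRing A)) (FractionRing A),
      RingHom.coe_comp] at h1
    exact Function.Injective.of_comp h1
  exact core A (integralClosure A (FractionRing A)) hinj h

end Groth.Agent.H34.HensCplDomain
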