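import Groth.Agent.H34.HensFib
import Groth.Agent.H34.GRingLoc
import Groth.Agent.H87.ComplIso
import Groth.Agent.S0507
import Groth.Agent.S0509
import Groth.Agent.S0510
import Groth.Agent.S0511
import Groth.Agent.S9412
import Groth.Agent.S9413
import Groth.Agent.S9294
import Groth.Agent.Lead.GeomRegBC
import Groth.Agent.S13598
import Groth.Agent.S2811
import Groth.Agent.S4754
import Groth.Agent.S2636

/-! Formal fibres of the henselization of a Noetherian local ring (helper34). -/

set_option autoImplicit false
universe u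
open TensorProduct IsLocalRing

namespace Groth.Agent.H34.HensFormal

section
variable (A S : Type u) [CommRing A] [IsLocalRing A] [CommRing S]
  [IsLocalRing S] [Algebra A S] [IsLocalHom (algebraMap A S)] [Hensel.IsHenselization A S]

theorem map_pow_eq (n : ℕ) :
    Ideal.map (algebraMap A S) (maximalIdeal A ^ n) = maximalIdeal S ^ n := by
  rw [Ideal.map_pow, Groth.Agent.S0507.result A S]

/-- the completions of a local ring and of its henselization agree. -/
theorem nonempty_cplEquiv : Nonempty (EGA4.Cpl A ≃ₐ[A] EGA4.Cpl S) := by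
  have hφ : maximalIdeal A ≤ (maximalIdeal S).comap (Algebra.ofId A S) := by
    intro a ha
    rw [Ideal.mem_comap, ← Groth.Agent.S0507.result A S]
    exact Ideal.mem_map_of_mem _ ha
  refine Groth.Agent.H87.ComplIso.nonempty_algEquiv (R := A) (P := A) (S := S) (maximalIdeal A)
    (maximalIdeal S) (Algebra.ofId A S) hφ ?_ ?_
  · intro n s
    obtain ⟨ā, hā⟩ := (Groth.Agent.S0510.result A S n).2 (Ideal.Quotient.mk _ s)
    obtain ⟨a, rfl⟩ := Ideal.Quotient.mk_surjective ā
    refine ⟨a, ?_⟩
    rw [Ideal.quotientMap_mk, Ideal.Quotient.eq, map_pow_eq] at hā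
    have := (Ideal.neg_mem_iff _).mpr hā
    rw [neg_sub] at this
    exact this
  · intro n a ha
    have h0 : Ideal.quotientMap (Ideal.map (algebraMap A S) (maximalIdeal A ^ n))
        (algebraMap A S) Ideal.le_comap_map (Ideal.Quotient.mk _ a) = 0 := by
      rw [Ideal.quotientMap_mk, Ideal.Quotient.eq_zero_iff_mem, map_pow_eq]; exact ha
    have h1 := (Groth.Agent.S0510.result A S n).1 (h0.trans (map_zero _).symm)
    exact Ideal.Quotient.eq_zero_iff_mem.mp h1

end

section noeth
variable (A S : Type u) [CommRing A] [IsLocalRing A] [IsNoetherianRing A] [CommRing S]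
  [IsLocalRing S] [Algebra A S] [IsLocalHom (algebraMap A S)] [Hensel.IsHenselization A S]

include A in
theorem isNoetherianRing_hens : IsNoetherianRing S :=
  (Groth.Agent.S0511.result A S).mp inferInstance

/-- geometrically normal formal fibres pass to the henselization (all field extensions). -/
theorem isNormalRing_tensor_formalFibre (hA : EGA4.HasGeomNormalFormalFibres A)
    (q : Ideal S) [q.IsPrime] (L : Type u) [Field L] [Algebra q.ResidueField L] :
    EGA4.IsNormalRing (L ⊗[q.ResidueField] EGA4.formalFibre S q) := by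
  obtain ⟨e⟩ := nonempty_cplEquiv A S
  refine Groth.Agent.H34.HensFib.transfer A S (fun R _ => EGA4.IsNormalRing R)
    (fun R R' _ _ e h => Groth.Agent.H34.FibLoc.isNormalRing_of_ringEquiv e h)
    (fun R R' _ _ _ M _ h => Groth.Agent.S9412.isNormalRing_of_isLocalization M R' h)
    (EGA4.Cpl S) ?_ q L
  intro p _ L' _ _
  have h1 : EGA4.IsGeomNormal p.ResidueField (p.Fiber (EGA4.Cpl S)) := by
    intro k' _ _ hfin
    let e1 : p.ResidueField ⊗[A] EGA4.Cpl A ≃ₐ[p.ResidueField] p.ResidueField ⊗[A] EGA4.Cpl S :=
      Algebra.TensorProduct.congr AlgEquiv.refl e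
    let e2 : k' ⊗[p.ResidueField] (p.ResidueField ⊗[A] EGA4.Cpl A) ≃ₐ[k']
        k' ⊗[p.ResidueField] (p.ResidueField ⊗[A] EGA4.Cpl S) :=
      Algebra.TensorProduct.congr AlgEquiv.refl e1
    exact Groth.Agent.H34.FibLoc.isNormalRing_of_ringEquiv e2.toRingEquiv (hA p k' hfin)
  have h2 : EGA4.IsNormalRing L' :=
    Groth.Agent.H34.OnePlusDomain.isNormalRing_of_isIntegrallyClosed L'
  have h3 := Groth.Agent.S9413.result p.ResidueField (p.Fiber (EGA4.Cpl S)) L' h1 h2
  exact Groth.Agent.H34.FibLoc.isNormalRing_of_ringEquiv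
    (Algebra.TensorProduct.comm p.ResidueField (p.Fiber (EGA4.Cpl S)) L').toRingEquiv h3

theorem hasGeomNormalFormalFibres_hens (hA : EGA4.HasGeomNormalFormalFibres A) :
    EGA4.HasGeomNormalFormalFibres S :=
  fun q _ k' _ _ _ => isNormalRing_tensor_formalFibre A S hA q k'

/-- the henselization of a Noetherian local ring with geometrically normal formal fibres is
universally catenary. -/
theorem isUniversallyCatenary_hens (hA : EGA4.HasGeomNormalFormalFibres A) :
    CAlg.IsUniversallyCatenary S := by
  have hN : IsNoetherianRing S := isNoetherianRing_hens A S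
  have hS := hasGeomNormalFormalFibres_hens A S hA
  have hH : HenselianLocalRing S := Hensel.IsHenselization.henselian (R := A)
  refine Groth.Agent.S2636.result S ?_
  intro q hq
  have hq' : HenselianLocalRing (S ⧸ q) := Groth.Agent.S13598.henselian_quotient q
  have h1 : EGA4.HasGeomNormalFormalFibres (S ⧸ q) := Groth.Agent.S4754.result S hS q
  have hdom : IsDomain (EGA4.Cpl (S ⧸ q)) := Groth.Agent.S2811.result (S ⧸ q) h1
  exact Groth.Agent.H15.FormEq.isEquidim_of_isDomain _

end noeth

end Groth.Agent.H34.HensFormal
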