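import Mathlib
import Groth.Agent.H34.HensGRing
import Groth.Agent.H34.FSComplNormal
import Groth.Agent.H44.J2Crit
import Groth.Agent.H86.TameEisenstein
import Groth.Agent.S0599
import Groth.Agent.S2701
import Groth.Agent.S9230

/-! The henselization of an excellent local ring is excellent; henselian local G-rings are J-2
(helper34). -/

set_option autoImplicit false
universe u
open TensorProduct IsLocalRing

namespace Groth.Agent.H34.HensExcellent

/-- A henselian local G-ring is J-2 (hence quasi-excellent). -/
theorem isJ2_of_henselian_gring (S : Type u) [CommRing S] [HenselianLocalRing S]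
    (hG : CAlg.IsGRing S) : EGA4.IsJ2 S := by
  have hN := hG.1
  rw [Groth.Agent.H44.J2Crit.isJ2_iff_finite_domains]
  intro A' _ _ _ hfin
  have hloc : IsLocalRing A' := Groth.Agent.H86.TameKummer.isLocalRing_of_finite_domain S A'
  have hG' : CAlg.IsGRing A' := Groth.Agent.S0599.result S hG A'
  have hN' := hG'.1
  have hopen := Groth.Agent.S2701.result A'
    (Groth.Agent.H34.HensGRing.isRegularHom_cpl_of_isGRing A' hG')
  exact ⟨_, hopen, ⟨_, Groth.Agent.H44.NagataCrit.bot_mem_regLocus A'⟩, subset_rfl⟩

/-- **S5042**. -/
theorem main (R S : Type u) [CommRing R] [IsLocalRing R]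
    [CommRing S] [IsLocalRing S] [Algebra R S] [IsLocalHom (algebraMap R S)]
    [Hensel.IsHenselization R S]
    (h : EGA4.IsExcellent R) : EGA4.IsExcellent S := by
  obtain ⟨hN, -, hG, -⟩ := h
  have hNS : IsNoetherianRing S := Groth.Agent.H34.HensFormal.isNoetherianRing_hens R S
  have hGS : CAlg.IsGRing S := Groth.Agent.H34.HensGRing.isGRing_hens R S hG
  have hreg := Groth.Agent.H34.HensGRing.isRegularHom_cpl_of_isGRing R hG
  have hnf : EGA4.HasGeomNormalFormalFibres R :=
    (Groth.Agent.H34.FSComplNormal.isNormalHom_of_isRegularHom hreg).2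
  have hUCS := Groth.Agent.S9230.result R S hnf
  have hhens : HenselianLocalRing S := Hensel.IsHenselization.henselian R
  exact ⟨hNS, hUCS, hGS, isJ2_of_henselian_gring S hGS⟩

end Groth.Agent.H34.HensExcellent
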