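import Mathlib
import Groth.Agent.S2736

/-! Fibres of `S → X` for `S` the henselization of a Noetherian local ring `A`: for a field `L` over
`κ(q)`, `L ⊗[S] X` is a localization of `L ⊗[A] X`; transfer of "geometric" properties of the fibres
of `A → X` to those of `S → X` (helper34). -/

set_option autoImplicit false
universe u
open TensorProduct

namespace Groth.Agent.H34.HensFib

section J
variable (A S X L : Type u) [CommRing A] [CommRing S] [CommRing X] [CommRing L]
  [Algebra A S] [Algebra S X] [Algebra A X] [IsScalarTower A S X]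
  [Algebra S L] [Algebra A L] [IsScalarTower A S L]

/-- multiplication `L ⊗[A] S → L`. -/
noncomputable def mu : L ⊗[A] S →ₐ[L] L :=
  Algebra.TensorProduct.lift (AlgHom.id L L) (IsScalarTower.toAlgHom A S L)
    (fun _ _ => Commute.all _ _)

/-- `L ⊗[A] S → L ⊗[A] X`. -/
noncomputable def phi : L ⊗[A] S →ₐ[L] L ⊗[A] X :=
  Algebra.TensorProduct.map (AlgHom.id L L) (IsScalarTower.toAlgHom A S X)

/-- the canonical surjection `L ⊗[A] X → L ⊗[S] X`. -/
noncomputable def pi' : L ⊗[A] X →ₐ[L] L ⊗[S] X :=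
  Algebra.TensorProduct.mapOfCompatibleSMul S A L L X

theorem ker_pi (M : Submonoid (L ⊗[A] S))
    (hker : ∀ z, mu A S L z = 0 → ∃ m ∈ M, m * z = 0) (z : L ⊗[A] X)
    (hz : pi' A S X L z = 0) : ∃ m ∈ M, phi A S X L m * z = 0 := by
  have hz' : z ∈ LinearMap.ker (_root_.TensorProduct.mapOfCompatibleSMul S A S L X) := hz
  rw [TensorProduct.AlgebraTensorModule.ker_mapOfCompatibleSMul] at hz'
  clear hz
  induction hz' using Submodule.span_induction with
  | mem w hw =>
    obtain ⟨s, l, x, rfl⟩ := hw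
    have h1 : mu A S L ((algebraMap S L s) ⊗ₜ[A] (1 : S) - (1 : L) ⊗ₜ[A] s) = 0 := by
      simp [mu]
    obtain ⟨m, hm, hmz⟩ := hker _ h1
    refine ⟨m, hm, ?_⟩
    have h2 : (s • l) ⊗ₜ[A] x - l ⊗ₜ[A] (s • x) =
        phi A S X L ((algebraMap S L s) ⊗ₜ[A] (1 : S) - (1 : L) ⊗ₜ[A] s) * (l ⊗ₜ[A] x) := by
      simp only [phi, map_sub, Algebra.TensorProduct.map_tmul, AlgHom.coe_id, id_eq,
        IsScalarTower.coe_toAlgHom', map_one, sub_mul, Algebra.TensorProduct.tmul_mul_tmul,
        one_mul]
      rw [Algebra.smul_def, Algebra.smul_def]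
    rw [h2, ← mul_assoc, ← map_mul, hmz, map_zero, zero_mul]
  | zero => exact ⟨1, M.one_mem, by simp⟩
  | add x y _ _ hx hy =>
    obtain ⟨m, hm, h1⟩ := hx
    obtain ⟨m', hm', h2⟩ := hy
    refine ⟨m * m', M.mul_mem hm hm', ?_⟩
    rw [map_mul, mul_add]
    have e1 : phi A S X L m * phi A S X L m' * x = phi A S X L m' * (phi A S X L m * x) := by ring
    have e2 : phi A S X L m * phi A S X L m' * y = phi A S X L m * (phi A S X L m' * y) := by ring
    rw [e1, e2, h1, h2]; simp
  | smul s x _ hx =>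
    obtain ⟨m, hm, h1⟩ := hx
    refine ⟨m, hm, ?_⟩
    rw [mul_smul_comm, h1, smul_zero]

theorem pi_phi (z : L ⊗[A] S) :
    pi' A S X L (phi A S X L z) = algebraMap L (L ⊗[S] X) (mu A S L z) := by
  induction z using TensorProduct.induction_on with
  | zero => simp
  | tmul l s =>
    simp only [phi, pi', mu, Algebra.TensorProduct.map_tmul, AlgHom.coe_id, id_eq,
      IsScalarTower.coe_toAlgHom', Algebra.TensorProduct.mapOfCompatibleSMul_tmul,
      Algebra.TensorProduct.lift_tmul, Algebra.TensorProduct.algebraMap_apply,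
      Algebra.algebraMap_self, RingHom.id_apply]
    rw [mul_comm, ← Algebra.smul_def, TensorProduct.smul_tmul, Algebra.smul_def, mul_one]
  | add x y hx hy => simp only [map_add, hx, hy]

/-- if `L` is a localization of `L ⊗[A] S` (via multiplication) then `L ⊗[S] X` is a localization
of `L ⊗[A] X`. -/
theorem isLocalization_pi (M : Submonoid (L ⊗[A] S))
    (hunit : ∀ m ∈ M, IsUnit (mu A S L m))
    (hker : ∀ z, mu A S L z = 0 → ∃ m ∈ M, m * z = 0) :
    @IsLocalization (L ⊗[A] X) _ (M.map (phi A S X L).toRingHom) (L ⊗[S] X) _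
      (pi' A S X L).toRingHom.toAlgebra := by
  let a3 : Algebra (L ⊗[A] X) (L ⊗[S] X) := (pi' A S X L).toRingHom.toAlgebra
  rw [isLocalization_iff]
  refine ⟨?_, ?_, ?_⟩
  · rintro ⟨y, m, hm, rfl⟩
    show IsUnit (pi' A S X L (phi A S X L m))
    rw [pi_phi]
    exact (hunit m hm).map _
  · intro z
    obtain ⟨t, rfl⟩ := Algebra.TensorProduct.mapOfCompatibleSMul_surjective S A L L X z
    refine ⟨(t, 1), ?_⟩
    simp only [OneMemClass.coe_one, map_one, mul_one]
    rfl
  · intro x y hxy
    have h0 : pi' A S X L (x - y) = 0 := by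
      rw [map_sub, sub_eq_zero]; exact hxy
    obtain ⟨m, hm, hmz⟩ := ker_pi A S X L M hker _ h0
    refine ⟨⟨phi A S X L m, m, hm, rfl⟩, ?_⟩
    show phi A S X L m * x = phi A S X L m * y
    rw [← sub_eq_zero, ← mul_sub]; exact hmz
end J

/-- von Neumann regularity. -/
def VN (R : Type*) [CommRing R] : Prop := ∀ x : R, ∃ y : R, x = x ^ 2 * y

theorem VN.of_ringEquiv {R R' : Type*} [CommRing R] [CommRing R'] (e : R ≃+* R') (h : VN R) :
    VN R' := by
  intro x
  obtain ⟨y, hy⟩ := h (e.symm x)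
  refine ⟨e y, ?_⟩
  have := congrArg e hy
  simpa using this

theorem VN.pi {ι : Type*} (R : ι → Type*) [∀ i, CommRing (R i)] (h : ∀ i, VN (R i)) :
    VN (∀ i, R i) := by
  intro x
  choose y hy using fun i => h i (x i)
  exact ⟨y, funext fun i => by simpa using hy i⟩

/-- `L ⊗[k] K` is von Neumann regular for `K/k` separable algebraic. -/
theorem VN.tensor_separable (k K L : Type u) [Field k] [Field K] [Field L] [Algebra k K]
    [Algebra k L] [Algebra.IsSeparable k K] : VN (L ⊗[k] K) := by
  classical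
  intro x
  obtain ⟨T, rfl⟩ := TensorProduct.exists_finset x
  let E : IntermediateField k K := IntermediateField.adjoin k ((T.image Prod.snd : Finset K) : Set K)
  have hfd : FiniteDimensional k E :=
    IntermediateField.finiteDimensional_adjoin (fun x _ => Algebra.IsIntegral.isIntegral x)
  have hsep : Algebra.IsSeparable k E := Algebra.isSeparable_tower_bot_of_isSeparable k E K
  have hEt : Algebra.FormallyEtale k E := Algebra.FormallyEtale.of_isSeparable k E
  have hUn : Algebra.FormallyUnramified L (L ⊗[k] E) := inferInstance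
  have hfin : Module.Finite L (L ⊗[k] E) := inferInstance
  have hred : IsReduced (L ⊗[k] E) := Algebra.FormallyUnramified.isReduced_of_field L (L ⊗[k] E)
  have hart : IsArtinianRing (L ⊗[k] E) := IsArtinianRing.of_finite L (L ⊗[k] E)
  have hmem : ∀ i ∈ T, i.2 ∈ E := fun i hi =>
    IntermediateField.subset_adjoin k _ (Finset.mem_coe.mpr (Finset.mem_image_of_mem _ hi))
  let x' : L ⊗[k] E := ∑ i ∈ T.attach, i.1.1 ⊗ₜ[k] (⟨i.1.2, hmem i.1 i.2⟩ : E)
  obtain ⟨y, hy⟩ := Groth.Agent.H3.Fib.exists_eq_sq_mul x'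
  let ψ : L ⊗[k] E →ₐ[L] L ⊗[k] K := Algebra.TensorProduct.map (AlgHom.id L L) E.val
  have hψ : ψ x' = ∑ i ∈ T, i.1 ⊗ₜ[k] i.2 := by
    simp only [x', map_sum, ψ, Algebra.TensorProduct.map_tmul, AlgHom.coe_id, id_eq,
      IntermediateField.val_mk]
    exact Finset.sum_attach T (fun i => i.1 ⊗ₜ[k] i.2)
  refine ⟨ψ y, ?_⟩
  rw [← hψ]
  calc ψ x' = ψ (x' ^ 2 * y) := by rw [← hy]
    _ = ψ x' ^ 2 * ψ y := by rw [map_mul, pow_two, pow_two, map_mul]

section hens
variable (A S : Type u) [CommRing A] [IsLocalRing A] [IsNoetherianRing A] [CommRing S]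
  [IsLocalRing S] [Algebra A S] [IsLocalHom (algebraMap A S)] [Hensel.IsHenselization A S]

theorem vn_tensor (p : Ideal A) [p.IsPrime] (L : Type u) [Field L] [Algebra p.ResidueField L]
    [Algebra A L] [IsScalarTower A p.ResidueField L] : VN (L ⊗[A] S) := by
  classical
  obtain ⟨n, K, hK, hKa, hsep, ⟨e⟩⟩ := Groth.Agent.S2736.result A S p
  let e1 : L ⊗[p.ResidueField] (p.ResidueField ⊗[A] S) ≃ₐ[p.ResidueField] L ⊗[A] S :=
    Algebra.TensorProduct.cancelBaseChange A p.ResidueField p.ResidueField L S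
  let e2 : L ⊗[p.ResidueField] (p.ResidueField ⊗[A] S) ≃ₐ[L] L ⊗[p.ResidueField] (Π i, K i) :=
    Algebra.TensorProduct.congr AlgEquiv.refl e
  let e3 : L ⊗[p.ResidueField] (Π i, K i) ≃ₐ[L] Π i, L ⊗[p.ResidueField] K i :=
    Algebra.TensorProduct.piRight p.ResidueField L L K
  have h3 : VN (Π i, L ⊗[p.ResidueField] K i) :=
    VN.pi _ (fun i => by
      have := hsep i
      exact VN.tensor_separable p.ResidueField (K i) L)
  exact (h3.of_ringEquiv (e2.trans e3).symm.toRingEquiv).of_ringEquiv e1.toRingEquiv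

/-- **Transfer**: a property of rings stable under isomorphism and localization which holds for
all `L ⊗ (fibre of A → X)` holds for all `L ⊗ (fibre of S → X)`. -/
theorem transfer (P : ∀ (R : Type u) [CommRing R], Prop)
    (hiso : ∀ (R R' : Type u) [CommRing R] [CommRing R'], (R ≃+* R') → P R → P R')
    (hloc : ∀ (R R' : Type u) [CommRing R] [CommRing R'] [Algebra R R'] (M : Submonoid R)
      [IsLocalization M R'], P R → P R')
    (X : Type u) [CommRing X] [Algebra S X] [Algebra A X] [IsScalarTower A S X]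
    (h : ∀ (p : Ideal A) [p.IsPrime] (L : Type u) [Field L] [Algebra p.ResidueField L],
      P (L ⊗[p.ResidueField] p.Fiber X))
    (q : Ideal S) [q.IsPrime] (L : Type u) [Field L] [Algebra q.ResidueField L] :
    P (L ⊗[q.ResidueField] q.Fiber X) := by
  let p : Ideal A := q.comap (algebraMap A S)
  have hp : p.IsPrime := Ideal.comap_isPrime _ _
  let σ : p.ResidueField →+* q.ResidueField := Ideal.ResidueField.map p q (algebraMap A S) rfl
  let _ : Algebra p.ResidueField L := ((algebraMap q.ResidueField L).comp σ).toAlgebra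
  let _ : Algebra S L :=
    ((algebraMap q.ResidueField L).comp (algebraMap S q.ResidueField)).toAlgebra
  have : IsScalarTower S q.ResidueField L := IsScalarTower.of_algebraMap_eq (fun _ => rfl)
  let _ : Algebra A L := ((algebraMap S L).comp (algebraMap A S)).toAlgebra
  have : IsScalarTower A S L := IsScalarTower.of_algebraMap_eq (fun _ => rfl)
  have : IsScalarTower A p.ResidueField L := IsScalarTower.of_algebraMap_eq (fun a => by
    show algebraMap q.ResidueField L (algebraMap S q.ResidueField (algebraMap A S a)) =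
      algebraMap q.ResidueField L (σ (algebraMap A p.ResidueField a))
    rw [Ideal.ResidueField.map_algebraMap])
  have hP0 := h p L
  let e0 : L ⊗[p.ResidueField] (p.ResidueField ⊗[A] X) ≃ₐ[p.ResidueField] L ⊗[A] X :=
    Algebra.TensorProduct.cancelBaseChange A p.ResidueField p.ResidueField L X
  have hP1 : P (L ⊗[A] X) := hiso _ _ e0.toRingEquiv hP0
  have hvn := vn_tensor A S p L
  let M : Submonoid (L ⊗[A] S) := (IsUnit.submonoid L).comap (mu A S L)
  have hloc' := isLocalization_pi A S X L M (fun m hm => hm) (fun z hz => by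
    obtain ⟨y, hy⟩ := hvn z
    refine ⟨1 - z * y, ?_, ?_⟩
    · show IsUnit (mu A S L (1 - z * y))
      rw [map_sub, map_mul, hz, zero_mul, sub_zero, map_one]; exact isUnit_one
    · have e : z * y * z = z ^ 2 * y := by ring
      rw [sub_mul, one_mul, sub_eq_zero, e]; exact hy)
  have hP2 : P (L ⊗[S] X) :=
    @hloc (L ⊗[A] X) (L ⊗[S] X) _ _ (pi' A S X L).toRingHom.toAlgebra _ hloc' hP1
  let e1 : L ⊗[q.ResidueField] (q.ResidueField ⊗[S] X) ≃ₐ[q.ResidueField] L ⊗[S] X :=
    Algebra.TensorProduct.cancelBaseChange S q.ResidueField q.ResidueField L X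
  exact hiso _ _ e1.symm.toRingEquiv hP2

end hens
end Groth.Agent.H34.HensFib
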