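import Mathlib
import Groth.Agent.H34.HensRegular
import Groth.Agent.S0567
import Groth.Agent.S2657
import Groth.Agent.H29.NagataFF
import Groth.Agent.H11.FFNagata
import Groth.Agent.H25.GeomRed

/-! The henselization of a Noetherian local ring is Nagata iff the ring is (helper34). -/

set_option autoImplicit false
universe u
open TensorProduct

namespace Groth.Agent.H34.HensNagata
open Groth.Agent.H34.HensFib Groth.Agent.H34.HensFormal

theorem VN.isReduced {R : Type*} [CommRing R] (h : VN R) : IsReduced R := by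
  rw [isReduced_iff_pow_one_lt 2 (by norm_num)]
  intro x hx
  obtain ⟨y, hy⟩ := h x
  rw [hy, hx, zero_mul]

variable (A S : Type u) [CommRing A] [IsLocalRing A] [IsNoetherianRing A] [CommRing S]
  [IsLocalRing S] [Algebra A S] [IsLocalHom (algebraMap A S)] [Hensel.IsHenselization A S]

/-- Nagata descends from the henselization. -/
theorem isNagata_of_hens (hS : CAlg.IsNagata S) : CAlg.IsNagata A := by
  have hff := Groth.Agent.S0509.result A S
  refine Groth.Agent.H11.FFNagata.isNagata_of_faithfullyFlat A S hS ?_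
  intro p _ L _ _ _ _ _
  let f : A →+* L := (algebraMap (A ⧸ p) L).comp (Ideal.Quotient.mk p)
  let _ : Algebra A L := f.toAlgebra
  have : IsScalarTower A (A ⧸ p) L := IsScalarTower.of_algebraMap_eq (fun _ => rfl)
  have hinj : Function.Injective (algebraMap (A ⧸ p) L) := by
    rw [IsScalarTower.algebraMap_eq (A ⧸ p) (FractionRing (A ⧸ p)) L]
    exact (algebraMap (FractionRing (A ⧸ p)) L).injective.comp (IsFractionRing.injective _ _)
  have hker : ∀ a : A, f a = 0 ↔ a ∈ p := fun a => by
    show algebraMap (A ⧸ p) L (Ideal.Quotient.mk p a) = 0 ↔ _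
    rw [map_eq_zero_iff _ hinj, Ideal.Quotient.eq_zero_iff_mem]
  let g : p.ResidueField →+* L := Ideal.ResidueField.lift p f (fun a ha => (hker a).mpr ha)
    (fun a ha => by
      show IsUnit (f a)
      exact isUnit_iff_ne_zero.mpr (fun h => ha ((hker a).mp h)))
  let _ : Algebra p.ResidueField L := g.toAlgebra
  have : IsScalarTower A p.ResidueField L := IsScalarTower.of_algebraMap_eq (fun a => by
    exact (Ideal.ResidueField.lift_algebraMap p f _ _ a).symm)
  have hvn := vn_tensor A S p L
  let e1 : ((A ⧸ p) ⊗[A] S) ⊗[A ⧸ p] L ≃ₐ[A ⧸ p] L ⊗[A ⧸ p] ((A ⧸ p) ⊗[A] S) :=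
    Algebra.TensorProduct.comm _ _ _
  let e2 : L ⊗[A ⧸ p] ((A ⧸ p) ⊗[A] S) ≃ₐ[A ⧸ p] L ⊗[A] S :=
    Algebra.TensorProduct.cancelBaseChange A (A ⧸ p) (A ⧸ p) L S
  have hred : IsReduced (L ⊗[A] S) := VN.isReduced hvn
  exact isReduced_of_injective (e1.trans e2) (AlgEquiv.injective _)

/-- geometrically reduced formal fibres pass to the henselization. -/
theorem hasGeomReducedFormalFibres_hens (hA : EGA4.HasGeomReducedFormalFibres A) :
    EGA4.HasGeomReducedFormalFibres S := by
  have hN : IsNoetherianRing S := isNoetherianRing_hens A S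
  obtain ⟨e⟩ := nonempty_cplEquiv A S
  intro q _
  have key : ∀ (K : Type u) [Field K] [Algebra q.ResidueField K],
      IsReduced (K ⊗[q.ResidueField] q.Fiber (EGA4.Cpl S)) := ?_
  · exact ((Groth.Agent.H25.GeomRed.tfae_geometricallyReduced (k := q.ResidueField)
      (S := q.Fiber (EGA4.Cpl S))).out 2 1).mp key
  intro K _ _
  refine transfer A S (fun R _ => IsReduced R)
    (fun _ _ _ _ e h => isReduced_of_injective e.symm e.symm.injective)
    (fun R R' _ _ _ M _ h => isReduced_localizationPreserves M R' h) (EGA4.Cpl S)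
    (fun p _ L _ _ => ?_) q K
  have h1 := hA p
  have h2 : ∀ (K : Type u) [Field K] [Algebra p.ResidueField K],
      IsReduced (K ⊗[p.ResidueField] p.Fiber (EGA4.Cpl A)) :=
    ((Groth.Agent.H25.GeomRed.tfae_geometricallyReduced (k := p.ResidueField)
      (S := p.Fiber (EGA4.Cpl A))).out 1 2).mp h1
  have h3 := h2 L
  let e1 : p.ResidueField ⊗[A] EGA4.Cpl A ≃ₐ[p.ResidueField] p.ResidueField ⊗[A] EGA4.Cpl S :=
    Algebra.TensorProduct.congr AlgEquiv.refl e
  let e2 : L ⊗[p.ResidueField] (p.ResidueField ⊗[A] EGA4.Cpl A) ≃ₐ[L]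
      L ⊗[p.ResidueField] (p.ResidueField ⊗[A] EGA4.Cpl S) :=
    Algebra.TensorProduct.congr AlgEquiv.refl e1
  exact isReduced_of_injective e2.symm e2.symm.injective

/-- Nagata passes to the henselization. -/
theorem isNagata_hens (hA : CAlg.IsNagata A) : CAlg.IsNagata S := by
  have hN : IsNoetherianRing S := isNoetherianRing_hens A S
  exact Groth.Agent.S2657.result S (hasGeomReducedFormalFibres_hens A S
    (Groth.Agent.H29.NagataFF.hasGeomReducedFormalFibres_of_isNagata A hA))

theorem isUniversallyJapanese_hens_iff :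
    CAlg.IsUniversallyJapanese S ↔ CAlg.IsUniversallyJapanese A := by
  have hN : IsNoetherianRing S := isNoetherianRing_hens A S
  constructor
  · intro h
    have h1 : CAlg.IsNagata S := (Groth.Agent.S0567.result S).mpr ⟨hN, h⟩
    exact ((Groth.Agent.S0567.result A).mp (isNagata_of_hens A S h1)).2
  · intro h
    have h1 : CAlg.IsNagata A := (Groth.Agent.S0567.result A).mpr ⟨inferInstance, h⟩
    exact ((Groth.Agent.S0567.result S).mp (isNagata_hens A S h1)).2

end Groth.Agent.H34.HensNagata
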