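import Groth.Agent.H34.HensCatenary
import Groth.Agent.S2069

/-! Strict formal catenarity passes to the henselization (helper34). -/

set_option autoImplicit false
universe u
open TensorProduct IsLocalRing

namespace Groth.Agent.H34.HensStrict

open Groth.Agent.H34.HensFib Groth.Agent.H34.HensFormal Groth.Agent.H34.HensCatenary

/-- associated primes of a quotient ring, seen over the ring. -/
theorem comap_mem_associatedPrimes {X : Type u} [CommRing X] [IsNoetherianRing X] (I : Ideal X)
    (P : Ideal (X ⧸ I)) (hP : P ∈ associatedPrimes (X ⧸ I) (X ⧸ I)) :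
    P.comap (Ideal.Quotient.mk I) ∈ associatedPrimes X (X ⧸ I) := by
  obtain ⟨hprime, y, hy⟩ := isAssociatedPrime_iff.mp hP
  refine isAssociatedPrime_iff.mpr ⟨Ideal.comap_isPrime _ _, y, ?_⟩
  ext r
  rw [Ideal.mem_comap, hy, Submodule.mem_colon_singleton, Submodule.mem_colon_singleton]
  rfl

theorem isStrictlyEquidim_of_ringEquiv {R R' : Type u} [CommRing R] [CommRing R']
    [IsNoetherianRing R] (e : R ≃+* R') (h : EGA4.IsStrictlyEquidim R) :
    EGA4.IsStrictlyEquidim R' := by
  have hN' : IsNoetherianRing R' := isNoetherianRing_of_ringEquiv R e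
  intro P' hP'
  obtain ⟨hprime, y, hy⟩ := isAssociatedPrime_iff.mp hP'
  have hmem : P'.comap (e : R →+* R') ∈ associatedPrimes R R := by
    refine isAssociatedPrime_iff.mpr ⟨Ideal.comap_isPrime _ _, e.symm y, ?_⟩
    ext r
    rw [Ideal.mem_comap, hy, Submodule.mem_colon_singleton, Submodule.mem_colon_singleton,
      Submodule.mem_bot, Submodule.mem_bot, smul_eq_mul, smul_eq_mul]
    constructor
    · intro h0
      have := congrArg e.symm h0
      simpa using this
    · intro h0
      have := congrArg e h0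
      simpa using this
  have h1 := h _ hmem
  have e1 : (R ⧸ P'.comap (e : R →+* R')) ≃+* (R' ⧸ P') :=
    Ideal.quotientEquiv _ _ e
      (Ideal.map_comap_of_surjective (e : R →+* R') e.surjective P').symm
  rw [← ringKrullDim_eq_of_ringEquiv e1, ← ringKrullDim_eq_of_ringEquiv e]
  exact h1

/-- Strict equidimensionality of a flat `B`-algebra `X` passes to `X/𝔮X` for `𝔮` an associated
prime of `B`. -/
theorem isStrictlyEquidim_quotient {B X : Type u} [CommRing B] [IsNoetherianRing B] [CommRing X]
    [IsNoetherianRing X] [Algebra B X] [Module.Flat B X] (h : EGA4.IsStrictlyEquidim X)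
    (q : Ideal B) (hq : q ∈ associatedPrimes B B) :
    EGA4.IsStrictlyEquidim (X ⧸ q.map (algebraMap B X)) := by
  intro Pb hPb
  have hprime : Pb.IsPrime := hPb.1
  have h1 := comap_mem_associatedPrimes (q.map (algebraMap B X)) Pb hPb
  set P := Pb.comap (Ideal.Quotient.mk (q.map (algebraMap B X))) with hPdef
  have h2 : P ∈ associatedPrimes X (X ⊗[B] B) := by
    rw [Groth.Agent.S2069.result (R := B) (S := X) (M := B) (N := X)]
    refine Set.mem_iUnion₂.mpr ⟨q, hq, ?_⟩
    have e : (q.map (algebraMap B X) • (⊤ : Submodule X X)) = q.map (algebraMap B X) := by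
      rw [smul_eq_mul, Ideal.mul_top]
    rw [e]
    exact h1
  have h3 : P ∈ associatedPrimes X X := by
    rw [← LinearEquiv.AssociatedPrimes.eq (TensorProduct.AlgebraTensorModule.rid B X X)]
    exact h2
  have h4 := h P h3
  have hle : q.map (algebraMap B X) ≤ P := by
    rw [hPdef]
    intro x hx
    rw [Ideal.mem_comap, Ideal.Quotient.eq_zero_iff_mem.mpr hx]
    exact Pb.zero_mem
  have hmap : P.map (Ideal.Quotient.mk (q.map (algebraMap B X))) = Pb :=
    Ideal.map_comap_of_surjective _ Ideal.Quotient.mk_surjective _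
  have e1 : ((X ⧸ q.map (algebraMap B X)) ⧸ Pb) ≃+* (X ⧸ P) :=
    (Ideal.quotEquivOfEq hmap.symm).trans (DoubleQuot.quotQuotEquivQuotOfLE hle)
  have d1 : ringKrullDim ((X ⧸ q.map (algebraMap B X)) ⧸ Pb) = ringKrullDim X := by
    rw [ringKrullDim_eq_of_ringEquiv e1]; exact h4
  apply le_antisymm (ringKrullDim_quotient_le _)
  rw [d1]
  exact ringKrullDim_quotient_le _

section noeth
variable (A S : Type u) [CommRing A] [IsLocalRing A] [IsNoetherianRing A] [CommRing S]
  [IsLocalRing S] [Algebra A S] [IsLocalHom (algebraMap A S)] [Hensel.IsHenselization A S]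

/-- strict formal catenarity passes to the henselization. -/
theorem isFormallyStrictlyCatenary_hens (h : EGA4.IsFormallyStrictlyCatenary A) :
    EGA4.IsFormallyStrictlyCatenary S := by
  have hN : IsNoetherianRing S := isNoetherianRing_hens A S
  have hff := Groth.Agent.S0509.result A S
  intro q hq
  let p : Ideal A := q.comap (algebraMap A S)
  have hp : p.IsPrime := Ideal.comap_isPrime _ _
  have hpS : p.map (algebraMap A S) ≤ q := Ideal.map_comap_le
  obtain ⟨l1, l2, -, l4⟩ := Groth.Agent.H15.FlatQuot.quotient_flat_local (B := S) p hp.ne_top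
  have hH : Hensel.IsHenselization (A ⧸ p) (S ⧸ p.map (algebraMap A S)) :=
    Groth.Agent.S13598.result p (le_maximalIdeal hp.ne_top)
  obtain ⟨e⟩ := nonempty_cplEquiv (A ⧸ p) (S ⧸ p.map (algebraMap A S))
  have h0 : EGA4.IsStrictlyEquidim (EGA4.Cpl (A ⧸ p)) := h p
  have h1 : EGA4.IsStrictlyEquidim (EGA4.Cpl (S ⧸ p.map (algebraMap A S))) :=
    isStrictlyEquidim_of_ringEquiv e.toRingEquiv h0
  have hqmin : q ∈ (p.map (algebraMap A S)).minimalPrimes := mem_minimalPrimes_map_comap A S q
  let f := Ideal.Quotient.mk (p.map (algebraMap A S))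
  have hq0min : q.map f ∈ minimalPrimes (S ⧸ p.map (algebraMap A S)) := by
    have := Ideal.minimalPrimes_map_of_surjective (f := f) Ideal.Quotient.mk_surjective ⊥
    rw [Ideal.map_bot, Ideal.mk_ker, bot_sup_eq] at this
    show q.map f ∈ (⊥ : Ideal _).minimalPrimes
    rw [this]
    exact ⟨q, hqmin, rfl⟩
  have hq0 : (q.map f).IsPrime := hq0min.1.1
  have hass : q.map f ∈ associatedPrimes (S ⧸ p.map (algebraMap A S))
      (S ⧸ p.map (algebraMap A S)) := by
    have h5 := Module.associatedPrimes.minimalPrimes_annihilator_subset_associatedPrimes (S ⧸ p.map (algebraMap A S))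
      (S ⧸ p.map (algebraMap A S))
    have hann : Module.annihilator (S ⧸ p.map (algebraMap A S)) (S ⧸ p.map (algebraMap A S)) = ⊥ :=
      Module.annihilator_eq_bot.mpr
        ((faithfulSMul_iff_algebraMap_injective _ _).mpr fun {a₁ a₂} a ↦ a)
    rw [hann] at h5
    exact h5 hq0min
  have hflat := Groth.Agent.H34.ComplQuot.faithfullyFlat_cpl (S ⧸ p.map (algebraMap A S))
  have h2 := isStrictlyEquidim_quotient h1 (q.map f) hass
  have h3 : EGA4.IsStrictlyEquidim (EGA4.Cpl ((S ⧸ p.map (algebraMap A S)) ⧸ q.map f)) :=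
    isStrictlyEquidim_of_ringEquiv
      (Groth.Agent.H34.ComplQuot.cplQuotEquiv (S ⧸ p.map (algebraMap A S))
        (q.map f)).symm.toRingEquiv h2
  obtain ⟨E⟩ := Groth.Agent.H15.FormEq.nonempty_cplEquiv (DoubleQuot.quotQuotEquivQuotOfLE hpS)
  exact isStrictlyEquidim_of_ringEquiv E h3

end noeth
end Groth.Agent.H34.HensStrict
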