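import Mathlib

set_option autoImplicit false
universe u w

namespace Groth.Agent.H34.HomNonzero

variable {A : Type u} [CommRing A]

theorem exists_ne_zero_killed {N : Type w} [AddCommGroup N] [Module A N] [Nontrivial N]
    (F : Finset A) (hF : ∀ r ∈ F, ∀ y : N, ∃ s : ℕ, r ^ s • y = 0) :
    ∃ y : N, y ≠ 0 ∧ ∀ r ∈ F, r • y = 0 := by
  classical
  induction F using Finset.induction_on with
  | empty =>
    obtain ⟨y, hy⟩ := exists_ne (0 : N)
    exact ⟨y, hy, fun r hr => absurd hr (Finset.notMem_empty r)⟩
  | insert r F hr ih =>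
    obtain ⟨y, hy, hyF⟩ := ih (fun r' hr' => hF r' (Finset.mem_insert_of_mem hr'))
    have hex := hF r (Finset.mem_insert_self r F) y
    have hs := Nat.find_spec hex
    by_cases h0 : Nat.find hex = 0
    · rw [h0, pow_zero, one_smul] at hs
      exact absurd hs hy
    · obtain ⟨s, hs_eq⟩ := Nat.exists_eq_succ_of_ne_zero h0
      refine ⟨r ^ s • y, ?_, ?_⟩
      · exact Nat.find_min hex (by omega)
      · intro r' hr'
        rcases Finset.mem_insert.mp hr' with hrr | hr'F
        · rw [hrr, smul_smul, ← pow_succ', ← Nat.succ_eq_add_one, ← hs_eq]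
          exact hs
        · rw [smul_comm, hyF r' hr'F, smul_zero]

theorem core : ∀ (n : ℕ) (K : Submodule A (Fin n → A)), K.FG →
    ∀ (N : Type (max u w)) [AddCommGroup N] [Module A N] [Nontrivial N],
    (∀ a : A, (∀ v : Fin n → A, a • v ∈ K) → ∀ y : N, ∃ s : ℕ, a ^ s • y = 0) →
    ∃ g : (Fin n → A) →ₗ[A] N, g ≠ 0 ∧ K ≤ LinearMap.ker g := by
  classical
  intro n
  induction n with
  | zero =>
    intro K _ N _ _ _ hN
    exfalso
    obtain ⟨y, hy⟩ := exists_ne (0 : N)
    obtain ⟨s, hs⟩ := hN 1 (fun v => by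
      have : v = 0 := Subsingleton.elim _ _
      rw [this, smul_zero]
      exact K.zero_mem) y
    rw [one_pow, one_smul] at hs
    exact hy hs
  | succ n ih =>
    intro K hK N _ _ _ hN
    obtain ⟨G, hG⟩ := hK
    by_cases hB : ∃ z ∈ G, ∃ j₀ : Fin (n + 1), ∃ y₀ : N, ∀ s : ℕ, (z j₀) ^ s • y₀ ≠ 0
    · obtain ⟨z, hzG, j₀, y₀, hy₀⟩ := hB
      have hzK : z ∈ K := hG ▸ Submodule.subset_span hzG
      obtain ⟨r, hr⟩ : ∃ r : A, r = z j₀ := ⟨_, rfl⟩
      rw [← hr] at hy₀
      let S : Submonoid A := Submonoid.powers r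
      let N' := LocalizedModule S N
      let ℓ : N →ₗ[A] N' := LocalizedModule.mkLinearMap S N
      have hℓy₀ : ℓ y₀ ≠ 0 := by
        intro h0
        obtain ⟨⟨_, s, rfl⟩, hs⟩ := (IsLocalizedModule.eq_zero_iff S ℓ).mp h0
        exact hy₀ s hs
      have : Nontrivial N' := ⟨⟨ℓ y₀, 0, hℓy₀⟩⟩
      have hinj : ∀ (s : ℕ) (w : N'), r ^ s • w = 0 → w = 0 := by
        intro s w hw
        have h1 : (⟨r ^ s, s, rfl⟩ : S) • w = (⟨r ^ s, s, rfl⟩ : S) • (0 : N') := by
          rw [smul_zero]
          exact hw
        exact IsLocalizedModule.smul_injective ℓ _ h1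
      let Q : (Fin (n + 1) → A) →ₗ[A] (Fin n → A) := LinearMap.funLeft A A j₀.succAbove
      have hQ : ∀ (u : Fin (n + 1) → A) (i : Fin n), Q u i = u (j₀.succAbove i) := fun u i => rfl
      let T : (Fin (n + 1) → A) →ₗ[A] (Fin n → A) :=
        r • Q - (LinearMap.proj j₀ : (Fin (n + 1) → A) →ₗ[A] A).smulRight (Q z)
      have hT : ∀ u, T u = r • Q u - u j₀ • Q z := fun u => rfl
      have hN' : ∀ a : A, (∀ v : Fin n → A, a • v ∈ K.map T) →
          ∀ y' : N', ∃ s : ℕ, a ^ s • y' = 0 := by
        intro a ha y'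
        have h1 : ∀ u : Fin (n + 1) → A, u j₀ = 0 → a • u ∈ K := by
          intro u hu0
          obtain ⟨z', hz'K, hz'⟩ := ha (Q u)
          have hw : r • z' - z' j₀ • z ∈ K :=
            K.sub_mem (K.smul_mem _ hz'K) (K.smul_mem _ hzK)
          have heq : r • z' - z' j₀ • z = a • u := by
            funext j
            rcases Fin.eq_self_or_eq_succAbove j₀ j with hj | ⟨i, hj⟩
            · rw [hj]
              simp only [Pi.sub_apply, Pi.smul_apply, smul_eq_mul]
              rw [hu0, ← hr]
              ring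
            · rw [hj]
              have h5 := congrFun hz' i
              rw [hT] at h5
              simp only [Pi.sub_apply, Pi.smul_apply, smul_eq_mul, hQ] at h5
              simp only [Pi.sub_apply, Pi.smul_apply, smul_eq_mul]
              exact h5
          rw [← heq]
          exact hw
        have h2 : (a * r) • (Pi.single j₀ 1 : Fin (n + 1) → A) ∈ K := by
          have e1 : (a * r) • (Pi.single j₀ 1 : Fin (n + 1) → A) =
              a • z - a • Function.update z j₀ 0 := by
            funext j
            by_cases hj : j = j₀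
            · rw [hj]
              simp [← hr]
            · simp [hj]
          rw [e1]
          exact K.sub_mem (K.smul_mem _ hzK) (h1 _ (Function.update_self _ _ _))
        have h3 : ∀ u : Fin (n + 1) → A, (r * a) • u ∈ K := by
          intro u
          have e2 : (r * a) • u = r • (a • Function.update u j₀ 0) +
              u j₀ • ((a * r) • (Pi.single j₀ 1 : Fin (n + 1) → A)) := by
            funext j
            by_cases hj : j = j₀
            · rw [hj]
              simp only [Pi.add_apply, Pi.smul_apply, smul_eq_mul, Function.update_self,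
                Pi.single_eq_same]
              ring
            · simp only [Pi.add_apply, Pi.smul_apply, smul_eq_mul, Function.update_of_ne hj,
                Pi.single_eq_of_ne hj]
              ring
          rw [e2]
          exact K.add_mem (K.smul_mem _ (h1 _ (Function.update_self _ _ _))) (K.smul_mem _ h2)
        obtain ⟨⟨y, t⟩, hty⟩ := IsLocalizedModule.surj S ℓ y'
        have hty' : t • y' = ℓ y := hty
        obtain ⟨s, hs⟩ := hN (r * a) h3 y
        refine ⟨s, ?_⟩
        have ht_def : ∀ x : N', t • x = (t : A) • x := fun x => rfl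
        have key : (t : A) • (r ^ s • a ^ s • y') = 0 := by
          have e3 : (t : A) • (r ^ s • a ^ s • y') = (r * a) ^ s • ((t : A) • y') := by
            simp only [smul_smul]
            congr 1
            ring
          rw [e3, ← ht_def, hty', ← map_smul, hs, map_zero]
        have hinjt := IsLocalizedModule.smul_injective ℓ t
        have h6 : r ^ s • a ^ s • y' = 0 := hinjt (by
          show t • (r ^ s • a ^ s • y') = t • (0 : N')
          rw [smul_zero, ht_def]
          exact key)
        exact hinj s _ h6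
      obtain ⟨g', hg'ne, hg'K⟩ := ih (K.map T) (Submodule.FG.map T ⟨G, hG⟩) N' hN'
      let g : (Fin (n + 1) → A) →ₗ[A] N' :=
        r • (g' ∘ₗ Q) - (LinearMap.proj j₀ : (Fin (n + 1) → A) →ₗ[A] A).smulRight (g' (Q z))
      have hg : ∀ u, g u = r • g' (Q u) - u j₀ • g' (Q z) := fun u => rfl
      have hgT : ∀ u, g u = g' (T u) := by
        intro u
        rw [hg, hT, map_sub, map_smul, map_smul]
      have hgK : K ≤ LinearMap.ker g := by
        intro u hu
        rw [LinearMap.mem_ker, hgT]
        exact LinearMap.mem_ker.mp (hg'K (Submodule.mem_map_of_mem hu))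
      obtain ⟨v, hv⟩ : ∃ v, g' v ≠ 0 := by
        by_contra hcon
        push Not at hcon
        exact hg'ne (LinearMap.ext hcon)
      obtain ⟨u₀, hu₀j, hu₀Q⟩ : ∃ u₀ : Fin (n + 1) → A, u₀ j₀ = 0 ∧ Q u₀ = v := by
        refine ⟨Fin.insertNth (α := fun _ => A) j₀ (0 : A) v, ?_, ?_⟩
        · exact Fin.insertNth_apply_same (α := fun _ => A) j₀ (0 : A) v
        · funext i
          rw [hQ]
          exact Fin.insertNth_apply_succAbove (α := fun _ => A) j₀ (0 : A) v i
      have hgu : g u₀ ≠ 0 := by
        rw [hg, hu₀Q, hu₀j, zero_smul, sub_zero]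
        intro h0
        exact hv (hinj 1 _ (by rwa [pow_one]))
      have : Module.FinitePresentation A ((Fin (n + 1) → A) ⧸ K) :=
        Module.finitePresentation_of_surjective K.mkQ (Submodule.mkQ_surjective K)
          (by rw [Submodule.ker_mkQ]; exact ⟨G, hG⟩)
      let gbar : ((Fin (n + 1) → A) ⧸ K) →ₗ[A] N' := K.liftQ g hgK
      obtain ⟨h, t, hht⟩ := Module.FinitePresentation.exists_lift_of_isLocalizedModule S ℓ gbar
      refine ⟨h ∘ₗ K.mkQ, ?_, ?_⟩
      · intro h0
        apply hgu
        have e4 : ℓ (h (K.mkQ u₀)) = t • gbar (K.mkQ u₀) := LinearMap.congr_fun hht _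
        have e5 : h (K.mkQ u₀) = 0 := LinearMap.congr_fun h0 _
        rw [e5, map_zero] at e4
        have e6 : gbar (K.mkQ u₀) = g u₀ := rfl
        rw [e6] at e4
        exact IsLocalizedModule.smul_injective ℓ t (by
          show t • g u₀ = t • (0 : N')
          rw [smul_zero]
          exact e4.symm)
      · intro u hu
        rw [LinearMap.mem_ker, LinearMap.comp_apply]
        have h7 : K.mkQ u = 0 := by
          rw [Submodule.mkQ_apply, Submodule.Quotient.mk_eq_zero]
          exact hu
        rw [h7, map_zero]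
    · push Not at hB
      let F : Finset A := G.biUnion (fun z => Finset.univ.image z)
      obtain ⟨y, hy, hyF⟩ := exists_ne_zero_killed (N := N) F (by
        intro r hr y
        obtain ⟨z, hz, hr'⟩ := Finset.mem_biUnion.mp hr
        obtain ⟨j, -, rfl⟩ := Finset.mem_image.mp hr'
        exact hB z hz j y)
      refine ⟨(LinearMap.proj 0 : (Fin (n + 1) → A) →ₗ[A] A).smulRight y, ?_, ?_⟩
      · intro h0
        have h8 := LinearMap.congr_fun h0 (Pi.single 0 1)
        rw [LinearMap.smulRight_apply, LinearMap.proj_apply, Pi.single_eq_same, one_smul] at h8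
        exact hy h8
      · rw [← hG, Submodule.span_le]
        intro z hz
        rw [SetLike.mem_coe, LinearMap.mem_ker, LinearMap.smulRight_apply]
        exact hyF _ (Finset.mem_biUnion.mpr
          ⟨z, Finset.mem_coe.mp hz, Finset.mem_image_of_mem _ (Finset.mem_univ _)⟩)

theorem nontrivial_linearMap (A : Type u) [CommRing A] (M : Type w) [AddCommGroup M] [Module A M]
    [Module.FinitePresentation A M] (N : Type w) [AddCommGroup N] [Module A N] [Nontrivial N]
    (h : Module.support A N ⊆ Module.support A M) : Nontrivial (M →ₗ[A] N) := by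
  classical
  obtain ⟨n, π, hπ⟩ := Module.Finite.exists_fin' A M
  have hK : (LinearMap.ker π).FG := Module.FinitePresentation.fg_ker π hπ
  have hN : ∀ a : A, (∀ v : Fin n → A, a • v ∈ LinearMap.ker π) →
      ∀ y : N, ∃ s : ℕ, a ^ s • y = 0 := by
    intro a ha y
    by_contra hcon
    push Not at hcon
    have hann : a ∈ Module.annihilator A M := by
      rw [Module.mem_annihilator]
      intro m
      obtain ⟨v, rfl⟩ := hπ m
      rw [← map_smul]
      exact LinearMap.mem_ker.mp (ha v)
    have hdisj : Disjoint ((Submodule.span A {y}).annihilator : Set A)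
        ((Submonoid.powers a : Submonoid A) : Set A) := by
      rw [Set.disjoint_left]
      rintro b hb ⟨s, rfl⟩
      exact hcon s ((Submodule.mem_annihilator_span_singleton _ _).mp hb)
    obtain ⟨p, hp, hIp, hpS⟩ := Ideal.exists_le_prime_disjoint _ _ hdisj
    have hpN : (⟨p, hp⟩ : PrimeSpectrum A) ∈ Module.support A N :=
      Module.mem_support_iff_exists_annihilator.mpr ⟨y, hIp⟩
    have hpM := Module.annihilator_le_of_mem_support (h hpN)
    exact Set.disjoint_left.mp hpS (hpM hann) ⟨1, pow_one a⟩
  obtain ⟨g, hgne, hgK⟩ := core.{u, w} n (LinearMap.ker π) hK (ULift.{u} N) (by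
    intro a ha y
    obtain ⟨s, hs⟩ := hN a ha y.down
    exact ⟨s, ULift.ext _ _ hs⟩)
  let g₀ : (Fin n → A) →ₗ[A] N := ULift.moduleEquiv.toLinearMap ∘ₗ g
  have hle : LinearMap.ker π ≤ LinearMap.ker g₀ := by
    intro v hv
    rw [LinearMap.mem_ker]
    show (g v).down = 0
    rw [LinearMap.mem_ker.mp (hgK hv)]
    rfl
  let hM : M →ₗ[A] N :=
    (LinearMap.ker π).liftQ g₀ hle ∘ₗ (π.quotKerEquivOfSurjective hπ).symm.toLinearMap
  refine ⟨⟨hM, 0, ?_⟩⟩
  intro h0
  apply hgne
  apply LinearMap.ext
  intro v
  have e1 : hM (π v) = g₀ v := by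
    show (LinearMap.ker π).liftQ g₀ hle ((π.quotKerEquivOfSurjective hπ).symm (π v)) = g₀ v
    have h9 : (π.quotKerEquivOfSurjective hπ).symm (π v) = (LinearMap.ker π).mkQ v := by
      rw [LinearEquiv.symm_apply_eq]
      rfl
    rw [h9]
    rfl
  rw [h0] at e1
  have h10 : (g v).down = 0 := e1.symm
  exact ULift.ext _ _ h10

end Groth.Agent.H34.HomNonzero
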