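import Mathlib
import Groth.Agent.H34.ReflDepth2
import Groth.Agent.H34.TorsionFreeEmb

set_option autoImplicit false

namespace Groth.Agent.H34.IntClRefl

universe u

section Star

variable (A B : Type u) [CommRing A] [CommRing B] [Algebra A B]

/-- `c ↦ (φ ↦ φ (c * ·))`. -/
noncomputable def m : B →ₗ[A] (Module.Dual A B →ₗ[A] Module.Dual A B) :=
  (Module.Dual.transpose (R := A) (M := B) (M' := B)) ∘ₗ (LinearMap.mul A B)

theorem m_apply (c : B) (φ : Module.Dual A B) (c' : B) : m A B c φ c' = φ (c * c') := rfl

noncomputable def Θ : Module.Dual A (Module.Dual A B) →ₗ[A]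
    (Module.Dual A B →ₗ[A] Module.Dual A B) :=
  (LinearMap.lcomp A (Module.Dual A B) (m A B).flip) ∘ₗ
    (LinearMap.llcomp A B (Module.Dual A B) A)

theorem Θ_apply (y' : Module.Dual A (Module.Dual A B)) (φ : Module.Dual A B) (c : B) :
    Θ A B y' φ c = y' (m A B c φ) := rfl

noncomputable def star (y : Module.Dual A (Module.Dual A B)) :
    Module.Dual A (Module.Dual A B) →ₗ[A] Module.Dual A (Module.Dual A B) :=
  (LinearMap.llcomp A (Module.Dual A B) (Module.Dual A B) A y) ∘ₗ Θ A B

theorem star_apply (y y' : Module.Dual A (Module.Dual A B)) (φ : Module.Dual A B) :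
    star A B y y' φ = y (Θ A B y' φ) := rfl

theorem star_eval_eval (b c : B) :
    star A B (Module.Dual.eval A B b) (Module.Dual.eval A B c) = Module.Dual.eval A B (b * c) := by
  refine LinearMap.ext fun φ => ?_
  rw [star_apply, Module.Dual.eval_apply, Θ_apply, Module.Dual.eval_apply, m_apply,
    Module.Dual.eval_apply]

theorem star_pow (b : B) (k : ℕ) : ∀ c : B,
    ((star A B (Module.Dual.eval A B b)) ^ k) (Module.Dual.eval A B c) =
      Module.Dual.eval A B (b ^ k * c) := by
  induction k with
  | zero => intro c; simp
  | succ k ih =>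
    intro c
    rw [pow_succ, Module.End.mul_apply, star_eval_eval, ih, pow_succ, mul_assoc]

theorem star_aeval (b : B) (Q : Polynomial A) : ∀ c : B,
    (Polynomial.aeval (star A B (Module.Dual.eval A B b)) Q) (Module.Dual.eval A B c) =
      Module.Dual.eval A B (Polynomial.aeval b Q * c) := by
  induction Q using Polynomial.induction_on' with
  | add p q hp hq =>
    intro c
    rw [map_add, LinearMap.add_apply, hp, hq, map_add, add_mul, map_add]
  | monomial k a =>
    intro c
    rw [Polynomial.aeval_monomial, Polynomial.aeval_monomial, Module.End.mul_apply, star_pow,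
      Module.algebraMap_end_apply, mul_assoc, ← Algebra.smul_def, map_smul]

end Star

theorem main (A K L : Type u) [CommRing A] [IsDomain A] [IsNoetherianRing A]
    [Field K] [Algebra A K] [IsFractionRing A K] [Field L] [Algebra K L]
    [Algebra A L] [IsScalarTower A K L] [Module.Finite A ↥(integralClosure A L)] :
    Module.IsReflexive A ↥(integralClosure A L) := by
  have hAL : Function.Injective (algebraMap A L) := by
    rw [IsScalarTower.algebraMap_eq A K L]
    exact (algebraMap K L).injective.comp (IsFractionRing.injective A K)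
  have htf : Module.IsTorsionFree A ↥(integralClosure A L) :=
    Module.IsTorsionFree.of_smul_eq_zero fun c x h => by
      have h1 : algebraMap A L c * (x : L) = 0 := by
        have := congrArg Subtype.val h
        rwa [Subalgebra.coe_smul, Algebra.smul_def] at this
      rcases mul_eq_zero.mp h1 with h2 | h2
      · exact Or.inl (hAL (h2.trans (map_zero _).symm))
      · exact Or.inr (Subtype.ext h2)
  obtain ⟨n, j, hj⟩ := Groth.Agent.H34.exists_injective_into_free A ↥(integralClosure A L)
  have heinj : Function.Injective (Module.Dual.eval A ↥(integralClosure A L)) := by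
    rw [injective_iff_map_eq_zero]
    intro x hx
    apply hj
    rw [map_zero]
    funext i
    exact LinearMap.congr_fun hx (LinearMap.proj i ∘ₗ j)
  refine ⟨⟨heinj, fun y => ?_⟩⟩
  have hrefl : Module.IsReflexive (Localization.AtPrime (⊥ : Ideal A))
      (LocalizedModule (⊥ : Ideal A).primeCompl ↥(integralClosure A L)) := by
    have : IsFractionRing A (Localization.AtPrime (⊥ : Ideal A)) := by
      simpa [Ideal.primeCompl_bot] using
        Localization.isLocalization (M := (⊥ : Ideal A).primeCompl)
    let : Field (Localization.AtPrime (⊥ : Ideal A)) := IsFractionRing.toField A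
    have : Module.Free (Localization.AtPrime (⊥ : Ideal A))
        (LocalizedModule (⊥ : Ideal A).primeCompl ↥(integralClosure A L)) :=
      Module.Free.of_divisionRing _ _
    infer_instance
  obtain ⟨d, hd, b, hb⟩ := ReflDepth2.L2 ↥(integralClosure A L) (⊥ : Ideal A) y
  have hd0 : d ≠ 0 := fun h => hd (by rw [h]; exact Ideal.zero_mem _)
  obtain ⟨P, hPm, hP⟩ := LinearMap.exists_monic_and_aeval_eq_zero A
    (star A ↥(integralClosure A L) y)
  have hβ : d • star A ↥(integralClosure A L) y =
      star A ↥(integralClosure A L) (Module.Dual.eval A ↥(integralClosure A L) b) := by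
    rw [hb]
    exact LinearMap.ext fun y' => LinearMap.ext fun φ => rfl
  have h1 : Polynomial.aeval (star A ↥(integralClosure A L)
      (Module.Dual.eval A ↥(integralClosure A L) b)) (Polynomial.scaleRoots P d) = 0 := by
    have := Polynomial.scaleRoots_aeval_eq_zero (r := d) hP
    rwa [← Algebra.smul_def, hβ] at this
  have h2 : Polynomial.aeval b (Polynomial.scaleRoots P d) = 0 := by
    apply heinj
    rw [map_zero]
    have := star_aeval A ↥(integralClosure A L) b (P.scaleRoots d) 1
    rw [h1, LinearMap.zero_apply, mul_one] at this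
    exact this.symm
  have h3 : Polynomial.aeval (b : L) (Polynomial.scaleRoots P d) = 0 := by
    rw [← Polynomial.aeval_subalgebra_coe, h2]
    rfl
  have hdL : algebraMap A L d ≠ 0 := fun h => hd0 (hAL (h.trans (map_zero _).symm))
  have h4 : Polynomial.eval₂ (algebraMap A L) ((b : L) / algebraMap A L d) P = 0 := by
    have := Polynomial.scaleRoots_eval₂_mul (p := P) (algebraMap A L)
      ((b : L) / algebraMap A L d) d
    rw [mul_comm (algebraMap A L d), div_mul_cancel₀ _ hdL, ← Polynomial.aeval_def, h3] at this
    exact (mul_eq_zero.mp this.symm).resolve_left (pow_ne_zero _ hdL)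
  have hint : IsIntegral A ((b : L) / algebraMap A L d) := ⟨P, hPm, h4⟩
  have hx : d • (⟨(b : L) / algebraMap A L d, hint⟩ : ↥(integralClosure A L)) = b := by
    apply Subtype.ext
    rw [Subalgebra.coe_smul, Algebra.smul_def]
    show algebraMap A L d * ((b : L) / algebraMap A L d) = (b : L)
    rw [mul_comm, div_mul_cancel₀ _ hdL]
  refine ⟨⟨(b : L) / algebraMap A L d, hint⟩, ?_⟩
  refine LinearMap.ext fun φ => ?_
  apply mul_left_cancel₀ hd0
  calc d * (Module.Dual.eval A ↥(integralClosure A L) ⟨(b : L) / algebraMap A L d, hint⟩ φ)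
      = φ (d • (⟨(b : L) / algebraMap A L d, hint⟩ : ↥(integralClosure A L))) := by
        rw [Module.Dual.eval_apply, map_smul, smul_eq_mul]
    _ = φ b := by rw [hx]
    _ = (d • y) φ := by rw [← hb]; rfl
    _ = d * y φ := rfl

end Groth.Agent.H34.IntClRefl
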