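import Mathlib
import Groth.Agent.H34.Fitting2

set_option autoImplicit false
universe u v

namespace Groth.Agent.H34.JacMinors

open Groth.Agent.H34.Fit

variable {k : Type v} {A : Type u} [CommRing k] [CommRing A] [Algebra k A] {n : ℕ}
  (D : Fin n → Derivation k A A)

/-- The set of `r × r` Jacobian minors (with injective row/column selections). -/
abbrev S (m r : ℕ) (f : Fin m → A) : Set A :=
  {d : A | ∃ (ρ : Fin r → Fin m) (γ : Fin r → Fin n), Function.Injective ρ ∧ Function.Injective γ ∧
      d = ((Matrix.of fun (j : Fin m) (i : Fin n) => D i (f j)).submatrix ρ γ).det}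

theorem row_mem_span (I : Ideal A) {m : ℕ} (f : Fin m → A) (hf : ∀ j, f j ∈ I) (x : A)
    (hx : x ∈ Ideal.span (Set.range f)) :
    (fun i : Fin n => Ideal.Quotient.mk I (D i x)) ∈
      Submodule.span (A ⧸ I)
        (Set.range fun j : Fin m => (fun i : Fin n => Ideal.Quotient.mk I (D i (f j)))) := by
  obtain ⟨c, rfl⟩ := (Ideal.mem_span_range_iff_exists_fun).mp hx
  have h : (fun i : Fin n => Ideal.Quotient.mk I (D i (∑ j, c j * f j))) =
      ∑ j, Ideal.Quotient.mk I (c j) • (fun i : Fin n => Ideal.Quotient.mk I (D i (f j))) := by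
    funext i
    rw [map_sum, map_sum, Finset.sum_apply]
    refine Finset.sum_congr rfl fun j _ => ?_
    have h0 : Ideal.Quotient.mk I (f j) = 0 := Ideal.Quotient.eq_zero_iff_mem.mpr (hf j)
    rw [Derivation.leibniz, map_add, smul_eq_mul, smul_eq_mul, map_mul, map_mul, Pi.smul_apply,
      smul_eq_mul, h0, zero_mul, add_zero]
  rw [h]
  exact Submodule.sum_mem _ fun j _ => Submodule.smul_mem _ _ (Submodule.subset_span ⟨j, rfl⟩)

theorem mk_det_eq (I : Ideal A) {m r : ℕ} (f : Fin m → A) (ρ : Fin r → Fin m) (γ : Fin r → Fin n) :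
    Ideal.Quotient.mk I ((Matrix.of fun (j : Fin m) (i : Fin n) => D i (f j)).submatrix ρ γ).det =
      (Matrix.of fun a b => (fun j : Fin m => (fun i : Fin n => Ideal.Quotient.mk I (D i (f j))))
        (ρ b) (γ a)).det := by
  rw [RingHom.map_det, ← Matrix.det_transpose]
  rfl

theorem map_span_S_eq (I : Ideal A) {m : ℕ} (r : ℕ) (f : Fin m → A) :
    Ideal.map (Ideal.Quotient.mk I) (Ideal.span (S D m r f)) =
      minorsIdeal (Set.range fun j : Fin m =>
        (fun i : Fin n => Ideal.Quotient.mk I (D i (f j)))) r := by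
  rw [Ideal.map_span]
  apply le_antisymm
  · rw [Ideal.span_le]
    rintro _ ⟨d, ⟨ρ, γ, hρ, hγ, rfl⟩, rfl⟩
    apply Ideal.subset_span
    exact ⟨fun b => (fun i : Fin n => Ideal.Quotient.mk I (D i (f (ρ b)))), γ,
      fun b => ⟨ρ b, rfl⟩, mk_det_eq D I f ρ γ⟩
  · unfold minorsIdeal
    rw [Ideal.span_le]
    rintro _ ⟨z, e, hz, rfl⟩
    choose ρ hρ using hz
    obtain rfl : z = fun b => (fun i : Fin n => Ideal.Quotient.mk I (D i (f (ρ b)))) :=
      funext fun b => (hρ b).symm
    by_cases hinj : Function.Injective ρ ∧ Function.Injective e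
    · apply Ideal.subset_span
      exact ⟨_, ⟨ρ, e, hinj.1, hinj.2, rfl⟩, mk_det_eq D I f ρ e⟩
    · have h0 : (Matrix.of fun a b =>
          (fun b => (fun i : Fin n => Ideal.Quotient.mk I (D i (f (ρ b))))) b (e a)).det = 0 := by
        rw [not_and_or] at hinj
        rcases hinj with h1 | h1
        · obtain ⟨b₁, b₂, hb, hne⟩ := Function.not_injective_iff.mp h1
          apply Matrix.det_zero_of_column_eq hne
          intro a
          show Ideal.Quotient.mk I (D (e a) (f (ρ b₁))) = Ideal.Quotient.mk I (D (e a) (f (ρ b₂)))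
          rw [hb]
        · obtain ⟨a₁, a₂, ha, hne⟩ := Function.not_injective_iff.mp h1
          apply Matrix.det_zero_of_row_eq hne
          funext b
          show Ideal.Quotient.mk I (D (e a₁) (f (ρ b))) = Ideal.Quotient.mk I (D (e a₂) (f (ρ b)))
          rw [ha]
      rw [SetLike.mem_coe, h0]
      exact Ideal.zero_mem _

theorem main (m l r : ℕ) (f : Fin m → A) (g : Fin l → A)
    (hfg : Ideal.span (Set.range f) = Ideal.span (Set.range g)) :
    Ideal.span (S D m r f) ⊔ Ideal.span (Set.range f) =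
      Ideal.span (S D l r g) ⊔ Ideal.span (Set.range g) := by
  rw [← hfg]
  have key : ∀ J : Ideal A, J ⊔ Ideal.span (Set.range f) =
      Ideal.comap (Ideal.Quotient.mk (Ideal.span (Set.range f)))
        (Ideal.map (Ideal.Quotient.mk (Ideal.span (Set.range f))) J) := by
    intro J
    rw [Ideal.comap_map_of_surjective _ Ideal.Quotient.mk_surjective, ← RingHom.ker_eq_comap_bot,
      Ideal.mk_ker]
  have hfI : ∀ j, f j ∈ Ideal.span (Set.range f) := fun j => Ideal.subset_span ⟨j, rfl⟩
  have hgI : ∀ s, g s ∈ Ideal.span (Set.range f) := fun s => hfg ▸ Ideal.subset_span ⟨s, rfl⟩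
  rw [key, key, map_span_S_eq, map_span_S_eq]
  congr 1
  apply le_antisymm
  · refine le_trans (minorsIdeal_mono ?_ r) (minorsIdeal_span _ r).le
    rintro _ ⟨j, rfl⟩
    exact row_mem_span D _ g hgI (f j) (hfg ▸ hfI j)
  · refine le_trans (minorsIdeal_mono ?_ r) (minorsIdeal_span _ r).le
    rintro _ ⟨s, rfl⟩
    exact row_mem_span D _ f hfI (g s) (hgI s)

end Groth.Agent.H34.JacMinors
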