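import Mathlib
import Groth.Prelude.Def_KZero

set_option autoImplicit false
universe v u

namespace Groth.Agent.H34.KZ

open CategoryTheory CategoryTheory.Limits KZero

section General

variable {A : Type u} [Category.{v} A] [Abelian A] (P : ObjectProperty A)

theorem clSub_eq {X : A} (h : P X) :
    clSub P X = QuotientAddGroup.mk (FreeAbelianGroup.of ⟨X, h⟩) := by
  unfold clSub
  exact dif_pos h

theorem cl_shortExact (S : ShortComplex A) (h₁ : P S.X₁) (h₂ : P S.X₂) (h₃ : P S.X₃)
    (hS : S.ShortExact) : clSub P S.X₂ = clSub P S.X₁ + clSub P S.X₃ := by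
  rw [clSub_eq P h₁, clSub_eq P h₂, clSub_eq P h₃]
  have hmem : FreeAbelianGroup.of (⟨S.X₂, h₂⟩ : Subtype P) - FreeAbelianGroup.of ⟨S.X₁, h₁⟩ -
      FreeAbelianGroup.of ⟨S.X₃, h₃⟩ ∈ relSub P :=
    AddSubgroup.subset_closure ⟨S, h₁, h₂, h₃, hS, rfl⟩
  have h0 := (QuotientAddGroup.eq_zero_iff _).mpr hmem
  rw [QuotientAddGroup.mk_sub, QuotientAddGroup.mk_sub, sub_sub, sub_eq_zero] at h0
  exact h0

theorem exists_hom_of_additive (ν : Subtype P → ℤ)
    (hν : ∀ (S : ShortComplex A) (h₁ : P S.X₁) (h₂ : P S.X₂) (h₃ : P S.X₃), S.ShortExact →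
      ν ⟨S.X₂, h₂⟩ = ν ⟨S.X₁, h₁⟩ + ν ⟨S.X₃, h₃⟩) :
    ∃ φ : K0sub P →+ ℤ, ∀ (X : A) (h : P X), φ (clSub P X) = ν ⟨X, h⟩ := by
  have hle : relSub P ≤ (FreeAbelianGroup.lift ν).ker := by
    unfold relSub
    rw [AddSubgroup.closure_le]
    rintro x ⟨S, h₁, h₂, h₃, hS, rfl⟩
    rw [SetLike.mem_coe, AddMonoidHom.mem_ker, map_sub, map_sub, FreeAbelianGroup.lift_apply_of,
      FreeAbelianGroup.lift_apply_of, FreeAbelianGroup.lift_apply_of, hν S h₁ h₂ h₃ hS]
    ring
  refine ⟨QuotientAddGroup.lift (relSub P) (FreeAbelianGroup.lift ν) hle, ?_⟩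
  intro X h
  rw [clSub_eq P h, QuotientAddGroup.lift_mk, FreeAbelianGroup.lift_apply_of]

end General

theorem length_hom (R : Type u) [CommRing R] [IsArtinianRing R] [IsLocalRing R] :
    ∃ φ : K0sub (fun M : ModuleCat.{u} R => Module.Finite R M) →+ ℤ,
      ∀ (M : ModuleCat.{u} R), Module.Finite R M →
        (φ (clSub (fun M : ModuleCat.{u} R => Module.Finite R M) M) : ℤ) =
          (Module.length R M).toNat := by
  obtain ⟨φ, hφ⟩ := exists_hom_of_additive (fun M : ModuleCat.{u} R => Module.Finite R M)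
    (fun M => ((Module.length R M.1).toNat : ℤ)) (by
      intro S h₁ h₂ h₃ hS
      have : Module.Finite R S.X₁ := h₁
      have : Module.Finite R S.X₂ := h₂
      have : Module.Finite R S.X₃ := h₃
      have hadd := Module.length_eq_add_of_exact S.f.hom S.g.hom hS.moduleCat_injective_f
        hS.moduleCat_surjective_g
        ((ShortComplex.ShortExact.moduleCat_exact_iff_function_exact S).mp hS.exact)
      show ((Module.length R S.X₂).toNat : ℤ) =
        ((Module.length R S.X₁).toNat : ℤ) + ((Module.length R S.X₃).toNat : ℤ)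
      rw [hadd, ENat.toNat_add Module.length_ne_top Module.length_ne_top]
      push_cast
      rfl)
  exact ⟨φ, fun M hM => hφ M hM⟩

section Local

variable (R : Type u) [CommRing R] [IsLocalRing R]

/-- finite projective modules -/
abbrev PP : ObjectProperty (ModuleCat.{u} R) :=
  fun M => Module.Finite R M ∧ Module.Projective R M

theorem cl_add (M M₁ M₂ : ModuleCat.{u} R) (h : PP R M) (h₁ : PP R M₁) (h₂ : PP R M₂)
    (e : M ≃ₗ[R] M₁ × M₂) :
    clSub (PP R) M = clSub (PP R) M₁ + clSub (PP R) M₂ := by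
  let f : M₁ ⟶ M := ModuleCat.ofHom (e.symm.toLinearMap ∘ₗ LinearMap.inl R M₁ M₂)
  let g : M ⟶ M₂ := ModuleCat.ofHom (LinearMap.snd R M₁ M₂ ∘ₗ e.toLinearMap)
  have hfg : f ≫ g = 0 := by
    ext x
    show (e (e.symm (x, 0))).2 = 0
    rw [LinearEquiv.apply_symm_apply]
  let S : ShortComplex (ModuleCat.{u} R) := ShortComplex.mk f g hfg
  have hS : S.ShortExact := by
    refine ShortComplex.ShortExact.mk' ?_ ?_ ?_
    · rw [ShortComplex.ShortExact.moduleCat_exact_iff_function_exact]
      intro y
      constructor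
      · intro hy
        refine ⟨(e y).1, ?_⟩
        have h2 : (e y).2 = 0 := hy
        show e.symm ((e y).1, 0) = y
        rw [← h2, Prod.mk.eta, LinearEquiv.symm_apply_apply]
      · rintro ⟨x, rfl⟩
        show (e (e.symm (x, 0))).2 = 0
        rw [LinearEquiv.apply_symm_apply]
    · rw [ModuleCat.mono_iff_injective]
      intro x y hxy
      have h3 : e.symm (x, 0) = e.symm (y, 0) := hxy
      have h4 := e.symm.injective h3
      exact (Prod.mk.inj h4).1
    · rw [ModuleCat.epi_iff_surjective]
      intro z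
      refine ⟨e.symm (0, z), ?_⟩
      show (e (e.symm (0, z))).2 = z
      rw [LinearEquiv.apply_symm_apply]
  exact cl_shortExact (PP R) S h₁ h h₂ hS

theorem cl_subsingleton (M : ModuleCat.{u} R) (h : PP R M) [Subsingleton M] :
    clSub (PP R) M = 0 := by
  have e : M ≃ₗ[R] M × M := LinearEquiv.ofSubsingleton _ _
  have h1 := cl_add R M M M h h h e
  have h2 : clSub (PP R) M + 0 = clSub (PP R) M + clSub (PP R) M := by
    rw [add_zero]
    exact h1
  exact (add_left_cancel h2).symm

theorem cl_eq_nsmul : ∀ (n : ℕ) (M : ModuleCat.{u} R) (_ : PP R M), (M ≃ₗ[R] (Fin n → R)) →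
    clSub (PP R) M = n • clSub (PP R) (ModuleCat.of R R) := by
  intro n
  induction n with
  | zero =>
    intro M h e
    have : Subsingleton M := e.toEquiv.subsingleton
    rw [zero_nsmul, cl_subsingleton R M h]
  | succ n ih =>
    intro M h e
    have hR : PP R (ModuleCat.of R R) := ⟨inferInstance, inferInstance⟩
    have hRn : PP R (ModuleCat.of R (Fin n → R)) := ⟨inferInstance, inferInstance⟩
    have e' : M ≃ₗ[R] (ModuleCat.of R R) × (ModuleCat.of R (Fin n → R)) :=
      e.trans (Fin.consLinearEquiv R (fun _ : Fin (n + 1) => R)).symm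
    rw [cl_add R M _ _ h hR hRn e', ih _ hRn (LinearEquiv.refl R _), succ_nsmul']

theorem K0_local :
    ∃ e : K0sub (PP R) ≃+ ℤ, e (clSub (PP R) (ModuleCat.of R R)) = 1 := by
  have hfree : ∀ M : ModuleCat.{u} R, PP R M → Module.Free R M := fun M h => by
    have := h.1
    have := h.2
    exact Module.free_of_flat_of_isLocalRing
  obtain ⟨φ, hφ⟩ := exists_hom_of_additive (PP R) (fun M => (Module.finrank R M.1 : ℤ)) (by
    intro S h₁ h₂ h₃ hS
    have := h₁.1
    have := h₃.1
    have := h₃.2
    have := hfree _ h₁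
    have := hfree _ h₃
    obtain ⟨l, hl⟩ := Module.projective_lifting_property S.g.hom LinearMap.id
      hS.moduleCat_surjective_g
    have hex := (ShortComplex.ShortExact.moduleCat_exact_iff_function_exact S).mp hS.exact
    obtain ⟨e, -⟩ := hex.splitSurjectiveEquiv hS.moduleCat_injective_f ⟨l, hl⟩
    show (Module.finrank R S.X₂ : ℤ) = (Module.finrank R S.X₁ : ℤ) + (Module.finrank R S.X₃ : ℤ)
    rw [e.finrank_eq, Module.finrank_prod]
    push_cast
    rfl)
  have hR : PP R (ModuleCat.of R R) := ⟨inferInstance, inferInstance⟩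
  have hφR : φ (clSub (PP R) (ModuleCat.of R R)) = 1 := by
    rw [hφ _ hR]
    show ((Module.finrank R R : ℕ) : ℤ) = 1
    rw [Module.finrank_self]
    rfl
  have hleft : ∀ x : K0sub (PP R), φ x • clSub (PP R) (ModuleCat.of R R) = x := by
    intro x
    induction x using QuotientAddGroup.induction_on with
    | H y =>
      refine FreeAbelianGroup.induction_on y ?_ ?_ ?_ ?_
      · show φ 0 • _ = 0
        rw [map_zero, zero_smul]
      · rintro ⟨M, h⟩
        have := h.1
        have := hfree M h
        have h1 : (QuotientAddGroup.mk (FreeAbelianGroup.of (⟨M, h⟩ : Subtype (PP R))) :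
            K0sub (PP R)) = clSub (PP R) M := (clSub_eq (PP R) h).symm
        rw [h1, hφ M h]
        show ((Module.finrank R M : ℕ) : ℤ) • _ = _
        rw [natCast_zsmul]
        exact (cl_eq_nsmul R _ M h (Module.finBasis R M).equivFun).symm
      · intro z hz
        have h1 : (QuotientAddGroup.mk (-FreeAbelianGroup.of z) : K0sub (PP R)) =
            -(QuotientAddGroup.mk (FreeAbelianGroup.of z)) := rfl
        rw [h1, map_neg, neg_smul, hz]
      · intro a b ha hb
        have h1 : (QuotientAddGroup.mk (a + b) : K0sub (PP R)) =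
            QuotientAddGroup.mk a + QuotientAddGroup.mk b := rfl
        rw [h1, map_add, add_smul, ha, hb]
  refine ⟨{ toFun := φ
            invFun := fun n => n • clSub (PP R) (ModuleCat.of R R)
            left_inv := hleft
            right_inv := ?_
            map_add' := φ.map_add }, hφR⟩
  intro n
  show φ (n • clSub (PP R) (ModuleCat.of R R)) = n
  rw [map_zsmul, hφR, smul_eq_mul, mul_one]

end Local

end Groth.Agent.H34.KZ
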