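import Mathlib
import Groth.Prelude.Def_Tame

set_option autoImplicit false
set_option linter.style.haveILetI false
universe u
open IsLocalRing Pointwise

/-!
# Kato's key lemma (S1851): length of the localized image of `y` on `R ⧸ Pp p t`
-/

namespace Groth.Agent.H34.KatoHC

abbrev Pp {R : Type u} [CommRing R] (p : Ideal R) [p.IsPrime] (t : R) : Ideal R :=
  Ideal.comap (algebraMap R (Localization.AtPrime p))
    (Ideal.span {algebraMap R (Localization.AtPrime p) t})

variable (R : Type u) [CommRing R] (p : Ideal R) [p.IsPrime]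

/-- a factorization `c * y = w * π₁ ^ k` with `c, w ∉ p` gives `y = unit * π ^ k` in `R_p`. -/
theorem exists_unit_fac (π₁ y c w : R) (k : ℕ) (hc : c ∉ p) (hw : w ∉ p)
    (hy : c * y = w * π₁ ^ k) :
    ∃ W : (Localization.AtPrime p)ˣ, algebraMap R (Localization.AtPrime p) y =
      W * algebraMap R (Localization.AtPrime p) π₁ ^ k := by
  have huc : IsUnit (algebraMap R (Localization.AtPrime p) c) :=
    IsLocalization.map_units (M := p.primeCompl) (Localization.AtPrime p) ⟨c, hc⟩
  have huw : IsUnit (algebraMap R (Localization.AtPrime p) w) :=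
    IsLocalization.map_units (M := p.primeCompl) (Localization.AtPrime p) ⟨w, hw⟩
  refine ⟨huc.unit⁻¹ * huw.unit, ?_⟩
  have h := congrArg (algebraMap R (Localization.AtPrime p)) hy
  rw [map_mul, map_mul, map_pow] at h
  rw [Units.val_mul, mul_assoc, eq_comm, Units.inv_mul_eq_iff_eq_mul, IsUnit.unit_spec,
    IsUnit.unit_spec]
  exact h.symm

theorem length_of_cyclic {S : Type*} [CommRing S] {L : Type*} [AddCommGroup L] [Module S L]
    (g : L) (hgen : ∀ z : L, ∃ r : S, z = r • g) (a : S)
    (hann : ∀ r : S, r • g = 0 ↔ a ∣ r) : Module.length S L = Ring.ord S a := by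
  let ψ : S →ₗ[S] L := LinearMap.toSpanSingleton S L g
  have hsurj : Function.Surjective ψ := by
    intro z
    obtain ⟨r, rfl⟩ := hgen z
    exact ⟨r, rfl⟩
  have hker : LinearMap.ker ψ = Ideal.span {a} := by
    ext r
    rw [LinearMap.mem_ker, Ideal.mem_span_singleton]
    exact hann r
  have e : (S ⧸ LinearMap.ker ψ) ≃ₗ[S] L := LinearMap.quotKerEquivOfSurjective ψ hsurj
  rw [← e.length_eq, hker]
  rfl

theorem length_localized_range (t : R) (π₁ : R)
    (hπ : algebraMap R (Localization.AtPrime p) π₁ ∈ nonZeroDivisors (Localization.AtPrime p))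
    (y c w : R) (k : ℕ) (hc : c ∉ p) (hw : w ∉ p) (hy : c * y = w * π₁ ^ k)
    (c' w' : R) (n : ℕ) (hc' : c' ∉ p) (hw' : w' ∉ p) (ht : c' * t = w' * π₁ ^ n) (hkn : k ≤ n) :
    Module.length (Localization.AtPrime p) (LocalizedModule p.primeCompl
      ↥(LinearMap.range (y • LinearMap.id : (R ⧸ Pp p t) →ₗ[R] (R ⧸ Pp p t)))) =
      (n - k) • Ring.ord (Localization.AtPrime p) (algebraMap R (Localization.AtPrime p) π₁) := by
  obtain ⟨Wy, hWy⟩ := exists_unit_fac R p π₁ y c w k hc hw hy
  obtain ⟨Wt, hWt⟩ := exists_unit_fac R p π₁ t c' w' n hc' hw' ht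
  set π := algebraMap R (Localization.AtPrime p) π₁ with hπdef
  set φ : (R ⧸ Pp p t) →ₗ[R] (R ⧸ Pp p t) := y • LinearMap.id with hφ
  -- the generator
  let n₁ : ↥(LinearMap.range φ) := ⟨φ (Ideal.Quotient.mk _ 1), LinearMap.mem_range_self _ _⟩
  let g₀ : LocalizedModule p.primeCompl ↥(LinearMap.range φ) :=
    LocalizedModule.mkLinearMap p.primeCompl _ n₁
  -- elements of the range
  have hrange : ∀ m : ↥(LinearMap.range φ), ∃ x : R, m = x • n₁ := by
    rintro ⟨m, m', rfl⟩
    obtain ⟨x, rfl⟩ := Ideal.Quotient.mk_surjective m'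
    refine ⟨x, Subtype.ext ?_⟩
    change φ (Ideal.Quotient.mk _ x) = x • φ (Ideal.Quotient.mk _ 1)
    rw [← map_smul]
    congr 1
    change Submodule.Quotient.mk x = x • Submodule.Quotient.mk 1
    rw [← Submodule.Quotient.mk_smul, smul_eq_mul, mul_one]
  have hzero : ∀ x : R, x • n₁ = 0 ↔
      algebraMap R (Localization.AtPrime p) (x * y) ∈
        Ideal.span {algebraMap R (Localization.AtPrime p) t} := by
    intro x
    rw [← Ideal.mem_comap, ← Ideal.Quotient.eq_zero_iff_mem, Subtype.ext_iff]
    change x • φ (Ideal.Quotient.mk _ 1) = 0 ↔ _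
    rw [hφ, LinearMap.smul_apply, LinearMap.id_apply]
    change x • y • Submodule.Quotient.mk 1 = 0 ↔ _
    rw [← Submodule.Quotient.mk_smul, ← Submodule.Quotient.mk_smul, smul_eq_mul, smul_eq_mul,
      mul_one]
    rfl
  have hgen : ∀ z : LocalizedModule p.primeCompl ↥(LinearMap.range φ),
      ∃ r : Localization.AtPrime p, z = r • g₀ := by
    intro z
    induction z using LocalizedModule.induction_on with
    | h m s =>
      obtain ⟨x, rfl⟩ := hrange m
      refine ⟨Localization.mk x s, ?_⟩
      change _ = Localization.mk x s • LocalizedModule.mkLinearMap p.primeCompl _ n₁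
      rw [LocalizedModule.mkLinearMap_apply, LocalizedModule.mk_smul_mk, mul_one]
  have hpow : π ^ n = π ^ (n - k) * π ^ k := by rw [← pow_add, Nat.sub_add_cancel hkn]
  have hπk : π ^ k ∈ nonZeroDivisors (Localization.AtPrime p) := pow_mem hπ k
  have hann : ∀ x' : Localization.AtPrime p, x' • g₀ = 0 ↔ π ^ (n - k) ∣ x' := by
    intro x'
    obtain ⟨⟨x, s⟩, rfl⟩ := IsLocalization.mk'_surjective p.primeCompl x'
    have hs : IsUnit (algebraMap R (Localization.AtPrime p) s) :=
      IsLocalization.map_units (M := p.primeCompl) (Localization.AtPrime p) s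
    change (IsLocalization.mk' (Localization.AtPrime p) x s) •
      LocalizedModule.mkLinearMap p.primeCompl _ n₁ = 0 ↔ _
    rw [LocalizedModule.mkLinearMap_apply, ← Localization.mk_eq_mk', LocalizedModule.mk_smul_mk,
      ← LocalizedModule.zero_mk (1 : p.primeCompl), LocalizedModule.mk_eq, Localization.mk_eq_mk']
    simp only [one_smul, smul_zero]
    have hspec : IsLocalization.mk' (Localization.AtPrime p) x s *
        algebraMap R (Localization.AtPrime p) s = algebraMap R (Localization.AtPrime p) x :=
      IsLocalization.mk'_spec _ _ _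
    constructor
    · rintro ⟨u, hu⟩
      have hu' : ((u : R) * x) • n₁ = 0 := by rw [mul_smul]; exact hu
      obtain ⟨r', hr'⟩ := Ideal.mem_span_singleton'.mp ((hzero _).mp hu')
      have huu : IsUnit (algebraMap R (Localization.AtPrime p) u) :=
        IsLocalization.map_units (M := p.primeCompl) (Localization.AtPrime p) u
      have hU : IsUnit (algebraMap R (Localization.AtPrime p) u * (Wy : Localization.AtPrime p) *
          algebraMap R (Localization.AtPrime p) s) := (huu.mul Wy.isUnit).mul hs
      rw [← hU.dvd_mul_left]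
      refine ⟨r' * Wt, ?_⟩
      have hr'' : r' * algebraMap R (Localization.AtPrime p) t =
          algebraMap R (Localization.AtPrime p) u * algebraMap R (Localization.AtPrime p) x *
            algebraMap R (Localization.AtPrime p) y := by
        rw [hr', map_mul, map_mul]
      have key : (algebraMap R (Localization.AtPrime p) u * (Wy : Localization.AtPrime p) *
          algebraMap R (Localization.AtPrime p) s *
          IsLocalization.mk' (Localization.AtPrime p) x s - π ^ (n - k) * (r' * Wt)) * π ^ k = 0 := by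
        linear_combination (algebraMap R (Localization.AtPrime p) u * (Wy : Localization.AtPrime p) *
          π ^ k) * hspec - (algebraMap R (Localization.AtPrime p) u *
          algebraMap R (Localization.AtPrime p) x) * hWy - hr'' + r' * hWt + r' * Wt * hpow
      exact sub_eq_zero.mp ((mul_right_mem_nonZeroDivisors_eq_zero_iff hπk).mp key)
    · rintro ⟨z', hz'⟩
      refine ⟨1, ?_⟩
      rw [one_smul, hzero, Ideal.mem_span_singleton']
      refine ⟨z' * algebraMap R (Localization.AtPrime p) s * Wy * ((Wt⁻¹ : (Localization.AtPrime p)ˣ) :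
        Localization.AtPrime p), ?_⟩
      rw [map_mul, ← hspec, hz', hWy, hWt, hpow]
      have : ((Wt⁻¹ : (Localization.AtPrime p)ˣ) : Localization.AtPrime p) * Wt = 1 :=
        Units.inv_mul Wt
      linear_combination (z' * algebraMap R (Localization.AtPrime p) s * Wy *
        (π ^ (n - k) * π ^ k)) * this
  rw [length_of_cyclic g₀ hgen (π ^ (n - k)) hann]
  exact Ring.ord_pow hπ (n - k)

end Groth.Agent.H34.KatoHC
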