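import Mathlib
import Groth.Prelude.Def_Tame
import Groth.Agent.H26.KatoK1
import Groth.Agent.H26.KatoOF
import Groth.Agent.H27.KatoHB
import Groth.Agent.H27.KatoHD
import Groth.Agent.H27.KatoHE
import Groth.Agent.H29.KatoLEN
import Groth.Agent.H29.KatoNL
import Groth.Agent.H31.KatoGA
import Groth.Agent.H31.KatoGC
import Groth.Agent.H34.KatoHC
import Groth.Agent.H72.KatoDim2
import Groth.Agent.H72.KatoGB
import Groth.Agent.H72.KatoPP
import Groth.Agent.H74.KatoFS
import Groth.Agent.H74.KatoNG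
import Groth.Agent.H74.KatoSA
import Groth.Agent.H74.KatoSB
import Groth.Agent.H87.KatoExt

set_option autoImplicit false
set_option linter.style.haveILetI false
universe u
open IsLocalRing Pointwise

/-!
# Kato's key lemma (S1851): the pieces supplied by the squad, re-exported with uniform names
-/

namespace Groth.Agent.H34.KatoPieces


/-- the `p`-primary component of `(t)` : kernel of `R → R_p / t R_p`. -/
abbrev Pp {R : Type u} [CommRing R] (p : Ideal R) [p.IsPrime] (t : R) : Ideal R :=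
  Ideal.comap (algebraMap R (Localization.AtPrime p))
    (Ideal.span {algebraMap R (Localization.AtPrime p) t})

/-- (PP) -/
theorem mem_Pp_iff {R : Type u} [CommRing R] (p : Ideal R) [p.IsPrime] (t x : R) :
    x ∈ Pp p t ↔ ∃ s : R, s ∉ p ∧ s * x ∈ Ideal.span {t} :=
  Groth.Agent.H72.KatoPP.mem_Pp_iff p t x

section Herb
variable (R : Type u) [CommRing R] [IsNoetherianRing R] [IsLocalRing R] (p : Ideal R) [p.IsPrime]

/-- (HB) -/
theorem herbrand_zero_smul
    (hp : ∀ p' : Ideal R, p'.IsPrime → p < p' → p' = maximalIdeal R) (hpm : p ≠ maximalIdeal R)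
    (N : Type u) [AddCommGroup N] [Module R N] [Module.Finite R N]
    (hN : ∀ q ∈ Module.support R N, p ≤ q.asIdeal) (x : R) (hx : x ∉ p) :
    CycAlg.FinCoh R (0 : N →ₗ[R] N) (x • LinearMap.id) ∧
    CycAlg.herbrand R (0 : N →ₗ[R] N) (x • LinearMap.id) =
      ((Ring.ord (R ⧸ p) (Ideal.Quotient.mk p x)).toNat : ℤ) *
        ((Module.length (Localization.AtPrime p) (LocalizedModule p.primeCompl N)).toNat : ℤ) :=
  Groth.Agent.H27.KatoHB.herbrand_zero_smul R p hp hpm N hN x hx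

/-- (HC) -/
theorem length_localized_range (t : R) (π₁ : R)
    (hπ : algebraMap R (Localization.AtPrime p) π₁ ∈ nonZeroDivisors (Localization.AtPrime p))
    (y c w : R) (k : ℕ) (hc : c ∉ p) (hw : w ∉ p) (hy : c * y = w * π₁ ^ k)
    (c' w' : R) (n : ℕ) (hc' : c' ∉ p) (hw' : w' ∉ p) (ht : c' * t = w' * π₁ ^ n) (hkn : k ≤ n) :
    Module.length (Localization.AtPrime p) (LocalizedModule p.primeCompl
      ↥(LinearMap.range (y • LinearMap.id : (R ⧸ Pp p t) →ₗ[R] (R ⧸ Pp p t)))) =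
      (n - k) • Ring.ord (Localization.AtPrime p) (algebraMap R (Localization.AtPrime p) π₁) :=
  Groth.Agent.H34.KatoHC.length_localized_range R p t π₁ hπ y c w k hc hw hy c' w' n hc' hw' ht hkn

/-- (HD) -/
theorem length_perH_lt_top
    (hp : ∀ p' : Ideal R, p'.IsPrime → p < p' → p' = maximalIdeal R)
    (M : Type u) [AddCommGroup M] [Module R M] [Module.Finite R M]
    (hM : ∀ q ∈ Module.support R M, p ≤ q.asIdeal) (φ ψ : M →ₗ[R] M)
    (h : ∀ z ∈ LinearMap.ker φ, ∃ s : R, s ∉ p ∧ s • z ∈ LinearMap.range ψ) :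
    Module.length R (CycAlg.perH φ ψ) < ⊤ :=
  Groth.Agent.H27.KatoHD.length_perH_lt_top R p hp M hM φ ψ h

/-- (HE) -/
theorem supportDim_quot_smul_le
    (hp : ∀ p' : Ideal R, p'.IsPrime → p < p' → p' = maximalIdeal R)
    (M : Type u) [AddCommGroup M] [Module R M] [Module.Finite R M]
    (hM : ∀ q ∈ Module.support R M, p ≤ q.asIdeal) (x : R) (hx : x ∉ p) :
    Module.supportDim R (M ⧸ x • (⊤ : Submodule R M)) ≤ 0 :=
  Groth.Agent.H27.KatoHE.supportDim_quot_smul_le R p hp M hM x hx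

/-- (HF) -/
theorem support_quot_Pp (t : R) (hpt : p ∈ (Ideal.span {t}).minimalPrimes) :
    ∀ q ∈ Module.support R (R ⧸ Pp p t), p ≤ q.asIdeal :=
  Groth.Agent.H72.KatoPP.support_quot_Pp R p t hpt

end Herb

/-- (GA) -/
theorem herbrand_quot_mul (R : Type u) [CommRing R] (a b : R) (ha : a ∈ nonZeroDivisors R)
    (hb : b ∈ nonZeroDivisors R) :
    CycAlg.FinCoh R (a • LinearMap.id : (R ⧸ Ideal.span {a * b}) →ₗ[R] (R ⧸ Ideal.span {a * b}))
      (b • LinearMap.id) ∧
    CycAlg.herbrand R (a • LinearMap.id : (R ⧸ Ideal.span {a * b}) →ₗ[R] (R ⧸ Ideal.span {a * b}))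
      (b • LinearMap.id) = 0 :=
  Groth.Agent.H31.KatoGA.herbrand_quot_mul R a b ha hb

/-- (GB) -/
theorem exists_map_pi (R : Type u) [CommRing R] [IsNoetherianRing R] [IsLocalRing R] (t : R)
    (s : Finset (PrimeSpectrum R))
    (h1 : ∀ p ∈ s, t ∈ p.asIdeal)
    (h2 : ∀ q : PrimeSpectrum R, t ∈ q.asIdeal → q.asIdeal ≠ maximalIdeal R → q ∈ s)
    (h3 : ∀ p ∈ s, ∀ p' ∈ s, p.asIdeal ≤ p'.asIdeal → p = p')
    (h4 : ∀ p ∈ s, p.asIdeal ≠ maximalIdeal R) :
    ∃ F : (R ⧸ Ideal.span {t}) →ₗ[R] ((p : ↥s) → R ⧸ Pp p.1.asIdeal t),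
      (∀ (x : R) (p : ↥s), F (Ideal.Quotient.mk _ x) p = Ideal.Quotient.mk _ x) ∧
      Module.length R (LinearMap.ker F) < ⊤ ∧
      Module.length R (((p : ↥s) → R ⧸ Pp p.1.asIdeal t) ⧸ LinearMap.range F) < ⊤ :=
  Groth.Agent.H72.KatoGB.exists_map_pi R t s h1 h2 h3 h4

/-- (GC) -/
theorem herbrand_pi {R : Type u} [CommRing R] {ι : Type u} [Fintype ι] (M : ι → Type u)
    [∀ i, AddCommGroup (M i)] [∀ i, Module R (M i)] (φ ψ : ∀ i, M i →ₗ[R] M i)
    (hper : ∀ i, CycAlg.IsPeriodic (φ i) (ψ i)) (hfin : ∀ i, CycAlg.FinCoh R (φ i) (ψ i)) :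
    CycAlg.FinCoh R
      (LinearMap.pi (fun i => φ i ∘ₗ LinearMap.proj i) : (∀ i, M i) →ₗ[R] (∀ i, M i))
      (LinearMap.pi (fun i => ψ i ∘ₗ LinearMap.proj i)) ∧
    CycAlg.herbrand R
      (LinearMap.pi (fun i => φ i ∘ₗ LinearMap.proj i) : (∀ i, M i) →ₗ[R] (∀ i, M i))
      (LinearMap.pi (fun i => ψ i ∘ₗ LinearMap.proj i)) = ∑ i, CycAlg.herbrand R (φ i) (ψ i) :=
  Groth.Agent.H31.KatoGC.herbrand_pi M φ ψ hper hfin

/-- (DIM2) -/
theorem dim_two_structure (R : Type u) [CommRing R] [IsNoetherianRing R] [IsLocalRing R]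
    (hR : ringKrullDim R ≤ 2) (t : R) (ht : t ∈ nonZeroDivisors R) (p : Ideal R) [p.IsPrime]
    (htp : t ∈ p) (hpm : p ≠ maximalIdeal R) :
    p ∈ (Ideal.span {t}).minimalPrimes ∧
      (∀ p' : Ideal R, p'.IsPrime → p < p' → p' = maximalIdeal R) ∧
      (ringKrullDim R = 2 → p.height = 1) :=
  Groth.Agent.H72.KatoDim2.dim_two_structure R hR t ht p htp hpm

/-- (DIM2') -/
theorem height_one_ne_maximal (R : Type u) [CommRing R] [IsNoetherianRing R] [IsLocalRing R]
    (hR : ringKrullDim R = 2) (p : Ideal R) [p.IsPrime] (hp : p.height = 1) :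
    p ≠ maximalIdeal R ∧ ringKrullDim (R ⧸ p) = 1 :=
  Groth.Agent.H72.KatoDim2.height_one_ne_maximal R hR p hp



section Sym
variable {A B : Type u} [CommRing A] [CommRing B] [Algebra A B] (q : Ideal A) [q.IsPrime]
  (Q : Type u) [CommRing Q] [Algebra B Q]
  [IsLocalization (Algebra.algebraMapSubmonoid B q.primeCompl) Q]

/-- (SA) -/
theorem maxSpec_fiber [Algebra.IsIntegral A B] :
    ∃ σ : MaximalSpectrum Q ≃ {p : PrimeSpectrum B // p.asIdeal.comap (algebraMap A B) = q},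
      ∀ 𝔫 : MaximalSpectrum Q, (σ 𝔫).1.asIdeal = 𝔫.asIdeal.comap (algebraMap B Q) ∧
        Nonempty (Localization.AtPrime 𝔫.asIdeal ≃ₐ[B] Localization.AtPrime (σ 𝔫).1.asIdeal) :=
  Groth.Agent.H74.KatoSA.maxSpec_fiber q Q

variable [Algebra (Localization.AtPrime q) Q] [Algebra A Q]
  [IsScalarTower A (Localization.AtPrime q) Q] [IsScalarTower A B Q]

/-- (SB) -/
theorem isFinExt_loc [IsNoetherianRing A] [Module.Finite A B]
    (hinj : Function.Injective (algebraMap A B))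
    (hdim : ringKrullDim (Localization.AtPrime q) = 1) (x : A) (hxq : x ∈ q)
    (hx : x ∈ nonZeroDivisors A) (hxB : ∀ y : B, ∃ r : A, algebraMap A B r = x • y) :
    CycAlg.IsFinExt (Localization.AtPrime q) Q (maximalIdeal (Localization.AtPrime q)) :=
  Groth.Agent.H74.KatoSB.isFinExt_loc q Q hinj hdim x hxq hx hxB

/-- (NL) -/
theorem normlen [IsNoetherianRing A] [IsLocalRing A] [IsLocalRing B] [Module.Finite A B]
    (hinj : Function.Injective (algebraMap A B))
    (hres : Function.Surjective (algebraMap A (ResidueField B)))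
    (hq : ringKrullDim (A ⧸ q) = 1)
    (𝔫 : MaximalSpectrum Q)
    [IsLocalHom (algebraMap (Localization.AtPrime q) (Localization.AtPrime 𝔫.asIdeal))]
    (x : B) (hx : x ∉ 𝔫.asIdeal.comap (algebraMap B Q)) :
    CycAlg.ordFrac (A ⧸ q) q.ResidueField (Algebra.norm q.ResidueField
      (residue (Localization.AtPrime 𝔫.asIdeal) (algebraMap B (Localization.AtPrime 𝔫.asIdeal) x))) =
      ((Ring.ord (B ⧸ 𝔫.asIdeal.comap (algebraMap B Q))
        (Ideal.Quotient.mk (𝔫.asIdeal.comap (algebraMap B Q)) x)).toNat : ℤ) :=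
  Groth.Agent.H29.KatoNL.normlen q Q hinj hres hq 𝔫 x hx

end Sym

/-- (LEN) -/
theorem length_eq_of_residue_surjective (A' B' : Type u) [CommRing A'] [CommRing B']
    [IsLocalRing A'] [IsLocalRing B'] [Algebra A' B'] [IsLocalHom (algebraMap A' B')]
    (hres : Function.Surjective (algebraMap A' (ResidueField B')))
    (N : Type u) [AddCommGroup N] [Module B' N] [Module A' N] [IsScalarTower A' B' N] :
    Module.length A' N = Module.length B' N :=
  Groth.Agent.H29.KatoLEN.length_eq_of_residue_surjective A' B' hres N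

/-- (NG) -/
theorem nice_global {B : Type u} [CommRing B] (p : Ideal B) [p.IsPrime] (a b : B)
    (h : ∃ π ∈ nonZeroDivisors (Localization.AtPrime p),
      ∃ (u v : (Localization.AtPrime p)ˣ) (e f : ℕ),
        algebraMap B (Localization.AtPrime p) a = u * π ^ e ∧
        algebraMap B (Localization.AtPrime p) b = v * π ^ f) :
    ∃ (π₁ ca ua cb ub : B) (e f : ℕ), ca ∉ p ∧ ua ∉ p ∧ cb ∉ p ∧ ub ∉ p ∧
      ca * a = ua * π₁ ^ e ∧ cb * b = ub * π₁ ^ f ∧
      algebraMap B (Localization.AtPrime p) π₁ ∈ nonZeroDivisors (Localization.AtPrime p) :=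
  Groth.Agent.H74.KatoNG.nice_global p a b h

/-- (K1) -/
theorem term_eq_zero (A : Type u) [CommRing A] [IsNoetherianRing A] (q : PrimeSpectrum A)
    (hq : q.asIdeal.height = 1) (a b : A) (hab : a * b ∉ q.asIdeal) :
    CycAlg.ordFrac (A ⧸ q.asIdeal) q.asIdeal.ResidueField
      (CycAlg.tameSymbol (Localization.AtPrime q.asIdeal)
        (algebraMap A (Localization.AtPrime q.asIdeal) a)
        (algebraMap A (Localization.AtPrime q.asIdeal) b)) = 0 :=
  Groth.Agent.H26.KatoK1.term_eq_zero A q hq a b hab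

/-- (FS) -/
theorem finsum_fiberwise {α β : Type*} (T : Set β) (hT : T.Finite) (g : β → α) (F : β → ℤ) :
    ∑ᶠ (x : α), ∑ᶠ (y : β) (_ : g y = x ∧ y ∈ T), F y = ∑ᶠ (y : β) (_ : y ∈ T), F y :=
  Groth.Agent.H74.KatoFS.finsum_fiberwise T hT g F

/-- (OF) ordFrac of a product of powers -/
theorem ordFrac_symK (R : Type u) [CommRing R] (K : Type u) [Field K] [Algebra R K]
    (U V W : K) (hU : U ≠ 0) (hV : V ≠ 0) (hW : W = 1 ∨ W = -1) (e f m : ℕ) :
    CycAlg.ordFrac R K ((W * U ^ f * (V ^ e)⁻¹) ^ m) =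
      (m : ℤ) * ((f : ℤ) * CycAlg.ordFrac R K U - (e : ℤ) * CycAlg.ordFrac R K V) :=
  Groth.Agent.H26.KatoOF.ordFrac_symK R K U V W hU hV hW e f m



/-- (EXT) Stacks 42.6.1 + 42.6.2 (tags 0EAW, 0EAX). -/
theorem exists_ext (A : Type u) [CommRing A] [IsNoetherianRing A] [IsLocalRing A]
    (hA : ringKrullDim A = 2) (a b : A) (ha : a ∈ nonZeroDivisors A) (hb : b ∈ nonZeroDivisors A)
    (hab : a * b ∈ maximalIdeal A) :
    ∃ (B : Type u) (_ : CommRing B) (_ : Algebra A B) (_ : IsLocalRing B),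
      Function.Injective (algebraMap A B) ∧ Module.Finite A B ∧
      Function.Surjective (algebraMap A (ResidueField B)) ∧
      algebraMap A B (a * b) ∈ nonZeroDivisors B ∧
      (∃ N : ℕ, ∀ x : B, algebraMap A B ((a * b) ^ N) * x ∈ (algebraMap A B).range) ∧
      ∀ (p : Ideal B) [p.IsPrime], p ≠ maximalIdeal B → algebraMap A B (a * b) ∈ p →
        ∃ π ∈ nonZeroDivisors (Localization.AtPrime p), ∃ (u v : (Localization.AtPrime p)ˣ) (e f : ℕ),
          algebraMap B (Localization.AtPrime p) (algebraMap A B a) = u * π ^ e ∧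
          algebraMap B (Localization.AtPrime p) (algebraMap A B b) = v * π ^ f :=
  Groth.Agent.H87.KatoExt.exists_ext A hA a b ha hb hab


end Groth.Agent.H34.KatoPieces
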