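import Mathlib
import Groth.Prelude.Def_Tame
import Groth.Agent.S1870
import Groth.Agent.H34.KatoPieces

set_option autoImplicit false
set_option linter.style.haveILetI false

/-!
# Kato's key lemma (S1851): the global Herbrand identity
-/

namespace Groth.Agent.H34.Kato

open IsLocalRing Pointwise CycAlg
open Groth.Agent.H34.KatoPieces

universe u

theorem pi_smul_id {R : Type u} [CommRing R] {ι : Type u} (M : ι → Type u)
    [∀ i, AddCommGroup (M i)] [∀ i, Module R (M i)] (a : R) :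
    (LinearMap.pi (fun i => (a • LinearMap.id : M i →ₗ[R] M i) ∘ₗ LinearMap.proj i) :
      (∀ i, M i) →ₗ[R] (∀ i, M i)) = a • LinearMap.id := by
  refine LinearMap.ext fun z => ?_
  funext i
  simp

theorem glob (R : Type u) [CommRing R] [IsNoetherianRing R] [IsLocalRing R] (a b : R)
    (ha : a ∈ nonZeroDivisors R) (hb : b ∈ nonZeroDivisors R)
    (s : Finset (PrimeSpectrum R))
    (h1 : ∀ p ∈ s, a * b ∈ p.asIdeal)
    (h2 : ∀ q : PrimeSpectrum R, a * b ∈ q.asIdeal → q.asIdeal ≠ maximalIdeal R → q ∈ s)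
    (h3 : ∀ p ∈ s, ∀ p' ∈ s, p.asIdeal ≤ p'.asIdeal → p = p')
    (h4 : ∀ p ∈ s, p.asIdeal ≠ maximalIdeal R)
    (hper : ∀ p : ↥s, IsPeriodic
      (a • LinearMap.id : (R ⧸ Pp p.1.asIdeal (a * b)) →ₗ[R] (R ⧸ Pp p.1.asIdeal (a * b)))
      (b • LinearMap.id))
    (hfin : ∀ p : ↥s, FinCoh R
      (a • LinearMap.id : (R ⧸ Pp p.1.asIdeal (a * b)) →ₗ[R] (R ⧸ Pp p.1.asIdeal (a * b)))
      (b • LinearMap.id)) :
    ∑ p : ↥s, herbrand R
      (a • LinearMap.id : (R ⧸ Pp p.1.asIdeal (a * b)) →ₗ[R] (R ⧸ Pp p.1.asIdeal (a * b)))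
      (b • LinearMap.id) = 0 := by
  obtain ⟨F, hF, hker, hcoker⟩ := exists_map_pi R (a * b) s h1 h2 h3 h4
  have hpi := herbrand_pi (R := R) (fun p : ↥s => R ⧸ Pp p.1.asIdeal (a * b))
    (fun _ => a • LinearMap.id) (fun _ => b • LinearMap.id) hper hfin
  rw [pi_smul_id, pi_smul_id] at hpi
  have hGA := herbrand_quot_mul R a b ha hb
  have hper0 : IsPeriodic
      (a • LinearMap.id : (R ⧸ Ideal.span {a * b}) →ₗ[R] (R ⧸ Ideal.span {a * b}))
      (b • LinearMap.id) := by
    have h0 : ((a * b) • LinearMap.id :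
        (R ⧸ Ideal.span {a * b}) →ₗ[R] (R ⧸ Ideal.span {a * b})) = 0 := by
      refine LinearMap.ext fun z => ?_
      obtain ⟨x, rfl⟩ := Ideal.Quotient.mk_surjective z
      rw [LinearMap.smul_apply, LinearMap.id_apply, LinearMap.zero_apply]
      change (a * b) • Submodule.Quotient.mk x = 0
      rw [← Submodule.Quotient.mk_smul, smul_eq_mul]
      exact (Submodule.Quotient.mk_eq_zero _).mpr
        (Ideal.mul_mem_right _ _ (Ideal.mem_span_singleton_self _))
    refine ⟨?_, ?_⟩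
    · rw [LinearMap.smul_comp, LinearMap.comp_smul, LinearMap.id_comp, smul_smul]
      exact h0
    · rw [LinearMap.smul_comp, LinearMap.comp_smul, LinearMap.id_comp, smul_smul, mul_comm b a]
      exact h0
  have hperP : IsPeriodic
      (a • LinearMap.id : ((p : ↥s) → R ⧸ Pp p.1.asIdeal (a * b)) →ₗ[R] _)
      (b • LinearMap.id) := by
    have h0 : ((a * b) • LinearMap.id :
        ((p : ↥s) → R ⧸ Pp p.1.asIdeal (a * b)) →ₗ[R] _) = 0 := by
      refine LinearMap.ext fun z => ?_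
      funext p
      have := (hper p).1
      rw [LinearMap.smul_comp, LinearMap.comp_smul, LinearMap.id_comp, smul_smul] at this
      have h' := LinearMap.congr_fun this (z p)
      simpa using h'
    refine ⟨?_, ?_⟩
    · rw [LinearMap.smul_comp, LinearMap.comp_smul, LinearMap.id_comp, smul_smul]
      exact h0
    · rw [LinearMap.smul_comp, LinearMap.comp_smul, LinearMap.id_comp, smul_smul, mul_comm b a]
      exact h0
  have h70 := Groth.Agent.S1870.result
    (a • LinearMap.id : (R ⧸ Ideal.span {a * b}) →ₗ[R] (R ⧸ Ideal.span {a * b}))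
    (b • LinearMap.id)
    (a • LinearMap.id : ((p : ↥s) → R ⧸ Pp p.1.asIdeal (a * b)) →ₗ[R] _)
    (b • LinearMap.id) hper0 hperP F
    (by rw [LinearMap.smul_comp, LinearMap.comp_smul, LinearMap.id_comp, LinearMap.comp_id])
    (by rw [LinearMap.smul_comp, LinearMap.comp_smul, LinearMap.id_comp, LinearMap.comp_id])
    hGA.1 hpi.1 hker hcoker
  rw [← hpi.2, ← h70, hGA.2]

end Groth.Agent.H34.Kato
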