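import Mathlib
import Groth.Prelude.Def_Tame
import Groth.Agent.S1831
import Groth.Agent.S1832
import Groth.Agent.H34.KatoPieces

set_option autoImplicit false
set_option linter.style.haveILetI false

/-!
# Kato's key lemma (S1851): the Herbrand quotient computation at one height-one prime
-/

namespace Groth.Agent.H34.Kato

open IsLocalRing Pointwise CycAlg
open Groth.Agent.H34.KatoPieces

universe u

section Herb

variable {R : Type u} [CommRing R] [IsNoetherianRing R] [IsLocalRing R]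

/-- S1832 applied twice. -/
theorem herbrand_smul_smul {M : Type u} [AddCommGroup M] [Module R M] [Module.Finite R M]
    (φ ψ : M →ₗ[R] M) (hper : IsPeriodic φ ψ) (hfin : FinCoh R φ ψ) (x y : R)
    (hx : Module.supportDim R (M ⧸ x • (⊤ : Submodule R M)) ≤ 0)
    (hy : Module.supportDim R (M ⧸ y • (⊤ : Submodule R M)) ≤ 0) :
    FinCoh R (x • φ) (y • ψ) ∧
      herbrand R (x • φ) (y • ψ) = herbrand R φ ψ
        - herbrand R (0 : ↥(LinearMap.range φ) →ₗ[R] ↥(LinearMap.range φ)) (x • LinearMap.id)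
        + herbrand R (0 : ↥(LinearMap.range ψ) →ₗ[R] ↥(LinearMap.range ψ)) (y • LinearMap.id) := by
  have h1 := (Groth.Agent.S1832.result φ ψ hper hfin y hy).2
  have hper' : IsPeriodic φ (y • ψ) := by
    refine ⟨?_, ?_⟩
    · rw [LinearMap.comp_smul, hper.1, smul_zero]
    · rw [LinearMap.smul_comp, hper.2, smul_zero]
  have h2 := (Groth.Agent.S1832.result φ (y • ψ) hper' h1.1 x hx).1
  refine ⟨h2.1, ?_⟩
  rw [h2.2, h1.2]
  ring

variable (p : Ideal R) [p.IsPrime]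

omit [IsNoetherianRing R] [IsLocalRing R] in
theorem smul_mk_eq_zero {t r : R} (hr : r ∈ Pp p t) (z : R ⧸ Pp p t) : r • z = 0 := by
  obtain ⟨x, rfl⟩ := Ideal.Quotient.mk_surjective z
  rw [← Ideal.Quotient.mk_eq_mk, ← Submodule.Quotient.mk_smul, Ideal.Quotient.mk_eq_mk,
    Ideal.Quotient.eq_zero_iff_mem, smul_eq_mul]
  exact Ideal.mul_mem_right _ _ hr

omit [IsNoetherianRing R] [IsLocalRing R] in
theorem smul_id_eq_zero {t r : R} (hr : r ∈ Pp p t) :
    (r • LinearMap.id : (R ⧸ Pp p t) →ₗ[R] (R ⧸ Pp p t)) = 0 := by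
  refine LinearMap.ext fun z => ?_
  rw [LinearMap.smul_apply, LinearMap.id_apply, LinearMap.zero_apply]
  exact smul_mk_eq_zero p hr _

omit [IsNoetherianRing R] [IsLocalRing R] in
theorem self_mem_Pp (t : R) : t ∈ Pp p t :=
  (mem_Pp_iff p t t).mpr ⟨1, fun h => (Ideal.ne_top_iff_one p).mp (Ideal.IsPrime.ne_top ‹_›) h,
    by rw [one_mul]; exact Ideal.mem_span_singleton_self t⟩

omit [IsNoetherianRing R] [IsLocalRing R] in
/-- kernel of `a` is locally the range of `b` on `R ⧸ Pp p t`, `t = a * b`. -/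
theorem ker_smul_sub_range (a b t : R) (ht : t = a * b) (ha : a ∈ nonZeroDivisors R) :
    ∀ z ∈ LinearMap.ker (a • LinearMap.id : (R ⧸ Pp p t) →ₗ[R] (R ⧸ Pp p t)),
      ∃ s : R, s ∉ p ∧ s • z ∈ LinearMap.range
        (b • LinearMap.id : (R ⧸ Pp p t) →ₗ[R] (R ⧸ Pp p t)) := by
  intro z hz
  obtain ⟨x, rfl⟩ := Ideal.Quotient.mk_surjective z
  rw [LinearMap.mem_ker, LinearMap.smul_apply, LinearMap.id_apply, ← Ideal.Quotient.mk_eq_mk,
    ← Submodule.Quotient.mk_smul, Ideal.Quotient.mk_eq_mk, Ideal.Quotient.eq_zero_iff_mem,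
    smul_eq_mul, mem_Pp_iff] at hz
  obtain ⟨s, hs, hmem⟩ := hz
  obtain ⟨r, hr⟩ := Ideal.mem_span_singleton'.mp hmem
  refine ⟨s, hs, Ideal.Quotient.mk _ r, ?_⟩
  have h0 : a * (s * x - b * r) = 0 := by
    have : a * (s * x - b * r) = s * (a * x) - r * t := by rw [ht]; ring
    rw [this, hr, sub_self]
  have h1 : s * x = b * r := by
    have := (mul_left_mem_nonZeroDivisors_eq_zero_iff ha).mp h0
    exact sub_eq_zero.mp this
  rw [LinearMap.smul_apply, LinearMap.id_apply]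
  change b • Submodule.Quotient.mk r = s • Submodule.Quotient.mk x
  rw [← Submodule.Quotient.mk_smul, ← Submodule.Quotient.mk_smul, smul_eq_mul, smul_eq_mul, h1]

omit [IsNoetherianRing R] [IsLocalRing R] in
theorem ker_pi_sub_range (t π₁ c' w' : R) (n : ℕ) (hn : 0 < n) (hc' : c' ∉ p)
    (ht : c' * t = w' * π₁ ^ n)
    (hπ : algebraMap R (Localization.AtPrime p) π₁ ∈ nonZeroDivisors (Localization.AtPrime p)) :
    ∀ z ∈ LinearMap.ker (π₁ • LinearMap.id : (R ⧸ Pp p t) →ₗ[R] (R ⧸ Pp p t)),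
      ∃ s : R, s ∉ p ∧ s • z ∈ LinearMap.range
        (π₁ ^ (n - 1) • LinearMap.id : (R ⧸ Pp p t) →ₗ[R] (R ⧸ Pp p t)) := by
  intro z hz
  obtain ⟨x, rfl⟩ := Ideal.Quotient.mk_surjective z
  rw [LinearMap.mem_ker, LinearMap.smul_apply, LinearMap.id_apply, ← Ideal.Quotient.mk_eq_mk,
    ← Submodule.Quotient.mk_smul, Ideal.Quotient.mk_eq_mk, Ideal.Quotient.eq_zero_iff_mem,
    smul_eq_mul, mem_Pp_iff] at hz
  obtain ⟨s, hs, hmem⟩ := hz
  obtain ⟨r, hr⟩ := Ideal.mem_span_singleton'.mp hmem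
  have hpow : π₁ ^ n = π₁ * π₁ ^ (n - 1) := by
    rw [← pow_succ', Nat.sub_add_cancel hn]
  have h0 : π₁ * (c' * s * x - r * w' * π₁ ^ (n - 1)) = 0 := by
    have : π₁ * (c' * s * x - r * w' * π₁ ^ (n - 1)) =
        c' * (s * (π₁ * x)) - r * (w' * (π₁ * π₁ ^ (n - 1))) := by ring
    rw [this, ← hpow, ← ht, ← hr]
    ring
  have h1 : algebraMap R (Localization.AtPrime p) (c' * s * x - r * w' * π₁ ^ (n - 1)) = 0 := by
    have := congrArg (algebraMap R (Localization.AtPrime p)) h0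
    rw [map_mul, map_zero] at this
    exact (mul_left_mem_nonZeroDivisors_eq_zero_iff hπ).mp this
  obtain ⟨s', hs'⟩ := (IsLocalization.map_eq_zero_iff p.primeCompl _ _).mp h1
  refine ⟨s' * (c' * s), ?_, Ideal.Quotient.mk _ (s' * (r * w')), ?_⟩
  · exact fun h => (Ideal.IsPrime.mem_or_mem ‹_› h).elim s'.2
      (fun h' => (Ideal.IsPrime.mem_or_mem ‹_› h').elim hc' hs)
  · rw [LinearMap.smul_apply, LinearMap.id_apply]
    change π₁ ^ (n - 1) • Submodule.Quotient.mk (s' * (r * w')) =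
      (s' * (c' * s)) • Submodule.Quotient.mk x
    rw [← Submodule.Quotient.mk_smul, ← Submodule.Quotient.mk_smul, smul_eq_mul, smul_eq_mul]
    congr 1
    have : (s' : R) * (c' * s * x - r * w' * π₁ ^ (n - 1)) = 0 := hs'
    linear_combination -this

omit [IsNoetherianRing R] [IsLocalRing R] in
theorem smul_id_pow {M : Type*} [AddCommGroup M] [Module R M] (c : R) (n : ℕ) :
    (c • LinearMap.id : M →ₗ[R] M) ^ n = c ^ n • LinearMap.id := by
  rw [← Module.End.one_eq_id, smul_pow, one_pow]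

theorem toNat_nsmul (k : ℕ) (x : ℕ∞) : (k • x).toNat = k * x.toNat := by
  rw [nsmul_eq_mul, ENat.toNat_mul, ENat.toNat_natCast]

/-- The Herbrand quotient of `(R ⧸ Pp p (a*b), a, b)` for nice data at `p`. -/
theorem herb_formula
    (hp1 : ∀ p' : Ideal R, p'.IsPrime → p < p' → p' = maximalIdeal R)
    (hpm : p ≠ maximalIdeal R) (a b : R) (ha : a ∈ nonZeroDivisors R)
    (hb : b ∈ nonZeroDivisors R) (hpt : p ∈ (Ideal.span {a * b}).minimalPrimes)
    (π₁ ca ua cb ub : R) (e f : ℕ) (hca : ca ∉ p) (hua : ua ∉ p) (hcb : cb ∉ p) (hub : ub ∉ p)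
    (fac_a : ca * a = ua * π₁ ^ e) (fac_b : cb * b = ub * π₁ ^ f)
    (hπ : algebraMap R (Localization.AtPrime p) π₁ ∈ nonZeroDivisors (Localization.AtPrime p)) :
    FinCoh R (a • LinearMap.id : (R ⧸ Pp p (a * b)) →ₗ[R] (R ⧸ Pp p (a * b)))
        (b • LinearMap.id) ∧
      herbrand R (a • LinearMap.id : (R ⧸ Pp p (a * b)) →ₗ[R] (R ⧸ Pp p (a * b)))
        (b • LinearMap.id) =
      - (((Ring.ord (Localization.AtPrime p) (algebraMap R (Localization.AtPrime p) π₁)).toNat : ℤ) *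
        ((f : ℤ) * (((Ring.ord (R ⧸ p) (Ideal.Quotient.mk p ua)).toNat : ℤ) -
            ((Ring.ord (R ⧸ p) (Ideal.Quotient.mk p ca)).toNat : ℤ)) -
          (e : ℤ) * (((Ring.ord (R ⧸ p) (Ideal.Quotient.mk p ub)).toNat : ℤ) -
            ((Ring.ord (R ⧸ p) (Ideal.Quotient.mk p cb)).toNat : ℤ)))) := by
  set t := a * b with ht
  have hM := support_quot_Pp R p t hpt
  have htp : t ∈ p := hpt.1.2 (Ideal.mem_span_singleton_self t)
  have hcc : ca * cb ∉ p := fun h => (Ideal.IsPrime.mem_or_mem ‹_› h).elim hca hcb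
  have huu : ua * ub ∉ p := fun h => (Ideal.IsPrime.mem_or_mem ‹_› h).elim hua hub
  have htfac : ca * cb * t = ua * ub * π₁ ^ (e + f) := by
    rw [ht, pow_add]
    linear_combination cb * b * fac_a + ua * π₁ ^ e * fac_b
  have hn : 0 < e + f := by
    by_contra h0
    have h0' : e + f = 0 := by omega
    rw [h0', pow_zero, mul_one] at htfac
    exact huu (htfac ▸ Ideal.mul_mem_left p _ htp)
  -- the maps
  have hab0 : (a • LinearMap.id : (R ⧸ Pp p t) →ₗ[R] (R ⧸ Pp p t)) ∘ₗ (b • LinearMap.id) = 0 := by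
    rw [LinearMap.smul_comp, LinearMap.comp_smul, LinearMap.id_comp, smul_smul, ← ht]
    exact smul_id_eq_zero p (self_mem_Pp p t)
  have hba0 : (b • LinearMap.id : (R ⧸ Pp p t) →ₗ[R] (R ⧸ Pp p t)) ∘ₗ (a • LinearMap.id) = 0 := by
    rw [LinearMap.smul_comp, LinearMap.comp_smul, LinearMap.id_comp, smul_smul, mul_comm, ← ht]
    exact smul_id_eq_zero p (self_mem_Pp p t)
  have hper : IsPeriodic (a • LinearMap.id : (R ⧸ Pp p t) →ₗ[R] (R ⧸ Pp p t))
      (b • LinearMap.id) := ⟨hab0, hba0⟩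
  have hfin : FinCoh R (a • LinearMap.id : (R ⧸ Pp p t) →ₗ[R] (R ⧸ Pp p t))
      (b • LinearMap.id) :=
    ⟨length_perH_lt_top R p hp1 _ hM _ _ (ker_smul_sub_range p a b t ht ha),
      length_perH_lt_top R p hp1 _ hM _ _ (ker_smul_sub_range p b a t (by rw [ht, mul_comm]) hb)⟩
  refine ⟨hfin, ?_⟩
  -- first computation
  have hsd : ∀ x : R, x ∉ p →
      Module.supportDim R ((R ⧸ Pp p t) ⧸ x • (⊤ : Submodule R (R ⧸ Pp p t))) ≤ 0 :=
    fun x hx => supportDim_quot_smul_le R p hp1 _ hM x hx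
  have hI := herbrand_smul_smul _ _ hper hfin ca cb (hsd ca hca) (hsd cb hcb)
  -- second computation
  have hπn : π₁ ^ (e + f) ∈ Pp p t := by
    rw [mem_Pp_iff]
    exact ⟨ua * ub, huu, by rw [← htfac]; exact Ideal.mul_mem_left _ _ (Ideal.mem_span_singleton_self t)⟩
  have hφ0 : (π₁ • LinearMap.id : (R ⧸ Pp p t) →ₗ[R] (R ⧸ Pp p t)) ^ (e + f) = 0 := by
    rw [smul_id_pow]
    exact smul_id_eq_zero p hπn
  have hfin0 : Module.length R (perH (π₁ • LinearMap.id : (R ⧸ Pp p t) →ₗ[R] (R ⧸ Pp p t))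
      ((π₁ • LinearMap.id) ^ (e + f - 1))) < ⊤ := by
    rw [smul_id_pow]
    exact length_perH_lt_top R p hp1 _ hM _ _
      (ker_pi_sub_range p t π₁ (ca * cb) (ua * ub) (e + f) hn hcc htfac hπ)
  have h31 := Groth.Agent.S1831.result
    (π₁ • LinearMap.id : (R ⧸ Pp p t) →ₗ[R] (R ⧸ Pp p t)) (e + f) hn hφ0 hfin0 e (Nat.le_add_right e f)
  rw [Nat.add_sub_cancel_left, smul_id_pow, smul_id_pow] at h31
  have hper2 : IsPeriodic (π₁ ^ e • LinearMap.id : (R ⧸ Pp p t) →ₗ[R] (R ⧸ Pp p t))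
      (π₁ ^ f • LinearMap.id) := by
    refine ⟨?_, ?_⟩
    · rw [LinearMap.smul_comp, LinearMap.comp_smul, LinearMap.id_comp, smul_smul, ← pow_add]
      exact smul_id_eq_zero p hπn
    · rw [LinearMap.smul_comp, LinearMap.comp_smul, LinearMap.id_comp, smul_smul, ← pow_add,
        add_comm]
      exact smul_id_eq_zero p hπn
  have hII := herbrand_smul_smul _ _ hper2 h31.1 ua ub (hsd ua hua) (hsd ub hub)
  rw [h31.2] at hII
  -- the two complexes agree
  have e1 : (ca • (a • LinearMap.id) : (R ⧸ Pp p t) →ₗ[R] (R ⧸ Pp p t)) =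
      ua • (π₁ ^ e • LinearMap.id) := by rw [smul_smul, smul_smul, fac_a]
  have e2 : (cb • (b • LinearMap.id) : (R ⧸ Pp p t) →ₗ[R] (R ⧸ Pp p t)) =
      ub • (π₁ ^ f • LinearMap.id) := by rw [smul_smul, smul_smul, fac_b]
  rw [e1, e2] at hI
  have hkey := hI.2.symm.trans hII.2
  -- the four correction terms
  have hsub : ∀ y : R, ∀ q ∈ Module.support R
      ↥(LinearMap.range (y • LinearMap.id : (R ⧸ Pp p t) →ₗ[R] (R ⧸ Pp p t))), p ≤ q.asIdeal :=
    fun y q hq => hM q (Module.support_subset_of_injective (Submodule.subtype _)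
      (Submodule.injective_subtype _) hq)
  have hB := fun (y x : R) (hx : x ∉ p) => (herbrand_zero_smul R p hp1 hpm
    ↥(LinearMap.range (y • LinearMap.id : (R ⧸ Pp p t) →ₗ[R] (R ⧸ Pp p t))) (hsub y) x hx).2
  have one_nm : (1 : R) ∉ p := fun h => (Ideal.ne_top_iff_one p).mp (Ideal.IsPrime.ne_top ‹_›) h
  have hC1 := length_localized_range R p t π₁ hπ a ca ua e hca hua fac_a (ca * cb) (ua * ub)
    (e + f) hcc huu htfac (Nat.le_add_right e f)
  have hC2 := length_localized_range R p t π₁ hπ b cb ub f hcb hub fac_b (ca * cb) (ua * ub)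
    (e + f) hcc huu htfac (Nat.le_add_left f e)
  have hC3 := length_localized_range R p t π₁ hπ (π₁ ^ e) 1 1 e one_nm one_nm rfl (ca * cb)
    (ua * ub) (e + f) hcc huu htfac (Nat.le_add_right e f)
  have hC4 := length_localized_range R p t π₁ hπ (π₁ ^ f) 1 1 f one_nm one_nm rfl (ca * cb)
    (ua * ub) (e + f) hcc huu htfac (Nat.le_add_left f e)
  rw [Nat.add_sub_cancel_left] at hC1 hC3
  rw [Nat.add_sub_cancel] at hC2 hC4
  rw [hB a ca hca, hB b cb hcb, hB (π₁ ^ e) ua hua, hB (π₁ ^ f) ub hub, hC1, hC2, hC3, hC4,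
    toNat_nsmul, toNat_nsmul] at hkey
  push_cast at hkey
  linear_combination hkey

end Herb

end Groth.Agent.H34.Kato
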