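import Mathlib
import Groth.Prelude.Def_Tame
import Groth.Agent.H34.TameLaws
import Groth.Agent.H87.LenFinsum
import Groth.Agent.H75.TameP24
import Groth.Agent.H34.KatoPieces

set_option autoImplicit false
set_option linter.style.haveILetI false

/-!
# Kato's key lemma (S1851): the symbol side at one height-one prime
-/

namespace Groth.Agent.H34.Kato

open IsLocalRing Pointwise CycAlg
open Groth.Agent.H34.KatoPieces
open Groth.Agent.H34.TameLoc Groth.Agent.H34.TameCL Groth.Agent.H34.TameRep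
  Groth.Agent.H34.TameLaws

universe u v

section OrdFrac

theorem ordFrac_mul' (R : Type u) [CommRing R] (K : Type v) [Field K] [Algebra R K] {f g : K}
    (hf : f ≠ 0) (hg : g ≠ 0) :
    CycAlg.ordFrac R K (f * g) = CycAlg.ordFrac R K f + CycAlg.ordFrac R K g := by
  unfold CycAlg.ordFrac
  split_ifs with h
  · haveI := h.1; haveI := h.2.1; haveI := h.2.2.1; haveI := h.2.2.2
    have hf' : Ring.ordFrac R f ≠ 0 := (map_ne_zero (Ring.ordFrac R (K := K))).mpr hf
    have hg' : Ring.ordFrac R g ≠ 0 := (map_ne_zero (Ring.ordFrac R (K := K))).mpr hg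
    obtain ⟨m, hm⟩ := WithZero.ne_zero_iff_exists.mp hf'
    obtain ⟨n, hn⟩ := WithZero.ne_zero_iff_exists.mp hg'
    have e : Ring.ordFrac R (f * g) =
        ((m * n : Multiplicative ℤ) : WithZero (Multiplicative ℤ)) := by
      rw [map_mul, ← hm, ← hn, WithZero.coe_mul]
    rw [e, ← hm, ← hn]
    rfl
  · rfl

theorem ordFrac_one' (R : Type u) [CommRing R] (K : Type v) [Field K] [Algebra R K] :
    CycAlg.ordFrac R K (1 : K) = 0 := by
  have h := ordFrac_mul' R K (one_ne_zero (α := K)) (one_ne_zero (α := K))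
  rw [mul_one] at h
  omega

theorem ordFrac_prod (R : Type u) [CommRing R] (K : Type v) [Field K] [Algebra R K]
    {ι : Type*} (s : Finset ι) (g : ι → K) (hg : ∀ i ∈ s, g i ≠ 0) :
    CycAlg.ordFrac R K (∏ i ∈ s, g i) = ∑ i ∈ s, CycAlg.ordFrac R K (g i) := by
  classical
  induction s using Finset.induction_on with
  | empty => simp [ordFrac_one']
  | insert i s hi IH =>
    rw [Finset.prod_insert hi, Finset.sum_insert hi,
      ordFrac_mul' R K (hg i (Finset.mem_insert_self i s))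
        (Finset.prod_ne_zero_iff.mpr fun j hj => hg j (Finset.mem_insert_of_mem hj)),
      IH fun j hj => hg j (Finset.mem_insert_of_mem hj)]

end OrdFrac

section Sym

variable {A B : Type u} [CommRing A] [CommRing B] [Algebra A B] (q : Ideal A) [q.IsPrime]
  (Q : Type u) [CommRing Q] [Algebra B Q]
  [IsLocalization (Algebra.algebraMapSubmonoid B q.primeCompl) Q]

omit [Algebra A B] [IsLocalization (Algebra.algebraMapSubmonoid B q.primeCompl) Q] in
theorem isUnit_algebraMap_of_notMem (𝔫 : MaximalSpectrum Q) (y : B)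
    (hy : y ∉ 𝔫.asIdeal.comap (algebraMap B Q)) :
    IsUnit (algebraMap B (Localization.AtPrime 𝔫.asIdeal) y) := by
  rw [IsScalarTower.algebraMap_apply B Q (Localization.AtPrime 𝔫.asIdeal)]
  exact IsLocalization.map_units (M := 𝔫.asIdeal.primeCompl) (Localization.AtPrime 𝔫.asIdeal)
    ⟨algebraMap B Q y, hy⟩

variable [Algebra (Localization.AtPrime q) Q] [Algebra A Q]
  [IsScalarTower A (Localization.AtPrime q) Q] [IsScalarTower A B Q]

theorem ordFrac_norm_unit [IsNoetherianRing A] [IsLocalRing A] [IsLocalRing B] [Module.Finite A B]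
    (hinj : Function.Injective (algebraMap A B))
    (hres : Function.Surjective (algebraMap A (ResidueField B)))
    (hq : ringKrullDim (A ⧸ q) = 1) (𝔫 : MaximalSpectrum Q)
    [IsLocalHom (algebraMap (Localization.AtPrime q) (Localization.AtPrime 𝔫.asIdeal))]
    [Module.Finite q.ResidueField (ResidueField (Localization.AtPrime 𝔫.asIdeal))]
    (c w : B) (hc : c ∉ 𝔫.asIdeal.comap (algebraMap B Q))
    (hw : w ∉ 𝔫.asIdeal.comap (algebraMap B Q))
    (u : (Localization.AtPrime 𝔫.asIdeal)ˣ)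
    (hu : (u : Localization.AtPrime 𝔫.asIdeal) * algebraMap B (Localization.AtPrime 𝔫.asIdeal) c =
      algebraMap B (Localization.AtPrime 𝔫.asIdeal) w) :
    Algebra.norm q.ResidueField (residue (Localization.AtPrime 𝔫.asIdeal) u) ≠ 0 ∧
    CycAlg.ordFrac (A ⧸ q) q.ResidueField
      (Algebra.norm q.ResidueField (residue (Localization.AtPrime 𝔫.asIdeal) u)) =
      ((Ring.ord (B ⧸ 𝔫.asIdeal.comap (algebraMap B Q))
        (Ideal.Quotient.mk (𝔫.asIdeal.comap (algebraMap B Q)) w)).toNat : ℤ) -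
      ((Ring.ord (B ⧸ 𝔫.asIdeal.comap (algebraMap B Q))
        (Ideal.Quotient.mk (𝔫.asIdeal.comap (algebraMap B Q)) c)).toNat : ℤ) := by
  have hne : ∀ z : Localization.AtPrime 𝔫.asIdeal, IsUnit z →
      Algebra.norm q.ResidueField (residue (Localization.AtPrime 𝔫.asIdeal) z) ≠ 0 := by
    intro z hz
    rw [Algebra.norm_ne_zero_iff]
    exact (residue_ne_zero_iff_isUnit _).mpr hz
  have hcU := isUnit_algebraMap_of_notMem Q 𝔫 c hc
  have h1 := normlen q Q hinj hres hq 𝔫 c hc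
  have h2 := normlen q Q hinj hres hq 𝔫 w hw
  have h3 := congrArg (fun z => Algebra.norm q.ResidueField
    (residue (Localization.AtPrime 𝔫.asIdeal) z)) hu
  simp only [map_mul] at h3
  have h4 := ordFrac_mul' (A ⧸ q) q.ResidueField (hne _ u.isUnit) (hne _ hcU)
  rw [h3, h1, h2] at h4
  exact ⟨hne _ u.isUnit, by omega⟩

theorem ordFrac_localFactor [IsNoetherianRing A] [IsLocalRing A] [IsLocalRing B]
    [Module.Finite A B] (hinj : Function.Injective (algebraMap A B))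
    (hres : Function.Surjective (algebraMap A (ResidueField B)))
    (hq : ringKrullDim (A ⧸ q) = 1) (𝔫 : MaximalSpectrum Q)
    [IsLocalHom (algebraMap (Localization.AtPrime q) (Localization.AtPrime 𝔫.asIdeal))]
    [Module.Finite q.ResidueField (ResidueField (Localization.AtPrime 𝔫.asIdeal))]
    (ca ua cb ub : B) (hca : ca ∉ 𝔫.asIdeal.comap (algebraMap B Q))
    (hua : ua ∉ 𝔫.asIdeal.comap (algebraMap B Q))
    (hcb : cb ∉ 𝔫.asIdeal.comap (algebraMap B Q))
    (hub : ub ∉ 𝔫.asIdeal.comap (algebraMap B Q))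
    (u v : (Localization.AtPrime 𝔫.asIdeal)ˣ)
    (hu : (u : Localization.AtPrime 𝔫.asIdeal) * algebraMap B (Localization.AtPrime 𝔫.asIdeal) ca =
      algebraMap B (Localization.AtPrime 𝔫.asIdeal) ua)
    (hv : (v : Localization.AtPrime 𝔫.asIdeal) * algebraMap B (Localization.AtPrime 𝔫.asIdeal) cb =
      algebraMap B (Localization.AtPrime 𝔫.asIdeal) ub) (e f m : ℕ) :
    CycAlg.ordFrac (A ⧸ q) q.ResidueField
      ((Algebra.norm q.ResidueField
        ((-1 : ResidueField (Localization.AtPrime 𝔫.asIdeal)) ^ (e * f) *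
          residue (Localization.AtPrime 𝔫.asIdeal) (u : Localization.AtPrime 𝔫.asIdeal) ^ f *
          (residue (Localization.AtPrime 𝔫.asIdeal) (v : Localization.AtPrime 𝔫.asIdeal) ^ e)⁻¹)) ^ m) =
      (m : ℤ) * ((f : ℤ) *
        (((Ring.ord (B ⧸ 𝔫.asIdeal.comap (algebraMap B Q))
          (Ideal.Quotient.mk (𝔫.asIdeal.comap (algebraMap B Q)) ua)).toNat : ℤ) -
        ((Ring.ord (B ⧸ 𝔫.asIdeal.comap (algebraMap B Q))
          (Ideal.Quotient.mk (𝔫.asIdeal.comap (algebraMap B Q)) ca)).toNat : ℤ)) -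
        (e : ℤ) *
        (((Ring.ord (B ⧸ 𝔫.asIdeal.comap (algebraMap B Q))
          (Ideal.Quotient.mk (𝔫.asIdeal.comap (algebraMap B Q)) ub)).toNat : ℤ) -
        ((Ring.ord (B ⧸ 𝔫.asIdeal.comap (algebraMap B Q))
          (Ideal.Quotient.mk (𝔫.asIdeal.comap (algebraMap B Q)) cb)).toNat : ℤ))) := by
  obtain ⟨hU, hUo⟩ := ordFrac_norm_unit q Q hinj hres hq 𝔫 ca ua hca hua u hu
  obtain ⟨hV, hVo⟩ := ordFrac_norm_unit q Q hinj hres hq 𝔫 cb ub hcb hub v hv
  have hW : Algebra.norm q.ResidueField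
      ((-1 : ResidueField (Localization.AtPrime 𝔫.asIdeal)) ^ (e * f)) = 1 ∨
      Algebra.norm q.ResidueField
      ((-1 : ResidueField (Localization.AtPrime 𝔫.asIdeal)) ^ (e * f)) = -1 := by
    rw [← mul_self_eq_one_iff, ← map_mul, ← mul_pow, neg_mul_neg, one_mul, one_pow, map_one]
  have hN : Algebra.norm q.ResidueField
        ((-1 : ResidueField (Localization.AtPrime 𝔫.asIdeal)) ^ (e * f) *
          residue (Localization.AtPrime 𝔫.asIdeal) (u : Localization.AtPrime 𝔫.asIdeal) ^ f *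
          (residue (Localization.AtPrime 𝔫.asIdeal) (v : Localization.AtPrime 𝔫.asIdeal) ^ e)⁻¹) =
      Algebra.norm q.ResidueField
        ((-1 : ResidueField (Localization.AtPrime 𝔫.asIdeal)) ^ (e * f)) *
      Algebra.norm q.ResidueField
        (residue (Localization.AtPrime 𝔫.asIdeal) (u : Localization.AtPrime 𝔫.asIdeal)) ^ f *
      (Algebra.norm q.ResidueField
        (residue (Localization.AtPrime 𝔫.asIdeal) (v : Localization.AtPrime 𝔫.asIdeal)) ^ e)⁻¹ := by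
    have hx0 : residue (Localization.AtPrime 𝔫.asIdeal) (v : Localization.AtPrime 𝔫.asIdeal) ≠ 0 :=
      (residue_ne_zero_iff_isUnit _).mpr v.isUnit
    generalize residue (Localization.AtPrime 𝔫.asIdeal) (v : Localization.AtPrime 𝔫.asIdeal) = x
      at hx0 ⊢
    generalize residue (Localization.AtPrime 𝔫.asIdeal) (u : Localization.AtPrime 𝔫.asIdeal) = y
    have hinv : Algebra.norm q.ResidueField (x ^ e)⁻¹ =
        (Algebra.norm q.ResidueField x ^ e)⁻¹ := by
      apply eq_inv_of_mul_eq_one_left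
      rw [← map_pow, ← map_mul, inv_mul_cancel₀ (pow_ne_zero _ hx0), map_one]
    rw [map_mul, map_mul, hinv, map_pow _ y f]
  rw [hN, ordFrac_symK (A ⧸ q) q.ResidueField _ _ _ hU hV hW e f m, hUo, hVo]

omit [IsLocalization (Algebra.algebraMapSubmonoid B q.primeCompl) Q] in
theorem tower_eq (𝔫 : MaximalSpectrum Q) (z : A) :
    algebraMap (Localization.AtPrime q) (Localization.AtPrime 𝔫.asIdeal)
      (algebraMap A (Localization.AtPrime q) z) =
    algebraMap B (Localization.AtPrime 𝔫.asIdeal) (algebraMap A B z) := by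
  rw [IsScalarTower.algebraMap_apply (Localization.AtPrime q) Q (Localization.AtPrime 𝔫.asIdeal),
    ← IsScalarTower.algebraMap_apply A (Localization.AtPrime q) Q,
    IsScalarTower.algebraMap_apply A B Q,
    ← IsScalarTower.algebraMap_apply B Q (Localization.AtPrime 𝔫.asIdeal)]

theorem unit_div_spec {L : Type*} [CommRing L] {c w : L} (hc : IsUnit c) (hw : IsUnit w) :
    ((hw.unit * hc.unit⁻¹ : Lˣ) : L) * c = w := by
  have h1 : (hc.unit : L) = c := hc.unit_spec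
  calc ((hw.unit * hc.unit⁻¹ : Lˣ) : L) * c
      = ((hw.unit * hc.unit⁻¹ : Lˣ) : L) * (hc.unit : L) := by rw [h1]
    _ = w := by rw [Units.val_mul, mul_assoc, Units.inv_mul, mul_one, hw.unit_spec]

theorem ord_quot_congr {B : Type u} [CommRing B] {I J : Ideal B} (h : I = J) (x : B) :
    Ring.ord (B ⧸ I) (Ideal.Quotient.mk I x) = Ring.ord (B ⧸ J) (Ideal.Quotient.mk J x) := by
  subst h; rfl

/-- The contribution of a prime `p` of `B`. -/
noncomputable def Fterm {B : Type u} [CommRing B] (π₁ ca ua cb ub : PrimeSpectrum B → B)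
    (e f : PrimeSpectrum B → ℕ) (p : PrimeSpectrum B) : ℤ :=
  ((Ring.ord (Localization.AtPrime p.asIdeal)
      (algebraMap B (Localization.AtPrime p.asIdeal) (π₁ p))).toNat : ℤ) *
    ((f p : ℤ) * (((Ring.ord (B ⧸ p.asIdeal) (Ideal.Quotient.mk p.asIdeal (ua p))).toNat : ℤ) -
        ((Ring.ord (B ⧸ p.asIdeal) (Ideal.Quotient.mk p.asIdeal (ca p))).toNat : ℤ)) -
      (e p : ℤ) * (((Ring.ord (B ⧸ p.asIdeal) (Ideal.Quotient.mk p.asIdeal (ub p))).toNat : ℤ) -
        ((Ring.ord (B ⧸ p.asIdeal) (Ideal.Quotient.mk p.asIdeal (cb p))).toNat : ℤ)))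

include Q in
theorem sym_formula [IsNoetherianRing A] [IsLocalRing A] [IsLocalRing B] [Module.Finite A B]
    (hinj : Function.Injective (algebraMap A B))
    (hres : Function.Surjective (algebraMap A (ResidueField B)))
    (hq1 : ringKrullDim (Localization.AtPrime q) = 1) (hq : ringKrullDim (A ⧸ q) = 1)
    (a b : A) (ha : a ∈ nonZeroDivisors A) (hb : b ∈ nonZeroDivisors A)
    (x : A) (hxq : x ∈ q) (hx : x ∈ nonZeroDivisors A)
    (hxB : ∀ y : B, ∃ r : A, algebraMap A B r = x • y)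
    (π₁ ca ua cb ub : PrimeSpectrum B → B) (e f : PrimeSpectrum B → ℕ)
    (hnice : ∀ p : PrimeSpectrum B, p.asIdeal.comap (algebraMap A B) = q →
      ca p ∉ p.asIdeal ∧ ua p ∉ p.asIdeal ∧ cb p ∉ p.asIdeal ∧ ub p ∉ p.asIdeal ∧
      ca p * algebraMap A B a = ua p * π₁ p ^ e p ∧
      cb p * algebraMap A B b = ub p * π₁ p ^ f p ∧
      algebraMap B (Localization.AtPrime p.asIdeal) (π₁ p) ∈
        nonZeroDivisors (Localization.AtPrime p.asIdeal)) :
    CycAlg.ordFrac (A ⧸ q) q.ResidueField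
      (CycAlg.tameSymbol (Localization.AtPrime q) (algebraMap A (Localization.AtPrime q) a)
        (algebraMap A (Localization.AtPrime q) b)) =
      ∑ᶠ (p : PrimeSpectrum B) (_ : p.asIdeal.comap (algebraMap A B) = q),
        Fterm π₁ ca ua cb ub e f p := by
  classical
  have hFE := isFinExt_loc q Q hinj hq1 x hxq hx hxB
  haveI : Module.Finite (Localization.AtPrime q) Q := hFE.2.1
  haveI hloc : ∀ 𝔫 : MaximalSpectrum Q,
      IsLocalHom (algebraMap (Localization.AtPrime q) (Localization.AtPrime 𝔫.asIdeal)) :=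
    fun 𝔫 => isLocalHom_of_finite 𝔫
  haveI hfinres : ∀ 𝔫 : MaximalSpectrum Q, Module.Finite q.ResidueField
      (ResidueField (Localization.AtPrime 𝔫.asIdeal)) :=
    fun 𝔫 => Groth.Agent.H87.LenFinsum.finite_residueField 𝔫
  haveI : Algebra.IsIntegral A B := Algebra.IsIntegral.of_finite A B
  obtain ⟨σ, hσ⟩ := maxSpec_fiber (A := A) (B := B) q Q
  have hpeq : ∀ 𝔫 : MaximalSpectrum Q,
      (σ 𝔫).1.asIdeal = 𝔫.asIdeal.comap (algebraMap B Q) := fun 𝔫 => (hσ 𝔫).1
  have hN := fun 𝔫 : MaximalSpectrum Q => hnice (σ 𝔫).1 (σ 𝔫).2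
  have hU : ∀ (𝔫 : MaximalSpectrum Q) (y : B), y ∉ (σ 𝔫).1.asIdeal →
      IsUnit (algebraMap B (Localization.AtPrime 𝔫.asIdeal) y) := fun 𝔫 y hy =>
    isUnit_algebraMap_of_notMem Q 𝔫 y (by rw [← hpeq]; exact hy)
  have hπmem : ∀ 𝔫 : MaximalSpectrum Q,
      algebraMap B (Localization.AtPrime 𝔫.asIdeal) (π₁ (σ 𝔫).1) ∈
        nonZeroDivisors (Localization.AtPrime 𝔫.asIdeal) := by
    intro 𝔫
    obtain ⟨ε⟩ := (hσ 𝔫).2
    refine mem_nonZeroDivisors_of_injective (f := ε.toAlgHom.toRingHom) ε.injective ?_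
    have : ε.toAlgHom.toRingHom (algebraMap B (Localization.AtPrime 𝔫.asIdeal) (π₁ (σ 𝔫).1)) =
        algebraMap B (Localization.AtPrime (σ 𝔫).1.asIdeal) (π₁ (σ 𝔫).1) := ε.commutes _
    rw [this]
    exact (hN 𝔫).2.2.2.2.2.2
  have hord : ∀ 𝔫 : MaximalSpectrum Q,
      Ring.ord (Localization.AtPrime 𝔫.asIdeal)
        (algebraMap B (Localization.AtPrime 𝔫.asIdeal) (π₁ (σ 𝔫).1)) =
      Ring.ord (Localization.AtPrime (σ 𝔫).1.asIdeal)
        (algebraMap B (Localization.AtPrime (σ 𝔫).1.asIdeal) (π₁ (σ 𝔫).1)) := by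
    intro 𝔫
    obtain ⟨ε⟩ := (hσ 𝔫).2
    have h := Groth.Agent.H75.TameP24.ord_ringEquiv ε.toRingEquiv
      (algebraMap B (Localization.AtPrime 𝔫.asIdeal) (π₁ (σ 𝔫).1))
    rw [← h]
    congr 1
    exact ε.commutes _
  -- the units
  set U₁ : (𝔫 : MaximalSpectrum Q) → (Localization.AtPrime 𝔫.asIdeal)ˣ := fun 𝔫 =>
    (hU 𝔫 (ua (σ 𝔫).1) (hN 𝔫).2.1).unit * ((hU 𝔫 (ca (σ 𝔫).1) (hN 𝔫).1).unit)⁻¹ with hU₁
  set U₂ : (𝔫 : MaximalSpectrum Q) → (Localization.AtPrime 𝔫.asIdeal)ˣ := fun 𝔫 =>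
    (hU 𝔫 (ub (σ 𝔫).1) (hN 𝔫).2.2.2.1).unit * ((hU 𝔫 (cb (σ 𝔫).1) (hN 𝔫).2.2.1).unit)⁻¹ with hU₂
  have hu₁ : ∀ 𝔫, ((U₁ 𝔫 : (Localization.AtPrime 𝔫.asIdeal)ˣ) : Localization.AtPrime 𝔫.asIdeal) *
      algebraMap B (Localization.AtPrime 𝔫.asIdeal) (ca (σ 𝔫).1) =
      algebraMap B (Localization.AtPrime 𝔫.asIdeal) (ua (σ 𝔫).1) := by
    intro 𝔫
    exact unit_div_spec _ _
  have hu₂ : ∀ 𝔫, ((U₂ 𝔫 : (Localization.AtPrime 𝔫.asIdeal)ˣ) : Localization.AtPrime 𝔫.asIdeal) *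
      algebraMap B (Localization.AtPrime 𝔫.asIdeal) (cb (σ 𝔫).1) =
      algebraMap B (Localization.AtPrime 𝔫.asIdeal) (ub (σ 𝔫).1) := by
    intro 𝔫
    exact unit_div_spec _ _
  have hfac : ∀ (𝔫 : MaximalSpectrum Q) (z c w : B) (k : ℕ)
      (V : (Localization.AtPrime 𝔫.asIdeal)ˣ)
      (_ : IsUnit (algebraMap B (Localization.AtPrime 𝔫.asIdeal) c))
      (_ : (V : Localization.AtPrime 𝔫.asIdeal) * algebraMap B (Localization.AtPrime 𝔫.asIdeal) c =
        algebraMap B (Localization.AtPrime 𝔫.asIdeal) w)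
      (_ : c * z = w * π₁ (σ 𝔫).1 ^ k),
      algebraMap B (Localization.AtPrime 𝔫.asIdeal) z =
        (V : Localization.AtPrime 𝔫.asIdeal) *
          algebraMap B (Localization.AtPrime 𝔫.asIdeal) (π₁ (σ 𝔫).1) ^ k := by
    intro 𝔫 z c w k V hc hV hz
    have h := congrArg (algebraMap B (Localization.AtPrime 𝔫.asIdeal)) hz
    rw [map_mul, map_mul, map_pow, ← hV] at h
    have h' : algebraMap B (Localization.AtPrime 𝔫.asIdeal) c *
        algebraMap B (Localization.AtPrime 𝔫.asIdeal) z =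
        algebraMap B (Localization.AtPrime 𝔫.asIdeal) c *
          ((V : Localization.AtPrime 𝔫.asIdeal) *
          algebraMap B (Localization.AtPrime 𝔫.asIdeal) (π₁ (σ 𝔫).1) ^ k) := by
      rw [h]; ring
    exact hc.mul_left_cancel h'
  let D : TameData (Localization.AtPrime q) (algebraMap A (Localization.AtPrime q) a)
      (algebraMap A (Localization.AtPrime q) b) :=
    { B := Q
      isFinExt := hFE
      isLocalHom := hloc
      π := fun 𝔫 => algebraMap B (Localization.AtPrime 𝔫.asIdeal) (π₁ (σ 𝔫).1)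
      π_mem := hπmem
      u₁ := U₁
      u₂ := U₂
      e₁ := fun 𝔫 => e (σ 𝔫).1
      e₂ := fun 𝔫 => f (σ 𝔫).1
      fac₁ := fun 𝔫 => by
        rw [tower_eq (B := B) q Q 𝔫 a]
        exact hfac 𝔫 _ _ _ _ _ (hU 𝔫 _ (hN 𝔫).1) (hu₁ 𝔫) (hN 𝔫).2.2.2.2.1
      fac₂ := fun 𝔫 => by
        rw [tower_eq (B := B) q Q 𝔫 b]
        exact hfac 𝔫 _ _ _ _ _ (hU 𝔫 _ (hN 𝔫).2.2.1) (hu₂ 𝔫) (hN 𝔫).2.2.2.2.2.1 }
  have ha' : algebraMap A (Localization.AtPrime q) a ∈ nonZeroDivisors (Localization.AtPrime q) :=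
    IsLocalization.map_nonZeroDivisors_le q.primeCompl _ ⟨a, ha, rfl⟩
  have hb' : algebraMap A (Localization.AtPrime q) b ∈ nonZeroDivisors (Localization.AtPrime q) :=
    IsLocalization.map_nonZeroDivisors_le q.primeCompl _ ⟨b, hb, rfl⟩
  rw [tameSymbol_eq hq1 ha' hb' D]
  haveI : Finite (MaximalSpectrum Q) := finite_maximalSpectrum (A := Localization.AtPrime q) Q
  letI := Fintype.ofFinite (MaximalSpectrum Q)
  unfold TameData.value
  rw [finprod_eq_prod_of_fintype, ordFrac_prod _ _ _ _ (fun 𝔫 _ => by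
    rw [localFactor_eq]; exact lf_ne_zero _ _ _ _ _)]
  rw [← finsum_subtype_eq_finsum_cond, ← finsum_comp_equiv σ, finsum_eq_sum_of_fintype]
  refine Finset.sum_congr rfl fun 𝔫 _ => ?_
  have h := ordFrac_localFactor q Q hinj hres hq 𝔫 (ca (σ 𝔫).1) (ua (σ 𝔫).1) (cb (σ 𝔫).1)
    (ub (σ 𝔫).1) (by rw [← hpeq]; exact (hN 𝔫).1) (by rw [← hpeq]; exact (hN 𝔫).2.1)
    (by rw [← hpeq]; exact (hN 𝔫).2.2.1) (by rw [← hpeq]; exact (hN 𝔫).2.2.2.1)
    (U₁ 𝔫) (U₂ 𝔫) (hu₁ 𝔫) (hu₂ 𝔫) (e (σ 𝔫).1) (f (σ 𝔫).1)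
    (Ring.ord (Localization.AtPrime 𝔫.asIdeal)
      (algebraMap B (Localization.AtPrime 𝔫.asIdeal) (π₁ (σ 𝔫).1))).toNat
  unfold Fterm
  rw [← hord 𝔫, ord_quot_congr (hpeq 𝔫), ord_quot_congr (hpeq 𝔫), ord_quot_congr (hpeq 𝔫),
    ord_quot_congr (hpeq 𝔫)]
  exact h

end Sym

end Groth.Agent.H34.Kato
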