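import Mathlib
import Groth.Prelude.Def_Tame
import Groth.Agent.H34.KatoHerb
import Groth.Agent.H34.KatoGlob
import Groth.Agent.H34.KatoSym
import Groth.Agent.H71.TameP35
import Groth.Agent.H34.KatoPieces

set_option autoImplicit false
set_option linter.style.haveILetI false

/-!
# Kato's key lemma (S1851): assembly
-/

namespace Groth.Agent.H34.Kato

open IsLocalRing Pointwise CycAlg
open Groth.Agent.H34.KatoPieces

universe u

theorem main_of_ext (A : Type u) [CommRing A] [IsNoetherianRing A] [IsLocalRing A]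
    (hA : ringKrullDim A = 2) (a b : A) (ha : a ∈ nonZeroDivisors A) (hb : b ∈ nonZeroDivisors A)
    (B : Type u) [CommRing B] [Algebra A B] [IsLocalRing B]
    (hinj : Function.Injective (algebraMap A B)) [Module.Finite A B]
    (hres : Function.Surjective (algebraMap A (ResidueField B)))
    (htB : algebraMap A B (a * b) ∈ nonZeroDivisors B)
    (hN : ∃ N : ℕ, ∀ x : B, algebraMap A B ((a * b) ^ N) * x ∈ (algebraMap A B).range)
    (hmono : ∀ (p : Ideal B) [p.IsPrime], p ≠ maximalIdeal B → algebraMap A B (a * b) ∈ p →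
        ∃ π ∈ nonZeroDivisors (Localization.AtPrime p),
          ∃ (u v : (Localization.AtPrime p)ˣ) (e f : ℕ),
          algebraMap B (Localization.AtPrime p) (algebraMap A B a) = u * π ^ e ∧
          algebraMap B (Localization.AtPrime p) (algebraMap A B b) = v * π ^ f) :
    ∑ᶠ (q : PrimeSpectrum A) (_ : q.asIdeal.height = 1),
      CycAlg.ordFrac (A ⧸ q.asIdeal) q.asIdeal.ResidueField
        (CycAlg.tameSymbol (Localization.AtPrime q.asIdeal)
          (algebraMap A (Localization.AtPrime q.asIdeal) a)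
          (algebraMap A (Localization.AtPrime q.asIdeal) b)) = 0 := by
  classical
  haveI : IsNoetherianRing B := IsNoetherianRing.of_finite A B
  haveI : Algebra.IsIntegral A B := Algebra.IsIntegral.of_finite A B
  have hdimB : ringKrullDim B ≤ 2 :=
    (Groth.Agent.H71.TameP35.ringKrullDim_le_of_isIntegral (R := A) (S := B)).trans hA.le
  set a' := algebraMap A B a with ha'def
  set b' := algebraMap A B b with hb'def
  have htB' : a' * b' ∈ nonZeroDivisors B := by rw [ha'def, hb'def, ← map_mul]; exact htB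
  have ha' : a' ∈ nonZeroDivisors B := (mul_mem_nonZeroDivisors.mp htB').1
  have hb' : b' ∈ nonZeroDivisors B := (mul_mem_nonZeroDivisors.mp htB').2
  -- comap of the maximal ideal
  have hcomax : (maximalIdeal B).comap (algebraMap A B) = maximalIdeal A :=
    Groth.Agent.H87.LenFinsum.comap_eq_maximalIdeal (A := A) ⟨maximalIdeal B, inferInstance⟩
  have hmax_of_comap : ∀ p : PrimeSpectrum B,
      p.asIdeal.comap (algebraMap A B) = maximalIdeal A → p.asIdeal = maximalIdeal B := by
    intro p hp
    have : (p.asIdeal.comap (algebraMap A B)).IsMaximal := hp ▸ inferInstance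
    exact eq_maximalIdeal (Ideal.isMaximal_of_isIntegral_of_isMaximal_comap (R := A) p.asIdeal this)
  -- the set of relevant primes of `B`
  set PB : Set (PrimeSpectrum B) := {p | a' * b' ∈ p.asIdeal ∧ p.asIdeal ≠ maximalIdeal B} with hPB
  have hstruct : ∀ p ∈ PB, p.asIdeal ∈ (Ideal.span {a' * b'}).minimalPrimes ∧
      (∀ p' : Ideal B, p'.IsPrime → p.asIdeal < p' → p' = maximalIdeal B) ∧
      (ringKrullDim B = 2 → p.asIdeal.height = 1) :=
    fun p hp => dim_two_structure B hdimB (a' * b') htB' p.asIdeal hp.1 hp.2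
  have hPfin : PB.Finite := by
    have hfin := Ideal.finite_minimalPrimes_of_isNoetherianRing B (Ideal.span {a' * b'})
    refine (hfin.preimage (f := fun p : PrimeSpectrum B => p.asIdeal)
      (fun p _ p' _ h => PrimeSpectrum.ext h)).subset ?_
    exact fun p hp => (hstruct p hp).1
  -- nice data
  have hex : ∀ p : PrimeSpectrum B, ∃ (π₁ ca ua cb ub : B) (e f : ℕ), p ∈ PB →
      (ca ∉ p.asIdeal ∧ ua ∉ p.asIdeal ∧ cb ∉ p.asIdeal ∧ ub ∉ p.asIdeal ∧
      ca * a' = ua * π₁ ^ e ∧ cb * b' = ub * π₁ ^ f ∧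
      algebraMap B (Localization.AtPrime p.asIdeal) π₁ ∈
        nonZeroDivisors (Localization.AtPrime p.asIdeal)) := by
    intro p
    by_cases hp : p ∈ PB
    · obtain ⟨π₁, ca, ua, cb, ub, e, f, h⟩ := nice_global p.asIdeal a' b'
        (hmono p.asIdeal hp.2 (by rw [map_mul]; exact hp.1))
      exact ⟨π₁, ca, ua, cb, ub, e, f, fun _ => h⟩
    · exact ⟨0, 0, 0, 0, 0, 0, 0, fun h => absurd h hp⟩
  choose π₁ ca ua cb ub e f hnice using hex
  set F : PrimeSpectrum B → ℤ := Fterm π₁ ca ua cb ub e f with hF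
  set g : PrimeSpectrum B → PrimeSpectrum A := PrimeSpectrum.comap (algebraMap A B) with hg
  have hg_as : ∀ p : PrimeSpectrum B, (g p).asIdeal = p.asIdeal.comap (algebraMap A B) :=
    fun p => rfl
  have habNZ : a * b ∈ nonZeroDivisors A := mul_mem ha hb
  -- membership of `t` transfers
  have htmem : ∀ p : PrimeSpectrum B, a' * b' ∈ p.asIdeal ↔ a * b ∈ (g p).asIdeal := by
    intro p
    rw [hg_as, Ideal.mem_comap, map_mul]
  -- Step A
  have hStepA : ∀ q : PrimeSpectrum A,
      (∑ᶠ (_ : q.asIdeal.height = 1),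
        CycAlg.ordFrac (A ⧸ q.asIdeal) q.asIdeal.ResidueField
          (CycAlg.tameSymbol (Localization.AtPrime q.asIdeal)
            (algebraMap A (Localization.AtPrime q.asIdeal) a)
            (algebraMap A (Localization.AtPrime q.asIdeal) b))) =
      ∑ᶠ (p : PrimeSpectrum B) (_ : g p = q ∧ p ∈ PB), F p := by
    intro q
    rw [finsum_eq_if]
    split_ifs with hq1
    · by_cases htq : a * b ∈ q.asIdeal
      · -- the main case
        obtain ⟨hqm, hqdim⟩ := height_one_ne_maximal A hA q.asIdeal hq1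
        have hqloc : ringKrullDim (Localization.AtPrime q.asIdeal) = 1 := by
          rw [IsLocalization.AtPrime.ringKrullDim_eq_height q.asIdeal, hq1]; rfl
        obtain ⟨N, hN⟩ := hN
        have hxB : ∀ y : B, ∃ r : A, algebraMap A B r = (a * b) ^ (N + 1) • y := by
          intro y
          obtain ⟨r, hr⟩ := hN y
          refine ⟨(a * b) * r, ?_⟩
          rw [map_mul (algebraMap A B) (a * b) r, hr, Algebra.smul_def, pow_succ',
            map_mul (algebraMap A B) (a * b) ((a * b) ^ N), mul_assoc]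
        have hcond : ∀ p : PrimeSpectrum B, p.asIdeal.comap (algebraMap A B) = q.asIdeal →
            p ∈ PB := by
          intro p hp
          refine ⟨(htmem p).mpr (by rw [hg_as, hp]; exact htq), fun hpm => hqm ?_⟩
          rw [← hp, hpm, hcomax]
        have h := sym_formula (A := A) (B := B) q.asIdeal
          (Localization (Algebra.algebraMapSubmonoid B q.asIdeal.primeCompl)) hinj hres hqloc
          hqdim a b ha hb ((a * b) ^ (N + 1)) (Ideal.pow_mem_of_mem _ htq _ (Nat.succ_pos N))
          (pow_mem habNZ _) hxB π₁ ca ua cb ub e f (fun p hp => hnice p (hcond p hp))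
        rw [h]
        refine finsum_congr fun p => ?_
        refine finsum_congr_Prop ?_ fun _ => rfl
        refine propext ⟨fun hp => ⟨PrimeSpectrum.ext hp, hcond p hp⟩, fun hp => ?_⟩
        rw [← hg_as, hp.1]
      · rw [term_eq_zero A q hq1 a b htq]
        symm
        refine finsum_eq_zero_of_forall_eq_zero fun p => ?_
        rw [finsum_eq_if, if_neg]
        rintro ⟨hp1, hp2⟩
        exact absurd (hp1 ▸ (htmem p).mp hp2.1) htq
    · symm
      refine finsum_eq_zero_of_forall_eq_zero fun p => ?_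
      rw [finsum_eq_if, if_neg]
      rintro ⟨hp1, hp2⟩
      apply hq1
      have htq : a * b ∈ q.asIdeal := hp1 ▸ (htmem p).mp hp2.1
      have hqm : q.asIdeal ≠ maximalIdeal A := by
        intro hqm
        apply hp2.2
        apply hmax_of_comap p
        rw [← hg_as, hp1, hqm]
      exact (dim_two_structure A hA.le (a * b) habNZ q.asIdeal htq hqm).2.2 hA
  rw [finsum_congr hStepA, finsum_fiberwise PB hPfin g F]
  -- Step C
  have hStepC : ∀ p ∈ PB, F p = - herbrand B
      (a' • LinearMap.id : (B ⧸ Pp p.asIdeal (a' * b')) →ₗ[B] (B ⧸ Pp p.asIdeal (a' * b')))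
      (b' • LinearMap.id) := by
    intro p hp
    obtain ⟨hmin, hp1, -⟩ := hstruct p hp
    obtain ⟨h1, h2, h3, h4, h5, h6, h7⟩ := hnice p hp
    have h := (herb_formula p.asIdeal hp1 hp.2 a' b' ha' hb' hmin (π₁ p) (ca p) (ua p) (cb p)
      (ub p) (e p) (f p) h1 h2 h3 h4 h5 h6 h7).2
    rw [h, neg_neg]
    rfl
  -- Step D
  rw [finsum_mem_eq_finite_toFinset_sum _ hPfin]
  have hs1 : ∀ p ∈ hPfin.toFinset, p ∈ PB := fun p hp => (Set.Finite.mem_toFinset hPfin).mp hp
  have hglob := glob B a' b' ha' hb' hPfin.toFinset (fun p hp => (hs1 p hp).1)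
    (fun q hq1 hq2 => (Set.Finite.mem_toFinset hPfin).mpr ⟨hq1, hq2⟩)
    (fun p hp p' hp' hle => by
      by_contra hne
      have hlt : p.asIdeal < p'.asIdeal := lt_of_le_of_ne hle (fun h => hne (PrimeSpectrum.ext h))
      exact (hs1 p' hp').2 ((hstruct p (hs1 p hp)).2.1 p'.asIdeal p'.isPrime hlt))
    (fun p hp => (hs1 p hp).2)
    (fun p => by
      obtain ⟨hmin, hp1, -⟩ := hstruct p.1 (hs1 p.1 p.2)
      obtain ⟨h1, h2, h3, h4, h5, h6, h7⟩ := hnice p.1 (hs1 p.1 p.2)
      have hself := self_mem_Pp p.1.asIdeal (a' * b')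
      refine ⟨?_, ?_⟩
      · rw [LinearMap.smul_comp, LinearMap.comp_smul, LinearMap.id_comp, smul_smul]
        exact smul_id_eq_zero p.1.asIdeal hself
      · rw [LinearMap.smul_comp, LinearMap.comp_smul, LinearMap.id_comp, smul_smul,
          mul_comm b' a']
        exact smul_id_eq_zero p.1.asIdeal hself)
    (fun p => by
      obtain ⟨hmin, hp1, -⟩ := hstruct p.1 (hs1 p.1 p.2)
      obtain ⟨h1, h2, h3, h4, h5, h6, h7⟩ := hnice p.1 (hs1 p.1 p.2)
      exact (herb_formula p.1.asIdeal hp1 (hs1 p.1 p.2).2 a' b' ha' hb' hmin (π₁ p.1) (ca p.1)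
        (ua p.1) (cb p.1) (ub p.1) (e p.1) (f p.1) h1 h2 h3 h4 h5 h6 h7).1)
  rw [← Finset.sum_coe_sort, Finset.sum_congr rfl (fun p _ => hStepC p.1 (hs1 p.1 p.2)),
    Finset.sum_neg_distrib, hglob, neg_zero]

theorem main (A : Type u) [CommRing A] [IsNoetherianRing A] [IsLocalRing A]
    (hA : ringKrullDim A = 2) (a b : A) (ha : a ∈ nonZeroDivisors A)
    (hb : b ∈ nonZeroDivisors A) :
    ∑ᶠ (q : PrimeSpectrum A) (_ : q.asIdeal.height = 1),
      CycAlg.ordFrac (A ⧸ q.asIdeal) q.asIdeal.ResidueField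
        (CycAlg.tameSymbol (Localization.AtPrime q.asIdeal)
          (algebraMap A (Localization.AtPrime q.asIdeal) a)
          (algebraMap A (Localization.AtPrime q.asIdeal) b)) = 0 := by
  by_cases hab : a * b ∈ maximalIdeal A
  · obtain ⟨B, _, _, _, hinj, hfin, hres, htB, hN, hmono⟩ := exists_ext A hA a b ha hb hab
    haveI := hfin
    exact main_of_ext A hA a b ha hb B hinj hres htB hN hmono
  · refine finsum_eq_zero_of_forall_eq_zero fun q => ?_
    rw [finsum_eq_if]
    split_ifs with hq1
    · exact term_eq_zero A q hq1 a b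
        (fun h => hab (le_maximalIdeal q.isPrime.ne_top h))
    · rfl

end Groth.Agent.H34.Kato
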