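import Groth.Agent.H34.KeyRelFin

/-!
# Commutativity of `c₁(L) ∩ c₁(N) ∩ -` (S1922) from the relative key formula
-/

set_option autoImplicit false
set_option linter.style.haveILetI false

universe u

open CategoryTheory AlgebraicGeometry TopologicalSpace Opposite

namespace Groth.Agent.H34.KeyRel

open Groth.Agent.H95.C1Cap (ordAt_one divFun_zpow finite_support_mul finsum_c1_sub)

variable {X : Scheme.{u}}

theorem finsum_exchange {ι κ : Type*} (F : ι → κ → ℤ) (Z : Finset ι) (E : Finset κ)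
    (h : ∀ i j, F i j ≠ 0 → i ∈ Z ∧ j ∈ E) :
    ∑ᶠ j, ∑ᶠ i, F i j = ∑ᶠ i, ∑ᶠ j, F i j := by
  have e1 : ∀ j, ∑ᶠ i, F i j = ∑ i ∈ Z, F i j := fun j =>
    finsum_eq_sum_of_support_subset _ (fun i hi => Finset.mem_coe.mpr (h i j hi).1)
  have e2 : ∀ i, ∑ᶠ j, F i j = ∑ j ∈ E, F i j := fun i =>
    finsum_eq_sum_of_support_subset _ (fun j hj => Finset.mem_coe.mpr (h i j hj).2)
  rw [finsum_congr e1, finsum_congr e2,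
    finsum_eq_sum_of_support_subset (s := E) _ ?_,
    finsum_eq_sum_of_support_subset (s := Z) _ ?_, Finset.sum_comm]
  · intro i hi
    by_contra hc
    apply hi
    refine Finset.sum_eq_zero (fun j _ => ?_)
    by_contra hne
    exact hc (Finset.mem_coe.mpr (h i j hne).1)
  · intro j hj
    by_contra hc
    apply hj
    refine Finset.sum_eq_zero (fun i _ => ?_)
    by_contra hne
    exact hc (Finset.mem_coe.mpr (h i j hne).2)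

/-- The points through `x` in the support of a cycle. -/
theorem finite_support_specializes (α : AlgebraicCycle X ℤ) (x : X) :
    {ζ : X | α ζ ≠ 0 ∧ ζ ⤳ x}.Finite := by
  classical
  have h := finite_support_mul α x (fun ζ => if ζ ⤳ x then 1 else 0)
    (fun ξ hn => if_neg hn)
  refine h.subset ?_
  rintro ζ ⟨h1, h2⟩
  show α ζ * (if ζ ⤳ x then 1 else 0) ≠ 0
  rw [if_pos h2, mul_one]
  exact h1

theorem secDivFun_ne_zero {δ : X → ℤ} {L : X.Modules} {ζ : X} {s : Cyc.secFibre L ζ} {ξ : X}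
    (h : Cyc.secDivFun δ L ζ s ξ ≠ 0) : ζ ⤳ ξ ∧ δ ξ + 1 = δ ζ := by
  classical
  by_contra hc
  apply h
  unfold Cyc.secDivFun
  rw [dif_neg hc]

/-- `c₁(M₂) ∩ (c₁(M₁) ∩ α)` as a sum over the components of `α`. -/
theorem c1Cap_c1Cap (δ : X → ℤ) (hX : Cyc.IsSetup X δ) {M₁ M₂ : X.Modules}
    (hM₁ : PicF.IsInvertible M₁) (α : AlgebraicCycle X ℤ)
    (a : (ζ : X) → Cyc.secFibre M₁ ζ) (ha : ∀ ζ, a ζ ≠ 0)
    (b : (ξ : X) → Cyc.secFibre M₂ ξ) (x : X) :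
    Cyc.c1CapFun δ M₂ (Cyc.c1CapFun δ M₁ ⇑α a) b x =
      ∑ᶠ ζ : X, α ζ * Cyc.c1CapFun δ M₂ (Cyc.secDivFun δ M₁ ζ (a ζ)) b x := by
  classical
  unfold Cyc.c1CapFun
  have hZ := finite_support_specializes α x
  have hE : (⋃ ζ ∈ {ζ : X | α ζ ≠ 0 ∧ ζ ⤳ x},
      {ξ : X | ξ ⤳ x ∧ Cyc.secDivFun δ M₁ ζ (a ζ) ξ ≠ 0}).Finite :=
    hZ.biUnion (fun ζ _ => finite_secDivFun δ hX hM₁ ζ (a ζ) (ha ζ) x)
  have e1 : ∀ ξ, (∑ᶠ ζ, α ζ * Cyc.secDivFun δ M₁ ζ (a ζ) ξ) * Cyc.secDivFun δ M₂ ξ (b ξ) x =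
      ∑ᶠ ζ, α ζ * Cyc.secDivFun δ M₁ ζ (a ζ) ξ * Cyc.secDivFun δ M₂ ξ (b ξ) x :=
    fun ξ => finsum_mul _ _
  have e2 : ∀ ζ, α ζ * ∑ᶠ ξ, Cyc.secDivFun δ M₁ ζ (a ζ) ξ * Cyc.secDivFun δ M₂ ξ (b ξ) x =
      ∑ᶠ ξ, α ζ * Cyc.secDivFun δ M₁ ζ (a ζ) ξ * Cyc.secDivFun δ M₂ ξ (b ξ) x := fun ζ => by
    rw [mul_finsum]
    exact finsum_congr (fun ξ => (mul_assoc _ _ _).symm)
  rw [finsum_congr e1, finsum_congr e2]
  refine finsum_exchange (fun ζ ξ => α ζ * Cyc.secDivFun δ M₁ ζ (a ζ) ξ *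
    Cyc.secDivFun δ M₂ ξ (b ξ) x) hZ.toFinset hE.toFinset (fun ζ ξ hne => ?_)
  have h1 : α ζ ≠ 0 := left_ne_zero_of_mul (left_ne_zero_of_mul hne)
  have h2 : Cyc.secDivFun δ M₁ ζ (a ζ) ξ ≠ 0 := right_ne_zero_of_mul (left_ne_zero_of_mul hne)
  have h3 : Cyc.secDivFun δ M₂ ξ (b ξ) x ≠ 0 := right_ne_zero_of_mul hne
  have h4 := (secDivFun_ne_zero h2).1
  have h5 := (secDivFun_ne_zero h3).1
  refine ⟨hZ.mem_toFinset.mpr ⟨h1, h4.trans h5⟩, hE.mem_toFinset.mpr ?_⟩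
  exact Set.mem_biUnion (show ζ ∈ {ζ : X | α ζ ≠ 0 ∧ ζ ⤳ x} from ⟨h1, h4.trans h5⟩) ⟨h5, h2⟩

theorem divFun_ne_zero {δ : X → ℤ} {ξ : X} {f : X.residueField ξ} {x : X}
    (h : Cyc.divFun δ ξ f x ≠ 0) : ξ ⤳ x ∧ δ x + 1 = δ ξ := by
  classical
  by_contra hc
  apply h
  unfold Cyc.divFun
  rw [dif_neg hc]

theorem divFun_one (δ : X → ℤ) (ξ x : X) : Cyc.divFun δ ξ (1 : X.residueField ξ) x = 0 := by
  classical
  unfold Cyc.divFun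
  split_ifs with h
  · exact ordAt_one h.1
  · rfl

/-- A weighted sum of divisors of locally finite families indexed by the components of a cycle
is rationally equivalent to zero. -/
theorem ratEquivZero_of_double_family (δ : X → ℤ) (k : ℤ) (α : AlgebraicCycle X ℤ)
    (hα : α ∈ Cyc.Zk X δ (k + 2)) (g : (ζ ξ : X) → X.residueField ξ)
    (hg0 : ∀ ζ ξ, g ζ ξ ≠ 0)
    (hglf : ∀ ζ (x : X), ∃ U : Set X, IsOpen U ∧ x ∈ U ∧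
      {ξ : X | g ζ ξ ≠ 1 ∧ (closure {ξ} ∩ U).Nonempty}.Finite)
    (hg1 : ∀ ζ ξ, g ζ ξ ≠ 1 → ζ ⤳ ξ ∧ δ ξ + 1 = δ ζ)
    (γ : AlgebraicCycle X ℤ)
    (hγ : ∀ x, γ x = ∑ᶠ ζ : X, α ζ * ∑ᶠ ξ : X, Cyc.divFun δ ξ (g ζ ξ) x) :
    Cyc.RatEquivZero δ k γ := by
  classical
  refine ⟨{p : X × X // α p.1 ≠ 0 ∧ g p.1 p.2 ≠ 1}, fun p => p.1.2,
    fun p => (g p.1.1 p.1.2) ^ (α p.1.1), ?_, ?_, ?_, ?_⟩
  · intro p
    show δ p.1.2 = k + 1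
    have h1 := (hg1 p.1.1 p.1.2 p.2.2).2
    have h2 : δ p.1.1 = k + 2 := by
      by_contra hne
      exact p.2.1 (hα p.1.1 hne)
    omega
  · intro p
    exact zpow_ne_zero _ (hg0 _ _)
  · intro x
    obtain ⟨t, ht, hfin⟩ := α.supportLocallyFiniteWithinDomain x (Set.mem_univ x)
    obtain ⟨U₀, hU₀t, hU₀o, hxU₀⟩ := mem_nhds_iff.mp ht
    have hZ₀ : {ζ : X | ζ ∈ U₀ ∧ α ζ ≠ 0}.Finite :=
      hfin.subset (fun ζ hζ => ⟨hU₀t hζ.1, hζ.2⟩)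
    choose W hWo hxW hWfin using fun ζ => hglf ζ x
    refine ⟨U₀ ∩ ⋂ ζ ∈ {ζ : X | ζ ∈ U₀ ∧ α ζ ≠ 0}, W ζ,
      hU₀o.inter (hZ₀.isOpen_biInter (fun ζ _ => hWo ζ)),
      ⟨hxU₀, Set.mem_iInter₂.mpr (fun ζ _ => hxW ζ)⟩, ?_⟩
    have hfinS : (⋃ ζ ∈ {ζ : X | ζ ∈ U₀ ∧ α ζ ≠ 0},
        (fun ξ => ((ζ, ξ) : X × X)) '' {ξ : X | g ζ ξ ≠ 1 ∧ (closure {ξ} ∩ W ζ).Nonempty}).Finite :=
      hZ₀.biUnion (fun ζ _ => (hWfin ζ).image _)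
    refine Set.Finite.subset (hfinS.preimage (Subtype.val_injective.injOn)) ?_
    rintro p ⟨z, hz1, hz2⟩
    have hspec : p.1.2 ⤳ z := specializes_iff_mem_closure.mpr hz1
    have hUopen : IsOpen (U₀ ∩ ⋂ ζ ∈ {ζ : X | ζ ∈ U₀ ∧ α ζ ≠ 0}, W ζ) :=
      hU₀o.inter (hZ₀.isOpen_biInter (fun ζ _ => hWo ζ))
    have hp2 := hspec.mem_open hUopen hz2
    have hp1 := ((hg1 p.1.1 p.1.2 p.2.2).1).mem_open hUopen hp2
    have hmem : p.1.1 ∈ {ζ : X | ζ ∈ U₀ ∧ α ζ ≠ 0} := ⟨hp1.1, p.2.1⟩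
    have hzW : z ∈ W p.1.1 := Set.mem_iInter₂.mp hz2.2 p.1.1 hmem
    exact Set.mem_preimage.mpr
      (Set.mem_biUnion hmem ⟨p.1.2, ⟨p.2.2, ⟨z, hz1, hzW⟩⟩, rfl⟩)
  · intro x
    rw [hγ x]
    -- the function on pairs
    let G : X × X → ℤ := fun q => Cyc.divFun δ q.2 ((g q.1 q.2) ^ (α q.1)) x
    have hGsupp : ∀ q, G q ≠ 0 → (α q.1 ≠ 0 ∧ q.1 ⤳ x) ∧ g q.1 q.2 ≠ 1 ∧ q.2 ⤳ x := by
      intro q hq
      have hq' : Cyc.divFun δ q.2 ((g q.1 q.2) ^ (α q.1)) x ≠ 0 := hq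
      have h1 : α q.1 ≠ 0 := by
        intro h0
        apply hq'
        rw [h0, zpow_zero]
        exact divFun_one δ q.2 x
      have h2 : g q.1 q.2 ≠ 1 := by
        intro h0
        apply hq'
        rw [h0, one_zpow]
        exact divFun_one δ q.2 x
      have h3 := (divFun_ne_zero hq').1
      exact ⟨⟨h1, ((hg1 _ _ h2).1).trans h3⟩, h2, h3⟩
    choose W hWo hxW hWfin using fun ζ => hglf ζ x
    have hZ := finite_support_specializes α x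
    have hfinS : (⋃ ζ ∈ {ζ : X | α ζ ≠ 0 ∧ ζ ⤳ x},
        (fun ξ => ((ζ, ξ) : X × X)) '' {ξ : X | g ζ ξ ≠ 1 ∧ (closure {ξ} ∩ W ζ).Nonempty}).Finite :=
      hZ.biUnion (fun ζ _ => (hWfin ζ).image _)
    have hGfin : (Function.support G).Finite := by
      refine hfinS.subset (fun q hq => ?_)
      obtain ⟨h1, h2, h3⟩ := hGsupp q hq
      refine Set.mem_biUnion h1 ⟨q.2, ⟨h2, ⟨x, specializes_iff_mem_closure.mp h3, hxW q.1⟩⟩, rfl⟩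
    have e1 : ∀ ζ, α ζ * ∑ᶠ ξ : X, Cyc.divFun δ ξ (g ζ ξ) x = ∑ᶠ ξ : X, G (ζ, ξ) := by
      intro ζ
      rw [mul_finsum]
      refine finsum_congr (fun ξ => ?_)
      exact (divFun_zpow δ ξ (hg0 ζ ξ) (α ζ) x).symm
    rw [finsum_congr e1, ← finsum_curry G hGfin]
    symm
    show (∑ᶠ p : {p : X × X // α p.1 ≠ 0 ∧ g p.1 p.2 ≠ 1}, G p.1) = _
    rw [finsum_subtype_eq_finsum_cond (f := G) (fun p => α p.1 ≠ 0 ∧ g p.1 p.2 ≠ 1)]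
    refine finsum_congr (fun q => ?_)
    rw [finsum_eq_if]
    split_ifs with hq
    · rfl
    · by_contra hne
      have := hGsupp q (Ne.symm hne)
      exact hq ⟨this.1.1, this.2.1⟩

/-- S1922: `c₁(L) ∩ c₁(N) ∩ α ∼ c₁(N) ∩ c₁(L) ∩ α`. -/
theorem c1Cap_comm (X : Scheme.{u}) (δ : X → ℤ) (hX : Cyc.IsSetup X δ) (L N : X.Modules)
    (hL : PicF.IsInvertible L) (hN : PicF.IsInvertible N) (k : ℤ) (α : AlgebraicCycle X ℤ)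
    (hα : α ∈ Cyc.Zk X δ (k + 2)) (sL sL' : (ξ : X) → Cyc.secFibre L ξ)
    (sN sN' : (ξ : X) → Cyc.secFibre N ξ) (hsL : ∀ ξ, sL ξ ≠ 0) (hsL' : ∀ ξ, sL' ξ ≠ 0)
    (hsN : ∀ ξ, sN ξ ≠ 0) (hsN' : ∀ ξ, sN' ξ ≠ 0) (γ₁ γ₂ : AlgebraicCycle X ℤ)
    (h₁ : ⇑γ₁ = Cyc.c1CapFun δ L (Cyc.c1CapFun δ N ⇑α sN) sL)
    (h₂ : ⇑γ₂ = Cyc.c1CapFun δ N (Cyc.c1CapFun δ L ⇑α sL') sN') :
    Cyc.RatEquiv δ k γ₁ γ₂ := by
  choose g hg0 hglf hg1 hgsum using fun ζ =>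
    rkf X δ hX N L hN hL ζ (sN ζ) (hsN ζ) (sL' ζ) (hsL' ζ) sL hsL sN' hsN'
  show Cyc.RatEquivZero δ k (γ₁ - γ₂)
  refine ratEquivZero_of_double_family δ k α hα g hg0 hglf hg1 (γ₁ - γ₂) (fun x => ?_)
  rw [Function.locallyFinsuppWithin.coe_sub, Pi.sub_apply, h₁, h₂,
    c1Cap_c1Cap δ hX hN α sN hsN sL x, c1Cap_c1Cap δ hX hL α sL' hsL' sN' x,
    finsum_c1_sub α x
      (fun ζ => Cyc.c1CapFun δ L (Cyc.secDivFun δ N ζ (sN ζ)) sL x)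
      (fun ζ => Cyc.c1CapFun δ N (Cyc.secDivFun δ L ζ (sL' ζ)) sN' x)
      (fun ζ hn => c1Cap_eq_zero_rel δ ζ (sN ζ) sL x (fun h => hn h.1))
      (fun ζ hn => c1Cap_eq_zero_rel δ ζ (sL' ζ) sN' x (fun h => hn h.1))]
  refine finsum_congr (fun ζ => ?_)
  rw [hgsum ζ x]

end Groth.Agent.H34.KeyRel
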