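import Groth.Agent.H34.KeyRat

/-!
# The Gysin map of a zero scheme kills rational equivalence (S1929): Chow-side part
-/

set_option autoImplicit false
set_option linter.style.haveILetI false

universe u

open CategoryTheory AlgebraicGeometry TopologicalSpace Opposite

namespace Groth.Agent.H34.KeyRel

open Groth.Agent.H34.Key Groth.Agent.H34.KeyRelP
open Groth.Agent.H95.C1Cap (ordAt_one)
open Groth.Agent.H95.SecOrd
open Groth.Agent.H18.TensorGen (IsGen exists_isGen_pair)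

variable {X : Scheme.{u}}

/-- The pointwise form of the relative key formula for the explicit family `gRel`. -/
theorem gRel_sum (δ : X → ℤ) (hX : Cyc.IsSetup X δ) {L N : X.Modules}
    (hL : PicF.IsInvertible L) (hN : PicF.IsInvertible N) (ζ : X)
    (s : Cyc.secFibre L ζ) (hs : s ≠ 0) (t : Cyc.secFibre N ζ) (ht : t ≠ 0)
    (u : (ξ : X) → Cyc.secFibre N ξ) (hu : ∀ ξ, u ξ ≠ 0)
    (v : (ξ : X) → Cyc.secFibre L ξ) (hv : ∀ ξ, v ξ ≠ 0) (x : X) :
    ∑ᶠ ξ : X, Cyc.divFun δ ξ (gRel δ hL hN ζ s t u v ξ) x =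
      Cyc.c1CapFun δ N (Cyc.secDivFun δ L ζ s) u x -
        Cyc.c1CapFun δ L (Cyc.secDivFun δ N ζ t) v x := by
  classical
  by_cases hx : ζ ⤳ x ∧ δ x + 2 = δ ζ
  · exact pointwise_rel δ hX hL hN ζ s hs t ht u hu v hv x hx.1 hx.2
  · rw [c1Cap_eq_zero_rel δ ζ s u x hx, c1Cap_eq_zero_rel δ ζ t v x hx, sub_zero]
    refine finsum_eq_zero_of_forall_eq_zero (fun ξ => ?_)
    unfold Cyc.divFun
    split_ifs with h
    · by_cases hg : gRel δ hL hN ζ s t u v ξ = 1
      · rw [hg]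
        exact ordAt_one h.1
      · exfalso
        apply hx
        have hc := gRel_ne_one hg
        refine ⟨hc.1.trans h.1, ?_⟩
        have := hc.2
        have := h.2
        omega
    · rfl

/-- If `t ∈ N(ζ)` and `u ξ ∈ N(ξ)` are both induced by one global section `σ` of `N` which does
not vanish at `ξ`, the function `g ξ` of the relative key formula is `1`. -/
theorem gRel_eq_one_of_common_section (δ : X → ℤ) (hX : Cyc.IsSetup X δ) {L N : X.Modules}
    (hL : PicF.IsInvertible L) (hN : PicF.IsInvertible N) (ζ : X)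
    (s : Cyc.secFibre L ζ) (hs : s ≠ 0) (t : Cyc.secFibre N ζ) (ht : t ≠ 0)
    (u : (ξ : X) → Cyc.secFibre N ξ) (v : (ξ : X) → Cyc.secFibre L ξ) (ξ : X)
    (σ : N.presheaf.obj (Opposite.op ⊤))
    (hσζ : t = (Submodule.Quotient.mk (N.presheaf.germ ⊤ ζ trivial σ) : Cyc.secFibre N ζ))
    (hσξ : u ξ = (Submodule.Quotient.mk (N.presheaf.germ ⊤ ξ trivial σ) : Cyc.secFibre N ξ))
    (huξ : u ξ ≠ 0) : gRel δ hL hN ζ s t u v ξ = 1 := by
  classical
  haveI : IsLocallyNoetherian X := hX.1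
  unfold gRel
  split_ifs with hc
  · have hd1 : ringKrullDim (Cyc.LocQuot ξ ζ hc.1) = 1 :=
      dim_locQuot_eq δ hX hc.1 1 (by push_cast; omega)
    obtain ⟨V, τ, ν, hξV, hτ, hν⟩ := exists_isGen_pair hL hN ξ
    have hζV : ζ ∈ V := hc.1.mem_open V.2 hξV
    obtain ⟨c, hcν⟩ := (hν V le_rfl).2 (N.presheaf.map (homOfLE (le_top : V ≤ ⊤)).op σ)
    have hcν' : c • ν = N.presheaf.map (homOfLE (le_top : V ≤ ⊤)).op σ := by
      have h0 : c • N.presheaf.map (homOfLE (le_rfl : V ≤ V)).op ν =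
          N.presheaf.map (homOfLE (le_top : V ≤ ⊤)).op σ := hcν
      have h1 : N.presheaf.map (homOfLE (le_rfl : V ≤ V)).op ν = ν := by
        have : (homOfLE (le_rfl : V ≤ V)).op = 𝟙 (Opposite.op V) := rfl
        rw [this, N.presheaf.map_id]
        rfl
      rw [h1] at h0
      exact h0
    have hgerm : ∀ (z : X) (hz : z ∈ V), N.presheaf.germ ⊤ z trivial σ =
        X.presheaf.germ V z hz c • N.presheaf.germ V z hz ν := by
      intro z hz
      rw [← Mero.germ_smul, hcν', TopCat.Presheaf.germ_res_apply]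
    obtain ⟨ψs, hψs⟩ := exists_eq_smul_mk hτ ζ hζV s
    obtain ⟨φv, hφv⟩ := exists_eq_smul_mk hτ ξ hξV (v ξ)
    have hψt : t = X.presheaf.germ V ζ hζV c •
        (Submodule.Quotient.mk (N.presheaf.germ V ζ hζV ν) : Cyc.secFibre N ζ) := by
      rw [hσζ, hgerm ζ hζV, Submodule.Quotient.mk_smul]
    have hφu : u ξ = X.presheaf.germ V ξ hξV c •
        (Submodule.Quotient.mk (N.presheaf.germ V ξ hξV ν) : Cyc.secFibre N ξ) := by
      rw [hσξ, hgerm ξ hξV, Submodule.Quotient.mk_smul]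
    have hcu : IsUnit (X.presheaf.germ V ξ hξV c) :=
      isUnit_of_mk_ne_zero ξ hξV (u ξ) huξ _ hφu
    have hψs0 : X.residue ζ ψs ≠ 0 := residue_ne_zero_of_isUnit
      (isUnit_of_mk_ne_zero ζ hζV s hs _ hψs)
    unfold gFunRel
    rw [dif_pos hc.1, gDataRel_val_eq hs ht hc.1 hd1 _
      (⟨V, hξV, hζV, τ, ν, hτ, hν, ψs, X.presheaf.germ V ζ hζV c, X.presheaf.germ V ξ hξV c, φv,
        hψs, hψt, hφu, hφv⟩ : GDataRel L N ζ s t ξ (u ξ) (v ξ))]
    unfold GDataRel.val gOfRel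
    dsimp only
    rw [← specMap_germ hc.1 hξV hζV c, tameRel_unit_right hc.1 hd1 _ hcu _ hψs0,
      ordAt_specMap_unit hc.1 hcu, zpow_zero, inv_one, mul_one,
      inv_mul_cancel₀ (zpow_ne_zero _ (residue_ne_zero_of_isUnit hcu))]
  · rfl

end Groth.Agent.H34.KeyRel
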