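import Groth.Agent.H34.KeyPieces

/-!
# Independence of `GData.val` of the local generator data (piece (S4) of S1920)
-/

set_option autoImplicit false
set_option linter.style.haveILetI false

universe u

open CategoryTheory AlgebraicGeometry TopologicalSpace Opposite

namespace Groth.Agent.H34.Key

open Groth.Agent.H34.KeyP
open Groth.Agent.H18.TensorGen (IsGen)
open Groth.Agent.H95.AssGen (GenAt genAt_of_isGen germ_eq_smul_germ isUnit_germ_of_genAt)
open Groth.Agent.H95.SecOrd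

variable {X : Scheme.{u}}

/-- Two free generators differ by a section which is a unit at every point of the overlap. -/
theorem exists_rebase {L : X.Modules} {V V' : X.Opens} {τ : Γ(L, V)} {τ' : Γ(L, V')}
    (hτ : IsGen L V τ) (hτ' : IsGen L V' τ') :
    ∃ c : Γ(X, V ⊓ V'),
      L.presheaf.map (homOfLE (inf_le_right : V ⊓ V' ≤ V')).op τ' =
        c • L.presheaf.map (homOfLE (inf_le_left : V ⊓ V' ≤ V)).op τ ∧
      ∀ (z : X) (hz : z ∈ V ⊓ V'), IsUnit (X.presheaf.germ (V ⊓ V') z hz c) := by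
  obtain ⟨c, hc⟩ := (hτ (V ⊓ V') inf_le_left).2
    (L.presheaf.map (homOfLE (inf_le_right : V ⊓ V' ≤ V')).op τ')
  have hc' : L.presheaf.map (homOfLE (inf_le_right : V ⊓ V' ≤ V')).op τ' =
      c • L.presheaf.map (homOfLE (inf_le_left : V ⊓ V' ≤ V)).op τ := hc.symm
  refine ⟨c, hc', fun z hz => ?_⟩
  exact isUnit_germ_of_genAt hτ τ' c hc' z hz.1 hz.2 hz (genAt_of_isGen hτ' z hz.2)

/-- Coefficients of the same element of the fibre with respect to two generators. -/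
theorem coeff_rel {L : X.Modules} {V V' : X.Opens} {τ : Γ(L, V)} {τ' : Γ(L, V')}
    (hτ : IsGen L V τ) (c : Γ(X, V ⊓ V'))
    (hc : L.presheaf.map (homOfLE (inf_le_right : V ⊓ V' ≤ V')).op τ' =
        c • L.presheaf.map (homOfLE (inf_le_left : V ⊓ V' ≤ V)).op τ)
    (z : X) (hz : z ∈ V ⊓ V') (w : Cyc.secFibre L z) (φ φ' : X.presheaf.stalk z)
    (h : w = φ • (Submodule.Quotient.mk (L.presheaf.germ V z hz.1 τ) : Cyc.secFibre L z))
    (h' : w = φ' • (Submodule.Quotient.mk (L.presheaf.germ V' z hz.2 τ') : Cyc.secFibre L z)) :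
    φ - φ' * X.presheaf.germ (V ⊓ V') z hz c ∈
      IsLocalRing.maximalIdeal (X.presheaf.stalk z) := by
  apply mem_maximalIdeal_of_smul_mk_eq_zero hτ z hz.1
  rw [sub_smul, ← h, mul_smul,
    ← Submodule.Quotient.mk_smul (r := X.presheaf.germ (V ⊓ V') z hz c),
    ← germ_eq_smul_germ τ τ' c hc z hz.1 hz.2 hz, ← h', sub_self]

theorem field_calc {F : Type*} [Field F] (T rd rc ru rv : F) (a b : ℤ) (hd : rd ≠ 0)
    (hc : rc ≠ 0) :
    T * (rd ^ a)⁻¹ * rc ^ b * (ru * rd) ^ a * ((rv * rc) ^ b)⁻¹ = T * ru ^ a * (rv ^ b)⁻¹ := by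
  rw [mul_zpow, mul_zpow]
  have h1 : rd ^ a ≠ 0 := zpow_ne_zero _ hd
  have h2 : rc ^ b ≠ 0 := zpow_ne_zero _ hc
  rw [mul_inv]
  field_simp

theorem maximalIdeal_functionField [IsIntegral X] :
    IsLocalRing.maximalIdeal (X.presheaf.stalk (genericPoint X)) = ⊥ :=
  (IsLocalRing.isField_iff_maximalIdeal_eq).mp (Field.toIsField X.functionField)

theorem algebraMap_germ [IsIntegral X] {W : X.Opens} {ξ : X} (hξ : ξ ∈ W)
    (hη : genericPoint X ∈ W) (c : Γ(X, W)) :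
    algebraMap (X.presheaf.stalk ξ) X.functionField (X.presheaf.germ W ξ hξ c) =
      X.presheaf.germ W (genericPoint X) hη c := by
  haveI : Nonempty W := ⟨⟨ξ, hξ⟩⟩
  rw [Scheme.algebraMap_germ_eq_germToFunctionField]

/-- (S4) the function attached to local generator data does not depend on the data. -/
theorem gData_val_eq' [IsIntegral X] [IsLocallyNoetherian X] {L N : X.Modules}
    {s : Cyc.secFibre L (genericPoint X)} (hs : s ≠ 0)
    {t : Cyc.secFibre N (genericPoint X)} (ht : t ≠ 0) {ξ : X}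
    (hξ : ringKrullDim (X.presheaf.stalk ξ) = 1) {u : Cyc.secFibre N ξ}
    {v : Cyc.secFibre L ξ} (D D' : GData L N s t ξ u v) : D.val = D'.val := by
  obtain ⟨c, hc, hcu⟩ := exists_rebase D.hτ D'.hτ
  obtain ⟨d, hd, hdu⟩ := exists_rebase D.hν D'.hν
  have hξW : ξ ∈ D.V ⊓ D'.V := ⟨D.hξ, D'.hξ⟩
  have hηW : genericPoint X ∈ D.V ⊓ D'.V := ⟨D.hη, D'.hη⟩
  -- relations at the generic point
  have e1 : D.ψs = D'.ψs * algebraMap (X.presheaf.stalk ξ) X.functionField
      (X.presheaf.germ (D.V ⊓ D'.V) ξ hξW c) := by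
    have h := coeff_rel D.hτ c hc (genericPoint X) hηW s D.ψs D'.ψs D.hs D'.hs
    rw [maximalIdeal_functionField, Ideal.mem_bot, sub_eq_zero] at h
    rw [algebraMap_germ hξW hηW]
    exact h
  have e2 : D.ψt = D'.ψt * algebraMap (X.presheaf.stalk ξ) X.functionField
      (X.presheaf.germ (D.V ⊓ D'.V) ξ hξW d) := by
    have h := coeff_rel D.hν d hd (genericPoint X) hηW t D.ψt D'.ψt D.ht D'.ht
    rw [maximalIdeal_functionField, Ideal.mem_bot, sub_eq_zero] at h
    rw [algebraMap_germ hξW hηW]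
    exact h
  -- relations at ξ
  have e3 : X.residue ξ D.φu = X.residue ξ D'.φu *
      X.residue ξ (X.presheaf.germ (D.V ⊓ D'.V) ξ hξW d) := by
    have h := coeff_rel D.hν d hd ξ hξW u D.φu D'.φu D.hu D'.hu
    rw [← residue_eq_zero_iff, map_sub, sub_eq_zero, map_mul] at h
    exact h
  have e4 : X.residue ξ D.φv = X.residue ξ D'.φv *
      X.residue ξ (X.presheaf.germ (D.V ⊓ D'.V) ξ hξW c) := by
    have h := coeff_rel D.hτ c hc ξ hξW v D.φv D'.φv D.hv D'.hv
    rw [← residue_eq_zero_iff, map_sub, sub_eq_zero, map_mul] at h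
    exact h
  obtain ⟨cξ, hcξ⟩ : ∃ cξ, cξ = X.presheaf.germ (D.V ⊓ D'.V) ξ hξW c := ⟨_, rfl⟩
  obtain ⟨dξ, hdξ⟩ : ∃ dξ, dξ = X.presheaf.germ (D.V ⊓ D'.V) ξ hξW d := ⟨_, rfl⟩
  rw [← hcξ] at e1 e4
  rw [← hdξ] at e2 e3
  have hcξu : IsUnit cξ := hcξ ▸ hcu ξ hξW
  have hdξu : IsUnit dξ := hdξ ▸ hdu ξ hξW
  -- nonvanishing
  have hψs' : D'.ψs ≠ 0 := by
    intro h0
    apply hs
    rw [D'.hs, h0, zero_smul]
  have hψt' : D'.ψt ≠ 0 := by
    intro h0
    apply ht
    rw [D'.ht, h0, zero_smul]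
  have hac : algebraMap (X.presheaf.stalk ξ) X.functionField cξ ≠ 0 :=
    (hcξu.map (algebraMap (X.presheaf.stalk ξ) X.functionField)).ne_zero
  have had : algebraMap (X.presheaf.stalk ξ) X.functionField dξ ≠ 0 :=
    (hdξu.map (algebraMap (X.presheaf.stalk ξ) X.functionField)).ne_zero
  unfold GData.val gOf
  rw [e1, e2, e3, e4, ordFrac_mul_unit _ _ _ hcξu, ordFrac_mul_unit _ _ _ hdξu]
  unfold tameFracX
  rw [tameFrac_mul_left _ _ hξ _ _ _ hψs' hac (mul_ne_zero hψt' had),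
    tameFrac_mul_right _ _ hξ _ _ _ hψs' hψt' had,
    tameFrac_unit_right _ _ hξ dξ hdξu _ hψs',
    tameFrac_unit_left _ _ hξ cξ hcξu _ (mul_ne_zero hψt' had),
    ordFrac_mul_unit _ _ _ hdξu]
  exact field_calc _ _ _ _ _ _ _ (residue_ne_zero_of_isUnit hdξu)
    (residue_ne_zero_of_isUnit hcξu)

end Groth.Agent.H34.Key
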