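import Groth.Agent.H34.KeyPoint
import Groth.Agent.H37.KeyS7Core

/-!
# The key formula (S1920): assembly
-/

set_option autoImplicit false
set_option linter.style.haveILetI false

universe u

open CategoryTheory AlgebraicGeometry TopologicalSpace Opposite

namespace Groth.Agent.H34.Key

open Groth.Agent.H34.KeyP
open Groth.Agent.H95.C1Cap (ordAt_one)

variable {X : Scheme.{u}} [IsIntegral X]

theorem c1Cap_eq_zero_of_delta (δ : X → ℤ) {L N : X.Modules}
    (s : Cyc.secFibre L (genericPoint X)) (u : (ξ : X) → Cyc.secFibre N ξ) (x : X)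
    (hx : δ x + 2 ≠ δ (genericPoint X)) :
    Cyc.c1CapFun δ N (Cyc.secDivFun δ L (genericPoint X) s) u x = 0 := by
  unfold Cyc.c1CapFun
  refine finsum_eq_zero_of_forall_eq_zero (fun ξ => ?_)
  by_cases h1 : genericPoint X ⤳ ξ ∧ δ ξ + 1 = δ (genericPoint X)
  · by_cases h2 : ξ ⤳ x ∧ δ x + 1 = δ ξ
    · exfalso
      apply hx
      have := h1.2
      have := h2.2
      omega
    · have : Cyc.secDivFun δ N ξ (u ξ) x = 0 := by
        unfold Cyc.secDivFun
        rw [dif_neg h2]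
      rw [this, mul_zero]
  · have : Cyc.secDivFun δ L (genericPoint X) s ξ = 0 := by
      unfold Cyc.secDivFun
      rw [dif_neg h1]
    rw [this, zero_mul]

/-- (S9) nonvanishing of the function. -/
theorem gFun_ne_zero (δ : X → ℤ) (hX : Cyc.IsSetup X δ) {L N : X.Modules}
    (hL : PicF.IsInvertible L) (hN : PicF.IsInvertible N)
    (s : Cyc.secFibre L (genericPoint X)) (hs : s ≠ 0)
    (t : Cyc.secFibre N (genericPoint X)) (ht : t ≠ 0)
    (u : (ξ : X) → Cyc.secFibre N ξ) (hu : ∀ ξ, u ξ ≠ 0)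
    (v : (ξ : X) → Cyc.secFibre L ξ) (hv : ∀ ξ, v ξ ≠ 0) (ξ : X)
    (hξ : δ ξ + 1 = δ (genericPoint X)) : gFun hL hN s t u v ξ ≠ 0 := by
  haveI : IsLocallyNoetherian X := hX.1
  have hd1 : ringKrullDim (X.presheaf.stalk ξ) = 1 :=
    dim_stalk_eq δ hX ξ 1 (by push_cast; omega)
  obtain ⟨D, hD⟩ : ∃ D : GData L N s t ξ (u ξ) (v ξ),
      D = Classical.choice (nonempty_gData hL hN s t ξ (u ξ) (v ξ)) := ⟨_, rfl⟩
  show (Classical.choice (nonempty_gData hL hN s t ξ (u ξ) (v ξ))).val ≠ 0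
  rw [← hD]
  have hψs0 : D.ψs ≠ 0 := by
    intro h0
    apply hs
    rw [D.hs, h0, zero_smul]
  have hψt0 : D.ψt ≠ 0 := by
    intro h0
    apply ht
    rw [D.ht, h0, zero_smul]
  have hT0 : tameFracX ξ D.ψs D.ψt ≠ 0 := tameFrac_ne_zero _ _ hd1 D.ψs D.ψt hψs0 hψt0
  have hu0 : X.residue ξ D.φu ≠ 0 := Groth.Agent.H95.SecOrd.residue_ne_zero_of_isUnit
    (Groth.Agent.H95.SecOrd.isUnit_of_mk_ne_zero ξ D.hξ (u ξ) (hu ξ) _ D.hu)
  have hv0 : X.residue ξ D.φv ≠ 0 := Groth.Agent.H95.SecOrd.residue_ne_zero_of_isUnit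
    (Groth.Agent.H95.SecOrd.isUnit_of_mk_ne_zero ξ D.hξ (v ξ) (hv ξ) _ D.hv)
  unfold GData.val gOf
  exact mul_ne_zero (mul_ne_zero hT0 (zpow_ne_zero _ hu0)) (inv_ne_zero (zpow_ne_zero _ hv0))

/-- (S7) local finiteness of the family. -/
theorem locallyFinite_gFun (δ : X → ℤ) (hX : Cyc.IsSetup X δ) {L N : X.Modules}
    (hL : PicF.IsInvertible L) (hN : PicF.IsInvertible N)
    (s : Cyc.secFibre L (genericPoint X)) (hs : s ≠ 0)
    (t : Cyc.secFibre N (genericPoint X)) (ht : t ≠ 0)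
    (u : (ξ : X) → Cyc.secFibre N ξ) (v : (ξ : X) → Cyc.secFibre L ξ) (x : X) :
    ∃ U : Set X, IsOpen U ∧ x ∈ U ∧ {ξ : X | δ ξ + 1 = δ (genericPoint X) ∧
      gFun hL hN s t u v ξ ≠ 1 ∧ (closure {ξ} ∩ U).Nonempty}.Finite := by
  haveI : IsLocallyNoetherian X := hX.1
  exact Groth.Agent.H37.KeyS7.locallyFinite_gFun_core δ hL hN s hs t ht u v
    (fun ξ => exists_dim_stalk δ hX ξ)
    (fun ξ hξ D D' => gData_val_eq' hs ht hξ D D')
    (fun ξ hξ c hc χ hχ => tameFrac_unit_left _ _ hξ c hc χ hχ) x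

theorem main (δ : X → ℤ) (hX : Cyc.IsSetup X δ) (n : ℤ) (hn : δ (genericPoint X) = n)
    (L N : X.Modules) (hL : PicF.IsInvertible L) (hN : PicF.IsInvertible N)
    (s : Cyc.secFibre L (genericPoint X)) (hs : s ≠ 0)
    (t : Cyc.secFibre N (genericPoint X)) (ht : t ≠ 0)
    (u : (ξ : X) → Cyc.secFibre N ξ) (hu : ∀ ξ, u ξ ≠ 0)
    (v : (ξ : X) → Cyc.secFibre L ξ) (hv : ∀ ξ, v ξ ≠ 0) (γ₁ γ₂ : AlgebraicCycle X ℤ)
    (h₁ : ⇑γ₁ = Cyc.c1CapFun δ N (Cyc.secDivFun δ L (genericPoint X) s) u)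
    (h₂ : ⇑γ₂ = Cyc.c1CapFun δ L (Cyc.secDivFun δ N (genericPoint X) t) v) :
    Cyc.RatEquiv δ (n - 2) γ₁ γ₂ := by
  classical
  obtain ⟨g, hg⟩ : ∃ g : (ξ : X) → X.residueField ξ, g = gFun hL hN s t u v := ⟨_, rfl⟩
  show Cyc.RatEquivZero δ (n - 2) (γ₁ - γ₂)
  refine ⟨{ξ : X // δ ξ + 1 = δ (genericPoint X) ∧ g ξ ≠ 1}, fun i => i.1, fun i => g i.1,
    ?_, ?_, ?_, ?_⟩
  · intro i
    show δ i.1 = n - 2 + 1
    have := i.2.1
    omega
  · intro i
    show g i.1 ≠ 0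
    have h0 := gFun_ne_zero δ hX hL hN s hs t ht u hu v hv i.1 i.2.1
    rw [← hg] at h0
    exact h0
  · intro x
    obtain ⟨U, hUo, hxU, hfin⟩ := locallyFinite_gFun δ hX hL hN s hs t ht u v x
    refine ⟨U, hUo, hxU, ?_⟩
    refine Set.Finite.subset (hfin.preimage (Subtype.val_injective.injOn)) ?_
    rintro i hi
    refine ⟨i.2.1, ?_, hi⟩
    rw [← hg]
    exact i.2.2
  · intro x
    rw [Function.locallyFinsuppWithin.coe_sub, Pi.sub_apply, h₁, h₂]
    by_cases hx : δ x + 2 = δ (genericPoint X)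
    · rw [← pointwise' δ hX hL hN s hs t ht u hu v hv x hx, ← hg]
      symm
      show (∑ᶠ i : {ξ : X // δ ξ + 1 = δ (genericPoint X) ∧ g ξ ≠ 1},
        Cyc.divFun δ i.1 (g i.1) x) = _
      rw [finsum_subtype_eq_finsum_cond (f := fun ξ => Cyc.divFun δ ξ (g ξ) x)
        (fun ξ => δ ξ + 1 = δ (genericPoint X) ∧ g ξ ≠ 1)]
      refine finsum_congr (fun ξ => ?_)
      rw [finsum_eq_if]
      split_ifs with hξ
      · rfl
      · symm
        unfold Cyc.divFun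
        split_ifs with h
        · by_cases hg1 : g ξ = 1
          · rw [hg1]
            exact ordAt_one h.1
          · exfalso
            apply hξ
            refine ⟨?_, hg1⟩
            have := h.2
            omega
        · rfl
    · rw [c1Cap_eq_zero_of_delta δ s u x hx, c1Cap_eq_zero_of_delta δ t v x hx, sub_zero]
      symm
      refine finsum_eq_zero_of_forall_eq_zero (fun i => ?_)
      unfold Cyc.divFun
      split_ifs with h
      · exfalso
        apply hx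
        have h3 : δ x + 1 = δ i.1 := h.2
        have := i.2.1
        omega
      · rfl

end Groth.Agent.H34.Key
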