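import Groth.Agent.H34.KeyDefs
import Groth.Agent.S1848
import Groth.Agent.S1851
import Groth.Agent.H85.CycOpen
import Groth.Agent.H45.KeyS1
import Groth.Agent.H84.KeyS6
import Groth.Agent.H37.KeyF1
import Groth.Agent.H87.KeyRing
import Groth.Agent.H60.Key_S2b
import Groth.Agent.H19.KeyS3

/-!
# Pieces for the key formula (S1920), re-exported under uniform names

Each statement is proved in a provider library; this file only fixes names and argument order.
-/

set_option autoImplicit false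
set_option linter.style.haveILetI false

universe u v

open CategoryTheory AlgebraicGeometry TopologicalSpace Opposite

namespace Groth.Agent.H34.KeyP

open Groth.Agent.H34.Key
open Groth.Agent.H18.TensorGen (IsGen exists_isGen exists_isGen_pair)

section Ring

variable (R : Type u) [CommRing R] [IsNoetherianRing R] [IsLocalRing R] [IsDomain R]
  (hR : ringKrullDim R = 1) (K : Type v) [Field K] [Algebra R K] [IsFractionRing R K]

/-- (RA) antisymmetry of the tame symbol. -/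
theorem tame_antisymm (hR : ringKrullDim R = 1) (a b : R) (ha : a ≠ 0) (hb : b ≠ 0) :
    CycAlg.tameSymbol R a b * CycAlg.tameSymbol R b a = 1 :=
  Groth.Agent.H87.KeyRing.tame_antisymm R hR a b ha hb

/-- (RB) `tameFrac` is computed by any representation by nonzero numerators/denominators. -/
theorem tameFrac_eq (hR : ringKrullDim R = 1) (ψ χ : K) (a₁ a₂ b₁ b₂ : R) (h1 : a₁ ≠ 0)
    (h2 : a₂ ≠ 0) (h3 : b₁ ≠ 0) (h4 : b₂ ≠ 0)
    (hψ : ψ * algebraMap R K a₂ = algebraMap R K a₁)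
    (hχ : χ * algebraMap R K b₂ = algebraMap R K b₁) :
    tameFrac R K ψ χ = tameExt R a₁ a₂ b₁ b₂ :=
  Groth.Agent.H87.KeyRing.tameFrac_eq R K hR ψ χ a₁ a₂ b₁ b₂ h1 h2 h3 h4 hψ hχ

/-- (RC1) -/
theorem tameFrac_ne_zero (hR : ringKrullDim R = 1) (ψ χ : K) (hψ : ψ ≠ 0) (hχ : χ ≠ 0) :
    tameFrac R K ψ χ ≠ 0 := Groth.Agent.H87.KeyRing.tameFrac_ne_zero R K hR ψ χ hψ hχ

/-- (RC2) -/
theorem tameFrac_mul_left (hR : ringKrullDim R = 1) (ψ ψ' χ : K) (hψ : ψ ≠ 0) (hψ' : ψ' ≠ 0)
    (hχ : χ ≠ 0) : tameFrac R K (ψ * ψ') χ = tameFrac R K ψ χ * tameFrac R K ψ' χ :=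
  Groth.Agent.H87.KeyRing.tameFrac_mul_left R K hR ψ ψ' χ hψ hψ' hχ

/-- (RC3) -/
theorem tameFrac_mul_right (hR : ringKrullDim R = 1) (ψ χ χ' : K) (hψ : ψ ≠ 0) (hχ : χ ≠ 0)
    (hχ' : χ' ≠ 0) : tameFrac R K ψ (χ * χ') = tameFrac R K ψ χ * tameFrac R K ψ χ' :=
  Groth.Agent.H87.KeyRing.tameFrac_mul_right R K hR ψ χ χ' hψ hχ hχ' 

/-- (RD1) the symbol of a unit against `χ`. -/
theorem tameFrac_unit_left (hR : ringKrullDim R = 1) (c : R) (hc : IsUnit c) (χ : K)
    (hχ : χ ≠ 0) :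
    tameFrac R K (algebraMap R K c) χ = (IsLocalRing.residue R c) ^ (CycAlg.ordFrac R K χ) :=
  Groth.Agent.H87.KeyRing.tameFrac_unit_left R K hR c hc χ hχ

/-- (RD2) the symbol of `ψ` against a unit. -/
theorem tameFrac_unit_right (hR : ringKrullDim R = 1) (c : R) (hc : IsUnit c) (ψ : K)
    (hψ : ψ ≠ 0) :
    tameFrac R K ψ (algebraMap R K c) =
      ((IsLocalRing.residue R c) ^ (CycAlg.ordFrac R K ψ))⁻¹ :=
  Groth.Agent.H87.KeyRing.tameFrac_unit_right R K hR c hc ψ hψ

end Ring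

section Scheme

variable {X : Scheme.{u}} [IsIntegral X]

/-- (S1) the dimension of a local ring of an integral scheme with a dimension function. -/
theorem exists_dim_stalk (δ : X → ℤ) (hX : Cyc.IsSetup X δ) (x : X) :
    ∃ d : ℕ, ringKrullDim (X.presheaf.stalk x) = (d : WithBot ℕ∞) ∧
      δ (genericPoint X) = δ x + d := Groth.Agent.H45.KeyS1.exists_dim_stalk δ hX x

open Classical in
/-- (S2b) the key lemma on a scheme, for elements of the local ring at `x`. -/
theorem skl_elem [IsLocallyNoetherian X] (x : X) (hx : ringKrullDim (X.presheaf.stalk x) = 2)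
    (a b : X.presheaf.stalk x) (ha : a ≠ 0) (hb : b ≠ 0) :
    ∑ᶠ ξ : X, (if h : ξ ⤳ x ∧ ringKrullDim (X.presheaf.stalk ξ) = 1 then
      Cyc.ordAt x ξ h.1 (CycAlg.tameSymbol (X.presheaf.stalk ξ)
        ((X.presheaf.stalkSpecializes h.1).hom a) ((X.presheaf.stalkSpecializes h.1).hom b))
      else 0) = 0 := Groth.Agent.H60.Key_S2b.skl_elem x hx a b ha hb

/-- (F1) a nonzero rational function is a unit at all but finitely many codimension one points
near a given point. -/
theorem finite_not_unitAt [IsLocallyNoetherian X] (x : X) (ψ : X.functionField) (hψ : ψ ≠ 0) :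
    ∃ U : X.Opens, x ∈ U ∧ {ξ : X | ξ ∈ U ∧ ringKrullDim (X.presheaf.stalk ξ) = 1 ∧
      ¬ UnitAt ξ ψ}.Finite := Groth.Agent.H37.KeyF1.finite_not_unitAt x ψ hψ

open Classical in
/-- (S3) the key lemma on a scheme, for rational functions. -/
theorem skl_frac [IsLocallyNoetherian X] (x : X) (hx : ringKrullDim (X.presheaf.stalk x) = 2)
    (ψ χ : X.functionField) (hψ : ψ ≠ 0) (hχ : χ ≠ 0) :
    ∑ᶠ ξ : X, (if h : ξ ⤳ x ∧ ringKrullDim (X.presheaf.stalk ξ) = 1 then
      Cyc.ordAt x ξ h.1 (tameFracX ξ ψ χ) else 0) = 0 :=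
  Groth.Agent.H19.KeyS3.skl_frac_core x (fun a b ha hb => skl_elem x hx a b ha hb) ψ χ hψ hχ

/-- (S6) orders at the generic point: `ord` along `η ⤳ ξ` is the order function of `O_ξ`. -/
theorem ordAt_generic (ξ : X) (h : genericPoint X ⤳ ξ) (f : X.functionField) :
    Cyc.ordAt ξ (genericPoint X) h (X.residue (genericPoint X) f) =
      CycAlg.ordFrac (X.presheaf.stalk ξ) X.functionField f :=
  Groth.Agent.H84.KeyS6.ordAt_generic ξ h f

end Scheme

end Groth.Agent.H34.KeyP
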