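import Groth.Agent.H34.KeyIndep

/-!
# The pointwise formula (piece (S5) of S1920)
-/

set_option autoImplicit false
set_option linter.style.haveILetI false

universe u

open CategoryTheory AlgebraicGeometry TopologicalSpace Opposite

namespace Groth.Agent.H34.Key

open Groth.Agent.H34.KeyP
open Groth.Agent.H18.TensorGen (IsGen exists_isGen_pair)
open Groth.Agent.H95.SecOrd
open Groth.Agent.H95.C1Cap (ordAt_one ordAt_inv ordAt_zpow)

variable {X : Scheme.{u}} [IsIntegral X]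

/-- The dimension of the local ring at a point, from the dimension function. -/
theorem dim_stalk_eq (δ : X → ℤ) (hX : Cyc.IsSetup X δ) (x : X) (d : ℕ)
    (hd : δ x + d = δ (genericPoint X)) : ringKrullDim (X.presheaf.stalk x) = (d : WithBot ℕ∞) := by
  obtain ⟨d', h1, h2⟩ := exists_dim_stalk δ hX x
  have : d' = d := by omega
  rw [h1, this]

theorem delta_of_dim_stalk (δ : X → ℤ) (hX : Cyc.IsSetup X δ) (x : X) (d : ℕ)
    (hd : ringKrullDim (X.presheaf.stalk x) = (d : WithBot ℕ∞)) :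
    δ x + d = δ (genericPoint X) := by
  obtain ⟨d', h1, h2⟩ := exists_dim_stalk δ hX x
  rw [h1] at hd
  have : d' = d := by exact_mod_cast hd
  omega

/-- A unit has order zero and trivial symbols: the function `gOf` is `1` when both rational
functions are units. -/
theorem tameFracX_eq_one_of_unitAt [IsLocallyNoetherian X] {ξ : X}
    (hξ : ringKrullDim (X.presheaf.stalk ξ) = 1) {ψ χ : X.functionField} (hψ : UnitAt ξ ψ)
    (hχ : UnitAt ξ χ) : tameFracX ξ ψ χ = 1 := by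
  obtain ⟨c, hc, rfl⟩ := hψ
  obtain ⟨d, hd, rfl⟩ := hχ
  unfold tameFracX
  rw [tameFrac_unit_left _ _ hξ c hc _
    ((hd.map (algebraMap (X.presheaf.stalk ξ) X.functionField)).ne_zero),
    ordFrac_algebraMap_unit _ _ hd, zpow_zero]
  rfl

theorem ordFrac_eq_zero_of_unitAt {ξ : X} {ψ : X.functionField} (hψ : UnitAt ξ ψ) :
    CycAlg.ordFrac (X.presheaf.stalk ξ) X.functionField ψ = 0 := by
  obtain ⟨c, hc, rfl⟩ := hψ
  exact ordFrac_algebraMap_unit _ _ hc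

/-- (S5) the pointwise formula. -/
theorem pointwise' (δ : X → ℤ) (hX : Cyc.IsSetup X δ) {L N : X.Modules}
    (hL : PicF.IsInvertible L) (hN : PicF.IsInvertible N)
    (s : Cyc.secFibre L (genericPoint X)) (hs : s ≠ 0)
    (t : Cyc.secFibre N (genericPoint X)) (ht : t ≠ 0)
    (u : (ξ : X) → Cyc.secFibre N ξ) (hu : ∀ ξ, u ξ ≠ 0)
    (v : (ξ : X) → Cyc.secFibre L ξ) (hv : ∀ ξ, v ξ ≠ 0)
    (x : X) (hx : δ x + 2 = δ (genericPoint X)) :
    ∑ᶠ ξ : X, Cyc.divFun δ ξ (gFun hL hN s t u v ξ) x =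
      Cyc.c1CapFun δ N (Cyc.secDivFun δ L (genericPoint X) s) u x -
        Cyc.c1CapFun δ L (Cyc.secDivFun δ N (genericPoint X) t) v x := by
  classical
  haveI : IsLocallyNoetherian X := hX.1
  obtain ⟨V, τ, ν, hxV, hτ, hν⟩ := exists_isGen_pair hL hN x
  have hηV : genericPoint X ∈ V := (genericPoint_specializes x).mem_open V.2 hxV
  obtain ⟨ψs, hψs⟩ := exists_eq_smul_mk hτ (genericPoint X) hηV s
  obtain ⟨ψt, hψt⟩ := exists_eq_smul_mk hν (genericPoint X) hηV t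
  have hψs0 : ψs ≠ 0 := by
    intro h0
    apply hs
    rw [hψs, h0, zero_smul]
  have hψt0 : ψt ≠ 0 := by
    intro h0
    apply ht
    rw [hψt, h0, zero_smul]
  choose φu hφu using fun (ξ : X) (hξ : ξ ∈ V) => exists_eq_smul_mk hν ξ hξ (u ξ)
  choose φv hφv using fun (ξ : X) (hξ : ξ ∈ V) => exists_eq_smul_mk hτ ξ hξ (v ξ)
  have hφuu : ∀ (ξ : X) (hξ : ξ ∈ V), IsUnit (φu ξ hξ) := fun ξ hξ =>
    isUnit_of_mk_ne_zero ξ hξ (u ξ) (hu ξ) _ (hφu ξ hξ)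
  have hφvu : ∀ (ξ : X) (hξ : ξ ∈ V), IsUnit (φv ξ hξ) := fun ξ hξ =>
    isUnit_of_mk_ne_zero ξ hξ (v ξ) (hv ξ) _ (hφv ξ hξ)
  have hdimx : ringKrullDim (X.presheaf.stalk x) = 2 := dim_stalk_eq δ hX x 2 hx
  have hdim1 : ∀ ξ : X, δ x + 1 = δ ξ → ringKrullDim (X.presheaf.stalk ξ) = 1 := fun ξ h =>
    dim_stalk_eq δ hX ξ 1 (by push_cast; omega)
  have hdim1' : ∀ ξ : X, ringKrullDim (X.presheaf.stalk ξ) = 1 → δ x + 1 = δ ξ := fun ξ h => by
    have := delta_of_dim_stalk δ hX ξ 1 h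
    push_cast at this
    omega
  have hmemV : ∀ ξ : X, ξ ⤳ x → ξ ∈ V := fun ξ h => h.mem_open V.2 hxV
  -- the three families of terms
  let Tt : X → ℤ := fun ξ => if h : ξ ⤳ x ∧ δ x + 1 = δ ξ then
    Cyc.ordAt x ξ h.1 (tameFracX ξ ψs ψt) else 0
  let At : X → ℤ := fun ξ => if h : ξ ⤳ x ∧ δ x + 1 = δ ξ then
    CycAlg.ordFrac (X.presheaf.stalk ξ) X.functionField ψs *
      Cyc.ordAt x ξ h.1 (X.residue ξ (φu ξ (hmemV ξ h.1))) else 0
  let Bt : X → ℤ := fun ξ => if h : ξ ⤳ x ∧ δ x + 1 = δ ξ then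
    CycAlg.ordFrac (X.presheaf.stalk ξ) X.functionField ψt *
      Cyc.ordAt x ξ h.1 (X.residue ξ (φv ξ (hmemV ξ h.1))) else 0
  -- (i)
  have hi : ∀ ξ, Cyc.divFun δ ξ (gFun hL hN s t u v ξ) x = Tt ξ + At ξ - Bt ξ := by
    intro ξ
    by_cases h : ξ ⤳ x ∧ δ x + 1 = δ ξ
    · have hξV := hmemV ξ h.1
      have hd1 := hdim1 ξ h.2
      let D : GData L N s t ξ (u ξ) (v ξ) :=
        ⟨V, hξV, hηV, τ, ν, hτ, hν, ψs, ψt, φu ξ hξV, φv ξ hξV, hψs, hψt, hφu ξ hξV, hφv ξ hξV⟩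
      have hg : gFun hL hN s t u v ξ = gOf ξ ψs ψt (φu ξ hξV) (φv ξ hξV) :=
        gData_val_eq' hs ht hd1 _ D
      have hT0 : tameFracX ξ ψs ψt ≠ 0 := tameFrac_ne_zero _ _ hd1 ψs ψt hψs0 hψt0
      have hu0 : X.residue ξ (φu ξ hξV) ≠ 0 := residue_ne_zero_of_isUnit (hφuu ξ hξV)
      have hv0 : X.residue ξ (φv ξ hξV) ≠ 0 := residue_ne_zero_of_isUnit (hφvu ξ hξV)
      show Cyc.divFun δ ξ (gFun hL hN s t u v ξ) x = Tt ξ + At ξ - Bt ξ
      simp only [Tt, At, Bt, Cyc.divFun, dif_pos h]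
      rw [hg]
      unfold gOf
      rw [ordAt_mul h.1 (mul_ne_zero hT0 (zpow_ne_zero _ hu0)) (inv_ne_zero (zpow_ne_zero _ hv0)),
        ordAt_mul h.1 hT0 (zpow_ne_zero _ hu0), ordAt_inv h.1 (zpow_ne_zero _ hv0),
        ordAt_zpow h.1 hu0, ordAt_zpow h.1 hv0]
      ring
    · simp only [Tt, At, Bt, Cyc.divFun, dif_neg h]
      ring
  -- (ii)
  have hii₁ : ∀ ξ, Cyc.secDivFun δ L (genericPoint X) s ξ * Cyc.secDivFun δ N ξ (u ξ) x =
      At ξ := by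
    intro ξ
    by_cases h : ξ ⤳ x ∧ δ x + 1 = δ ξ
    · have hξV := hmemV ξ h.1
      have hcond : genericPoint X ⤳ ξ ∧ δ ξ + 1 = δ (genericPoint X) :=
        ⟨genericPoint_specializes ξ, by have := h.2; omega⟩
      simp only [At, Cyc.secDivFun, dif_pos h, dif_pos hcond]
      rw [secOrdAt_eq_of_isGen hτ hcond.1 hξV hηV s ψs hψs, ordAt_generic,
        secOrdAt_eq_of_isGen hν h.1 hxV hξV (u ξ) _ (hφu ξ hξV)]
    · simp only [At, Cyc.secDivFun, dif_neg h, mul_zero]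
  have hii₂ : ∀ ξ, Cyc.secDivFun δ N (genericPoint X) t ξ * Cyc.secDivFun δ L ξ (v ξ) x =
      Bt ξ := by
    intro ξ
    by_cases h : ξ ⤳ x ∧ δ x + 1 = δ ξ
    · have hξV := hmemV ξ h.1
      have hcond : genericPoint X ⤳ ξ ∧ δ ξ + 1 = δ (genericPoint X) :=
        ⟨genericPoint_specializes ξ, by have := h.2; omega⟩
      simp only [Bt, Cyc.secDivFun, dif_pos h, dif_pos hcond]
      rw [secOrdAt_eq_of_isGen hν hcond.1 hξV hηV t ψt hψt, ordAt_generic,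
        secOrdAt_eq_of_isGen hτ h.1 hxV hξV (v ξ) _ (hφv ξ hξV)]
    · simp only [Bt, Cyc.secDivFun, dif_neg h, mul_zero]
  -- (iii) finiteness
  obtain ⟨U₁, hxU₁, hfin₁⟩ := finite_not_unitAt x ψs hψs0
  obtain ⟨U₂, hxU₂, hfin₂⟩ := finite_not_unitAt x ψt hψt0
  have hfin := hfin₁.union hfin₂
  have hsuppA : Function.support At ⊆
      {ξ : X | ξ ∈ U₁ ∧ ringKrullDim (X.presheaf.stalk ξ) = 1 ∧ ¬ UnitAt ξ ψs} ∪
      {ξ : X | ξ ∈ U₂ ∧ ringKrullDim (X.presheaf.stalk ξ) = 1 ∧ ¬ UnitAt ξ ψt} := fun ξ hξ => by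
    by_cases h : ξ ⤳ x ∧ δ x + 1 = δ ξ
    · left
      refine ⟨h.1.mem_open U₁.2 hxU₁, hdim1 ξ h.2, fun hun => hξ ?_⟩
      simp only [At, dif_pos h, ordFrac_eq_zero_of_unitAt hun, zero_mul]
    · exfalso
      apply hξ
      simp only [At, dif_neg h]
  have hsuppB : Function.support Bt ⊆
      {ξ : X | ξ ∈ U₁ ∧ ringKrullDim (X.presheaf.stalk ξ) = 1 ∧ ¬ UnitAt ξ ψs} ∪
      {ξ : X | ξ ∈ U₂ ∧ ringKrullDim (X.presheaf.stalk ξ) = 1 ∧ ¬ UnitAt ξ ψt} := fun ξ hξ => by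
    by_cases h : ξ ⤳ x ∧ δ x + 1 = δ ξ
    · right
      refine ⟨h.1.mem_open U₂.2 hxU₂, hdim1 ξ h.2, fun hun => hξ ?_⟩
      simp only [Bt, dif_pos h, ordFrac_eq_zero_of_unitAt hun, zero_mul]
    · exfalso
      apply hξ
      simp only [Bt, dif_neg h]
  have hsuppT : Function.support Tt ⊆
      {ξ : X | ξ ∈ U₁ ∧ ringKrullDim (X.presheaf.stalk ξ) = 1 ∧ ¬ UnitAt ξ ψs} ∪
      {ξ : X | ξ ∈ U₂ ∧ ringKrullDim (X.presheaf.stalk ξ) = 1 ∧ ¬ UnitAt ξ ψt} := fun ξ hξ => by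
    by_cases h : ξ ⤳ x ∧ δ x + 1 = δ ξ
    · by_cases hun₁ : UnitAt ξ ψs
      · right
        refine ⟨h.1.mem_open U₂.2 hxU₂, hdim1 ξ h.2, fun hun₂ => hξ ?_⟩
        simp only [Tt, dif_pos h, tameFracX_eq_one_of_unitAt (hdim1 ξ h.2) hun₁ hun₂]
        exact ordAt_one h.1
      · left
        exact ⟨h.1.mem_open U₁.2 hxU₁, hdim1 ξ h.2, hun₁⟩
    · exfalso
      apply hξ
      simp only [Tt, dif_neg h]
  have hfA : (Function.support At).Finite := hfin.subset hsuppA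
  have hfB : (Function.support Bt).Finite := hfin.subset hsuppB
  have hfT : (Function.support Tt).Finite := hfin.subset hsuppT
  -- (iv)
  have hiv : ∑ᶠ ξ, Tt ξ = 0 := by
    rw [← skl_frac x hdimx ψs ψt hψs0 hψt0]
    refine finsum_congr (fun ξ => ?_)
    by_cases h : ξ ⤳ x ∧ δ x + 1 = δ ξ
    · have h' : ξ ⤳ x ∧ ringKrullDim (X.presheaf.stalk ξ) = 1 := ⟨h.1, hdim1 ξ h.2⟩
      simp only [Tt, dif_pos h, dif_pos h']
    · have h' : ¬ (ξ ⤳ x ∧ ringKrullDim (X.presheaf.stalk ξ) = 1) := fun h' =>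
        h ⟨h'.1, hdim1' ξ h'.2⟩
      simp only [Tt, dif_neg h, dif_neg h']
  unfold Cyc.c1CapFun
  rw [finsum_congr hi, finsum_congr hii₁, finsum_congr hii₂,
    finsum_sub_distrib (hfT.union hfA |>.subset (Function.support_add _ _)) hfB,
    finsum_add_distrib hfT hfA, hiv, zero_add]

end Groth.Agent.H34.Key
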