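import Groth.Agent.H34.KeyDefs

/-!
# Definitions for the relative key formula (on the closure of a point `ζ` of any scheme)

For `ζ ⤳ ξ` the local ring of the closure of `ζ` at `ξ` is `Cyc.LocQuot ξ ζ h = O_ξ/𝔭_ζ`, with
fraction field `κ(ζ)` and residue field `κ(ξ)`.
-/

set_option autoImplicit false
set_option linter.style.haveILetI false

universe u v

open CategoryTheory AlgebraicGeometry TopologicalSpace Opposite

namespace Groth.Agent.H34.KeyRel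

open Groth.Agent.H34.Key
open Groth.Agent.H18.TensorGen (IsGen exists_isGen exists_isGen_pair)

variable {X : Scheme.{u}}

instance kerPrime {ζ ξ : X} (h : ζ ⤳ ξ) : (RingHom.ker (Cyc.specMap ξ ζ h)).IsPrime :=
  RingHom.ker_isPrime _

instance locQuotLocal {ζ ξ : X} (h : ζ ⤳ ξ) : IsLocalRing (Cyc.LocQuot ξ ζ h) :=
  IsLocalRing.of_surjective' (Ideal.Quotient.mk (RingHom.ker (Cyc.specMap ξ ζ h)))
    Ideal.Quotient.mk_surjective

instance mkLocalHom {ζ ξ : X} (h : ζ ⤳ ξ) :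
    IsLocalHom (Ideal.Quotient.mk (RingHom.ker (Cyc.specMap ξ ζ h))) :=
  IsLocalHom.of_surjective _ Ideal.Quotient.mk_surjective

/-- The map `κ(ξ) → κ(O_ξ/𝔭_ζ)` induced by the quotient map. -/
noncomputable def resLQ {ζ ξ : X} (h : ζ ⤳ ξ) :
    X.residueField ξ →+* IsLocalRing.ResidueField (Cyc.LocQuot ξ ζ h) :=
  IsLocalRing.ResidueField.map (Ideal.Quotient.mk (RingHom.ker (Cyc.specMap ξ ζ h)))

theorem resLQ_residue {ζ ξ : X} (h : ζ ⤳ ξ) (c : X.presheaf.stalk ξ) :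
    resLQ h (X.residue ξ c) =
      IsLocalRing.residue (Cyc.LocQuot ξ ζ h)
        (Ideal.Quotient.mk (RingHom.ker (Cyc.specMap ξ ζ h)) c) := rfl

theorem resLQ_bijective {ζ ξ : X} (h : ζ ⤳ ξ) : Function.Bijective (resLQ h) := by
  refine ⟨(resLQ h).injective, fun y => ?_⟩
  obtain ⟨r, rfl⟩ := IsLocalRing.residue_surjective y
  obtain ⟨c, rfl⟩ := Ideal.Quotient.mk_surjective r
  exact ⟨X.residue ξ c, resLQ_residue h c⟩

/-- The residue field of `O_ξ/𝔭_ζ` is `κ(ξ)`. -/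
noncomputable def resLQEquiv {ζ ξ : X} (h : ζ ⤳ ξ) :
    IsLocalRing.ResidueField (Cyc.LocQuot ξ ζ h) ≃+* X.residueField ξ :=
  (RingEquiv.ofBijective (resLQ h) (resLQ_bijective h)).symm

theorem resLQEquiv_residue_mk {ζ ξ : X} (h : ζ ⤳ ξ) (c : X.presheaf.stalk ξ) :
    resLQEquiv h (IsLocalRing.residue (Cyc.LocQuot ξ ζ h)
      (Ideal.Quotient.mk (RingHom.ker (Cyc.specMap ξ ζ h)) c)) = X.residue ξ c := by
  rw [← resLQ_residue h c]
  exact (RingEquiv.ofBijective (resLQ h) (resLQ_bijective h)).symm_apply_apply (X.residue ξ c)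

/-- The extended tame symbol of `O_ξ/𝔭_ζ` on `κ(ζ)`, with values in `κ(ξ)`. -/
noncomputable def tameRel {ζ ξ : X} (h : ζ ⤳ ξ) (ψ χ : X.residueField ζ) : X.residueField ξ :=
  resLQEquiv h (tameFrac (Cyc.LocQuot ξ ζ h) (X.residueField ζ) ψ χ)

/-- `ψ ∈ κ(ζ)` is the image of a unit of `O_ξ`. -/
def UnitAtRel {ζ ξ : X} (h : ζ ⤳ ξ) (ψ : X.residueField ζ) : Prop :=
  ∃ c : X.presheaf.stalk ξ, IsUnit c ∧ Cyc.specMap ξ ζ h c = ψ

/-- The function attached to local data at `ξ` on the closure of `ζ`. -/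
noncomputable def gOfRel {ζ ξ : X} (h : ζ ⤳ ξ) (ψs ψt : X.presheaf.stalk ζ)
    (φu φv : X.presheaf.stalk ξ) : X.residueField ξ :=
  tameRel h (X.residue ζ ψs) (X.residue ζ ψt) *
    (X.residue ξ φu) ^ (Cyc.ordAt ξ ζ h (X.residue ζ ψs)) *
    ((X.residue ξ φv) ^ (Cyc.ordAt ξ ζ h (X.residue ζ ψt)))⁻¹

/-- Local generator data at `ξ` for `s ∈ L(ζ)`, `t ∈ N(ζ)`, `u ∈ N(ξ)`, `v ∈ L(ξ)`. -/
structure GDataRel (L N : X.Modules) (ζ : X) (s : Cyc.secFibre L ζ) (t : Cyc.secFibre N ζ)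
    (ξ : X) (u : Cyc.secFibre N ξ) (v : Cyc.secFibre L ξ) where
  V : X.Opens
  hξ : ξ ∈ V
  hζ : ζ ∈ V
  τ : Γ(L, V)
  ν : Γ(N, V)
  hτ : IsGen L V τ
  hν : IsGen N V ν
  ψs : X.presheaf.stalk ζ
  ψt : X.presheaf.stalk ζ
  φu : X.presheaf.stalk ξ
  φv : X.presheaf.stalk ξ
  hs : s = ψs • (Submodule.Quotient.mk (L.presheaf.germ V ζ hζ τ) : Cyc.secFibre L ζ)
  ht : t = ψt • (Submodule.Quotient.mk (N.presheaf.germ V ζ hζ ν) : Cyc.secFibre N ζ)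
  hu : u = φu • (Submodule.Quotient.mk (N.presheaf.germ V ξ hξ ν) : Cyc.secFibre N ξ)
  hv : v = φv • (Submodule.Quotient.mk (L.presheaf.germ V ξ hξ τ) : Cyc.secFibre L ξ)

/-- The function attached to a datum. -/
noncomputable def GDataRel.val {L N : X.Modules} {ζ : X} {s : Cyc.secFibre L ζ}
    {t : Cyc.secFibre N ζ} {ξ : X} {u : Cyc.secFibre N ξ} {v : Cyc.secFibre L ξ}
    (D : GDataRel L N ζ s t ξ u v) (h : ζ ⤳ ξ) : X.residueField ξ :=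
  gOfRel h D.ψs D.ψt D.φu D.φv

theorem nonempty_gDataRel {L N : X.Modules} (hL : PicF.IsInvertible L)
    (hN : PicF.IsInvertible N) {ζ ξ : X} (h : ζ ⤳ ξ) (s : Cyc.secFibre L ζ)
    (t : Cyc.secFibre N ζ) (u : Cyc.secFibre N ξ) (v : Cyc.secFibre L ξ) :
    Nonempty (GDataRel L N ζ s t ξ u v) := by
  obtain ⟨V, τ, ν, hξV, hτ, hν⟩ := exists_isGen_pair hL hN ξ
  have hζV : ζ ∈ V := h.mem_open V.2 hξV
  obtain ⟨ψs, hψs⟩ := Groth.Agent.H95.SecOrd.exists_eq_smul_mk hτ ζ hζV s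
  obtain ⟨ψt, hψt⟩ := Groth.Agent.H95.SecOrd.exists_eq_smul_mk hν ζ hζV t
  obtain ⟨φu, hφu⟩ := Groth.Agent.H95.SecOrd.exists_eq_smul_mk hν ξ hξV u
  obtain ⟨φv, hφv⟩ := Groth.Agent.H95.SecOrd.exists_eq_smul_mk hτ ξ hξV v
  exact ⟨⟨V, hξV, hζV, τ, ν, hτ, hν, ψs, ψt, φu, φv, hψs, hψt, hφu, hφv⟩⟩

open Classical in
/-- The function `g_ξ` on the closure of `ζ` (equal to `1` away from the closure). -/
noncomputable def gFunRel {L N : X.Modules} (hL : PicF.IsInvertible L)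
    (hN : PicF.IsInvertible N) (ζ : X) (s : Cyc.secFibre L ζ) (t : Cyc.secFibre N ζ)
    (u : (ξ : X) → Cyc.secFibre N ξ) (v : (ξ : X) → Cyc.secFibre L ξ) (ξ : X) :
    X.residueField ξ :=
  if h : ζ ⤳ ξ then (Classical.choice (nonempty_gDataRel hL hN h s t (u ξ) (v ξ))).val h else 1

/-- The statement of the relative key formula in pointwise form: for `s ∈ L(ζ)`, `t ∈ N(ζ)`
nonzero, the difference `c₁(N) ∩ div_L(s) - c₁(L) ∩ div_N(t)` is the sum of the divisors of a locally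
finite family of nonzero rational functions `g ξ ∈ κ(ξ)` on the codimension one points `ξ` of the
closure of `ζ`. -/
def RKFStatement : Prop :=
  ∀ (X : Scheme.{u}) (δ : X → ℤ) (_ : Cyc.IsSetup X δ) (L N : X.Modules)
    (_ : PicF.IsInvertible L) (_ : PicF.IsInvertible N) (ζ : X)
    (s : Cyc.secFibre L ζ) (_ : s ≠ 0) (t : Cyc.secFibre N ζ) (_ : t ≠ 0)
    (u : (ξ : X) → Cyc.secFibre N ξ) (_ : ∀ ξ, u ξ ≠ 0)
    (v : (ξ : X) → Cyc.secFibre L ξ) (_ : ∀ ξ, v ξ ≠ 0),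
    ∃ g : (ξ : X) → X.residueField ξ, (∀ ξ, g ξ ≠ 0) ∧
      (∀ x : X, ∃ U : Set X, IsOpen U ∧ x ∈ U ∧
        {ξ : X | g ξ ≠ 1 ∧ (closure {ξ} ∩ U).Nonempty}.Finite) ∧
      (∀ ξ, g ξ ≠ 1 → ζ ⤳ ξ ∧ δ ξ + 1 = δ ζ) ∧
      ∀ x : X, ∑ᶠ ξ : X, Cyc.divFun δ ξ (g ξ) x =
        Cyc.c1CapFun δ N (Cyc.secDivFun δ L ζ s) u x -
          Cyc.c1CapFun δ L (Cyc.secDivFun δ N ζ t) v x

end Groth.Agent.H34.KeyRel
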