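import Groth.Agent.H34.KeyRelMain

/-!
# Local finiteness of divisors of rational functions and rational sections
-/

set_option autoImplicit false
set_option linter.style.haveILetI false

universe u

open CategoryTheory AlgebraicGeometry TopologicalSpace Opposite

namespace Groth.Agent.H34.KeyRel

open Groth.Agent.H34.Key Groth.Agent.H34.KeyRelP
open Groth.Agent.H18.TensorGen (IsGen exists_isGen)
open Groth.Agent.H95.SecOrd

variable {X : Scheme.{u}}

/-- The principal divisor of a nonzero rational function on the closure of `ζ` has finitely many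
components through a given point. -/
theorem finite_divFun (δ : X → ℤ) (hX : Cyc.IsSetup X δ) (ζ : X) (f : X.residueField ζ)
    (hf : f ≠ 0) (x : X) : {ξ : X | ξ ⤳ x ∧ Cyc.divFun δ ζ f ξ ≠ 0}.Finite := by
  classical
  by_cases hζx : ζ ⤳ x
  · obtain ⟨U, hxU, hfin⟩ := finite_not_unitAtRel δ hX hζx f hf
    refine hfin.subset ?_
    rintro ξ ⟨hξx, hne⟩
    unfold Cyc.divFun at hne
    by_cases hc : ζ ⤳ ξ ∧ δ ξ + 1 = δ ζ
    · rw [dif_pos hc] at hne
      exact ⟨hξx.mem_open U.2 hxU, hc.1, hc.2, fun hun => hne (ordAt_eq_zero_of_unitAt hc.1 hun)⟩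
    · rw [dif_neg hc] at hne
      exact absurd rfl hne
  · convert Set.finite_empty
    ext ξ
    simp only [Set.mem_setOf_eq, Set.mem_empty_iff_false, iff_false, not_and]
    intro hξx hne
    unfold Cyc.divFun at hne
    by_cases hc : ζ ⤳ ξ ∧ δ ξ + 1 = δ ζ
    · exact hζx (hc.1.trans hξx)
    · rw [dif_neg hc] at hne
      exact hne rfl

/-- The divisor of a nonzero rational section on the closure of `ζ` has finitely many components
through a given point. -/
theorem finite_secDivFun (δ : X → ℤ) (hX : Cyc.IsSetup X δ) {L : X.Modules}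
    (hL : PicF.IsInvertible L) (ζ : X) (s : Cyc.secFibre L ζ) (hs : s ≠ 0) (x : X) :
    {ξ : X | ξ ⤳ x ∧ Cyc.secDivFun δ L ζ s ξ ≠ 0}.Finite := by
  classical
  by_cases hζx : ζ ⤳ x
  · obtain ⟨V, τ, hxV, hτ⟩ := exists_isGen hL x
    have hζV : ζ ∈ V := hζx.mem_open V.2 hxV
    obtain ⟨ψ, hψ⟩ := exists_eq_smul_mk hτ ζ hζV s
    have hψ0 : X.residue ζ ψ ≠ 0 := residue_ne_zero_of_isUnit
      (isUnit_of_mk_ne_zero ζ hζV s hs _ hψ)
    obtain ⟨U, hxU, hfin⟩ := finite_not_unitAtRel δ hX hζx (X.residue ζ ψ) hψ0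
    refine hfin.subset ?_
    rintro ξ ⟨hξx, hne⟩
    unfold Cyc.secDivFun at hne
    by_cases hc : ζ ⤳ ξ ∧ δ ξ + 1 = δ ζ
    · rw [dif_pos hc, secOrdAt_eq_of_isGen hτ hc.1 (hξx.mem_open V.2 hxV) hζV s ψ hψ] at hne
      exact ⟨hξx.mem_open U.2 hxU, hc.1, hc.2, fun hun => hne (ordAt_eq_zero_of_unitAt hc.1 hun)⟩
    · rw [dif_neg hc] at hne
      exact absurd rfl hne
  · convert Set.finite_empty
    ext ξ
    simp only [Set.mem_setOf_eq, Set.mem_empty_iff_false, iff_false, not_and]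
    intro hξx hne
    unfold Cyc.secDivFun at hne
    by_cases hc : ζ ⤳ ξ ∧ δ ξ + 1 = δ ζ
    · exact hζx (hc.1.trans hξx)
    · rw [dif_neg hc] at hne
      exact hne rfl

end Groth.Agent.H34.KeyRel
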