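import Groth.Agent.H34.KeyRelPieces
import Groth.Agent.H34.KeyIndep

/-!
# Relative key formula: independence of the local generator data
-/

set_option autoImplicit false
set_option linter.style.haveILetI false

universe u

open CategoryTheory AlgebraicGeometry TopologicalSpace Opposite

namespace Groth.Agent.H34.KeyRel

open Groth.Agent.H34.Key Groth.Agent.H34.KeyP Groth.Agent.H34.KeyRelP
open Groth.Agent.H18.TensorGen (IsGen)
open Groth.Agent.H95.SecOrd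

variable {X : Scheme.{u}}

theorem algebraMap_mk_eq {ζ ξ : X} (h : ζ ⤳ ξ) (c : X.presheaf.stalk ξ) :
    algebraMap (Cyc.LocQuot ξ ζ h) (X.residueField ζ)
      (Ideal.Quotient.mk (RingHom.ker (Cyc.specMap ξ ζ h)) c) = Cyc.specMap ξ ζ h c := rfl

/-- The relative tame symbol: multiplicativity and units, with values in `κ(ξ)`. -/
theorem tameRel_mul_left [IsLocallyNoetherian X] {ζ ξ : X} (h : ζ ⤳ ξ)
    (hdim : ringKrullDim (Cyc.LocQuot ξ ζ h) = 1) (ψ ψ' χ : X.residueField ζ) (hψ : ψ ≠ 0)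
    (hψ' : ψ' ≠ 0) (hχ : χ ≠ 0) :
    tameRel h (ψ * ψ') χ = tameRel h ψ χ * tameRel h ψ' χ := by
  haveI := Groth.Agent.H95.CycZero.isFractionRing_locQuot h
  unfold tameRel
  rw [tameFrac_mul_left _ _ hdim ψ ψ' χ hψ hψ' hχ, map_mul]

theorem tameRel_mul_right [IsLocallyNoetherian X] {ζ ξ : X} (h : ζ ⤳ ξ)
    (hdim : ringKrullDim (Cyc.LocQuot ξ ζ h) = 1) (ψ χ χ' : X.residueField ζ) (hψ : ψ ≠ 0)
    (hχ : χ ≠ 0) (hχ' : χ' ≠ 0) :
    tameRel h ψ (χ * χ') = tameRel h ψ χ * tameRel h ψ χ' := by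
  haveI := Groth.Agent.H95.CycZero.isFractionRing_locQuot h
  unfold tameRel
  rw [tameFrac_mul_right _ _ hdim ψ χ χ' hψ hχ hχ', map_mul]

theorem tameRel_ne_zero [IsLocallyNoetherian X] {ζ ξ : X} (h : ζ ⤳ ξ)
    (hdim : ringKrullDim (Cyc.LocQuot ξ ζ h) = 1) (ψ χ : X.residueField ζ) (hψ : ψ ≠ 0)
    (hχ : χ ≠ 0) : tameRel h ψ χ ≠ 0 := by
  haveI := Groth.Agent.H95.CycZero.isFractionRing_locQuot h
  unfold tameRel
  rw [Ne, map_eq_zero_iff _ (resLQEquiv h).injective]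
  exact tameFrac_ne_zero _ _ hdim ψ χ hψ hχ

theorem tameRel_unit_left [IsLocallyNoetherian X] {ζ ξ : X} (h : ζ ⤳ ξ)
    (hdim : ringKrullDim (Cyc.LocQuot ξ ζ h) = 1) (c : X.presheaf.stalk ξ) (hc : IsUnit c)
    (χ : X.residueField ζ) (hχ : χ ≠ 0) :
    tameRel h (Cyc.specMap ξ ζ h c) χ = (X.residue ξ c) ^ (Cyc.ordAt ξ ζ h χ) := by
  haveI := Groth.Agent.H95.CycZero.isFractionRing_locQuot h
  unfold tameRel
  rw [← algebraMap_mk_eq h c, tameFrac_unit_left _ _ hdim _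
    (hc.map (Ideal.Quotient.mk (RingHom.ker (Cyc.specMap ξ ζ h)))) χ hχ, map_zpow₀,
    resLQEquiv_residue_mk]
  rfl

theorem tameRel_unit_right [IsLocallyNoetherian X] {ζ ξ : X} (h : ζ ⤳ ξ)
    (hdim : ringKrullDim (Cyc.LocQuot ξ ζ h) = 1) (c : X.presheaf.stalk ξ) (hc : IsUnit c)
    (ψ : X.residueField ζ) (hψ : ψ ≠ 0) :
    tameRel h ψ (Cyc.specMap ξ ζ h c) = ((X.residue ξ c) ^ (Cyc.ordAt ξ ζ h ψ))⁻¹ := by
  haveI := Groth.Agent.H95.CycZero.isFractionRing_locQuot h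
  unfold tameRel
  rw [← algebraMap_mk_eq h c, tameFrac_unit_right _ _ hdim _
    (hc.map (Ideal.Quotient.mk (RingHom.ker (Cyc.specMap ξ ζ h)))) ψ hψ, map_inv₀, map_zpow₀,
    resLQEquiv_residue_mk]
  rfl

/-- (T7) the function attached to local generator data does not depend on the data. -/
theorem gDataRel_val_eq [IsLocallyNoetherian X] {L N : X.Modules} {ζ : X}
    {s : Cyc.secFibre L ζ} (hs : s ≠ 0) {t : Cyc.secFibre N ζ} (ht : t ≠ 0) {ξ : X}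
    (h : ζ ⤳ ξ) (hdim : ringKrullDim (Cyc.LocQuot ξ ζ h) = 1) {u : Cyc.secFibre N ξ}
    {v : Cyc.secFibre L ξ} (D D' : GDataRel L N ζ s t ξ u v) : D.val h = D'.val h := by
  obtain ⟨c, hc, hcu⟩ := exists_rebase D.hτ D'.hτ
  obtain ⟨d, hd, hdu⟩ := exists_rebase D.hν D'.hν
  have hξW : ξ ∈ D.V ⊓ D'.V := ⟨D.hξ, D'.hξ⟩
  have hζW : ζ ∈ D.V ⊓ D'.V := ⟨D.hζ, D'.hζ⟩
  -- relations at ζ
  have e1 : X.residue ζ D.ψs = X.residue ζ D'.ψs *
      Cyc.specMap ξ ζ h (X.presheaf.germ (D.V ⊓ D'.V) ξ hξW c) := by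
    have h0 := coeff_rel D.hτ c hc ζ hζW s D.ψs D'.ψs D.hs D'.hs
    rw [← residue_eq_zero_iff, map_sub, sub_eq_zero, map_mul] at h0
    rw [specMap_germ h hξW hζW c]
    exact h0
  have e2 : X.residue ζ D.ψt = X.residue ζ D'.ψt *
      Cyc.specMap ξ ζ h (X.presheaf.germ (D.V ⊓ D'.V) ξ hξW d) := by
    have h0 := coeff_rel D.hν d hd ζ hζW t D.ψt D'.ψt D.ht D'.ht
    rw [← residue_eq_zero_iff, map_sub, sub_eq_zero, map_mul] at h0
    rw [specMap_germ h hξW hζW d]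
    exact h0
  -- relations at ξ
  have e3 : X.residue ξ D.φu = X.residue ξ D'.φu *
      X.residue ξ (X.presheaf.germ (D.V ⊓ D'.V) ξ hξW d) := by
    have h0 := coeff_rel D.hν d hd ξ hξW u D.φu D'.φu D.hu D'.hu
    rw [← residue_eq_zero_iff, map_sub, sub_eq_zero, map_mul] at h0
    exact h0
  have e4 : X.residue ξ D.φv = X.residue ξ D'.φv *
      X.residue ξ (X.presheaf.germ (D.V ⊓ D'.V) ξ hξW c) := by
    have h0 := coeff_rel D.hτ c hc ξ hξW v D.φv D'.φv D.hv D'.hv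
    rw [← residue_eq_zero_iff, map_sub, sub_eq_zero, map_mul] at h0
    exact h0
  obtain ⟨cξ, hcξ⟩ : ∃ cξ, cξ = X.presheaf.germ (D.V ⊓ D'.V) ξ hξW c := ⟨_, rfl⟩
  obtain ⟨dξ, hdξ⟩ : ∃ dξ, dξ = X.presheaf.germ (D.V ⊓ D'.V) ξ hξW d := ⟨_, rfl⟩
  rw [← hcξ] at e1 e4
  rw [← hdξ] at e2 e3
  have hcξu : IsUnit cξ := hcξ ▸ hcu ξ hξW
  have hdξu : IsUnit dξ := hdξ ▸ hdu ξ hξW
  -- nonvanishing
  have hψs' : X.residue ζ D'.ψs ≠ 0 := residue_ne_zero_of_isUnit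
    (isUnit_of_mk_ne_zero ζ D'.hζ s hs _ D'.hs)
  have hψt' : X.residue ζ D'.ψt ≠ 0 := residue_ne_zero_of_isUnit
    (isUnit_of_mk_ne_zero ζ D'.hζ t ht _ D'.ht)
  have hac : Cyc.specMap ξ ζ h cξ ≠ 0 := by
    rw [specMap_apply]
    exact residue_ne_zero_of_isUnit (hcξu.map (X.presheaf.stalkSpecializes h).hom)
  have had : Cyc.specMap ξ ζ h dξ ≠ 0 := by
    rw [specMap_apply]
    exact residue_ne_zero_of_isUnit (hdξu.map (X.presheaf.stalkSpecializes h).hom)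
  unfold GDataRel.val gOfRel
  rw [e1, e2, e3, e4, ordAt_mul_specMap_unit h _ hcξu, ordAt_mul_specMap_unit h _ hdξu,
    tameRel_mul_left h hdim _ _ _ hψs' hac (mul_ne_zero hψt' had),
    tameRel_mul_right h hdim _ _ _ hψs' hψt' had,
    tameRel_unit_right h hdim dξ hdξu _ hψs',
    tameRel_unit_left h hdim cξ hcξu _ (mul_ne_zero hψt' had),
    ordAt_mul_specMap_unit h _ hdξu]
  exact field_calc _ _ _ _ _ _ _ (residue_ne_zero_of_isUnit hdξu)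
    (residue_ne_zero_of_isUnit hcξu)

end Groth.Agent.H34.KeyRel
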