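import Groth.Agent.H34.KeyRelPoint

/-!
# The relative key formula (pointwise form): assembly
-/

set_option autoImplicit false
set_option linter.style.haveILetI false

universe u

open CategoryTheory AlgebraicGeometry TopologicalSpace Opposite

namespace Groth.Agent.H34.KeyRel

open Groth.Agent.H34.Key Groth.Agent.H34.KeyRelP
open Groth.Agent.H18.TensorGen (IsGen exists_isGen_pair)
open Groth.Agent.H95.SecOrd
open Groth.Agent.H95.C1Cap (ordAt_one)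

variable {X : Scheme.{u}}

theorem c1Cap_eq_zero_rel (δ : X → ℤ) {L N : X.Modules} (ζ : X)
    (s : Cyc.secFibre L ζ) (u : (ξ : X) → Cyc.secFibre N ξ) (x : X)
    (hx : ¬ (ζ ⤳ x ∧ δ x + 2 = δ ζ)) :
    Cyc.c1CapFun δ N (Cyc.secDivFun δ L ζ s) u x = 0 := by
  unfold Cyc.c1CapFun
  refine finsum_eq_zero_of_forall_eq_zero (fun ξ => ?_)
  by_cases h1 : ζ ⤳ ξ ∧ δ ξ + 1 = δ ζ
  · by_cases h2 : ξ ⤳ x ∧ δ x + 1 = δ ξ
    · exfalso
      apply hx
      refine ⟨h1.1.trans h2.1, ?_⟩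
      have := h1.2
      have := h2.2
      omega
    · have : Cyc.secDivFun δ N ξ (u ξ) x = 0 := by
        unfold Cyc.secDivFun
        rw [dif_neg h2]
      rw [this, mul_zero]
  · have : Cyc.secDivFun δ L ζ s ξ = 0 := by
      unfold Cyc.secDivFun
      rw [dif_neg h1]
    rw [this, zero_mul]

theorem gRel_ne_one {δ : X → ℤ} {L N : X.Modules} {hL : PicF.IsInvertible L}
    {hN : PicF.IsInvertible N} {ζ : X} {s : Cyc.secFibre L ζ} {t : Cyc.secFibre N ζ}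
    {u : (ξ : X) → Cyc.secFibre N ξ} {v : (ξ : X) → Cyc.secFibre L ξ} {ξ : X}
    (h : gRel δ hL hN ζ s t u v ξ ≠ 1) : ζ ⤳ ξ ∧ δ ξ + 1 = δ ζ := by
  classical
  by_contra hc
  apply h
  unfold gRel
  rw [if_neg hc]

theorem gOfRel_eq_one_of_unitAt [IsLocallyNoetherian X] {ζ ξ : X} (h : ζ ⤳ ξ)
    (hdim : ringKrullDim (Cyc.LocQuot ξ ζ h) = 1) (ψs ψt : X.presheaf.stalk ζ)
    (hUs : UnitAtRel h (X.residue ζ ψs)) (hUt : UnitAtRel h (X.residue ζ ψt))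
    (φu φv : X.presheaf.stalk ξ) : gOfRel h ψs ψt φu φv = 1 := by
  unfold gOfRel
  rw [tameRel_eq_one_of_unitAt h hdim hUs hUt, ordAt_eq_zero_of_unitAt h hUs,
    ordAt_eq_zero_of_unitAt h hUt, zpow_zero, zpow_zero, inv_one, mul_one, mul_one]

theorem gRel_ne_zero (δ : X → ℤ) (hX : Cyc.IsSetup X δ) {L N : X.Modules}
    (hL : PicF.IsInvertible L) (hN : PicF.IsInvertible N) (ζ : X)
    (s : Cyc.secFibre L ζ) (hs : s ≠ 0) (t : Cyc.secFibre N ζ) (ht : t ≠ 0)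
    (u : (ξ : X) → Cyc.secFibre N ξ) (hu : ∀ ξ, u ξ ≠ 0)
    (v : (ξ : X) → Cyc.secFibre L ξ) (hv : ∀ ξ, v ξ ≠ 0) (ξ : X) :
    gRel δ hL hN ζ s t u v ξ ≠ 0 := by
  classical
  haveI : IsLocallyNoetherian X := hX.1
  unfold gRel
  split_ifs with hc
  · have hd1 : ringKrullDim (Cyc.LocQuot ξ ζ hc.1) = 1 :=
      dim_locQuot_eq δ hX hc.1 1 (by push_cast; omega)
    unfold gFunRel
    rw [dif_pos hc.1]
    obtain ⟨D, hD⟩ : ∃ D : GDataRel L N ζ s t ξ (u ξ) (v ξ),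
        D = Classical.choice (nonempty_gDataRel hL hN hc.1 s t (u ξ) (v ξ)) := ⟨_, rfl⟩
    rw [← hD]
    have hψs0 : X.residue ζ D.ψs ≠ 0 := residue_ne_zero_of_isUnit
      (isUnit_of_mk_ne_zero ζ D.hζ s hs _ D.hs)
    have hψt0 : X.residue ζ D.ψt ≠ 0 := residue_ne_zero_of_isUnit
      (isUnit_of_mk_ne_zero ζ D.hζ t ht _ D.ht)
    have hT0 := tameRel_ne_zero hc.1 hd1 _ _ hψs0 hψt0
    have hu0 : X.residue ξ D.φu ≠ 0 := residue_ne_zero_of_isUnit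
      (isUnit_of_mk_ne_zero ξ D.hξ (u ξ) (hu ξ) _ D.hu)
    have hv0 : X.residue ξ D.φv ≠ 0 := residue_ne_zero_of_isUnit
      (isUnit_of_mk_ne_zero ξ D.hξ (v ξ) (hv ξ) _ D.hv)
    unfold GDataRel.val gOfRel
    exact mul_ne_zero (mul_ne_zero hT0 (zpow_ne_zero _ hu0)) (inv_ne_zero (zpow_ne_zero _ hv0))
  · exact one_ne_zero

theorem locallyFinite_gRel (δ : X → ℤ) (hX : Cyc.IsSetup X δ) {L N : X.Modules}
    (hL : PicF.IsInvertible L) (hN : PicF.IsInvertible N) (ζ : X)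
    (s : Cyc.secFibre L ζ) (hs : s ≠ 0) (t : Cyc.secFibre N ζ) (ht : t ≠ 0)
    (u : (ξ : X) → Cyc.secFibre N ξ) (v : (ξ : X) → Cyc.secFibre L ξ) (x : X) :
    ∃ U : Set X, IsOpen U ∧ x ∈ U ∧
      {ξ : X | gRel δ hL hN ζ s t u v ξ ≠ 1 ∧ (closure {ξ} ∩ U).Nonempty}.Finite := by
  classical
  haveI : IsLocallyNoetherian X := hX.1
  by_cases hζx : ζ ⤳ x
  · obtain ⟨V, τ, ν, hxV, hτ, hν⟩ := exists_isGen_pair hL hN x
    have hζV : ζ ∈ V := hζx.mem_open V.2 hxV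
    obtain ⟨ψs, hψs⟩ := exists_eq_smul_mk hτ ζ hζV s
    obtain ⟨ψt, hψt⟩ := exists_eq_smul_mk hν ζ hζV t
    have hψs0 : X.residue ζ ψs ≠ 0 := residue_ne_zero_of_isUnit
      (isUnit_of_mk_ne_zero ζ hζV s hs _ hψs)
    have hψt0 : X.residue ζ ψt ≠ 0 := residue_ne_zero_of_isUnit
      (isUnit_of_mk_ne_zero ζ hζV t ht _ hψt)
    obtain ⟨U₁, hxU₁, hfin₁⟩ := finite_not_unitAtRel δ hX hζx (X.residue ζ ψs) hψs0
    obtain ⟨U₂, hxU₂, hfin₂⟩ := finite_not_unitAtRel δ hX hζx (X.residue ζ ψt) hψt0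
    refine ⟨((V : Set X) ∩ U₁) ∩ U₂, (V.isOpen.inter U₁.isOpen).inter U₂.isOpen,
      ⟨⟨hxV, hxU₁⟩, hxU₂⟩, (hfin₁.union hfin₂).subset ?_⟩
    rintro ξ ⟨hg, ⟨z, hz1, hz2⟩⟩
    have hξU : ξ ∈ ((V : Set X) ∩ U₁) ∩ U₂ :=
      (specializes_iff_mem_closure.mpr hz1).mem_open
        ((V.isOpen.inter U₁.isOpen).inter U₂.isOpen) hz2
    obtain ⟨⟨hξV, hξ1⟩, hξ2⟩ := hξU
    have hc := gRel_ne_one hg
    have hd1 : ringKrullDim (Cyc.LocQuot ξ ζ hc.1) = 1 :=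
      dim_locQuot_eq δ hX hc.1 1 (by push_cast; omega)
    by_contra hnot
    rw [Set.mem_union, not_or] at hnot
    have hUs : UnitAtRel hc.1 (X.residue ζ ψs) := by
      by_contra h
      exact hnot.1 ⟨hξ1, hc.1, hc.2, h⟩
    have hUt : UnitAtRel hc.1 (X.residue ζ ψt) := by
      by_contra h
      exact hnot.2 ⟨hξ2, hc.1, hc.2, h⟩
    obtain ⟨φu, hφu⟩ := exists_eq_smul_mk hν ξ hξV (u ξ)
    obtain ⟨φv, hφv⟩ := exists_eq_smul_mk hτ ξ hξV (v ξ)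
    apply hg
    unfold gRel gFunRel
    rw [if_pos hc, dif_pos hc.1]
    rw [gDataRel_val_eq hs ht hc.1 hd1 _
      (⟨V, hξV, hζV, τ, ν, hτ, hν, ψs, ψt, φu, φv, hψs, hψt, hφu, hφv⟩ :
        GDataRel L N ζ s t ξ (u ξ) (v ξ))]
    exact gOfRel_eq_one_of_unitAt hc.1 hd1 ψs ψt hUs hUt φu φv
  · refine ⟨(closure {ζ})ᶜ, isClosed_closure.isOpen_compl, ?_, ?_⟩
    · intro hmem
      exact hζx (specializes_iff_mem_closure.mpr hmem)
    · convert Set.finite_empty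
      ext ξ
      simp only [Set.mem_setOf_eq, Set.mem_empty_iff_false, iff_false, not_and]
      intro hg
      have hc := gRel_ne_one hg
      rintro ⟨z, hz1, hz2⟩
      apply hz2
      have h1 : ξ ⤳ z := specializes_iff_mem_closure.mpr hz1
      exact specializes_iff_mem_closure.mp (hc.1.trans h1)

/-- The relative key formula, pointwise form. -/
theorem rkf : RKFStatement.{u} := by
  intro X δ hX L N hL hN ζ s hs t ht u hu v hv
  classical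
  refine ⟨gRel δ hL hN ζ s t u v, gRel_ne_zero δ hX hL hN ζ s hs t ht u hu v hv,
    locallyFinite_gRel δ hX hL hN ζ s hs t ht u v, fun ξ h => gRel_ne_one h, fun x => ?_⟩
  by_cases hx : ζ ⤳ x ∧ δ x + 2 = δ ζ
  · exact pointwise_rel δ hX hL hN ζ s hs t ht u hu v hv x hx.1 hx.2
  · rw [c1Cap_eq_zero_rel δ ζ s u x hx, c1Cap_eq_zero_rel δ ζ t v x hx, sub_zero]
    refine finsum_eq_zero_of_forall_eq_zero (fun ξ => ?_)
    unfold Cyc.divFun
    split_ifs with h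
    · by_cases hg : gRel δ hL hN ζ s t u v ξ = 1
      · rw [hg]
        exact ordAt_one h.1
      · exfalso
        apply hx
        have hc := gRel_ne_one hg
        refine ⟨hc.1.trans h.1, ?_⟩
        have := hc.2
        have := h.2
        omega
    · rfl

end Groth.Agent.H34.KeyRel
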