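import Groth.Agent.H34.KeyRelDefs
import Groth.Agent.H87.KeyRing
import Groth.Agent.H84.KeyP1
import Groth.Agent.S1851
import Groth.Agent.H85.CycOpen
import Groth.Agent.H71.DimFun
import Groth.Agent.H37.KeyRelT3
import Groth.Agent.H16.KeyRelT2
import Groth.Agent.H84.KeyRelT4
import Groth.Agent.H37.KeyRelT5
import Groth.Agent.H44.KeyRelT6b

set_option autoImplicit false
set_option linter.style.haveILetI false

universe u v

open CategoryTheory AlgebraicGeometry TopologicalSpace Opposite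

namespace Groth.Agent.H34.KeyRelP

open Groth.Agent.H34.Key Groth.Agent.H34.KeyRel
open Groth.Agent.H18.TensorGen (IsGen exists_isGen exists_isGen_pair)

variable {X : Scheme.{u}}

/-- (T2) the dimension of the local ring of the closure of `ζ` at `x`. -/
theorem exists_dim_locQuot (δ : X → ℤ) (hX : Cyc.IsSetup X δ) {ζ x : X} (h : ζ ⤳ x) :
    ∃ d : ℕ, ringKrullDim (Cyc.LocQuot x ζ h) = (d : WithBot ℕ∞) ∧ δ ζ = δ x + d :=
  Groth.Agent.H16.KeyRelT2.exists_dim_locQuot δ hX h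

/-- (T3) a nonzero rational function on the closure of `ζ` is a unit at all but finitely many
codimension one points of the closure near a given point. -/
theorem finite_not_unitAtRel (δ : X → ℤ) (hX : Cyc.IsSetup X δ) {ζ x : X} (h : ζ ⤳ x)
    (ψ : X.residueField ζ) (hψ : ψ ≠ 0) :
    ∃ U : X.Opens, x ∈ U ∧
      {ξ : X | ξ ∈ U ∧ ∃ h' : ζ ⤳ ξ, δ ξ + 1 = δ ζ ∧ ¬ UnitAtRel h' ψ}.Finite :=
  Groth.Agent.H37.KeyRelT3.finite_not_unitAtRel δ hX h ψ hψ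

/-- (T4) the term of the key lemma (S1851) for `A = O_x/𝔭_ζ` at the prime of `ξ`. -/
theorem skl_term_rel [IsLocallyNoetherian X] {ζ ξ x : X} (h₁ : ζ ⤳ ξ) (h₂ : ξ ⤳ x) (hx : ζ ⤳ x)
    (hξ : ringKrullDim (Cyc.LocQuot ξ ζ h₁) = 1) (a b : X.presheaf.stalk x)
    (ha : Cyc.specMap x ζ hx a ≠ 0) (hb : Cyc.specMap x ζ hx b ≠ 0)
    (q : Ideal (Cyc.LocQuot x ζ hx)) [q.IsPrime]
    (hq : q = (RingHom.ker (Cyc.specMap x ξ h₂)).map
      (Ideal.Quotient.mk (RingHom.ker (Cyc.specMap x ζ hx)))) :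
    CycAlg.ordFrac (Cyc.LocQuot x ζ hx ⧸ q) q.ResidueField
      (CycAlg.tameSymbol (Localization.AtPrime q)
        (algebraMap (Cyc.LocQuot x ζ hx) (Localization.AtPrime q)
          (Ideal.Quotient.mk (RingHom.ker (Cyc.specMap x ζ hx)) a))
        (algebraMap (Cyc.LocQuot x ζ hx) (Localization.AtPrime q)
          (Ideal.Quotient.mk (RingHom.ker (Cyc.specMap x ζ hx)) b))) =
    Cyc.ordAt x ξ h₂ (resLQEquiv h₁ (CycAlg.tameSymbol (Cyc.LocQuot ξ ζ h₁)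
      (Ideal.Quotient.mk (RingHom.ker (Cyc.specMap ξ ζ h₁))
        ((X.presheaf.stalkSpecializes h₂).hom a))
      (Ideal.Quotient.mk (RingHom.ker (Cyc.specMap ξ ζ h₁))
        ((X.presheaf.stalkSpecializes h₂).hom b)))) :=
  Groth.Agent.H84.KeyRelT4.skl_term_rel h₁ h₂ hx hξ a b ha hb q hq

open Classical in
/-- (T5) the key lemma on the closure of `ζ`, for elements of the local ring at `x`. -/
theorem skl_elem_rel (δ : X → ℤ) (hX : Cyc.IsSetup X δ) {ζ x : X} (hx : ζ ⤳ x)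
    (hδ : δ x + 2 = δ ζ) (a b : X.presheaf.stalk x)
    (ha : Cyc.specMap x ζ hx a ≠ 0) (hb : Cyc.specMap x ζ hx b ≠ 0) :
    ∑ᶠ ξ : X, (if h : ζ ⤳ ξ ∧ ξ ⤳ x ∧ δ x + 1 = δ ξ then
      Cyc.ordAt x ξ h.2.1 (resLQEquiv h.1 (CycAlg.tameSymbol (Cyc.LocQuot ξ ζ h.1)
        (Ideal.Quotient.mk (RingHom.ker (Cyc.specMap ξ ζ h.1))
          ((X.presheaf.stalkSpecializes h.2.1).hom a))
        (Ideal.Quotient.mk (RingHom.ker (Cyc.specMap ξ ζ h.1))
          ((X.presheaf.stalkSpecializes h.2.1).hom b))))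
      else 0) = 0 := by
  haveI : IsLocallyNoetherian X := hX.1
  exact Groth.Agent.H37.KeyRelT5.skl_elem_rel_of δ hX
    (fun ζ x h => exists_dim_locQuot δ hX h)
    (fun ζ ξ x h₁ h₂ hx hξ a b ha hb q _ hq => skl_term_rel h₁ h₂ hx hξ a b ha hb q hq)
    hx hδ a b ha hb

open Classical in
/-- (T6) the key lemma on the closure of `ζ`, for rational functions. -/
theorem skl_frac_rel (δ : X → ℤ) (hX : Cyc.IsSetup X δ) {ζ x : X} (hx : ζ ⤳ x)
    (hδ : δ x + 2 = δ ζ) (ψ χ : X.residueField ζ) (hψ : ψ ≠ 0) (hχ : χ ≠ 0) :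
    ∑ᶠ ξ : X, (if h : ζ ⤳ ξ ∧ ξ ⤳ x ∧ δ x + 1 = δ ξ then
      Cyc.ordAt x ξ h.2.1 (tameRel h.1 ψ χ) else 0) = 0 :=
  Groth.Agent.H44.KeyRelT6.skl_frac_rel_of_T5 δ hX hx hδ
    (fun a b ha hb => skl_elem_rel δ hX hx hδ a b ha hb) ψ χ hψ hχ

end Groth.Agent.H34.KeyRelP
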