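import Groth.Agent.H34.KeyRelIndep

/-!
# Relative key formula: the pointwise formula
-/

set_option autoImplicit false
set_option linter.style.haveILetI false

universe u

open CategoryTheory AlgebraicGeometry TopologicalSpace Opposite

namespace Groth.Agent.H34.KeyRel

open Groth.Agent.H34.Key Groth.Agent.H34.KeyRelP
open Groth.Agent.H18.TensorGen (IsGen exists_isGen_pair)
open Groth.Agent.H95.SecOrd
open Groth.Agent.H95.C1Cap (ordAt_one ordAt_inv ordAt_zpow)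

variable {X : Scheme.{u}}

theorem dim_locQuot_eq (δ : X → ℤ) (hX : Cyc.IsSetup X δ) {ζ x : X} (h : ζ ⤳ x) (d : ℕ)
    (hd : δ x + d = δ ζ) : ringKrullDim (Cyc.LocQuot x ζ h) = (d : WithBot ℕ∞) := by
  obtain ⟨d', h1, h2⟩ := exists_dim_locQuot δ hX h
  have : d' = d := by omega
  rw [h1, this]

theorem tameRel_eq_one_of_unitAt [IsLocallyNoetherian X] {ζ ξ : X} (h : ζ ⤳ ξ)
    (hdim : ringKrullDim (Cyc.LocQuot ξ ζ h) = 1) {ψ χ : X.residueField ζ}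
    (hψ : UnitAtRel h ψ) (hχ : UnitAtRel h χ) : tameRel h ψ χ = 1 := by
  obtain ⟨c, hc, rfl⟩ := hψ
  obtain ⟨d, hd, rfl⟩ := hχ
  have hd0 : Cyc.specMap ξ ζ h d ≠ 0 := by
    rw [specMap_apply]
    exact residue_ne_zero_of_isUnit (hd.map (X.presheaf.stalkSpecializes h).hom)
  rw [tameRel_unit_left h hdim c hc _ hd0, ordAt_specMap_unit h hd, zpow_zero]

theorem ordAt_eq_zero_of_unitAt {ζ ξ : X} (h : ζ ⤳ ξ) {ψ : X.residueField ζ}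
    (hψ : UnitAtRel h ψ) : Cyc.ordAt ξ ζ h ψ = 0 := by
  obtain ⟨c, hc, rfl⟩ := hψ
  exact ordAt_specMap_unit h hc

open Classical in
/-- The family of functions of the relative key formula. -/
noncomputable def gRel (δ : X → ℤ) {L N : X.Modules} (hL : PicF.IsInvertible L)
    (hN : PicF.IsInvertible N) (ζ : X) (s : Cyc.secFibre L ζ) (t : Cyc.secFibre N ζ)
    (u : (ξ : X) → Cyc.secFibre N ξ) (v : (ξ : X) → Cyc.secFibre L ξ) (ξ : X) :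
    X.residueField ξ :=
  if ζ ⤳ ξ ∧ δ ξ + 1 = δ ζ then gFunRel hL hN ζ s t u v ξ else 1

/-- (T8) the pointwise formula on the closure of `ζ`. -/
theorem pointwise_rel (δ : X → ℤ) (hX : Cyc.IsSetup X δ) {L N : X.Modules}
    (hL : PicF.IsInvertible L) (hN : PicF.IsInvertible N) (ζ : X)
    (s : Cyc.secFibre L ζ) (hs : s ≠ 0) (t : Cyc.secFibre N ζ) (ht : t ≠ 0)
    (u : (ξ : X) → Cyc.secFibre N ξ) (hu : ∀ ξ, u ξ ≠ 0)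
    (v : (ξ : X) → Cyc.secFibre L ξ) (hv : ∀ ξ, v ξ ≠ 0)
    (x : X) (hζx : ζ ⤳ x) (hx : δ x + 2 = δ ζ) :
    ∑ᶠ ξ : X, Cyc.divFun δ ξ (gRel δ hL hN ζ s t u v ξ) x =
      Cyc.c1CapFun δ N (Cyc.secDivFun δ L ζ s) u x -
        Cyc.c1CapFun δ L (Cyc.secDivFun δ N ζ t) v x := by
  classical
  haveI : IsLocallyNoetherian X := hX.1
  obtain ⟨V, τ, ν, hxV, hτ, hν⟩ := exists_isGen_pair hL hN x
  have hζV : ζ ∈ V := hζx.mem_open V.2 hxV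
  obtain ⟨ψs, hψs⟩ := exists_eq_smul_mk hτ ζ hζV s
  obtain ⟨ψt, hψt⟩ := exists_eq_smul_mk hν ζ hζV t
  have hψs0 : X.residue ζ ψs ≠ 0 := residue_ne_zero_of_isUnit
    (isUnit_of_mk_ne_zero ζ hζV s hs _ hψs)
  have hψt0 : X.residue ζ ψt ≠ 0 := residue_ne_zero_of_isUnit
    (isUnit_of_mk_ne_zero ζ hζV t ht _ hψt)
  choose φu hφu using fun (ξ : X) (hξ : ξ ∈ V) => exists_eq_smul_mk hν ξ hξ (u ξ)
  choose φv hφv using fun (ξ : X) (hξ : ξ ∈ V) => exists_eq_smul_mk hτ ξ hξ (v ξ)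
  have hφuu : ∀ (ξ : X) (hξ : ξ ∈ V), IsUnit (φu ξ hξ) := fun ξ hξ =>
    isUnit_of_mk_ne_zero ξ hξ (u ξ) (hu ξ) _ (hφu ξ hξ)
  have hφvu : ∀ (ξ : X) (hξ : ξ ∈ V), IsUnit (φv ξ hξ) := fun ξ hξ =>
    isUnit_of_mk_ne_zero ξ hξ (v ξ) (hv ξ) _ (hφv ξ hξ)
  have hdim1 : ∀ (ξ : X) (h : ζ ⤳ ξ), δ x + 1 = δ ξ →
      ringKrullDim (Cyc.LocQuot ξ ζ h) = 1 := fun ξ h h' =>
    dim_locQuot_eq δ hX h 1 (by push_cast; omega)
  have hmemV : ∀ ξ : X, ξ ⤳ x → ξ ∈ V := fun ξ h => h.mem_open V.2 hxV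
  -- the three families of terms
  let Tt : X → ℤ := fun ξ => if h : ζ ⤳ ξ ∧ ξ ⤳ x ∧ δ x + 1 = δ ξ then
    Cyc.ordAt x ξ h.2.1 (tameRel h.1 (X.residue ζ ψs) (X.residue ζ ψt)) else 0
  let At : X → ℤ := fun ξ => if h : ζ ⤳ ξ ∧ ξ ⤳ x ∧ δ x + 1 = δ ξ then
    Cyc.ordAt ξ ζ h.1 (X.residue ζ ψs) *
      Cyc.ordAt x ξ h.2.1 (X.residue ξ (φu ξ (hmemV ξ h.2.1))) else 0
  let Bt : X → ℤ := fun ξ => if h : ζ ⤳ ξ ∧ ξ ⤳ x ∧ δ x + 1 = δ ξ then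
    Cyc.ordAt ξ ζ h.1 (X.residue ζ ψt) *
      Cyc.ordAt x ξ h.2.1 (X.residue ξ (φv ξ (hmemV ξ h.2.1))) else 0
  -- (i)
  have hi : ∀ ξ, Cyc.divFun δ ξ (gRel δ hL hN ζ s t u v ξ) x = Tt ξ + At ξ - Bt ξ := by
    intro ξ
    by_cases h : ζ ⤳ ξ ∧ ξ ⤳ x ∧ δ x + 1 = δ ξ
    · have hξV := hmemV ξ h.2.1
      have hd1 := hdim1 ξ h.1 h.2.2
      let D : GDataRel L N ζ s t ξ (u ξ) (v ξ) :=
        ⟨V, hξV, hζV, τ, ν, hτ, hν, ψs, ψt, φu ξ hξV, φv ξ hξV, hψs, hψt, hφu ξ hξV, hφv ξ hξV⟩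
      have hcond : ζ ⤳ ξ ∧ δ ξ + 1 = δ ζ := ⟨h.1, by have := h.2.2; omega⟩
      have hg : gRel δ hL hN ζ s t u v ξ = gOfRel h.1 ψs ψt (φu ξ hξV) (φv ξ hξV) := by
        unfold gRel gFunRel
        rw [if_pos hcond, dif_pos h.1]
        exact gDataRel_val_eq hs ht h.1 hd1 _ D
      have hT0 : tameRel h.1 (X.residue ζ ψs) (X.residue ζ ψt) ≠ 0 :=
        tameRel_ne_zero h.1 hd1 _ _ hψs0 hψt0
      have hu0 : X.residue ξ (φu ξ hξV) ≠ 0 := residue_ne_zero_of_isUnit (hφuu ξ hξV)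
      have hv0 : X.residue ξ (φv ξ hξV) ≠ 0 := residue_ne_zero_of_isUnit (hφvu ξ hξV)
      have h' : ξ ⤳ x ∧ δ x + 1 = δ ξ := h.2
      simp only [Tt, At, Bt, Cyc.divFun, dif_pos h, dif_pos h']
      rw [hg]
      unfold gOfRel
      rw [ordAt_mul h.2.1 (mul_ne_zero hT0 (zpow_ne_zero _ hu0))
          (inv_ne_zero (zpow_ne_zero _ hv0)),
        ordAt_mul h.2.1 hT0 (zpow_ne_zero _ hu0), ordAt_inv h.2.1 (zpow_ne_zero _ hv0),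
        ordAt_zpow h.2.1 hu0, ordAt_zpow h.2.1 hv0]
      ring
    · simp only [Tt, At, Bt, dif_neg h]
      by_cases h' : ξ ⤳ x ∧ δ x + 1 = δ ξ
      · have hnz : ¬ (ζ ⤳ ξ ∧ δ ξ + 1 = δ ζ) := fun hc => h ⟨hc.1, h'⟩
        simp only [Cyc.divFun, dif_pos h', gRel, if_neg hnz]
        rw [ordAt_one h'.1]
        ring
      · simp only [Cyc.divFun, dif_neg h']
        ring
  -- (ii)
  have hii₁ : ∀ ξ, Cyc.secDivFun δ L ζ s ξ * Cyc.secDivFun δ N ξ (u ξ) x = At ξ := by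
    intro ξ
    by_cases h : ζ ⤳ ξ ∧ ξ ⤳ x ∧ δ x + 1 = δ ξ
    · have hξV := hmemV ξ h.2.1
      have hcond : ζ ⤳ ξ ∧ δ ξ + 1 = δ ζ := ⟨h.1, by have := h.2.2; omega⟩
      have h' : ξ ⤳ x ∧ δ x + 1 = δ ξ := h.2
      simp only [At, Cyc.secDivFun, dif_pos h, dif_pos hcond, dif_pos h']
      rw [secOrdAt_eq_of_isGen hτ hcond.1 hξV hζV s ψs hψs,
        secOrdAt_eq_of_isGen hν h.2.1 hxV hξV (u ξ) _ (hφu ξ hξV)]
    · simp only [At, dif_neg h]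
      by_cases h' : ξ ⤳ x ∧ δ x + 1 = δ ξ
      · have hnz : ¬ (ζ ⤳ ξ ∧ δ ξ + 1 = δ ζ) := fun hc => h ⟨hc.1, h'⟩
        simp only [Cyc.secDivFun, dif_neg hnz, zero_mul]
      · simp only [Cyc.secDivFun, dif_neg h', mul_zero]
  have hii₂ : ∀ ξ, Cyc.secDivFun δ N ζ t ξ * Cyc.secDivFun δ L ξ (v ξ) x = Bt ξ := by
    intro ξ
    by_cases h : ζ ⤳ ξ ∧ ξ ⤳ x ∧ δ x + 1 = δ ξ
    · have hξV := hmemV ξ h.2.1
      have hcond : ζ ⤳ ξ ∧ δ ξ + 1 = δ ζ := ⟨h.1, by have := h.2.2; omega⟩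
      have h' : ξ ⤳ x ∧ δ x + 1 = δ ξ := h.2
      simp only [Bt, Cyc.secDivFun, dif_pos h, dif_pos hcond, dif_pos h']
      rw [secOrdAt_eq_of_isGen hν hcond.1 hξV hζV t ψt hψt,
        secOrdAt_eq_of_isGen hτ h.2.1 hxV hξV (v ξ) _ (hφv ξ hξV)]
    · simp only [Bt, dif_neg h]
      by_cases h' : ξ ⤳ x ∧ δ x + 1 = δ ξ
      · have hnz : ¬ (ζ ⤳ ξ ∧ δ ξ + 1 = δ ζ) := fun hc => h ⟨hc.1, h'⟩
        simp only [Cyc.secDivFun, dif_neg hnz, zero_mul]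
      · simp only [Cyc.secDivFun, dif_neg h', mul_zero]
  -- (iii) finiteness
  obtain ⟨U₁, hxU₁, hfin₁⟩ := finite_not_unitAtRel δ hX hζx (X.residue ζ ψs) hψs0
  obtain ⟨U₂, hxU₂, hfin₂⟩ := finite_not_unitAtRel δ hX hζx (X.residue ζ ψt) hψt0
  have hfin := hfin₁.union hfin₂
  have hδ1 : ∀ ξ : X, δ x + 1 = δ ξ → δ ξ + 1 = δ ζ := fun ξ h => by omega
  have hsuppA : Function.support At ⊆
      {ξ : X | ξ ∈ U₁ ∧ ∃ h' : ζ ⤳ ξ, δ ξ + 1 = δ ζ ∧ ¬ UnitAtRel h' (X.residue ζ ψs)} ∪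
      {ξ : X | ξ ∈ U₂ ∧ ∃ h' : ζ ⤳ ξ, δ ξ + 1 = δ ζ ∧ ¬ UnitAtRel h' (X.residue ζ ψt)} :=
    fun ξ hξ => by
    by_cases h : ζ ⤳ ξ ∧ ξ ⤳ x ∧ δ x + 1 = δ ξ
    · left
      refine ⟨h.2.1.mem_open U₁.2 hxU₁, h.1, hδ1 ξ h.2.2, fun hun => hξ ?_⟩
      simp only [At, dif_pos h, ordAt_eq_zero_of_unitAt h.1 hun, zero_mul]
    · exfalso
      apply hξ
      simp only [At, dif_neg h]
  have hsuppB : Function.support Bt ⊆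
      {ξ : X | ξ ∈ U₁ ∧ ∃ h' : ζ ⤳ ξ, δ ξ + 1 = δ ζ ∧ ¬ UnitAtRel h' (X.residue ζ ψs)} ∪
      {ξ : X | ξ ∈ U₂ ∧ ∃ h' : ζ ⤳ ξ, δ ξ + 1 = δ ζ ∧ ¬ UnitAtRel h' (X.residue ζ ψt)} :=
    fun ξ hξ => by
    by_cases h : ζ ⤳ ξ ∧ ξ ⤳ x ∧ δ x + 1 = δ ξ
    · right
      refine ⟨h.2.1.mem_open U₂.2 hxU₂, h.1, hδ1 ξ h.2.2, fun hun => hξ ?_⟩
      simp only [Bt, dif_pos h, ordAt_eq_zero_of_unitAt h.1 hun, zero_mul]
    · exfalso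
      apply hξ
      simp only [Bt, dif_neg h]
  have hsuppT : Function.support Tt ⊆
      {ξ : X | ξ ∈ U₁ ∧ ∃ h' : ζ ⤳ ξ, δ ξ + 1 = δ ζ ∧ ¬ UnitAtRel h' (X.residue ζ ψs)} ∪
      {ξ : X | ξ ∈ U₂ ∧ ∃ h' : ζ ⤳ ξ, δ ξ + 1 = δ ζ ∧ ¬ UnitAtRel h' (X.residue ζ ψt)} :=
    fun ξ hξ => by
    by_cases h : ζ ⤳ ξ ∧ ξ ⤳ x ∧ δ x + 1 = δ ξ
    · by_cases hun₁ : UnitAtRel h.1 (X.residue ζ ψs)
      · right
        refine ⟨h.2.1.mem_open U₂.2 hxU₂, h.1, hδ1 ξ h.2.2, fun hun₂ => hξ ?_⟩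
        simp only [Tt, dif_pos h, tameRel_eq_one_of_unitAt h.1 (hdim1 ξ h.1 h.2.2) hun₁ hun₂]
        exact ordAt_one h.2.1
      · left
        exact ⟨h.2.1.mem_open U₁.2 hxU₁, h.1, hδ1 ξ h.2.2, hun₁⟩
    · exfalso
      apply hξ
      simp only [Tt, dif_neg h]
  have hfA : (Function.support At).Finite := hfin.subset hsuppA
  have hfB : (Function.support Bt).Finite := hfin.subset hsuppB
  have hfT : (Function.support Tt).Finite := hfin.subset hsuppT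
  -- (iv)
  have hiv : ∑ᶠ ξ, Tt ξ = 0 :=
    skl_frac_rel δ hX hζx hx (X.residue ζ ψs) (X.residue ζ ψt) hψs0 hψt0
  unfold Cyc.c1CapFun
  rw [finsum_congr hi, finsum_congr hii₁, finsum_congr hii₂,
    finsum_sub_distrib (hfT.union hfA |>.subset (Function.support_add _ _)) hfB,
    finsum_add_distrib hfT hfA, hiv, zero_add]

end Groth.Agent.H34.KeyRel
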