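import Mathlib
import Groth.Agent.H17.HS.Len

/-!
# Colength lemmas for Kunz's theorem
-/

set_option autoImplicit false
set_option linter.style.haveILetI false

namespace Groth.Agent.H34.KunzLen

open IsLocalRing Groth.Agent.H17.HS

universe u

section flat

variable {A B : Type u} [CommRing A] [CommRing B] [IsLocalRing A] [IsLocalRing B]

/-- colength multiplicativity along a flat local homomorphism -/
theorem colen_map (φ : A →+* B) [hloc : IsLocalHom φ] (hφ : φ.Flat) (I : Ideal A) :
    colen (I.map φ) = colen I * colen ((maximalIdeal A).map φ) := by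
  letI := φ.toAlgebra
  haveI : Module.Flat A B := hφ
  haveI : IsLocalHom (algebraMap A B) := hloc
  have h := IsLocalRing.length_baseChange A B (A ⧸ I)
  rw [← (Algebra.TensorProduct.quotIdealMapEquivTensorQuot B I).toLinearEquiv.length_eq] at h
  exact h

end flat

section general

variable {A : Type u} [CommRing A]

theorem mul_mem_sup_pow (I' : Ideal A) (x : A) (k : ℕ) {w : A}
    (hw : w ∈ I' ⊔ Ideal.span {x ^ k}) : x * w ∈ I' ⊔ Ideal.span {x ^ (k + 1)} := by
  obtain ⟨u, hu, v, hv, rfl⟩ := Submodule.mem_sup.mp hw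
  obtain ⟨c, rfl⟩ := Ideal.mem_span_singleton'.mp hv
  rw [mul_add]
  refine Submodule.add_mem_sup (I'.mul_mem_left x hu) ?_
  rw [Ideal.mem_span_singleton']
  exact ⟨c, by rw [pow_succ]; ring⟩

theorem sup_span_pow_sup (I' : Ideal A) (x : A) (k : ℕ) :
    (I' ⊔ Ideal.span {x ^ (k + 1)}) ⊔ Ideal.span {x ^ k} = I' ⊔ Ideal.span {x ^ k} := by
  rw [sup_assoc]
  congr 1
  refine sup_eq_right.mpr ?_
  rw [Ideal.span_singleton_le_span_singleton]
  exact ⟨x, by rw [pow_succ]⟩

/-- the colength splitting along multiplication by `y` -/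
theorem colen_split (J : Ideal A) (y : A) :
    colen J = colen (Submodule.comap (LinearMap.toSpanSingleton A A y) J) +
      colen (J ⊔ Ideal.span {y}) := by
  have h := colen_eq_add (LinearMap.toSpanSingleton A A y) J
  rwa [LinearMap.range_toSpanSingleton] at h

/-- concavity of colength in the exponent of one generator -/
theorem colen_conc (I' : Ideal A) (x : A) (a : ℕ) :
    colen (I' ⊔ Ideal.span {x ^ (a + 2)}) + colen (I' ⊔ Ideal.span {x ^ a}) ≤
      2 * colen (I' ⊔ Ideal.span {x ^ (a + 1)}) := by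
  have h1 := colen_split (I' ⊔ Ideal.span {x ^ (a + 1)}) (x ^ a)
  rw [sup_span_pow_sup] at h1
  have h2 := colen_split (I' ⊔ Ideal.span {x ^ (a + 1 + 1)}) (x ^ (a + 1))
  rw [sup_span_pow_sup] at h2
  have hle : Submodule.comap (LinearMap.toSpanSingleton A A (x ^ a))
      (I' ⊔ Ideal.span {x ^ (a + 1)}) ≤
      Submodule.comap (LinearMap.toSpanSingleton A A (x ^ (a + 1)))
        (I' ⊔ Ideal.span {x ^ (a + 1 + 1)}) := by
    intro z hz
    rw [Submodule.mem_comap, LinearMap.toSpanSingleton_apply] at hz ⊢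
    have := mul_mem_sup_pow I' x (a + 1) hz
    have e : z • x ^ (a + 1) = x * z • x ^ a := by
      simp only [smul_eq_mul, pow_succ]; ring
    rw [e]
    exact this
  have h3 := colen_anti hle
  have e2 : a + 2 = a + 1 + 1 := rfl
  rw [e2, h2, two_mul]
  nth_rewrite 2 [h1]
  calc _ = colen (Submodule.comap (LinearMap.toSpanSingleton A A (x ^ (a + 1)))
        (I' ⊔ Ideal.span {x ^ (a + 1 + 1)})) + colen (I' ⊔ Ideal.span {x ^ a}) +
        colen (I' ⊔ Ideal.span {x ^ (a + 1)}) := by ring
    _ ≤ colen (Submodule.comap (LinearMap.toSpanSingleton A A (x ^ a))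
        (I' ⊔ Ideal.span {x ^ (a + 1)})) + colen (I' ⊔ Ideal.span {x ^ a}) +
        colen (I' ⊔ Ideal.span {x ^ (a + 1)}) := by gcongr
    _ = _ := by ring

/-- `ℓ(A/(I', y^k)) ≤ k ℓ(A/(I', y))` -/
theorem colen_pow_le (I' : Ideal A) (y : A) (k : ℕ) :
    colen (I' ⊔ Ideal.span {y ^ k}) ≤ k * colen (I' ⊔ Ideal.span {y}) := by
  induction k with
  | zero =>
    have : I' ⊔ Ideal.span {y ^ 0} = ⊤ := by
      rw [pow_zero, Ideal.span_singleton_one, sup_top_eq]
    rw [this]
    have : colen (⊤ : Ideal A) = 0 := by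
      unfold colen
      exact Module.length_eq_zero
    rw [this]
    exact bot_le
  | succ k ih =>
    have h1 := colen_split (I' ⊔ Ideal.span {y ^ (k + 1)}) (y ^ k)
    rw [sup_span_pow_sup] at h1
    have hle : I' ⊔ Ideal.span {y} ≤ Submodule.comap (LinearMap.toSpanSingleton A A (y ^ k))
        (I' ⊔ Ideal.span {y ^ (k + 1)}) := by
      refine sup_le ?_ ?_
      · intro z hz
        rw [Submodule.mem_comap, LinearMap.toSpanSingleton_apply]
        exact Ideal.mem_sup_left (by rw [smul_eq_mul]; exact I'.mul_mem_right _ hz)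
      · rw [Ideal.span_le]
        intro z hz
        rw [Set.mem_singleton_iff] at hz
        subst hz
        change z ∈ Submodule.comap _ _
        rw [Submodule.mem_comap, LinearMap.toSpanSingleton_apply]
        refine Ideal.mem_sup_right (Ideal.mem_span_singleton'.mpr ⟨1, ?_⟩)
        rw [smul_eq_mul, pow_succ]; ring
    rw [h1]
    calc _ ≤ colen (I' ⊔ Ideal.span {y}) + k * colen (I' ⊔ Ideal.span {y}) :=
          add_le_add (colen_anti hle) ih
      _ = _ := by push_cast; ring

/-- replacing generators by their `q`-th powers multiplies the colength at most by `q ^ #t` -/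
theorem colen_span_pow_le (q : ℕ) (t : Finset A) : ∀ I' : Ideal A,
    colen (I' ⊔ Ideal.span ((fun y => y ^ q) '' (t : Set A))) ≤
      q ^ t.card * colen (I' ⊔ Ideal.span (t : Set A)) := by
  classical
  induction t using Finset.induction_on with
  | empty => intro I'; simp
  | insert y t hy ih =>
    intro I'
    rw [Finset.coe_insert, Set.image_insert_eq, Ideal.span_insert, Ideal.span_insert,
      Finset.card_insert_of_notMem hy]
    have h1 := ih (I' ⊔ Ideal.span {y ^ q})
    have e1 : I' ⊔ (Ideal.span {y ^ q} ⊔ Ideal.span ((fun y => y ^ q) '' (t : Set A))) =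
        I' ⊔ Ideal.span {y ^ q} ⊔ Ideal.span ((fun y => y ^ q) '' (t : Set A)) := by
      rw [sup_assoc]
    have e2 : I' ⊔ Ideal.span {y ^ q} ⊔ Ideal.span (t : Set A) =
        (I' ⊔ Ideal.span (t : Set A)) ⊔ Ideal.span {y ^ q} := by
      rw [sup_assoc, sup_assoc, sup_comm (Ideal.span {y ^ q})]
    have e3 : I' ⊔ (Ideal.span {y} ⊔ Ideal.span (t : Set A)) =
        (I' ⊔ Ideal.span (t : Set A)) ⊔ Ideal.span {y} := by
      rw [sup_assoc, sup_comm (Ideal.span {y})]
    rw [e1, e3]
    rw [e2] at h1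
    have h2 := colen_pow_le (I' ⊔ Ideal.span (t : Set A)) y q
    calc _ ≤ q ^ t.card * colen ((I' ⊔ Ideal.span (t : Set A)) ⊔ Ideal.span {y ^ q}) := h1
      _ ≤ q ^ t.card * (q * colen ((I' ⊔ Ideal.span (t : Set A)) ⊔ Ideal.span {y})) := by
          gcongr
      _ = _ := by rw [pow_succ]; push_cast; ring

end general

end Groth.Agent.H34.KunzLen
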