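import Mathlib

/-!
# Numerical lemma behind Kunz's theorem

A function `Λ : (Fin n → ℕ) → ℕ` which is concave in each variable, vanishes when a coordinate
vanishes, is `1` at `(1,…,1)`, at least `2` at `(1,…,2,…,1)` and supermultiplicative for the
scaling by `q` satisfies `Λ (q,…,q) = q ^ n`.
-/

set_option autoImplicit false

namespace Groth.Agent.H34.KunzNum

/-- increments of a concave function are antitone -/
private theorem incr_antitone (f : ℕ → ℕ) (hc : ∀ a, f (a + 2) + f a ≤ 2 * f (a + 1)) :
    Antitone (fun a => (f (a + 1) : ℤ) - f a) := by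
  apply antitone_nat_of_succ_le
  intro a
  have := hc a
  have e : a + 1 + 1 = a + 2 := rfl
  simp only [e]
  omega

private theorem sum_incr (f : ℕ → ℕ) (q b : ℕ) :
    ∑ a ∈ Finset.range q, ((f (b + a + 1) : ℤ) - f (b + a)) = (f (b + q) : ℤ) - f b := by
  induction q with
  | zero => simp
  | succ q ih =>
    rw [Finset.sum_range_succ, ih]
    have : b + (q + 1) = b + q + 1 := rfl
    rw [this]
    ring

/-- a concave function vanishing at `0` lies below its first chord -/
theorem concave_le (f : ℕ → ℕ) (h0 : f 0 = 0) (hc : ∀ a, f (a + 2) + f a ≤ 2 * f (a + 1))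
    (q : ℕ) : f q ≤ q * f 1 := by
  have hanti := incr_antitone f hc
  have hs := sum_incr f q 0
  simp only [zero_add, h0, Nat.cast_zero, sub_zero] at hs
  have hb : ∑ a ∈ Finset.range q, ((f (a + 1) : ℤ) - f a) ≤
      ∑ _a ∈ Finset.range q, ((f 1 : ℤ) - f 0) := by
    apply Finset.sum_le_sum
    intro a _
    exact hanti (Nat.zero_le a)
  rw [hs] at hb
  simp only [h0, Nat.cast_zero, sub_zero, Finset.sum_const, Finset.card_range, nsmul_eq_mul] at hb
  exact_mod_cast hb

/-- a concave function vanishing at `0` with `2 f(q) ≤ f(2q)` is linear on `[0,q]` -/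
theorem concave_eq (f : ℕ → ℕ) (h0 : f 0 = 0) (hc : ∀ a, f (a + 2) + f a ≤ 2 * f (a + 1))
    (q : ℕ) (h2 : 2 * f q ≤ f (2 * q)) : f q = q * f 1 := by
  rcases Nat.eq_zero_or_pos q with rfl | hq
  · simp [h0]
  have hanti := incr_antitone f hc
  set d : ℕ → ℤ := fun a => (f (a + 1) : ℤ) - f a with hd
  have hs1 : ∑ a ∈ Finset.range q, d a = (f q : ℤ) := by
    have := sum_incr f q 0
    simpa [h0, hd] using this
  have hs2 : ∑ a ∈ Finset.range q, d (q + a) = (f (2 * q) : ℤ) - f q := by
    have := sum_incr f q q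
    rw [← two_mul] at this
    simpa [hd] using this
  -- upper block is bounded by `q * d q`
  have hup : ∑ a ∈ Finset.range q, d (q + a) ≤ q * d q := by
    have : ∑ a ∈ Finset.range q, d (q + a) ≤ ∑ _a ∈ Finset.range q, d q :=
      Finset.sum_le_sum (fun a _ => hanti (Nat.le_add_right q a))
    simpa using this
  -- lower block: split off the first term
  obtain ⟨q', rfl⟩ : ∃ q', q = q' + 1 := ⟨q - 1, by omega⟩
  have hlow : d 0 + q' * d (q' + 1) ≤ ∑ a ∈ Finset.range (q' + 1), d a := by
    rw [Finset.sum_range_succ']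
    have : ∑ _a ∈ Finset.range q', d (q' + 1) ≤ ∑ a ∈ Finset.range q', d (a + 1) :=
      Finset.sum_le_sum (fun a ha => hanti (by
        have := Finset.mem_range.mp ha; omega))
    simp only [Finset.sum_const, Finset.card_range, nsmul_eq_mul] at this
    linarith
  have h2' : (2 : ℤ) * f (q' + 1) ≤ f (2 * (q' + 1)) := by exact_mod_cast h2
  have hd0 : d 0 = (f 1 : ℤ) := by simp [hd, h0]
  have hle := concave_le f h0 hc (q' + 1)
  have hle' : (f (q' + 1) : ℤ) ≤ ((q' : ℤ) + 1) * f 1 := by exact_mod_cast hle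
  have hdq : d (q' + 1) ≤ d 0 := hanti (Nat.zero_le _)
  push_cast at hup
  -- combine
  have key : ((q' : ℤ) + 1) * (f 1 : ℤ) ≤ f (q' + 1) := by
    have e1 : (f (q' + 1) : ℤ) ≤ ((q' : ℤ) + 1) * d (q' + 1) := by linarith
    have e2 : d 0 + q' * d (q' + 1) ≤ (f (q' + 1) : ℤ) := by linarith
    -- so d 0 ≤ d (q'+1)
    have e3 : d 0 ≤ d (q' + 1) := by nlinarith
    have e4 : d 0 = d (q' + 1) := le_antisymm e3 hdq
    rw [← hd0, e4]
    nlinarith
  have : (f (q' + 1) : ℤ) = ((q' : ℤ) + 1) * f 1 := le_antisymm hle' key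
  exact_mod_cast this

/-- The hypotheses on the colength function. -/
structure Hyp (q n : ℕ) (Λ : (Fin n → ℕ) → ℕ) : Prop where
  zero : ∀ (a : Fin n → ℕ) (i : Fin n), a i = 0 → Λ a = 0
  one : Λ (fun _ => 1) = 1
  conc : ∀ (a : Fin n → ℕ) (i : Fin n),
    Λ (Function.update a i (a i + 2)) + Λ a ≤ 2 * Λ (Function.update a i (a i + 1))
  two : ∀ i : Fin n, 2 ≤ Λ (Function.update (fun _ => 1) i 2)
  mul : ∀ a : Fin n → ℕ, Λ a * Λ (fun _ => q) ≤ Λ (fun i => q * a i)

private theorem cons_const {n : ℕ} (c : ℕ) :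
    (Fin.cons c (fun _ : Fin n => c) : Fin (n + 1) → ℕ) = fun _ => c := by
  funext i
  refine Fin.cases ?_ (fun j => ?_) i <;> simp

private theorem mul_cons {n : ℕ} (q c : ℕ) (a : Fin n → ℕ) :
    (fun i => q * (Fin.cons c a : Fin (n + 1) → ℕ) i) = Fin.cons (q * c) (fun i => q * a i) := by
  funext i
  refine Fin.cases ?_ (fun j => ?_) i <;> simp

theorem main (q : ℕ) (hq : 0 < q) : ∀ (n : ℕ) (Λ : (Fin n → ℕ) → ℕ), Hyp q n Λ →
    Λ (fun _ => q) = q ^ n := by
  intro n
  induction n with
  | zero =>
    intro Λ h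
    have : (fun _ : Fin 0 => q) = fun _ => 1 := Subsingleton.elim _ _
    rw [this, h.one, pow_zero]
  | succ n ih =>
    intro Λ h
    -- concavity in the first variable
    have hconc0 : ∀ (b : Fin n → ℕ) (a : ℕ),
        Λ (Fin.cons (a + 2) b) + Λ (Fin.cons a b) ≤ 2 * Λ (Fin.cons (a + 1) b) := by
      intro b a
      have := h.conc (Fin.cons a b) 0
      simpa [Fin.update_cons_zero] using this
    have hzero0 : ∀ b : Fin n → ℕ, Λ (Fin.cons 0 b) = 0 := fun b =>
      h.zero (Fin.cons 0 b) 0 (by simp)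
    -- the first coordinate of the diagonal
    have hg : Λ (fun _ => q) = q * Λ (Fin.cons 1 (fun _ => q)) := by
      have h2 : 2 * Λ (Fin.cons q (fun _ : Fin n => q)) ≤ Λ (Fin.cons (2 * q) (fun _ => q)) := by
        have hm := h.mul (Function.update (fun _ => 1) 0 2)
        have e1 : (fun i => q * (Function.update (fun _ : Fin (n + 1) => 1) 0 2) i) =
            Fin.cons (2 * q) (fun _ => q) := by
          funext i
          refine Fin.cases ?_ (fun j => ?_) i
          · simp [mul_comm]
          · simp [Function.update_of_ne (Fin.succ_ne_zero j)]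
        rw [e1, ← cons_const q] at hm
        have h2' := h.two 0
        calc 2 * Λ (Fin.cons q (fun _ : Fin n => q))
            ≤ Λ (Function.update (fun _ => 1) 0 2) * Λ (Fin.cons q (fun _ : Fin n => q)) :=
              Nat.mul_le_mul_right _ h2'
          _ ≤ _ := hm
      have := concave_eq (fun a => Λ (Fin.cons a (fun _ : Fin n => q))) (hzero0 _)
        (hconc0 _) q h2
      rw [← cons_const]
      exact this
    -- the restricted function
    set Λ' : (Fin n → ℕ) → ℕ := fun a' => Λ (Fin.cons 1 a') with hΛ'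
    have hyp' : Hyp q n Λ' := by
      refine ⟨?_, ?_, ?_, ?_, ?_⟩
      · intro a i hai
        exact h.zero (Fin.cons 1 a) i.succ (by simpa using hai)
      · change Λ (Fin.cons 1 (fun _ => 1)) = 1
        rw [cons_const]
        exact h.one
      · intro a i
        have := h.conc (Fin.cons 1 a) i.succ
        simp only [Fin.cons_succ, ← Fin.cons_update] at this
        exact this
      · intro i
        have := h.two i.succ
        rw [← cons_const 1, ← Fin.cons_update] at this
        exact this
      · intro a'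
        change Λ (Fin.cons 1 a') * Λ (Fin.cons 1 (fun _ => q)) ≤ Λ (Fin.cons 1 (fun i => q * a' i))
        have hm := h.mul (Fin.cons 1 a')
        rw [mul_cons, mul_one] at hm
        have hle := concave_le (fun a => Λ (Fin.cons a (fun i => q * a' i))) (hzero0 _)
          (hconc0 _) q
        beta_reduce at hle
        have h3 : Λ (Fin.cons 1 a') * (q * Λ (Fin.cons 1 (fun _ => q))) ≤
            q * Λ (Fin.cons 1 (fun i => q * a' i)) := by
          rw [← hg]
          exact hm.trans hle
        have h4 : q * (Λ (Fin.cons 1 a') * Λ (Fin.cons 1 (fun _ => q))) ≤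
            q * Λ (Fin.cons 1 (fun i => q * a' i)) := by
          calc q * (Λ (Fin.cons 1 a') * Λ (Fin.cons 1 (fun _ => q)))
              = Λ (Fin.cons 1 a') * (q * Λ (Fin.cons 1 (fun _ => q))) := by ring
            _ ≤ _ := h3
        exact Nat.le_of_mul_le_mul_left h4 hq
    have := ih Λ' hyp'
    rw [hg]
    change Λ (Fin.cons 1 (fun _ => q)) = q ^ n at this
    rw [this, pow_succ, mul_comm]

end Groth.Agent.H34.KunzNum
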