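import Mathlib
import Groth.Agent.H17.HS.Assoc
import Groth.Agent.H34.KunzNum
import Groth.Agent.H34.KunzLen

/-!
# Kunz's theorem, local case: flat Frobenius implies regular
-/

set_option autoImplicit false
set_option linter.style.haveILetI false

namespace Groth.Agent.H34.KunzLocal

open IsLocalRing Groth.Agent.H17.HS Groth.Agent.H34.KunzLen

universe u

section general

variable {A : Type u} [CommRing A]

/-- the ideal generated by the powers `x i ^ a i` -/
def Iof {n : ℕ} (x : Fin n → A) (a : Fin n → ℕ) : Ideal A :=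
  Ideal.span (Set.range fun i => x i ^ a i)

theorem Iof_update {n : ℕ} (x : Fin n → A) (a : Fin n → ℕ) (i : Fin n) (v : ℕ) :
    Iof x (Function.update a i v) =
      Ideal.span ((fun j => x j ^ a j) '' {j | j ≠ i}) ⊔ Ideal.span {x i ^ v} := by
  unfold Iof
  rw [← Ideal.span_union]
  congr 1
  ext y
  constructor
  · rintro ⟨j, rfl⟩
    by_cases hji : j = i
    · subst hji
      right
      simp
    · left
      exact ⟨j, hji, by simp [Function.update_of_ne hji]⟩
  · rintro (⟨j, hj, rfl⟩ | h)
    · exact ⟨j, by simp [Function.update_of_ne hj]⟩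
    · rw [Set.mem_singleton_iff] at h
      subst h
      exact ⟨i, by simp⟩

theorem Iof_self_update {n : ℕ} (x : Fin n → A) (a : Fin n → ℕ) (i : Fin n) :
    Iof x a = Ideal.span ((fun j => x j ^ a j) '' {j | j ≠ i}) ⊔ Ideal.span {x i ^ a i} := by
  have := Iof_update x a i (a i)
  rwa [Function.update_eq_self] at this

theorem colen_Iof_conc {n : ℕ} (x : Fin n → A) (a : Fin n → ℕ) (i : Fin n) :
    colen (Iof x (Function.update a i (a i + 2))) + colen (Iof x a) ≤
      2 * colen (Iof x (Function.update a i (a i + 1))) := by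
  rw [Iof_update, Iof_update, Iof_self_update x a i]
  exact colen_conc _ (x i) (a i)

theorem colen_top : colen (⊤ : Ideal A) = 0 := by
  unfold colen
  exact Module.length_eq_zero

theorem Iof_eq_top {n : ℕ} (x : Fin n → A) (a : Fin n → ℕ) (i : Fin n) (h : a i = 0) :
    Iof x a = ⊤ := by
  rw [Ideal.eq_top_iff_one]
  have : x i ^ a i ∈ Iof x a := Ideal.subset_span ⟨i, rfl⟩
  rwa [h, pow_zero] at this

theorem Iof_one {n : ℕ} (x : Fin n → A) : Iof x (fun _ => 1) = Ideal.span (Set.range x) := by
  unfold Iof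
  simp only [pow_one]

theorem Iof_map_frobenius (p : ℕ) [Fact p.Prime] [CharP A p] {n : ℕ} (x : Fin n → A)
    (a : Fin n → ℕ) : (Iof x a).map (frobenius A p) = Iof x (fun i => p * a i) := by
  unfold Iof
  rw [Ideal.map_span, ← Set.range_comp]
  congr 2
  funext i
  simp only [Function.comp_apply, frobenius_def, ← pow_mul, mul_comm]

end general

section local_

variable {A : Type u} [CommRing A] [IsNoetherianRing A] [IsLocalRing A]

theorem colen_ne_top_of_le_radical {I : Ideal A} (h : maximalIdeal A ≤ I.radical) :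
    colen I ≠ ⊤ := by
  obtain ⟨k, hk⟩ := Ideal.exists_pow_le_of_le_radical_of_fg h (IsNoetherian.noetherian _)
  have := colen_pow_ne_top_of_primary hk A 1
  simpa using this

theorem colen_Iof_ne_top {n : ℕ} (x : Fin n → A) (hx : Ideal.span (Set.range x) = maximalIdeal A)
    (a : Fin n → ℕ) : colen (Iof x a) ≠ ⊤ := by
  apply colen_ne_top_of_le_radical
  rw [← hx, Ideal.span_le]
  rintro _ ⟨i, rfl⟩
  exact ⟨a i, Ideal.subset_span ⟨i, rfl⟩⟩

theorem colen_maximalIdeal : colen (maximalIdeal A) = 1 := by
  unfold colen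
  haveI : IsSimpleModule A (A ⧸ maximalIdeal A) :=
    isSimpleModule_iff_isCoatom.mpr (Ideal.isMaximal_def.mp (maximalIdeal.isMaximal A))
  exact Module.length_eq_one A _

theorem two_le_colen {n : ℕ} (x : Fin n → A) (hx : Ideal.span (Set.range x) = maximalIdeal A)
    (hn : (maximalIdeal A).spanFinrank = n) (i : Fin n) :
    2 ≤ colen (Iof x (Function.update (fun _ => 1) i 2)) := by
  classical
  rw [Iof_update]
  set I' : Ideal A := Ideal.span ((fun j => x j ^ (1 : ℕ)) '' {j | j ≠ i}) with hI'
  have hI'x : I' ⊔ Ideal.span {x i} = maximalIdeal A := by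
    have := Iof_self_update x (fun _ => 1) i
    rw [Iof_one, hx] at this
    rw [this, pow_one]
  have hI'le : I' ≤ maximalIdeal A := by rw [← hI'x]; exact le_sup_left
  have hxi : x i ∈ maximalIdeal A := by
    rw [← hI'x]; exact Ideal.mem_sup_right (Ideal.subset_span rfl)
  -- `x i ∉ I' + (x i ^ 2)` by minimality
  have hnot : x i ∉ I' ⊔ Ideal.span {x i ^ 2} := by
    intro hmem
    obtain ⟨u, hu, v, hv, huv⟩ := Submodule.mem_sup.mp hmem
    obtain ⟨c, rfl⟩ := Ideal.mem_span_singleton'.mp hv
    have h1 : x i * (1 - c * x i) = u := by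
      have : u = x i - c * x i ^ 2 := by linear_combination huv
      rw [this]; ring
    have hunit : IsUnit (1 - c * x i) := by
      have hm : c * x i ∈ maximalIdeal A := Ideal.mul_mem_left _ c hxi
      have := (IsLocalRing.mem_maximalIdeal _).mp hm
      by_contra hcon
      have h2 : 1 - c * x i ∈ maximalIdeal A := (IsLocalRing.mem_maximalIdeal _).mpr hcon
      have h3 : (1 : A) ∈ maximalIdeal A := by
        have := Ideal.add_mem _ h2 hm
        simpa using this
      exact (Ideal.ne_top_iff_one _).mp (maximalIdeal.isMaximal A).ne_top h3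
    have hxiI : x i ∈ I' := by
      obtain ⟨w, hw⟩ := hunit.exists_right_inv
      have : x i = u * w := by
        rw [← h1, mul_assoc, hw, mul_one]
      rw [this]
      exact I'.mul_mem_right _ hu
    have hI'm : I' = maximalIdeal A := by
      rw [← hI'x]
      refine le_antisymm le_sup_left (sup_le le_rfl ?_)
      rw [Ideal.span_le, Set.singleton_subset_iff]
      exact hxiI
    -- count generators
    have hfin : ((fun j => x j ^ (1 : ℕ)) '' {j | j ≠ i}).Finite := Set.toFinite _
    have h2 := Submodule.spanFinrank_span_le_ncard_of_finite (R := A) hfin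
    have h3 : ((fun j => x j ^ (1 : ℕ)) '' {j | j ≠ i}).ncard ≤ ({j | j ≠ i} : Set (Fin n)).ncard :=
      Set.ncard_image_le (Set.toFinite _)
    have h4 : ({j | j ≠ i} : Set (Fin n)).ncard = n - 1 := by
      have : ({j | j ≠ i} : Set (Fin n)) = ({i} : Set (Fin n))ᶜ := by
        ext j; simp
      rw [this, Set.ncard_compl, Set.ncard_singleton, Nat.card_fin]
    have h5 : (maximalIdeal A).spanFinrank ≤ n - 1 := by
      have e : Ideal.span ((fun j => x j ^ (1 : ℕ)) '' {j | j ≠ i}) = maximalIdeal A := hI'm
      have h2' : (Ideal.span ((fun j => x j ^ (1 : ℕ)) '' {j | j ≠ i})).spanFinrank ≤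
          ((fun j => x j ^ (1 : ℕ)) '' {j | j ≠ i}).ncard := h2
      rw [e] at h2'
      omega
    have hpos : 0 < n := i.pos
    omega
  -- split along multiplication by `x i`
  have hsplit := colen_split (I' ⊔ Ideal.span {x i ^ 2}) (x i)
  have hsup : (I' ⊔ Ideal.span {x i ^ 2}) ⊔ Ideal.span {x i} = maximalIdeal A := by
    have := sup_span_pow_sup I' (x i) 1
    rw [pow_one] at this
    rw [this, hI'x]
  rw [hsup, colen_maximalIdeal] at hsplit
  have hne : Submodule.comap (LinearMap.toSpanSingleton A A (x i)) (I' ⊔ Ideal.span {x i ^ 2}) ≠ ⊤ := by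
    intro htop
    have h1 : (1 : A) ∈ Submodule.comap (LinearMap.toSpanSingleton A A (x i))
        (I' ⊔ Ideal.span {x i ^ 2}) := by rw [htop]; trivial
    rw [Submodule.mem_comap, LinearMap.toSpanSingleton_apply, one_smul] at h1
    exact hnot h1
  have hpos : 1 ≤ colen (Submodule.comap (LinearMap.toSpanSingleton A A (x i))
      (I' ⊔ Ideal.span {x i ^ 2})) := by
    unfold colen
    rw [Order.one_le_iff_ne_zero, ne_eq, Module.length_eq_zero_iff,
      Submodule.Quotient.subsingleton_iff]
    exact hne
  rw [hsplit]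
  calc (2 : ℕ∞) = 1 + 1 := by norm_num
    _ ≤ _ := add_le_add hpos le_rfl

end local_

section frob

variable {A : Type u} [CommRing A] [IsNoetherianRing A] [IsLocalRing A]
variable (p : ℕ) [Fact p.Prime] [CharP A p]

theorem isLocalHom_frobenius : IsLocalHom (frobenius A p) :=
  ⟨fun a ha => by
    rw [frobenius_def] at ha
    exact (isUnit_pow_iff (Fact.out : p.Prime).ne_zero).mp ha⟩

/-- The key count: if Frobenius is flat then `ℓ(A/𝔪^{[p]}) = p ^ embdim`. -/
theorem colen_map_maximalIdeal (hF : (frobenius A p).Flat) {n : ℕ} (x : Fin n → A)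
    (hx : Ideal.span (Set.range x) = maximalIdeal A) (hn : (maximalIdeal A).spanFinrank = n) :
    colen ((maximalIdeal A).map (frobenius A p)) = ((p ^ n : ℕ) : ℕ∞) := by
  haveI := isLocalHom_frobenius (A := A) p
  have hp : 0 < p := (Fact.out : p.Prime).pos
  have hfin := colen_Iof_ne_top x hx
  set Λ : (Fin n → ℕ) → ℕ := fun a => (colen (Iof x a)).toNat with hΛ
  have hcoe : ∀ a, ((Λ a : ℕ) : ℕ∞) = colen (Iof x a) := fun a => ENat.coe_toNat (hfin a)
  have hmapm : (maximalIdeal A).map (frobenius A p) = Iof x (fun _ => p) := by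
    rw [← hx, ← Iof_one, Iof_map_frobenius]
    simp
  have hyp : KunzNum.Hyp p n Λ := by
    refine ⟨?_, ?_, ?_, ?_, ?_⟩
    · intro a i hai
      simp only [hΛ, Iof_eq_top x a i hai, colen_top]
      rfl
    · simp only [hΛ, Iof_one, hx, colen_maximalIdeal]
      rfl
    · intro a i
      have h := colen_Iof_conc x a i
      rw [← hcoe, ← hcoe, ← hcoe] at h
      exact_mod_cast h
    · intro i
      have h := two_le_colen x hx hn i
      rw [← hcoe] at h
      exact_mod_cast h
    · intro a
      have h := colen_map (frobenius A p) hF (Iof x a)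
      rw [Iof_map_frobenius, hmapm, ← hcoe, ← hcoe, ← hcoe] at h
      have h' : Λ (fun i => p * a i) = Λ a * Λ (fun _ => p) := by exact_mod_cast h
      exact h'.ge
  have := KunzNum.main p hp n Λ hyp
  rw [hmapm, ← hcoe, this]

/-- **Kunz, local case**: a Noetherian local ring of characteristic `p` with flat Frobenius is
regular. -/
theorem isRegularLocalRing_of_flat (hF : (frobenius A p).Flat) : IsRegularLocalRing A := by
  classical
  haveI := isLocalHom_frobenius (A := A) p
  have hp : 1 < p := (Fact.out : p.Prime).one_lt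
  -- minimal generators
  obtain ⟨s, hscard, hsspan⟩ :=
    Submodule.FG.exists_span_finset_card_eq_spanFinrank (IsNoetherian.noetherian (maximalIdeal A))
  set n := (maximalIdeal A).spanFinrank with hn
  let e : Fin n ≃ s := (Fintype.equivFinOfCardEq (by simpa using hscard)).symm
  let x : Fin n → A := fun i => (e i : A)
  have hx : Ideal.span (Set.range x) = maximalIdeal A := by
    rw [← hsspan]
    congr 1
    ext y
    constructor
    · rintro ⟨i, rfl⟩
      exact (e i).2
    · intro hy
      exact ⟨e.symm ⟨y, hy⟩, by simp [x]⟩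
  have hL := colen_map_maximalIdeal p hF x hx hn.symm
  -- system of parameters
  obtain ⟨t, htmin, htcard⟩ :=
    Ideal.exists_finset_card_eq_height_of_isNoetherianRing (maximalIdeal A)
  set J : Ideal A := Ideal.span (t : Set A) with hJ
  have hJle : J ≤ maximalIdeal A := htmin.1.2
  have hJrad : maximalIdeal A ≤ J.radical := by
    rw [Ideal.radical_eq_sInf, le_sInf_iff]
    rintro Q ⟨hJQ, hQ⟩
    obtain ⟨Q', hQ'min, hQ'le⟩ := Ideal.exists_minimalPrimes_le (J := Q) hJQ
    have hQ'm : Q' ≤ maximalIdeal A := IsLocalRing.le_maximalIdeal hQ'min.1.1.ne_top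
    have : maximalIdeal A ≤ Q' := htmin.2 hQ'min.1 hQ'm
    exact this.trans hQ'le
  have hJfin : colen J ≠ ⊤ := colen_ne_top_of_le_radical hJrad
  have hJpos : colen J ≠ 0 := by
    unfold colen
    rw [ne_eq, Module.length_eq_zero_iff, Submodule.Quotient.subsingleton_iff]
    intro h
    exact (maximalIdeal.isMaximal A).ne_top (top_le_iff.mp (h ▸ hJle))
  have hmul := colen_map (frobenius A p) hF J
  have hmapJ : J.map (frobenius A p) = Ideal.span ((fun y => y ^ p) '' (t : Set A)) := by
    rw [hJ, Ideal.map_span]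
    congr 1
  have hbound := colen_span_pow_le p t (⊥ : Ideal A)
  rw [bot_sup_eq, bot_sup_eq, ← hmapJ, hmul, hL] at hbound
  -- now `colen J * p ^ n ≤ p ^ #t * colen J`
  obtain ⟨c, hc⟩ := ENat.ne_top_iff_exists.mp hJfin
  rw [← hc] at hbound hJpos
  have hc0 : c ≠ 0 := by
    intro h; apply hJpos; rw [h]; rfl
  have hb : c * p ^ n ≤ p ^ t.card * c := by exact_mod_cast hbound
  have hpow : p ^ n ≤ p ^ t.card := by
    have : c * p ^ n ≤ c * p ^ t.card := by rw [mul_comm c (p ^ t.card)]; exact hb
    exact Nat.le_of_mul_le_mul_left this (Nat.pos_of_ne_zero hc0)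
  have hnt : n ≤ t.card := (Nat.pow_le_pow_iff_right hp).mp hpow
  apply IsRegularLocalRing.of_spanFinrank_maximalIdeal_le
  rw [← IsLocalRing.maximalIdeal_height_eq_ringKrullDim, ← htcard]
  exact_mod_cast hnt

end frob

end Groth.Agent.H34.KunzLocal
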