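import Mathlib
import Groth.Agent.S2599
import Groth.Agent.H79.RegCM
import Groth.Agent.H34.KunzLocal

/-!
# Kunz's theorem: a Noetherian ring of characteristic `p` is regular iff Frobenius is flat
-/

set_option autoImplicit false
set_option linter.style.haveILetI false

namespace Groth.Agent.H34.KunzReg

open IsLocalRing

universe u

/-- `A` regarded as an `A`-algebra via Frobenius -/
def FA (A : Type u) (_p : ℕ) : Type u := A

section FAinst

variable (A : Type u) [CommRing A] (p : ℕ)

instance : CommRing (FA A p) := inferInstanceAs (CommRing A)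
instance [IsLocalRing A] : IsLocalRing (FA A p) := inferInstanceAs (IsLocalRing A)
instance [IsNoetherianRing A] : IsNoetherianRing (FA A p) := inferInstanceAs (IsNoetherianRing A)

variable [Fact p.Prime] [CharP A p]

noncomputable instance : Algebra A (FA A p) := (frobenius A p).toAlgebra

theorem algebraMap_FA : (algebraMap A (FA A p) : A →+* A) = frobenius A p := rfl

instance [IsLocalRing A] [IsNoetherianRing A] : IsLocalHom (algebraMap A (FA A p)) :=
  Groth.Agent.H34.KunzLocal.isLocalHom_frobenius (A := A) p

end FAinst

theorem exists_gens (A : Type u) [CommRing A] [IsLocalRing A] [IsNoetherianRing A] :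
    ∃ x : Fin (maximalIdeal A).spanFinrank → A, Ideal.span (Set.range x) = maximalIdeal A := by
  classical
  obtain ⟨s, hscard, hsspan⟩ :=
    Submodule.FG.exists_span_finset_card_eq_spanFinrank (IsNoetherian.noetherian (maximalIdeal A))
  let e : Fin (maximalIdeal A).spanFinrank ≃ s :=
    (Fintype.equivFinOfCardEq (by simpa using hscard)).symm
  refine ⟨fun i => (e i : A), ?_⟩
  refine Eq.trans ?_ hsspan
  change Submodule.span A _ = Submodule.span A _
  congr 1
  ext y
  constructor
  · rintro ⟨i, rfl⟩
    exact (e i).2
  · intro hy
    exact ⟨e.symm ⟨y, hy⟩, by simp⟩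

theorem le_radical_map_frobenius (A : Type u) [CommRing A] (p : ℕ) [Fact p.Prime] [CharP A p]
    (I : Ideal A) : I ≤ (I.map (frobenius A p)).radical := by
  intro y hy
  refine ⟨p, ?_⟩
  have h1 := Ideal.mem_map_of_mem (frobenius A p) hy
  rwa [frobenius_def] at h1

/-- **Kunz, local case, easy direction**: Frobenius of a regular local ring is flat. -/
theorem flat_of_isRegularLocalRing (A : Type u) [CommRing A] [IsRegularLocalRing A] (p : ℕ)
    [Fact p.Prime] [CharP A p] : (frobenius A p).Flat := by
  obtain ⟨x, hx⟩ := exists_gens A
  have hn : ringKrullDim A = ((maximalIdeal A).spanFinrank : ℕ) :=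
    (IsRegularLocalRing.spanFinrank_maximalIdeal (R := A)).symm
  have hCM0 : LocCoh.IsCohenMacaulayModule A A :=
    Groth.Agent.H79.RegCM.isCM_of_sop A _ hn x hx
  have hCM : LocCoh.IsCohenMacaulayModule (FA A p) (FA A p) := hCM0
  have hfib : ringKrullDim (FA A p ⧸ EGA4.mB A (FA A p)) = 0 := by
    apply Groth.Agent.H79.RegCM.ringKrullDim_quotient_eq_zero
    · exact IsLocalRing.map_maximalIdeal_le (algebraMap A (FA A p))
    · exact le_radical_map_frobenius A p (maximalIdeal A)
  have hdim : Module.supportDim (FA A p) (FA A p) =
      ringKrullDim A + Module.supportDim (FA A p) (EGA4.FibMod A (FA A p) (FA A p)) := by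
    have hI : EGA4.mB A (FA A p) • (⊤ : Submodule (FA A p) (FA A p)) = EGA4.mB A (FA A p) := by
      rw [smul_eq_mul, Ideal.mul_top]
    rw [Module.supportDim_eq_of_equiv (Submodule.quotEquivOfEq _ _ hI),
      Module.supportDim_quotient_eq_ringKrullDim, hfib, add_zero,
      Module.supportDim_self_eq_ringKrullDim]
    rfl
  exact Groth.Agent.S2599.result A (FA A p) (FA A p) hCM hdim

section global

variable (R : Type u) [CommRing R] (p : ℕ) [Fact p.Prime] [CharP R p]

theorem comap_frobenius (P : Ideal R) [hP : P.IsPrime] : P.comap (frobenius R p) = P := by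
  ext x
  rw [Ideal.mem_comap, frobenius_def]
  exact ⟨fun h => hP.mem_of_pow_mem _ h,
    fun h => P.pow_mem_of_mem h p (Fact.out : p.Prime).pos⟩

instance charP_localization (P : Ideal R) [P.IsPrime] : CharP (Localization.AtPrime P) p := by
  rw [CharP.charP_iff_prime_eq_zero (Fact.out : p.Prime)]
  have h : ((p : ℕ) : R) = 0 := CharP.cast_eq_zero R p
  rw [← map_natCast (algebraMap R (Localization.AtPrime P)), h, map_zero]

theorem localRingHom_frobenius (P : Ideal R) [P.IsPrime] (h : P = P.comap (frobenius R p)) :
    Localization.localRingHom P P (frobenius R p) h = frobenius (Localization.AtPrime P) p := by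
  apply Localization.localRingHom_unique
  intro x
  rw [frobenius_def, frobenius_def, map_pow]

/-- **Kunz's theorem**. -/
theorem main [IsNoetherianRing R] : IsRegularRing R ↔ (frobenius R p).Flat := by
  constructor
  · intro hreg
    apply RingHom.Flat.ofLocalizationPrime
    intro P hP
    have key : ∀ (Q : Ideal R) (hQ : Q.IsPrime) (h : Q = P.comap (frobenius R p)),
        (Localization.localRingHom Q P (frobenius R p) h).Flat := by
      intro Q hQ h
      obtain rfl : Q = P := h.trans (comap_frobenius R p P)
      rw [localRingHom_frobenius]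
      exact flat_of_isRegularLocalRing (Localization.AtPrime Q) p
    exact key _ _ rfl
  · intro hF
    rw [isRegularRing_iff]
    intro P hP
    have h : P = P.comap (frobenius R p) := (comap_frobenius R p P).symm
    have h1 := RingHom.Flat.localRingHom hF P P h
    rw [localRingHom_frobenius] at h1
    exact Groth.Agent.H34.KunzLocal.isRegularLocalRing_of_flat p h1

end global

end Groth.Agent.H34.KunzReg
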