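import Mathlib
import Groth.Prelude.Def_DerCA

set_option autoImplicit false
universe u

namespace Groth.Agent.H34.MLShort

open CategoryTheory Opposite

/-- Elementwise Mittag-Leffler condition for an `ℕ`-indexed inverse system of abelian groups. -/
def ML {F : ℕ → Type u} [∀ n, AddCommGroup (F n)] (r : ∀ n m : ℕ, n ≤ m → F m →+ F n) : Prop :=
  ∀ j : ℕ, ∃ (k : ℕ) (hk : j ≤ k), ∀ (m : ℕ) (hm : k ≤ m) (x : F k),
    ∃ y : F m, r j m (hk.trans hm) y = r j k hk x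

theorem core_iff {A B C : ℕ → Type u} [∀ n, AddCommGroup (A n)] [∀ n, AddCommGroup (B n)]
    [∀ n, AddCommGroup (C n)]
    (rA : ∀ n m : ℕ, n ≤ m → A m →+ A n) (rB : ∀ n m : ℕ, n ≤ m → B m →+ B n)
    (rC : ∀ n m : ℕ, n ≤ m → C m →+ C n)
    (hrA : ∀ (n m l : ℕ) (h₁ : n ≤ m) (h₂ : m ≤ l) (x : A l),
      rA n m h₁ (rA m l h₂ x) = rA n l (h₁.trans h₂) x)
    (hrB : ∀ (n m l : ℕ) (h₁ : n ≤ m) (h₂ : m ≤ l) (x : B l),
      rB n m h₁ (rB m l h₂ x) = rB n l (h₁.trans h₂) x)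
    (hrC : ∀ (n m l : ℕ) (h₁ : n ≤ m) (h₂ : m ≤ l) (x : C l),
      rC n m h₁ (rC m l h₂ x) = rC n l (h₁.trans h₂) x)
    (a : ∀ n, A n →+ B n) (b : ∀ n, B n →+ C n)
    (ha_nat : ∀ (n m : ℕ) (h : n ≤ m) (x : A m), a n (rA n m h x) = rB n m h (a m x))
    (hb_nat : ∀ (n m : ℕ) (h : n ≤ m) (x : B m), b n (rB n m h x) = rC n m h (b m x))
    (ha : ∀ n, Function.Injective (a n)) (hb : ∀ n, Function.Surjective (b n))
    (hex : ∀ n (x : B n), b n x = 0 ↔ ∃ y, a n y = x)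
    (i : ℕ)
    (E1 : ∀ m : ℕ, ∃ (m' : ℕ) (hi : i ≤ m') (hm : m ≤ m'),
      ∀ γ : C m', rC i m' hi γ = 0 → rC m m' hm γ = 0)
    (E2 : ML rC) : ML rA ↔ ML rB := by
  have hba : ∀ n y, b n (a n y) = 0 := fun n y => (hex n _).mpr ⟨y, rfl⟩
  constructor
  · intro hA j
    obtain ⟨k₁, hk₁, hAk⟩ := hA j
    obtain ⟨l, hl, hCl⟩ := E2 k₁
    refine ⟨l, hk₁.trans hl, ?_⟩
    intro m hm x
    obtain ⟨γ, hγ⟩ := hCl m hm (b l x)
    obtain ⟨y₀, rfl⟩ := hb m γ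
    have hd : b k₁ (rB k₁ l hl x - rB k₁ m (hl.trans hm) y₀) = 0 := by
      rw [map_sub, hb_nat, hb_nat, hγ, sub_self]
    obtain ⟨α, hα⟩ := (hex k₁ _).mp hd
    obtain ⟨α', hα'⟩ := hAk m (hl.trans hm) α
    refine ⟨y₀ + a m α', ?_⟩
    have e1 : rB j m ((hk₁.trans hl).trans hm) (a m α') = rB j k₁ hk₁ (a k₁ α) := by
      rw [← ha_nat, ← ha_nat]
      exact congrArg (a j) hα'
    rw [map_add, e1, hα, map_sub, hrB, hrB]
    abel
  · intro hB j
    obtain ⟨k, hk, hBk⟩ := hB (max i j)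
    have hij : i ≤ max i j := le_max_left _ _
    have hjj : j ≤ max i j := le_max_right _ _
    refine ⟨k, hjj.trans hk, ?_⟩
    intro m hm α
    obtain ⟨m', him', hmm', hE⟩ := E1 m
    obtain ⟨β, hβ⟩ := hBk m' (hm.trans hmm') (a k α)
    have hγ0 : rC i m' him' (b m' β) = 0 := by
      have e2 : rC i m' him' (b m' β) =
          rC i (max i j) hij (rC (max i j) m' (hk.trans (hm.trans hmm')) (b m' β)) :=
        (hrC _ _ _ _ _ _).symm
      rw [e2, ← hb_nat, hβ, ← ha_nat, hba, map_zero]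
    have h0 := hE _ hγ0
    rw [← hb_nat] at h0
    obtain ⟨α', hα'⟩ := (hex m _).mp h0
    refine ⟨α', ha j ?_⟩
    have e3 : rB j m' ((hjj.trans hk).trans (hm.trans hmm')) β =
        rB j (max i j) hjj (rB (max i j) m' (hk.trans (hm.trans hmm')) β) :=
      (hrB _ _ _ _ _ _).symm
    rw [ha_nat, hα', hrB, ha_nat, e3, hβ, hrB]

variable (F : ℕᵒᵖ ⥤ AddCommGrpCat.{u})

/-- Transition maps as additive maps. -/
noncomputable def tr (n m : ℕ) (h : n ≤ m) : F.obj (op m) →+ F.obj (op n) :=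
  (F.map (homOfLE h).op).hom

theorem tr_comp (n m l : ℕ) (h₁ : n ≤ m) (h₂ : m ≤ l) (x : F.obj (op l)) :
    tr F n m h₁ (tr F m l h₂ x) = tr F n l (h₁.trans h₂) x := by
  have h : F.map (homOfLE (h₁.trans h₂)).op = F.map (homOfLE h₂).op ≫ F.map (homOfLE h₁).op := by
    rw [← F.map_comp]
    exact congrArg F.map (Subsingleton.elim _ _)
  show (F.map (homOfLE h₁).op).hom ((F.map (homOfLE h₂).op).hom x) =
    (F.map (homOfLE (h₁.trans h₂)).op).hom x
  rw [h]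
  rfl

theorem tr_nat {F G : ℕᵒᵖ ⥤ AddCommGrpCat.{u}} (φ : F ⟶ G) (n m : ℕ) (h : n ≤ m)
    (x : F.obj (op m)) :
    (φ.app (op n)).hom (tr F n m h x) = tr G n m h ((φ.app (op m)).hom x) := by
  have h1 := φ.naturality (homOfLE h).op
  exact congrArg (fun ψ => ψ.hom x) h1

theorem isML_iff :
    (F ⋙ forget AddCommGrpCat).IsMittagLeffler ↔
      ML (F := fun n => F.obj (op n)) (tr F) := by
  constructor
  · intro H j
    obtain ⟨⟨k⟩, f, hf⟩ := H (op j)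
    have hk : j ≤ k := leOfHom f.unop
    obtain rfl : f = (homOfLE hk).op := Subsingleton.elim _ _
    refine ⟨k, hk, ?_⟩
    intro m hm x
    obtain ⟨y, hy⟩ := hf (homOfLE (hk.trans hm)).op ⟨x, rfl⟩
    exact ⟨y, hy⟩
  · intro H j
    obtain ⟨j⟩ := j
    obtain ⟨k, hk, hk'⟩ := H j
    refine ⟨op k, (homOfLE hk).op, ?_⟩
    rintro ⟨m⟩ g _ ⟨x, rfl⟩
    have hm : j ≤ m := leOfHom g.unop
    obtain rfl : g = (homOfLE hm).op := Subsingleton.elim _ _
    obtain ⟨y, hy⟩ := hk' (max m k) (le_max_right _ _) x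
    refine ⟨tr F m (max m k) (le_max_left _ _) y, ?_⟩
    have h1 := tr_comp F j m (max m k) hm (le_max_left _ _) y
    exact h1.trans hy

theorem main {A B C : ℕᵒᵖ ⥤ AddCommGrpCat.{u}} (a : A ⟶ B) (b : B ⟶ C)
    (ha : ∀ i, Function.Injective (a.app i).hom) (hb : ∀ i, Function.Surjective (b.app i).hom)
    (hex : ∀ i, (b.app i).hom.ker = (a.app i).hom.range)
    (hC : ∃ (C₀ : AddCommGrpCat.{u}) (c : (Functor.const ℕᵒᵖ).obj C₀ ⟶ C),
      DerCA.IsEssConstant C C₀ c) :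
    (A ⋙ forget AddCommGrpCat).IsMittagLeffler ↔ (B ⋙ forget AddCommGrpCat).IsMittagLeffler := by
  rw [isML_iff, isML_iff]
  obtain ⟨C₀, c, i, s, hcs, hCk⟩ := hC
  have hc_nat : ∀ (n m : ℕ) (h : n ≤ m) (t : C₀),
      tr C n m h ((c.app (op m)).hom t) = (c.app (op n)).hom t := by
    intro n m h t
    have h1 := c.naturality (homOfLE h).op
    have h2 := congrArg (fun ψ => ψ.hom t) h1
    exact h2.symm
  refine core_iff (A := fun n => A.obj (op n)) (B := fun n => B.obj (op n))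
    (C := fun n => C.obj (op n)) (tr A) (tr B) (tr C) (tr_comp A) (tr_comp B) (tr_comp C)
    (fun n => (a.app (op n)).hom) (fun n => (b.app (op n)).hom) (tr_nat a) (tr_nat b)
    (fun n => ha (op n)) (fun n => hb (op n)) ?_ i ?_ ?_
  · intro n x
    rw [← AddMonoidHom.mem_ker, hex (op n), AddMonoidHom.mem_range]
  · intro m
    obtain ⟨m', hi, hm, heq⟩ := hCk m
    refine ⟨m', hi, hm, ?_⟩
    intro γ hγ
    have h2 := congrArg (fun ψ => ψ.hom γ) heq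
    have h3 : tr C m m' hm γ = (c.app (op m)).hom (s.hom (tr C i m' hi γ)) := h2
    rw [h3, hγ, map_zero, map_zero]
  · intro j
    obtain ⟨k, hi, hj, heq⟩ := hCk j
    refine ⟨k, hj, ?_⟩
    intro m hm x
    refine ⟨(c.app (op m)).hom (s.hom (tr C i k hi x)), ?_⟩
    rw [hc_nat]
    have h2 := congrArg (fun ψ => ψ.hom x) heq
    exact h2.symm

end Groth.Agent.H34.MLShort
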