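import Mathlib
import Groth.Agent.H34.PthRootCore
import Groth.Agent.H34.RegDesc
import Groth.Agent.S2035
import Groth.Agent.S2036
import Groth.Agent.S2622

/-! Openness of the formally smooth locus of a quotient of a complete local ring over a field `k`
with `[k : k^p] < ∞` (EGA 0_IV 22.7.6-type statement; helper34). -/

set_option autoImplicit false
universe u
open TensorProduct IsLocalRing

namespace Groth.Agent.H34.NagataOpen

/-! ### regularity of a localization -/

theorem regular_congr {R : Type u} [CommRing R] (Q₁ Q₂ : Ideal R) [Q₁.IsPrime] [Q₂.IsPrime]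
    (h : Q₁ = Q₂) (hr : IsRegularLocalRing (Localization.AtPrime Q₁)) :
    IsRegularLocalRing (Localization.AtPrime Q₂) := by
  subst h; exact hr

theorem isRegularRing_localization_iff (R R' : Type u) [CommRing R] [CommRing R'] [Algebra R R']
    [IsNoetherianRing R] (M : Submonoid R) [IsLocalization M R'] :
    IsRegularRing R' ↔ ∀ (Q : Ideal R) [Q.IsPrime], Disjoint (M : Set R) (Q : Set R) →
      IsRegularLocalRing (Localization.AtPrime Q) := by
  have hN' : IsNoetherianRing R' := IsLocalization.isNoetherianRing M R' inferInstance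
  constructor
  · intro h Q hQ hd
    have hP : (Q.map (algebraMap R R')).IsPrime :=
      IsLocalization.isPrime_of_isPrime_disjoint M R' Q hQ hd
    have hc : (Q.map (algebraMap R R')).comap (algebraMap R R') = Q :=
      IsLocalization.under_map_of_isPrime_disjoint M R' hQ hd
    have hloc : IsLocalization.AtPrime (Localization.AtPrime (Q.map (algebraMap R R')))
        ((Q.map (algebraMap R R')).comap (algebraMap R R')) :=
      IsLocalization.isLocalization_isLocalization_atPrime_isLocalization M
        (Localization.AtPrime (Q.map (algebraMap R R'))) (Q.map (algebraMap R R'))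
    let e : Localization.AtPrime ((Q.map (algebraMap R R')).comap (algebraMap R R')) ≃ₐ[R]
        Localization.AtPrime (Q.map (algebraMap R R')) :=
      IsLocalization.algEquiv ((Q.map (algebraMap R R')).comap (algebraMap R R')).primeCompl _ _
    have h1 : IsRegularLocalRing (Localization.AtPrime (Q.map (algebraMap R R'))) :=
      IsRegularRing.isRegularLocalRing_localization _
    have h2 : IsRegularLocalRing
        (Localization.AtPrime ((Q.map (algebraMap R R')).comap (algebraMap R R'))) :=
      IsRegularLocalRing.of_ringEquiv e.symm.toRingEquiv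
    exact regular_congr _ _ hc h2
  · intro h
    rw [isRegularRing_iff]
    intro P hP
    have hloc : IsLocalization.AtPrime (Localization.AtPrime P) (P.comap (algebraMap R R')) :=
      IsLocalization.isLocalization_isLocalization_atPrime_isLocalization M
        (Localization.AtPrime P) P
    let e : Localization.AtPrime (P.comap (algebraMap R R')) ≃ₐ[R] Localization.AtPrime P :=
      IsLocalization.algEquiv (P.comap (algebraMap R R')).primeCompl _ _
    have hd : Disjoint (M : Set R) (P.comap (algebraMap R R') : Set R) := by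
      rw [Set.disjoint_left]
      intro x hxM hxP
      exact hP.ne_top (Ideal.eq_top_of_isUnit_mem _ hxP (IsLocalization.map_units R' ⟨x, hxM⟩))
    have := h (P.comap (algebraMap R R')) hd
    exact IsRegularLocalRing.of_ringEquiv e.toRingEquiv

/-! ### topology -/

theorem isOpen_of_isIntegral {B B' : Type u} [CommRing B] [CommRing B'] (f : B →+* B')
    (hf : f.IsIntegral) (W : Set (PrimeSpectrum B')) (hW : IsOpen W) :
    IsOpen {n : PrimeSpectrum B | ∀ Q' : PrimeSpectrum B',
      Q'.asIdeal.comap f ≤ n.asIdeal → Q' ∈ W} := by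
  rw [← isClosed_compl_iff]
  have hcl : IsClosed (PrimeSpectrum.comap f '' Wᶜ) :=
    PrimeSpectrum.isClosedMap_comap_of_isIntegral f hf _ hW.isClosed_compl
  have heq : {n : PrimeSpectrum B | ∀ Q' : PrimeSpectrum B',
      Q'.asIdeal.comap f ≤ n.asIdeal → Q' ∈ W}ᶜ = PrimeSpectrum.comap f '' Wᶜ := by
    ext n
    simp only [Set.mem_compl_iff, Set.mem_setOf_eq, not_forall, Set.mem_image]
    constructor
    · rintro ⟨Q', hle, hQ'⟩
      have hle' : PrimeSpectrum.comap f Q' ≤ n := hle
      have hspec : (PrimeSpectrum.comap f Q') ⤳ n := (PrimeSpectrum.le_iff_specializes _ _).mp hle'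
      exact hspec.mem_closed hcl ⟨Q', hQ', rfl⟩
    · rintro ⟨Q', hQ', rfl⟩
      exact ⟨Q', le_refl _, hQ'⟩
  rw [heq]
  exact hcl

/-! ### the Frobenius twist -/

/-- `k` regarded as an extension of itself through the Frobenius (a model of `k^{1/p}`). -/
def Fr (k : Type u) (_p : ℕ) : Type u := k

instance (k : Type u) [Field k] (p : ℕ) : Field (Fr k p) := inferInstanceAs (Field k)

noncomputable instance (k : Type u) [Field k] (p : ℕ) [ExpChar k p] : Algebra k (Fr k p) :=
  RingHom.toAlgebra (show k →+* Fr k p from frobenius k p)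

theorem algebraMap_fr (k : Type u) [Field k] (p : ℕ) [ExpChar k p] (a : k) :
    algebraMap k (Fr k p) a = (show Fr k p from a ^ p) := rfl

theorem finite_fr (k : Type u) [Field k] (p : ℕ) [ExpChar k p]
    (h : Module.Finite (frobenius k p).fieldRange k) : Module.Finite k (Fr k p) := by
  refine Module.Finite.of_equiv_equiv (A₁ := (frobenius k p).fieldRange) (B₁ := k)
    (frobenius k p).rangeRestrictFieldEquiv.symm (show k ≃+* Fr k p from RingEquiv.refl k) ?_
  ext x
  show (frobenius k p) ((frobenius k p).rangeRestrictFieldEquiv.symm x) = (x : k)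
  exact RingHom.rangeRestrictFieldEquiv_apply_symm_apply _ x

theorem charP_of_expChar_prime (k : Type u) [Field k] (p : ℕ) [hE : ExpChar k p] (hp : p.Prime) :
    CharP k p := by
  have hc : CharP k (ringChar k) := ringChar.charP k
  rcases CharP.char_is_prime_or_zero k (ringChar k) with h | h
  · haveI := Fact.mk h
    have := ExpChar.eq (R := k) hE (expChar_prime k (ringChar k))
    rw [this]; exact hc
  · rw [h] at hc
    have := @expChar_one_of_char_zero k _ p hc hE
    exact absurd this hp.ne_one

section frob
variable {k : Type u} [Field k] (p : ℕ) [Fact p.Prime] [CharP k p]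

/-- formal smoothness over `k` is regularity after the Frobenius twist. -/
theorem fs_iff_regular_fr (hfin : Module.Finite k (Fr k p)) (R : Type u) [CommRing R]
    [IsLocalRing R] [IsNoetherianRing R] [Algebra k R] :
    CAlgX.IsAdicFormallySmooth k R (maximalIdeal R) ↔ IsRegularRing (Fr k p ⊗[k] R) := by
  rw [← Groth.Agent.S2036.result p]
  constructor
  · intro h
    exact h (Fr k p) hfin
  · intro h
    refine Groth.Agent.H34.PthRootCore.geomRegular_of_pth p ?_
    intro k'' _ _ hfin'' hpth
    have hinj := (algebraMap k k'').injective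
    have hch : CharP k'' p := charP_of_injective_algebraMap hinj p
    choose g hg using hpth
    let ι₀ : k'' →+* k :=
      { toFun := g
        map_one' := hinj (by rw [hg, one_pow, map_one])
        map_mul' := fun x y => hinj (by rw [hg, map_mul, hg, hg, mul_pow])
        map_zero' := hinj (by rw [hg, map_zero, zero_pow (Fact.out : p.Prime).ne_zero])
        map_add' := fun x y => hinj (by rw [hg, map_add, hg, hg, add_pow_char]) }
    let ι : k'' →+* Fr k p := ι₀
    let _ : Algebra k'' (Fr k p) := ι.toAlgebra
    have tow : IsScalarTower k k'' (Fr k p) := IsScalarTower.of_algebraMap_eq (fun a => by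
      show (show Fr k p from a ^ p) = g (algebraMap k k'' a)
      apply hinj
      rw [hg, map_pow])
    let e : Fr k p ⊗[k''] (k'' ⊗[k] R) ≃ₐ[k''] Fr k p ⊗[k] R :=
      Algebra.TensorProduct.cancelBaseChange k k'' k'' (Fr k p) R
    let e2 : (k'' ⊗[k] R) ⊗[k''] Fr k p ≃ₐ[k''] Fr k p ⊗[k''] (k'' ⊗[k] R) :=
      Algebra.TensorProduct.comm k'' (k'' ⊗[k] R) (Fr k p)
    have hreg : IsRegularRing ((k'' ⊗[k] R) ⊗[k''] Fr k p) :=
      IsRegularRing.of_ringEquiv (e2.trans e).symm.toRingEquiv
    exact Groth.Agent.H34.RegDesc.isRegularRing_of_faithfullyFlat (k'' ⊗[k] R)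
      ((k'' ⊗[k] R) ⊗[k''] Fr k p)

end frob

/-! ### the main theorem -/

section main
variable {k : Type u} [Field k]

/-- abstract form: `B'` = `B ⊗[k] k'` has open regular locus ⇒ the set of `n` with
`k' ⊗[k] B_n` regular is open. -/
theorem isOpen_setOf_regular_tensor (k' : Type u) [Field k'] [Algebra k k'] [Module.Finite k k']
    (B : Type u) [CommRing B] [IsNoetherianRing B] [Algebra k B]
    (hopen : IsOpen (EGA4.regLocus (B ⊗[k] k'))) :
    IsOpen {n : PrimeSpectrum B | IsRegularRing (k' ⊗[k] Localization.AtPrime n.asIdeal)} := by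
  have hNB' : IsNoetherianRing (B ⊗[k] k') := IsNoetherianRing.of_finite B _
  have hint : (algebraMap B (B ⊗[k] k')).IsIntegral :=
    (Algebra.IsIntegral.of_finite B (B ⊗[k] k')).isIntegral
  have key := isOpen_of_isIntegral (algebraMap B (B ⊗[k] k')) hint _ hopen
  have heq : {n : PrimeSpectrum B | IsRegularRing (k' ⊗[k] Localization.AtPrime n.asIdeal)} =
      {n : PrimeSpectrum B | ∀ Q' : PrimeSpectrum (B ⊗[k] k'),
        Q'.asIdeal.comap (algebraMap B (B ⊗[k] k')) ≤ n.asIdeal →
          Q' ∈ EGA4.regLocus (B ⊗[k] k')} := by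
    ext n
    simp only [Set.mem_setOf_eq]
    -- the localization structure
    let φ : B ⊗[k] k' →ₐ[k] Localization.AtPrime n.asIdeal ⊗[k] k' :=
      Algebra.TensorProduct.map (IsScalarTower.toAlgHom k B (Localization.AtPrime n.asIdeal))
        (AlgHom.id k k')
    let alg : Algebra (B ⊗[k] k') (Localization.AtPrime n.asIdeal ⊗[k] k') :=
      φ.toRingHom.toAlgebra
    have tow : IsScalarTower B (B ⊗[k] k') (Localization.AtPrime n.asIdeal ⊗[k] k') :=
      IsScalarTower.of_algebraMap_eq (fun b => by
        show (algebraMap B (Localization.AtPrime n.asIdeal) b) ⊗ₜ[k] (1 : k') =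
          φ (b ⊗ₜ[k] (1 : k'))
        simp [φ])
    have hloc : IsLocalization
        (Algebra.algebraMapSubmonoid (B ⊗[k] k') n.asIdeal.primeCompl)
        (Localization.AtPrime n.asIdeal ⊗[k] k') :=
      IsLocalization.tensorProduct_tensorProduct k k' n.asIdeal.primeCompl
        (Localization.AtPrime n.asIdeal) (by
          ext b
          show φ ((1 : B) ⊗ₜ[k] b) = (1 : Localization.AtPrime n.asIdeal) ⊗ₜ[k] b
          simp [φ])
    have h1 : IsRegularRing (k' ⊗[k] Localization.AtPrime n.asIdeal) ↔
        IsRegularRing (Localization.AtPrime n.asIdeal ⊗[k] k') :=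
      ⟨fun h => IsRegularRing.of_ringEquiv
          (Algebra.TensorProduct.comm k k' (Localization.AtPrime n.asIdeal)).toRingEquiv,
        fun h => IsRegularRing.of_ringEquiv
          (Algebra.TensorProduct.comm k (Localization.AtPrime n.asIdeal) k').toRingEquiv⟩
    rw [h1, isRegularRing_localization_iff (B ⊗[k] k') (Localization.AtPrime n.asIdeal ⊗[k] k')
      (Algebra.algebraMapSubmonoid (B ⊗[k] k') n.asIdeal.primeCompl)]
    have hdisj : ∀ Q : Ideal (B ⊗[k] k'),
        Disjoint ((Algebra.algebraMapSubmonoid (B ⊗[k] k') n.asIdeal.primeCompl : Submonoid _) :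
          Set (B ⊗[k] k')) (Q : Set (B ⊗[k] k')) ↔
        Q.comap (algebraMap B (B ⊗[k] k')) ≤ n.asIdeal := by
      intro Q
      rw [Set.disjoint_left]
      constructor
      · intro h x hx
        by_contra hxn
        exact h ⟨x, hxn, rfl⟩ hx
      · rintro h _ ⟨s, hs, rfl⟩ hsQ
        exact hs (h hsQ)
    constructor
    · intro h Q' hQ'
      exact h Q'.asIdeal ((hdisj _).mpr hQ')
    · intro h Q hQ hd
      exact h ⟨Q, hQ⟩ ((hdisj Q).mp hd)
  rw [heq]
  exact key

theorem main (p : ℕ) {A : Type u} [hE : ExpChar k p]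
    (hk : p = 1 ∨ Module.Finite (frobenius k p).fieldRange k)
    [CommRing A] [IsLocalRing A] [IsNoetherianRing A] [IsAdicComplete (maximalIdeal A) A]
    [Algebra k A] (q : Ideal A) :
    IsOpen {n : PrimeSpectrum (A ⧸ q) |
      CAlgX.IsAdicFormallySmooth k (Localization.AtPrime n.asIdeal)
        (maximalIdeal (Localization.AtPrime n.asIdeal))} := by
  have hJ2 := Groth.Agent.S2622.result A
  have hNn : ∀ n : PrimeSpectrum (A ⧸ q), IsNoetherianRing (Localization.AtPrime n.asIdeal) :=
    fun n => IsLocalization.isNoetherianRing n.asIdeal.primeCompl _ inferInstance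
  rcases expChar_is_prime_or_one k p with hprime | h1
  · have hfin0 : Module.Finite (frobenius k p).fieldRange k := hk.resolve_left hprime.ne_one
    haveI : Fact p.Prime := ⟨hprime⟩
    haveI : CharP k p := charP_of_expChar_prime k p hprime
    have hfin : Module.Finite k (Fr k p) := finite_fr k p hfin0
    have hft : Algebra.FiniteType A ((A ⧸ q) ⊗[k] Fr k p) := by
      have h1 : Module.Finite (A ⧸ q) ((A ⧸ q) ⊗[k] Fr k p) := inferInstance
      have h2 : Module.Finite A ((A ⧸ q) ⊗[k] Fr k p) := Module.Finite.trans (A ⧸ q) _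
      infer_instance
    have hopen := hJ2 ((A ⧸ q) ⊗[k] Fr k p) hft
    have key := isOpen_setOf_regular_tensor (Fr k p) (A ⧸ q) hopen
    have heq : {n : PrimeSpectrum (A ⧸ q) |
        CAlgX.IsAdicFormallySmooth k (Localization.AtPrime n.asIdeal)
          (maximalIdeal (Localization.AtPrime n.asIdeal))} =
        {n : PrimeSpectrum (A ⧸ q) |
          IsRegularRing (Fr k p ⊗[k] Localization.AtPrime n.asIdeal)} := by
      ext n
      have := hNn n
      exact fs_iff_regular_fr p hfin (Localization.AtPrime n.asIdeal)
    rw [heq]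
    exact key
  · subst h1
    haveI : CharZero k := charZero_of_expChar_one' k
    have hopen := hJ2 (A ⧸ q) inferInstance
    have heq : {n : PrimeSpectrum (A ⧸ q) |
        CAlgX.IsAdicFormallySmooth k (Localization.AtPrime n.asIdeal)
          (maximalIdeal (Localization.AtPrime n.asIdeal))} = EGA4.regLocus (A ⧸ q) := by
      ext n
      have := hNn n
      exact (Groth.Agent.S2035.result (k := k) (A := Localization.AtPrime n.asIdeal)).symm
    rw [heq]
    exact hopen

end main

end Groth.Agent.H34.NagataOpen
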