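import Mathlib
import Groth.Agent.H34.NormalFibres
import Groth.Agent.H87.ComplFlat
import Groth.Agent.Lead.CompleteNoetherian
import Groth.Agent.S4696
import Groth.Agent.S19858

/-! EGA IV 7.5.1-type statement for the property 'normal' over a local ring with geometrically
normal formal fibres (helper34). -/

set_option autoImplicit false
set_option maxHeartbeats 1600000
set_option linter.style.haveILetI false
universe u
open TensorProduct IsLocalRing

namespace Groth.Agent.H34.NormalCplFibre

open Groth.Agent.H34.NormalCore Groth.Agent.H34.FibLoc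

/-- If `R → S` is surjective modulo an ideal killed in the field `K`, base changes to `K` over `R`
and over `S` agree. -/
theorem tensor_dense_equiv {R S T K : Type u} [CommRing R] [CommRing S] [CommRing T]
    [Field K] [Algebra R S] [Algebra S T] [Algebra R T] [IsScalarTower R S T] [Algebra S K]
    [Algebra R K] [IsScalarTower R S K] (I : Ideal R)
    (hI : I.map (algebraMap R S) ≤ RingHom.ker (algebraMap S K))
    (hsurj : ∀ s : S, ∃ r : R, s - algebraMap R S r ∈ I.map (algebraMap R S)) :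
    Nonempty (K ⊗[R] T ≃+* K ⊗[S] T) := by
  have hzero : ∀ m ∈ I.map (algebraMap R S), ∀ k : K, (m ⊗ₜ[R] k : S ⊗[R] K) = 0 := by
    intro m hm
    refine Submodule.span_induction (p := fun m _ => ∀ k : K, (m ⊗ₜ[R] k : S ⊗[R] K) = 0)
      ?_ ?_ ?_ ?_ hm
    · rintro _ ⟨r, hr, rfl⟩ k
      have h0 : algebraMap R K r = 0 := by
        rw [IsScalarTower.algebraMap_apply R S K, ← RingHom.mem_ker]
        exact hI (Ideal.mem_map_of_mem _ hr)
      rw [Algebra.algebraMap_eq_smul_one, TensorProduct.smul_tmul, Algebra.smul_def, h0, zero_mul,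
        tmul_zero]
    · intro k
      exact zero_tmul _ _
    · intro x y _ _ hx hy k
      rw [add_tmul, hx, hy, add_zero]
    · intro s x _ hx k
      rw [← TensorProduct.smul_tmul', hx, smul_zero]
  have hform : ∀ x : S ⊗[R] K, ∃ k : K, x = (1 : S) ⊗ₜ[R] k := by
    intro x
    induction x with
    | zero => exact ⟨0, (tmul_zero _ _).symm⟩
    | add x y hx hy =>
      obtain ⟨k₁, rfl⟩ := hx
      obtain ⟨k₂, rfl⟩ := hy
      exact ⟨k₁ + k₂, (tmul_add _ _ _).symm⟩
    | tmul s k =>
      obtain ⟨r, hr⟩ := hsurj s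
      refine ⟨r • k, ?_⟩
      have h1 : s = algebraMap R S r + (s - algebraMap R S r) := by ring
      rw [h1, add_tmul, hzero _ hr k, add_zero, Algebra.algebraMap_eq_smul_one,
        TensorProduct.smul_tmul]
  let ε₀ : S ⊗[R] K →ₐ[S] K :=
    Algebra.TensorProduct.lift (Algebra.ofId S K) (AlgHom.id R K) (fun _ _ => Commute.all _ _)
  have hε₀ : ∀ k : K, ε₀ ((1 : S) ⊗ₜ[R] k) = k := by
    intro k
    simp [ε₀]
  have hbij : Function.Bijective ε₀ := by
    constructor
    · rw [injective_iff_map_eq_zero]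
      intro x hx
      obtain ⟨k, rfl⟩ := hform x
      rw [hε₀] at hx
      rw [hx, tmul_zero]
    · intro k
      exact ⟨(1 : S) ⊗ₜ[R] k, hε₀ k⟩
  let ε : S ⊗[R] K ≃ₐ[S] K := AlgEquiv.ofBijective ε₀ hbij
  let c1 : K ⊗[R] T ≃ₐ[R] T ⊗[R] K := Algebra.TensorProduct.comm R K T
  let c2 : T ⊗[S] (S ⊗[R] K) ≃ₐ[S] T ⊗[R] K := Algebra.TensorProduct.cancelBaseChange R S S T K
  let c3 : T ⊗[S] (S ⊗[R] K) ≃ₐ[S] T ⊗[S] K :=
    Algebra.TensorProduct.congr (AlgEquiv.refl : T ≃ₐ[S] T) ε
  let c4 : T ⊗[S] K ≃ₐ[S] K ⊗[S] T := Algebra.TensorProduct.comm S T K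
  exact ⟨c1.toRingEquiv.trans (c2.symm.toRingEquiv.trans (c3.toRingEquiv.trans c4.toRingEquiv))⟩

/-- The closed fibre of `Â → C` is geometrically normal when the closed fibre of `A → C` is. -/
theorem isGeomNormal_closedFibre_cpl (A C : Type u) [CommRing A] [IsLocalRing A]
    [IsNoetherianRing A] [CommRing C] [Algebra A C] [Algebra (EGA4.Cpl A) C]
    [IsScalarTower A (EGA4.Cpl A) C]
    (h : EGA4.IsGeomNormal (maximalIdeal A).ResidueField ((maximalIdeal A).Fiber C)) :
    EGA4.IsGeomNormal (maximalIdeal (EGA4.Cpl A)).ResidueField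
      ((maximalIdeal (EGA4.Cpl A)).Fiber C) := by
  have hmA : (maximalIdeal (EGA4.Cpl A)).comap (algebraMap A (EGA4.Cpl A)) = maximalIdeal A :=
    ((IsLocalRing.local_hom_TFAE (algebraMap A (EGA4.Cpl A))).out 0 4 rfl rfl).mp inferInstance
  have hdense : ∀ s : EGA4.Cpl A, ∃ r : A,
      s - algebraMap A (EGA4.Cpl A) r ∈ (maximalIdeal A).map (algebraMap A (EGA4.Cpl A)) := by
    intro s
    obtain ⟨a, ha⟩ := Groth.Agent.H87.ComplFlat.exists_sub_mem_map_pow
      (maximalIdeal A) (maximalIdeal A).fg_of_isNoetherianRing 1 s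
    rw [pow_one] at ha
    exact ⟨a, ha⟩
  have hMmap : maximalIdeal (EGA4.Cpl A) = (maximalIdeal A).map (algebraMap A (EGA4.Cpl A)) :=
    AdicCompletion.maximalIdeal_eq_map (R := A)
  intro k' _ _ hfin
  haveI := hfin
  let σ : (maximalIdeal A).ResidueField →+* (maximalIdeal (EGA4.Cpl A)).ResidueField :=
    Ideal.ResidueField.map (maximalIdeal A) (maximalIdeal (EGA4.Cpl A))
      (algebraMap A (EGA4.Cpl A)) hmA.symm
  have hσsurj : Function.Surjective σ := by
    intro x
    obtain ⟨y, rfl⟩ := (maximalIdeal (EGA4.Cpl A)).algebraMap_residueField_surjective x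
    obtain ⟨a, ha⟩ := hdense y
    refine ⟨algebraMap A (maximalIdeal A).ResidueField a, ?_⟩
    rw [Ideal.ResidueField.map_algebraMap]
    rw [← hMmap] at ha
    have h0 := Ideal.algebraMap_residueField_eq_zero.mpr ha
    rw [map_sub, sub_eq_zero] at h0
    exact h0.symm
  letI algσ : Algebra (maximalIdeal A).ResidueField (maximalIdeal (EGA4.Cpl A)).ResidueField :=
    σ.toAlgebra
  letI : Algebra (maximalIdeal A).ResidueField k' :=
    ((algebraMap (maximalIdeal (EGA4.Cpl A)).ResidueField k').comp σ).toAlgebra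
  haveI : IsScalarTower (maximalIdeal A).ResidueField (maximalIdeal (EGA4.Cpl A)).ResidueField k' :=
    IsScalarTower.of_algebraMap_eq (fun _ => rfl)
  haveI : Module.Finite (maximalIdeal A).ResidueField (maximalIdeal (EGA4.Cpl A)).ResidueField :=
    Module.Finite.of_surjective (Algebra.linearMap (maximalIdeal A).ResidueField
      (maximalIdeal (EGA4.Cpl A)).ResidueField) hσsurj
  haveI : Module.Finite (maximalIdeal A).ResidueField k' :=
    Module.Finite.trans (maximalIdeal (EGA4.Cpl A)).ResidueField k'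
  letI : Algebra (EGA4.Cpl A) k' :=
    ((algebraMap (maximalIdeal (EGA4.Cpl A)).ResidueField k').comp
      (algebraMap (EGA4.Cpl A) (maximalIdeal (EGA4.Cpl A)).ResidueField)).toAlgebra
  haveI : IsScalarTower (EGA4.Cpl A) (maximalIdeal (EGA4.Cpl A)).ResidueField k' :=
    IsScalarTower.of_algebraMap_eq (fun _ => rfl)
  letI : Algebra A k' := ((algebraMap (EGA4.Cpl A) k').comp (algebraMap A (EGA4.Cpl A))).toAlgebra
  haveI : IsScalarTower A (EGA4.Cpl A) k' := IsScalarTower.of_algebraMap_eq (fun _ => rfl)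
  haveI : IsScalarTower A (maximalIdeal A).ResidueField k' :=
    IsScalarTower.of_algebraMap_eq (fun a => by
      show algebraMap (maximalIdeal (EGA4.Cpl A)).ResidueField k'
          (algebraMap (EGA4.Cpl A) (maximalIdeal (EGA4.Cpl A)).ResidueField
            (algebraMap A (EGA4.Cpl A) a)) =
        algebraMap (maximalIdeal (EGA4.Cpl A)).ResidueField k'
          (σ (algebraMap A (maximalIdeal A).ResidueField a))
      rw [Ideal.ResidueField.map_algebraMap])
  have h1 := h k' inferInstance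
  let e1 := Algebra.TensorProduct.cancelBaseChange A (maximalIdeal A).ResidueField
    (maximalIdeal A).ResidueField k' C
  have hI : (maximalIdeal A).map (algebraMap A (EGA4.Cpl A)) ≤
      RingHom.ker (algebraMap (EGA4.Cpl A) k') := by
    rw [← hMmap]
    intro y hy
    rw [RingHom.mem_ker]
    show algebraMap (maximalIdeal (EGA4.Cpl A)).ResidueField k'
      (algebraMap (EGA4.Cpl A) (maximalIdeal (EGA4.Cpl A)).ResidueField y) = 0
    rw [Ideal.algebraMap_residueField_eq_zero.mpr hy, map_zero]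
  obtain ⟨e2⟩ := tensor_dense_equiv (R := A) (S := EGA4.Cpl A) (T := C) (K := k')
    (maximalIdeal A) hI hdense
  let e3 := Algebra.TensorProduct.cancelBaseChange (EGA4.Cpl A)
    (maximalIdeal (EGA4.Cpl A)).ResidueField (maximalIdeal (EGA4.Cpl A)).ResidueField k' C
  exact isNormalRing_of_ringEquiv (e1.toRingEquiv.trans (e2.trans e3.symm.toRingEquiv)) h1

/-- **S4745**. -/
theorem main (A B : Type u) [CommRing A] [CommRing B]
    [IsNoetherianRing A] [IsNoetherianRing B] [IsLocalRing A] [IsLocalRing B] [Algebra A B]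
    [IsLocalHom (algebraMap A B)] [Module.Flat A B]
    (hA : EGA4.HasGeomNormalFormalFibres A)
    (h : EGA4.IsGeomNormal (IsLocalRing.maximalIdeal A).ResidueField
      ((IsLocalRing.maximalIdeal A).Fiber (EGA4.Cpl B))) :
    EGA4.IsNormalHom A B := by
  classical
  have hle : (IsLocalRing.maximalIdeal A).map (algebraMap A B) ≤ IsLocalRing.maximalIdeal B :=
    IsLocalRing.map_maximalIdeal_le (algebraMap A B)
  haveI : IsNoetherianRing (EGA4.Cpl A) :=
    Groth.Agent.Lead.isNoetherianRing_adicCompletion (IsLocalRing.maximalIdeal A)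
      (IsLocalRing.maximalIdeal A).fg_of_isNoetherianRing
  haveI : IsNoetherianRing (EGA4.Cpl B) :=
    Groth.Agent.Lead.isNoetherianRing_adicCompletion (IsLocalRing.maximalIdeal B)
      (IsLocalRing.maximalIdeal B).fg_of_isNoetherianRing
  have hg : ∀ a : A, FSch.complMap (IsLocalRing.maximalIdeal A) (IsLocalRing.maximalIdeal B)
      (algebraMap A B) hle (algebraMap A (EGA4.Cpl A) a) =
      algebraMap B (EGA4.Cpl B) (algebraMap A B a) :=
    fun a => Groth.Agent.H87.ComplFlat.complMap_algebraMap _ _ _ hle a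
  have hgflat : (FSch.complMap (IsLocalRing.maximalIdeal A) (IsLocalRing.maximalIdeal B)
      (algebraMap A B) hle).Flat :=
    Groth.Agent.H87.ComplFlat.complMap_flat (IsLocalRing.maximalIdeal A)
      (IsLocalRing.maximalIdeal B) (algebraMap A B)
      (RingHom.flat_algebraMap_iff.mpr inferInstance) hle
  have hcomp : (FSch.complMap (IsLocalRing.maximalIdeal A) (IsLocalRing.maximalIdeal B)
      (algebraMap A B) hle).comp (algebraMap A (EGA4.Cpl A)) =
      (algebraMap B (EGA4.Cpl B)).comp (algebraMap A B) := RingHom.ext hg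
  haveI hloc : IsLocalHom (FSch.complMap (IsLocalRing.maximalIdeal A)
      (IsLocalRing.maximalIdeal B) (algebraMap A B) hle) := by
    apply ((IsLocalRing.local_hom_TFAE _).out 0 2 rfl rfl).mpr
    rw [AdicCompletion.maximalIdeal_eq_map (R := A), Ideal.map_map, hcomp, ← Ideal.map_map,
      AdicCompletion.maximalIdeal_eq_map (R := B)]
    exact Ideal.map_mono hle
  letI : Algebra (EGA4.Cpl A) (EGA4.Cpl B) :=
    (FSch.complMap (IsLocalRing.maximalIdeal A) (IsLocalRing.maximalIdeal B)
      (algebraMap A B) hle).toAlgebra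
  haveI : IsScalarTower A B (EGA4.Cpl B) := IsScalarTower.of_algebraMap_eq (fun _ => rfl)
  haveI : IsScalarTower A (EGA4.Cpl A) (EGA4.Cpl B) :=
    IsScalarTower.of_algebraMap_eq (fun a => (hg a).symm)
  haveI : Module.Flat (EGA4.Cpl A) (EGA4.Cpl B) := hgflat
  haveI : IsLocalHom (algebraMap (EGA4.Cpl A) (EGA4.Cpl B)) := hloc
  haveI : Module.FaithfullyFlat B (EGA4.Cpl B) := Module.FaithfullyFlat.of_flat_of_isLocalHom
  have hcl' := isGeomNormal_closedFibre_cpl A (EGA4.Cpl B) h
  have h1 : EGA4.IsNormalHom (EGA4.Cpl A) (EGA4.Cpl B) :=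
    Groth.Agent.H34.NormalFibres.isNormalHom_of_nagata_gring (EGA4.Cpl A) (EGA4.Cpl B)
      (Groth.Agent.S0568.result (EGA4.Cpl A)) (Groth.Agent.S0598.result (EGA4.Cpl A)) hcl'
  have h0 : EGA4.IsNormalHom A (EGA4.Cpl A) := ⟨inferInstance, hA⟩
  have h2 : EGA4.IsNormalHom A (EGA4.Cpl B) :=
    Groth.Agent.S4696.result A (EGA4.Cpl A) (EGA4.Cpl B) h0 h1
  exact Groth.Agent.S19858.result A B (EGA4.Cpl B) h2

end Groth.Agent.H34.NormalCplFibre
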