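import Mathlib
import Groth.Agent.H34.HensGRing
import Groth.Agent.H34.FSCompl
import Groth.Agent.H47.HensNoeth2
import Groth.Agent.H3.HensFibre
import Groth.Agent.S2038

/-! Ind-étale local algebras (henselization, strict henselization) of Noetherian local G-rings are
G-rings (helper34). -/

set_option autoImplicit false
universe u
open TensorProduct IsLocalRing

namespace Groth.Agent.H34.StrictHensGRing

open Groth.Agent.H34.HensFib Groth.Agent.H34.HensRegular Groth.Agent.H47.HensNoeth

theorem VN.of_surjective {R R' : Type*} [CommRing R] [CommRing R'] (f : R →+* R')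
    (hf : Function.Surjective f) (h : VN R) : VN R' := by
  intro x
  obtain ⟨a, rfl⟩ := hf x
  obtain ⟨y, hy⟩ := h a
  exact ⟨f y, by rw [← map_pow, ← map_mul, ← hy]⟩

section ind
variable (A S : Type u) [CommRing A] [IsLocalRing A] [IsNoetherianRing A] [CommRing S]
  [IsLocalRing S] [Algebra A S] [IsLocalHom (algebraMap A S)]

theorem vn_tensor (hI : IsIndEtaleLocal A S) (p : Ideal A) [p.IsPrime] (L : Type u) [Field L]
    [Algebra p.ResidueField L] [Algebra A L] [IsScalarTower A p.ResidueField L] :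
    VN (L ⊗[A] S) := by
  classical
  obtain ⟨n, K, hK, hKa, hsep, ⟨e⟩⟩ := Groth.Agent.H3.Fib.exists_fibre_equiv_pi hI p
  let e1 : L ⊗[p.ResidueField] (p.ResidueField ⊗[A] S) ≃ₐ[p.ResidueField] L ⊗[A] S :=
    Algebra.TensorProduct.cancelBaseChange A p.ResidueField p.ResidueField L S
  let e2 : L ⊗[p.ResidueField] (p.ResidueField ⊗[A] S) ≃ₐ[L] L ⊗[p.ResidueField] (Π i, K i) :=
    Algebra.TensorProduct.congr AlgEquiv.refl e
  let e3 : L ⊗[p.ResidueField] (Π i, K i) ≃ₐ[L] Π i, L ⊗[p.ResidueField] K i :=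
    Algebra.TensorProduct.piRight p.ResidueField L L K
  have h3 : VN (Π i, L ⊗[p.ResidueField] K i) :=
    VN.pi _ (fun i => by
      have := hsep i
      exact VN.tensor_separable p.ResidueField (K i) L)
  exact (h3.of_ringEquiv (e2.trans e3).symm.toRingEquiv).of_ringEquiv e1.toRingEquiv

/-- **Transfer** along an ind-étale local algebra. -/
theorem transfer (hI : IsIndEtaleLocal A S) (P : ∀ (R : Type u) [CommRing R], Prop)
    (hiso : ∀ (R R' : Type u) [CommRing R] [CommRing R'], (R ≃+* R') → P R → P R')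
    (hloc : ∀ (R R' : Type u) [CommRing R] [CommRing R'] [Algebra R R'] (M : Submonoid R)
      [IsLocalization M R'], P R → P R')
    (X : Type u) [CommRing X] [Algebra S X] [Algebra A X] [IsScalarTower A S X]
    (h : ∀ (p : Ideal A) [p.IsPrime] (L : Type u) [Field L] [Algebra p.ResidueField L],
      P (L ⊗[p.ResidueField] p.Fiber X))
    (q : Ideal S) [q.IsPrime] (L : Type u) [Field L] [Algebra q.ResidueField L] :
    P (L ⊗[q.ResidueField] q.Fiber X) := by
  let p : Ideal A := q.comap (algebraMap A S)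
  have hp : p.IsPrime := Ideal.comap_isPrime _ _
  let σ : p.ResidueField →+* q.ResidueField := Ideal.ResidueField.map p q (algebraMap A S) rfl
  let _ : Algebra p.ResidueField L := ((algebraMap q.ResidueField L).comp σ).toAlgebra
  let _ : Algebra S L :=
    ((algebraMap q.ResidueField L).comp (algebraMap S q.ResidueField)).toAlgebra
  have : IsScalarTower S q.ResidueField L := IsScalarTower.of_algebraMap_eq (fun _ => rfl)
  let _ : Algebra A L := ((algebraMap S L).comp (algebraMap A S)).toAlgebra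
  have : IsScalarTower A S L := IsScalarTower.of_algebraMap_eq (fun _ => rfl)
  have : IsScalarTower A p.ResidueField L := IsScalarTower.of_algebraMap_eq (fun a => by
    show algebraMap q.ResidueField L (algebraMap S q.ResidueField (algebraMap A S a)) =
      algebraMap q.ResidueField L (σ (algebraMap A p.ResidueField a))
    rw [Ideal.ResidueField.map_algebraMap])
  have hP0 := h p L
  let e0 : L ⊗[p.ResidueField] (p.ResidueField ⊗[A] X) ≃ₐ[p.ResidueField] L ⊗[A] X :=
    Algebra.TensorProduct.cancelBaseChange A p.ResidueField p.ResidueField L X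
  have hP1 : P (L ⊗[A] X) := hiso _ _ e0.toRingEquiv hP0
  have hvn := vn_tensor A S hI p L
  let M : Submonoid (L ⊗[A] S) := (IsUnit.submonoid L).comap (mu A S L)
  have hloc' := isLocalization_pi A S X L M (fun m hm => hm) (fun z hz => by
    obtain ⟨y, hy⟩ := hvn z
    refine ⟨1 - z * y, ?_, ?_⟩
    · show IsUnit (mu A S L (1 - z * y))
      rw [map_sub, map_mul, hz, zero_mul, sub_zero, map_one]; exact isUnit_one
    · have e : z * y * z = z ^ 2 * y := by ring
      rw [sub_mul, one_mul, sub_eq_zero, e]; exact hy)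
  have hP2 : P (L ⊗[S] X) :=
    @hloc (L ⊗[A] X) (L ⊗[S] X) _ _ (pi' A S X L).toRingHom.toAlgebra _ hloc' hP1
  let e1 : L ⊗[q.ResidueField] (q.ResidueField ⊗[S] X) ≃ₐ[q.ResidueField] L ⊗[S] X :=
    Algebra.TensorProduct.cancelBaseChange S q.ResidueField q.ResidueField L X
  exact hiso _ _ e1.symm.toRingEquiv hP2

variable [IsNoetherianRing S]

/-- `k' ⊗[A] S → k' ⊗[A] Ŝ` is surjective when `m_A` kills `k'` and `m_A S = m_S`. -/
theorem surjective_tensor_cpl
    (hmax : (maximalIdeal A).map (algebraMap A S) = maximalIdeal S)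
    (k' : Type u) [Field k'] [Algebra A k'] (hk : ∀ a ∈ maximalIdeal A, algebraMap A k' a = 0) :
    Function.Surjective (Algebra.TensorProduct.map (AlgHom.id k' k')
      (IsScalarTower.toAlgHom A S (EGA4.Cpl S))) := by
  have hker : (maximalIdeal S).map (algebraMap S (EGA4.Cpl S)) ≤
      RingHom.ker (Algebra.TensorProduct.includeRight :
        EGA4.Cpl S →ₐ[A] k' ⊗[A] EGA4.Cpl S).toRingHom := by
    have e : ((maximalIdeal A).map (algebraMap A S)).map (algebraMap S (EGA4.Cpl S)) =
        (maximalIdeal S).map (algebraMap S (EGA4.Cpl S)) := by rw [hmax]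
    rw [← e, Ideal.map_map, Ideal.map_le_iff_le_comap]
    intro a ha
    rw [Ideal.mem_comap, RingHom.mem_ker]
    show (1 : k') ⊗ₜ[A] (algebraMap A (EGA4.Cpl S) a) = 0
    rw [Algebra.algebraMap_eq_smul_one, ← TensorProduct.smul_tmul, Algebra.smul_def, mul_one,
      hk a ha, TensorProduct.zero_tmul]
  intro z
  induction z using TensorProduct.induction_on with
  | zero => exact ⟨0, map_zero _⟩
  | tmul l x =>
    obtain ⟨s, hs⟩ := Groth.Agent.H87.ComplFlat.exists_sub_mem_map_pow (maximalIdeal S)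
      (maximalIdeal S).fg_of_isNoetherianRing 1 x
    rw [pow_one] at hs
    have h0 := hker hs
    rw [RingHom.mem_ker] at h0
    have h0' : (1 : k') ⊗ₜ[A] (x - algebraMap S (EGA4.Cpl S) s) = 0 := h0
    refine ⟨l ⊗ₜ s, ?_⟩
    rw [Algebra.TensorProduct.map_tmul]
    have h1 : l ⊗ₜ[A] (x - algebraMap S (EGA4.Cpl S) s) = 0 := by
      have e : l ⊗ₜ[A] (x - algebraMap S (EGA4.Cpl S) s) =
          (l ⊗ₜ[A] (1 : EGA4.Cpl S)) * ((1 : k') ⊗ₜ[A] (x - algebraMap S (EGA4.Cpl S) s)) := by
        rw [Algebra.TensorProduct.tmul_mul_tmul, mul_one, one_mul]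
      rw [e, h0', mul_zero]
    rw [TensorProduct.tmul_sub, sub_eq_zero] at h1
    exact h1.symm
  | add x y hx hy =>
    obtain ⟨a, rfl⟩ := hx
    obtain ⟨b, rfl⟩ := hy
    exact ⟨a + b, map_add _ _ _⟩

/-- The closed fibre of `A → Ŝ` is geometrically regular. -/
theorem closedFibre_geomRegular (hI : IsIndEtaleLocal A S) :
    CAlg.IsGeometricallyRegular (maximalIdeal A).ResidueField
      ((maximalIdeal A).Fiber (EGA4.Cpl S)) := by
  intro k' _ _ hfin
  have hNB : IsNoetherianRing (EGA4.Cpl S) :=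
    Groth.Agent.Lead.isNoetherianRing_adicCompletion (maximalIdeal S)
      (maximalIdeal S).fg_of_isNoetherianRing
  have hNo := Groth.Agent.H34.AdicFib.noeth_fibre A (EGA4.Cpl S) (maximalIdeal A) k' hfin
  let _ : Algebra A k' := ((algebraMap (maximalIdeal A).ResidueField k').comp
    (algebraMap A (maximalIdeal A).ResidueField)).toAlgebra
  have : IsScalarTower A (maximalIdeal A).ResidueField k' :=
    IsScalarTower.of_algebraMap_eq (fun _ => rfl)
  have hvn := vn_tensor A S hI (maximalIdeal A) k'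
  have hk : ∀ a ∈ maximalIdeal A, algebraMap A k' a = 0 := fun a ha => by
    show algebraMap (maximalIdeal A).ResidueField k'
      (algebraMap A (maximalIdeal A).ResidueField a) = 0
    rw [Ideal.algebraMap_residueField_eq_zero.mpr ha, map_zero]
  have hvn' : VN (k' ⊗[A] EGA4.Cpl S) :=
    VN.of_surjective _ (surjective_tensor_cpl A S hI.map_max k' hk) hvn
  let e1 : k' ⊗[(maximalIdeal A).ResidueField] ((maximalIdeal A).ResidueField ⊗[A] EGA4.Cpl S)
      ≃ₐ[(maximalIdeal A).ResidueField] k' ⊗[A] EGA4.Cpl S :=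
    Algebra.TensorProduct.cancelBaseChange A (maximalIdeal A).ResidueField
      (maximalIdeal A).ResidueField k' (EGA4.Cpl S)
  exact VN.isRegularRing (hvn'.of_ringEquiv e1.symm.toRingEquiv)

/-- `A → Ŝ` is regular when `A → Â` is. -/
theorem isRegularHom_cpl_base (hI : IsIndEtaleLocal A S)
    (hA : CAlg.IsRegularHom A (EGA4.Cpl A)) : CAlg.IsRegularHom A (EGA4.Cpl S) := by
  have hNB : IsNoetherianRing (EGA4.Cpl S) :=
    Groth.Agent.Lead.isNoetherianRing_adicCompletion (maximalIdeal S)
      (maximalIdeal S).fg_of_isNoetherianRing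
  have towB : IsScalarTower A S (EGA4.Cpl S) := IsScalarTower.of_algebraMap_eq (fun _ => rfl)
  have hff := Groth.Agent.H34.ComplQuot.faithfullyFlat_cpl S
  have hfl := hI.flat
  have hflat : Module.Flat A (EGA4.Cpl S) := Module.Flat.trans A S (EGA4.Cpl S)
  have hloc : IsLocalHom (algebraMap A (EGA4.Cpl S)) := by
    rw [IsScalarTower.algebraMap_eq A S (EGA4.Cpl S)]
    exact RingHom.isLocalHom_comp _ _
  refine Groth.Agent.H34.FSCompl.isRegularHom_cpl_of_fs A S hA ?_
  exact (Groth.Agent.S2038.result (A := A) (B := EGA4.Cpl S)).mp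
    ⟨hflat, closedFibre_geomRegular A S hI⟩

/-- regular formal fibres pass to ind-étale local algebras. -/
theorem isRegularHom_cpl_ind (hI : IsIndEtaleLocal A S)
    (hA : CAlg.IsRegularHom A (EGA4.Cpl A)) : CAlg.IsRegularHom S (EGA4.Cpl S) := by
  have hA' := isRegularHom_cpl_base A S hI hA
  have towB : IsScalarTower A S (EGA4.Cpl S) := IsScalarTower.of_algebraMap_eq (fun _ => rfl)
  have hff := Groth.Agent.H34.ComplQuot.faithfullyFlat_cpl S
  refine ⟨inferInstance, fun q _ =>
    ⟨Groth.Agent.H34.FibLoc.isNoetherianRing_fiber S (EGA4.Cpl S) q, ?_⟩⟩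
  intro k' _ _ hfin
  have hLR : LR (k' ⊗[q.ResidueField] q.Fiber (EGA4.Cpl S)) :=
    transfer A S hI (fun R _ => LR R) (fun _ _ _ _ e h => h.of_ringEquiv e)
      (fun R R' _ _ _ M _ h => LR.of_isLocalization R R' M h) (EGA4.Cpl S)
      (fun p _ L _ _ => by
        have := (hA'.2 p).1
        exact LR.tensor (hA'.2 p).2 L) q k'
  have hNo : IsNoetherianRing (k' ⊗[q.ResidueField] q.Fiber (EGA4.Cpl S)) :=
    Groth.Agent.H34.AdicFib.noeth_fibre S (EGA4.Cpl S) q k' hfin
  exact hLR.isRegularRing

end ind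

/-- An ind-étale local algebra of a Noetherian local G-ring is a G-ring. -/
theorem isGRing_ind (R S : Type u) [CommRing R] [IsLocalRing R] [IsNoetherianRing R]
    (hR : CAlg.IsGRing R) [CommRing S] [IsLocalRing S] [Algebra R S] [IsLocalHom (algebraMap R S)]
    (hI : IsIndEtaleLocal R S) : CAlg.IsGRing S := by
  have hN : IsNoetherianRing S := hI.isNoetherianRing
  exact Groth.Agent.H34.HensGRing.isGRing_of_isRegularHom_cpl S
    (isRegularHom_cpl_ind R S hI (Groth.Agent.H34.HensGRing.isRegularHom_cpl_of_isGRing R hR))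

/-- The strict henselization of a Noetherian local G-ring is a G-ring. -/
theorem isGRing_strictHens (R S : Type u) [CommRing R] [IsLocalRing R] [IsNoetherianRing R]
    (hR : CAlg.IsGRing R) [CommRing S] [IsLocalRing S] [Algebra R S] [IsLocalHom (algebraMap R S)]
    [Hensel.IsStrictHenselization R S] : CAlg.IsGRing S :=
  isGRing_ind R S hR (Groth.Agent.H47.HensNoeth.isIndEtaleLocal_of_isStrictHenselization R S)

end Groth.Agent.H34.StrictHensGRing
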