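import Mathlib
import Groth.Agent.H34.StrictHensGRing
import Groth.Agent.S1994
import Groth.Agent.S1958
import Groth.Agent.S19568

/-! The henselization of a pair `(A, I)` with `A` a G-ring is a G-ring (helper34). -/

set_option autoImplicit false
universe u
open TensorProduct IsLocalRing

namespace Groth.Agent.H34.PairHensGRing

open Groth.Agent.H47.HensNoeth

section
variable {A : Type u} [CommRing A] {B : Type u} [CommRing B] [Algebra A B]

/-- finitely many elements coming from étale algebras come from a single étale algebra. -/
theorem exists_etale_finset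
    (h : ∀ x : B, ∃ (A' : Type u) (_ : CommRing A') (_ : Algebra A A') (_ : Algebra.Etale A A')
      (φ : A' →ₐ[A] B) (s : A'), φ s = x) (X : Finset B) :
    ∃ (A' : Type u) (_ : CommRing A') (_ : Algebra A A') (_ : Algebra.Etale A A')
      (φ : A' →ₐ[A] B), ∀ x ∈ X, ∃ s, φ s = x := by
  classical
  induction X using Finset.induction_on with
  | empty =>
    exact ⟨A, inferInstance, inferInstance, inferInstance, Algebra.ofId A B,
      fun x hx => absurd hx (Finset.notMem_empty x)⟩
  | insert x X hx ih =>
    obtain ⟨A₁, _, _, _, φ₁, h₁⟩ := ih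
    obtain ⟨A₂, _, _, _, φ₂, s, hs⟩ := h x
    have : Algebra.Etale A (A₁ ⊗[A] A₂) := Algebra.Etale.comp A A₁ (A₁ ⊗[A] A₂)
    refine ⟨A₁ ⊗[A] A₂, inferInstance, inferInstance, this,
      Algebra.TensorProduct.lift φ₁ φ₂ (fun _ _ => Commute.all _ _), ?_⟩
    intro y hy
    rcases Finset.mem_insert.mp hy with rfl | hy
    · exact ⟨1 ⊗ₜ s, by rw [Algebra.TensorProduct.lift_tmul, map_one, one_mul, hs]⟩
    · obtain ⟨a, ha⟩ := h₁ y hy
      exact ⟨a ⊗ₜ 1, by rw [Algebra.TensorProduct.lift_tmul, map_one, mul_one, ha]⟩

/-- Localizations of an "ind-étale" flat algebra are ind-étale local. -/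
theorem isIndEtaleLocal_localization
    (h : ∀ x : B, ∃ (A' : Type u) (_ : CommRing A') (_ : Algebra A A') (_ : Algebra.Etale A A')
      (φ : A' →ₐ[A] B) (s : A'), φ s = x)
    [Module.Flat A B] (n : Ideal B) [n.IsPrime] (m : Ideal A) [m.IsPrime]
    (hmax : m.map (algebraMap A B) = n)
    [Algebra (Localization.AtPrime m) (Localization.AtPrime n)]
    [IsScalarTower A (Localization.AtPrime m) (Localization.AtPrime n)] :
    IsIndEtaleLocal (Localization.AtPrime m) (Localization.AtPrime n) where
  flat := by
    rw [Module.flat_iff_of_isLocalization (S := Localization.AtPrime m) (p := m.primeCompl)]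
    exact Module.Flat.trans A B (Localization.AtPrime n)
  map_max := by
    rw [← Localization.AtPrime.map_eq_maximalIdeal (I := m),
      ← Localization.AtPrime.map_eq_maximalIdeal (I := n), Ideal.map_map,
      ← IsScalarTower.algebraMap_eq, IsScalarTower.algebraMap_eq A B (Localization.AtPrime n),
      ← Ideal.map_map, hmax]
  rep := by
    intro Y
    classical
    obtain ⟨s, hs⟩ := IsLocalization.exist_integer_multiples_of_finset n.primeCompl Y
    choose! b hb using hs
    obtain ⟨A', _, _, _, ψ, hψ⟩ := exists_etale_finset h (insert (s : B) (Y.image b))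
    obtain ⟨t, ht⟩ := hψ s (Finset.mem_insert_self _ _)
    let ψ' : A' →ₐ[A] Localization.AtPrime n :=
      (IsScalarTower.toAlgHom A B (Localization.AtPrime n)).comp ψ
    have hu : ∀ y : Submonoid.powers t, IsUnit (ψ' y) := by
      rintro ⟨_, k, rfl⟩
      show IsUnit (algebraMap B (Localization.AtPrime n) (ψ (t ^ k)))
      rw [map_pow, ht, map_pow]
      exact (IsLocalization.map_units (Localization.AtPrime n) s).pow k
    let φ₀ : Localization.Away t →ₐ[A] Localization.AtPrime n :=
      IsLocalization.liftAlgHom (M := Submonoid.powers t) (f := ψ') hu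
    let φ : Localization.AtPrime m ⊗[A] Localization.Away t →ₐ[Localization.AtPrime m]
        Localization.AtPrime n :=
      Algebra.TensorProduct.lift (Algebra.ofId (Localization.AtPrime m) (Localization.AtPrime n))
        φ₀ (fun _ _ => Commute.all _ _)
    have hE : Algebra.Etale A (Localization.Away t) := inferInstance
    refine ⟨Localization.AtPrime m ⊗[A] Localization.Away t, inferInstance, inferInstance,
      inferInstance, φ, ?_⟩
    intro y hy
    obtain ⟨a, ha⟩ := hψ (b y) (Finset.mem_insert_of_mem (Finset.mem_image_of_mem b hy))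
    refine ⟨1 ⊗ₜ IsLocalization.mk' (Localization.Away t) a
      (⟨t, Submonoid.mem_powers t⟩ : Submonoid.powers t), ?_⟩
    rw [Algebra.TensorProduct.lift_tmul, map_one, one_mul]
    have e : ∀ x : A', φ₀ (algebraMap A' (Localization.Away t) x) =
        algebraMap B (Localization.AtPrime n) (ψ x) := fun x => IsLocalization.lift_eq _ x
    have h1 : φ₀ (IsLocalization.mk' (Localization.Away t) a
        (⟨t, Submonoid.mem_powers t⟩ : Submonoid.powers t)) *
          algebraMap B (Localization.AtPrime n) (s : B) =
        algebraMap B (Localization.AtPrime n) (b y) := by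
      have := congrArg φ₀ (IsLocalization.mk'_spec (Localization.Away t) a
        (⟨t, Submonoid.mem_powers t⟩ : Submonoid.powers t))
      rw [map_mul, e, e, ht, ha] at this
      exact this
    have h2 : (s : B) • y = algebraMap B (Localization.AtPrime n) (b y) := (hb y hy).symm
    rw [Algebra.smul_def] at h2
    have hs_unit := IsLocalization.map_units (Localization.AtPrime n) s
    apply hs_unit.mul_right_cancel
    rw [h1, ← h2, mul_comm]

end

theorem main (A : Type u) [CommRing A] (hA : CAlg.IsGRing A) (I : Ideal A)
    (B : Type u) [CommRing B] [Algebra A B] (hB : Hens2.IsPairHenselization A I B) :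
    CAlg.IsGRing B := by
  have hN := hA.1
  obtain ⟨hNB, hflat, -⟩ := Groth.Agent.S1994.result A I B hB
  obtain ⟨-, hbij⟩ := Groth.Agent.S1958.result A I B hB
  obtain ⟨-, hrep, -⟩ := Groth.Agent.S19568.result A I B hB
  have hrep' : ∀ x : B, ∃ (A' : Type u) (_ : CommRing A') (_ : Algebra A A')
      (_ : Algebra.Etale A A') (φ : A' →ₐ[A] B) (s : A'), φ s = x := fun x => by
    obtain ⟨A', i1, i2, i3, -, φ, s, hs⟩ := hrep x
    exact ⟨A', i1, i2, i3, φ, s, hs⟩
  refine Groth.Agent.H20.GRingLocal.isGRing_of_maximal
    (fun R' _ _ _ _ => Groth.Agent.S0598.result R') B ?_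
  intro n hn
  have hIn : I.map (algebraMap A B) ≤ n := hB.1.jac.trans (sInf_le ⟨bot_le, hn⟩)
  have hmax : (n.comap (algebraMap A B)).map (algebraMap A B) = n := by
    apply le_antisymm Ideal.map_comap_le
    intro b hb
    obtain ⟨q, hq⟩ := (hbij 1).2 (Ideal.Quotient.mk _ b)
    obtain ⟨a, rfl⟩ := Ideal.Quotient.mk_surjective q
    rw [Ideal.quotientMap_mk, Ideal.Quotient.eq, pow_one] at hq
    have ha_m : a ∈ n.comap (algebraMap A B) := by
      show algebraMap A B a ∈ n
      have := n.add_mem (hIn hq) hb
      simpa using this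
    have hI_le : I.map (algebraMap A B) ≤ (n.comap (algebraMap A B)).map (algebraMap A B) :=
      Ideal.map_mono (fun x hx => show algebraMap A B x ∈ n from hIn (Ideal.mem_map_of_mem _ hx))
    have e : b = algebraMap A B a - (algebraMap A B a - b) := by ring
    rw [e]
    exact Ideal.sub_mem _ (Ideal.mem_map_of_mem _ ha_m) (hI_le hq)
  let alg : Algebra (Localization.AtPrime (n.comap (algebraMap A B))) (Localization.AtPrime n) :=
    (Localization.localRingHom (n.comap (algebraMap A B)) n (algebraMap A B) rfl).toAlgebra
  have tow : IsScalarTower A (Localization.AtPrime (n.comap (algebraMap A B)))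
      (Localization.AtPrime n) :=
    IsScalarTower.of_algebraMap_eq (fun a => by
      show algebraMap A (Localization.AtPrime n) a =
        Localization.localRingHom (n.comap (algebraMap A B)) n (algebraMap A B) rfl
          (algebraMap A _ a)
      rw [Localization.localRingHom_to_map,
        IsScalarTower.algebraMap_apply A B (Localization.AtPrime n)])
  have hloc : IsLocalHom (algebraMap (Localization.AtPrime (n.comap (algebraMap A B)))
      (Localization.AtPrime n)) := Localization.isLocalHom_localRingHom _ _ _ _
  have hI := isIndEtaleLocal_localization hrep' n (n.comap (algebraMap A B)) hmax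
  have hAm : CAlg.IsGRing (Localization.AtPrime (n.comap (algebraMap A B))) :=
    Groth.Agent.H34.GRingLoc.isGRing_localization A hA _
  have hN1 : IsNoetherianRing (Localization.AtPrime (n.comap (algebraMap A B))) := hAm.1
  have hN2 : IsNoetherianRing (Localization.AtPrime n) :=
    IsLocalization.isNoetherianRing n.primeCompl _ inferInstance
  exact Groth.Agent.H34.StrictHensGRing.isRegularHom_cpl_ind _ _ hI
    (Groth.Agent.H34.HensGRing.isRegularHom_cpl_of_isGRing _ hAm)

end Groth.Agent.H34.PairHensGRing
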