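import Mathlib

set_option linter.style.haveILetI false
set_option linter.unusedSectionVars false

/-!
# Perfect rings of characteristic `p` (Frobenius bijective), elementary algebra

All statements take the hypotheses `(hp0 : (p : X) = 0)` and
`(hX : Function.Bijective fun x : X => x ^ p)` explicitly (no `CharP`, so that the zero ring is
allowed).
-/

open TensorProduct

namespace Groth.Agent.H34.PerfRing

variable {p : ℕ} [hp : Fact p.Prime]

section Basic

variable {X : Type*} [CommRing X]

theorem add_pow_p (hp0 : (p : X) = 0) (x y : X) : (x + y) ^ p = x ^ p + y ^ p := by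
  rcases subsingleton_or_nontrivial X with h | h
  · exact Subsingleton.elim _ _
  · haveI : CharP X p := (CharP.charP_iff_prime_eq_zero hp.out).mpr hp0
    exact add_pow_char x y p

/-- The inverse of Frobenius. -/
noncomputable def root (hX : Function.Bijective fun x : X => x ^ p) : X → X :=
  (Equiv.ofBijective _ hX).symm

variable (hX : Function.Bijective fun x : X => x ^ p)
include hX

theorem root_pow (x : X) : (root hX x) ^ p = x := (Equiv.ofBijective _ hX).apply_symm_apply x

theorem root_pow' (x : X) : root hX (x ^ p) = x := (Equiv.ofBijective _ hX).symm_apply_apply x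

theorem pow_inj {x y : X} (h : x ^ p = y ^ p) : x = y := hX.injective h

theorem root_mul (x y : X) : root hX (x * y) = root hX x * root hX y :=
  pow_inj hX (by rw [mul_pow, root_pow, root_pow, root_pow])

theorem root_add (hp0 : (p : X) = 0) (x y : X) : root hX (x + y) = root hX x + root hX y :=
  pow_inj hX (by rw [add_pow_p hp0, root_pow, root_pow, root_pow])

theorem root_zero : root hX 0 = 0 :=
  pow_inj hX (by rw [root_pow, zero_pow hp.out.ne_zero])

theorem root_one : root hX 1 = 1 := pow_inj hX (by rw [root_pow, one_pow])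

theorem root_map {Y : Type*} [CommRing Y] (hY : Function.Bijective fun y : Y => y ^ p)
    (φ : X →+* Y) (x : X) : root hY (φ x) = φ (root hX x) :=
  pow_inj hY (by rw [root_pow, ← map_pow, root_pow])

/-- Iterated roots. -/
noncomputable def rootN (n : ℕ) : X → X := (root hX)^[n]

theorem rootN_zero (x : X) : rootN hX 0 x = x := rfl

theorem rootN_succ (n : ℕ) (x : X) : rootN hX (n + 1) x = root hX (rootN hX n x) :=
  Function.iterate_succ_apply' _ _ _

theorem rootN_succ_pow (n : ℕ) (x : X) : (rootN hX (n + 1) x) ^ p = rootN hX n x := by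
  rw [rootN_succ, root_pow]

theorem rootN_pow (n : ℕ) (x : X) : (rootN hX n x) ^ (p ^ n) = x := by
  induction n with
  | zero => simp [rootN_zero]
  | succ n ih => rw [pow_succ', pow_mul, rootN_succ_pow, ih]

theorem rootN_pow' (n : ℕ) (x : X) : rootN hX n (x ^ (p ^ n)) = x := by
  induction n generalizing x with
  | zero => simp [rootN_zero]
  | succ n ih => rw [rootN_succ, pow_succ', pow_mul, ih, root_pow']

theorem rootN_mul (n : ℕ) (x y : X) : rootN hX n (x * y) = rootN hX n x * rootN hX n y := by
  induction n with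
  | zero => rfl
  | succ n ih => rw [rootN_succ, rootN_succ, rootN_succ, ih, root_mul]

theorem rootN_add (hp0 : (p : X) = 0) (n : ℕ) (x y : X) :
    rootN hX n (x + y) = rootN hX n x + rootN hX n y := by
  induction n with
  | zero => rfl
  | succ n ih => rw [rootN_succ, rootN_succ, rootN_succ, ih, root_add hX hp0]

theorem root_mem {J : Ideal X} (hJ : J.IsRadical) {x : X} (hx : x ∈ J) : root hX x ∈ J :=
  hJ ⟨p, by rw [root_pow]; exact hx⟩

theorem rootN_mem {J : Ideal X} (hJ : J.IsRadical) (n : ℕ) {x : X} (hx : x ∈ J) :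
    rootN hX n x ∈ J :=
  hJ ⟨p ^ n, by rw [rootN_pow]; exact hx⟩

/-- A power in an ideal gives a `p`-power power in the ideal. -/
theorem exists_pow_p_mem {J : Ideal X} {x : X} {m : ℕ} (h : x ^ m ∈ J) : x ^ (p ^ m) ∈ J := by
  have hm : m ≤ p ^ m := (Nat.lt_pow_self hp.out.one_lt).le
  rw [← Nat.sub_add_cancel hm, pow_add]
  exact J.mul_mem_left _ h

/-- An ideal stable under `root` is radical. -/
theorem isRadical_of_root_mem {J : Ideal X} (h : ∀ x ∈ J, root hX x ∈ J) : J.IsRadical := by
  have hN : ∀ n : ℕ, ∀ x ∈ J, rootN hX n x ∈ J := by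
    intro n
    induction n with
    | zero => exact fun x hx => hx
    | succ n ih => exact fun x hx => by rw [rootN_succ]; exact h _ (ih x hx)
  rintro x ⟨m, hm⟩
  have := hN m _ (exists_pow_p_mem hX hm)
  rwa [rootN_pow'] at this

theorem isReduced : IsReduced X := by
  refine ⟨fun x hx => ?_⟩
  obtain ⟨m, hm⟩ := hx
  have h1 : x ^ (p ^ m) = 0 := by
    have : x ^ (p ^ m) ∈ (⊥ : Ideal X) := exists_pow_p_mem hX (J := ⊥) (by simpa using hm)
    simpa using this
  have h2 := rootN_pow' hX m x
  rw [h1] at h2
  rw [← h2]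
  clear h1 h2 hm
  induction m with
  | zero => rfl
  | succ n ih => rw [rootN_succ, ih, root_zero]

end Basic

section Map

variable {A C : Type*} [CommRing A] [CommRing C] [Algebra A C]
  (hA : Function.Bijective fun x : A => x ^ p) (hC : Function.Bijective fun x : C => x ^ p)
include hA hC

/-- The extension of a radical ideal along a map of perfect rings is radical. -/
theorem map_isRadical (hp0 : (p : C) = 0) {J : Ideal A} (hJ : J.IsRadical) :
    (J.map (algebraMap A C)).IsRadical := by
  apply isRadical_of_root_mem hC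
  intro z hz
  rw [Ideal.map] at hz
  induction hz using Submodule.span_induction with
  | mem x hx =>
    obtain ⟨j, hj, rfl⟩ := hx
    rw [root_map hA hC]
    exact Ideal.mem_map_of_mem _ (root_mem hA hJ hj)
  | zero => rw [root_zero]; exact Ideal.zero_mem _
  | add x y _ _ hx hy => rw [root_add hC hp0]; exact Ideal.add_mem _ hx hy
  | smul c x _ hx => rw [smul_eq_mul, root_mul]; exact Ideal.mul_mem_left _ _ hx

end Map

section Tensor

variable {A₀ A₁ A₂ : Type*} [CommRing A₀] [CommRing A₁] [CommRing A₂] [Algebra A₀ A₁]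
  [Algebra A₀ A₂]

theorem natCast_tensor_eq_zero (hp1 : (p : A₁) = 0) : ((p : ℕ) : A₁ ⊗[A₀] A₂) = 0 := by
  have := map_natCast (algebraMap A₁ (A₁ ⊗[A₀] A₂)) p
  rw [← this, hp1, map_zero]

/-- The tensor product of perfect rings over a perfect ring is perfect. -/
theorem frobenius_bijective_tensor (h₀ : Function.Bijective fun x : A₀ => x ^ p)
    (h₁ : Function.Bijective fun x : A₁ => x ^ p) (h₂ : Function.Bijective fun x : A₂ => x ^ p)
    (hp1 : (p : A₁) = 0) (hp2 : (p : A₂) = 0) :
    Function.Bijective fun t : A₁ ⊗[A₀] A₂ => t ^ p := by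
  have hpT : ((p : ℕ) : A₁ ⊗[A₀] A₂) = 0 := natCast_tensor_eq_zero hp1
  have addT : ∀ u v : A₁ ⊗[A₀] A₂, (u + v) ^ p = u ^ p + v ^ p := add_pow_p hpT
  -- the additive inverse map
  let f : A₁ →+ A₂ →+ A₁ ⊗[A₀] A₂ :=
    AddMonoidHom.mk' (fun x => AddMonoidHom.mk' (fun y => root h₁ x ⊗ₜ[A₀] root h₂ y)
      (fun y y' => by rw [root_add h₂ hp2, TensorProduct.tmul_add]))
      (fun x x' => by
        ext y
        simp only [AddMonoidHom.mk'_apply, AddMonoidHom.add_apply]
        rw [root_add h₁ hp1, TensorProduct.add_tmul])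
  have hf : ∀ (r : A₀) (x : A₁) (y : A₂), f (r • x) y = f x (r • y) := by
    intro r x y
    simp only [f, AddMonoidHom.mk'_apply]
    rw [Algebra.smul_def, Algebra.smul_def, root_mul, root_mul, root_map h₀ h₁, root_map h₀ h₂,
      ← Algebra.smul_def, ← Algebra.smul_def, TensorProduct.smul_tmul]
  let ψ : A₁ ⊗[A₀] A₂ →+ A₁ ⊗[A₀] A₂ := TensorProduct.liftAddHom f hf
  have hψ : ∀ x y, ψ (x ⊗ₜ[A₀] y) = root h₁ x ⊗ₜ[A₀] root h₂ y := fun x y => rfl
  have hψp : ∀ t : A₁ ⊗[A₀] A₂, ψ (t ^ p) = t := by
    intro t
    induction t using TensorProduct.induction_on with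
    | zero => rw [zero_pow hp.out.ne_zero, map_zero]
    | tmul x y => rw [Algebra.TensorProduct.tmul_pow, hψ, root_pow', root_pow']
    | add u v hu hv => rw [addT, map_add, hu, hv]
  refine ⟨fun t s hts => ?_, fun t => ?_⟩
  · have h1 := hψp t
    have h2 := hψp s
    have hts' : t ^ p = s ^ p := hts
    rw [hts'] at h1
    rw [← h1, h2]
  · induction t using TensorProduct.induction_on with
    | zero => exact ⟨0, zero_pow hp.out.ne_zero⟩
    | tmul x y =>
      exact ⟨root h₁ x ⊗ₜ[A₀] root h₂ y, by
        show (root h₁ x ⊗ₜ[A₀] root h₂ y) ^ p = _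
        rw [Algebra.TensorProduct.tmul_pow, root_pow, root_pow]⟩
    | add u v hu hv =>
      obtain ⟨u', hu'⟩ := hu
      obtain ⟨v', hv'⟩ := hv
      exact ⟨u' + v', by
        show (u' + v') ^ p = _
        rw [addT]
        exact congrArg₂ (· + ·) hu' hv'⟩

end Tensor

end Groth.Agent.H34.PerfRing
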