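import Mathlib
import Groth.Agent.H82.TorFlat
import Groth.Agent.H82.TorColim
import Groth.Agent.H82.TorSymm
import Groth.Agent.H82.TorBC3

set_option linter.style.haveILetI false
set_option linter.unusedSectionVars false
set_option backward.isDefEq.respectTransparency false

/-!
# Formal properties of vanishing of higher Tor (on top of the H82 Tor library)

`TZ A N M` : `Tor_{n+1}^A(N, M) = 0` for all `n`.  Closed under linear equivalences, cokernels of
injections which stay injective after `N ⊗ -`, direct limits, symmetric, and compatible with flat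
base change.
-/

universe u

open CategoryTheory CategoryTheory.Limits MonoidalCategory TensorProduct

namespace Groth.Agent.H34.PerfTorLib

open Groth.Agent.H82.LDer Groth.Agent.H82.TorLib Groth.Agent.H82.TorFlat

/-- All higher Tor's `Tor_{n+1}^A(N, M)` vanish. -/
def TZ (A : Type u) [CommRing A] (N M : Type u) [AddCommGroup N] [Module A N] [AddCommGroup M]
    [Module A M] : Prop :=
  ∀ n : ℕ, IsZero (((Tor (ModuleCat.{u} A) (n + 1)).obj (ModuleCat.of A N)).obj (ModuleCat.of A M))

variable {A : Type u} [CommRing A]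

section Basic

variable {N M M' : Type u} [AddCommGroup N] [Module A N] [AddCommGroup M] [Module A M]
  [AddCommGroup M'] [Module A M']

theorem TZ.of_linearEquiv (e : M ≃ₗ[A] M') (h : TZ A N M) : TZ A N M' := fun n =>
  (h n).of_iso (((Tor (ModuleCat.{u} A) (n + 1)).obj (ModuleCat.of A N)).mapIso
    e.symm.toModuleIso)

theorem TZ.of_projective [Module.Projective A M] : TZ A N M := fun n =>
  vanish_tor (ModuleCat.of A N) n (ModuleCat.of A M)
    ((IsProjective.iff_projective M).mp inferInstance)

theorem TZ.symm (h : TZ A N M) : TZ A M N := fun n => by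
  obtain ⟨e⟩ := Groth.Agent.H82.TorSymm.nonempty_tor_iso_flip (A := A) (n + 1)
  exact (h n).of_iso ((e.app (ModuleCat.of A M)).app (ModuleCat.of A N))

end Basic

section Exact

variable {N M₁ M₂ M₃ : Type u} [AddCommGroup N] [Module A N] [AddCommGroup M₁] [Module A M₁]
  [AddCommGroup M₂] [Module A M₂] [AddCommGroup M₃] [Module A M₃]

theorem TZ.of_exact (f : M₁ →ₗ[A] M₂) (g : M₂ →ₗ[A] M₃) (hf : Function.Injective f)
    (hg : Function.Surjective g) (hfg : Function.Exact f g) (h₁ : TZ A N M₁) (h₂ : TZ A N M₂)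
    (hinj : Function.Injective (f.lTensor N)) : TZ A N M₃ := by
  have hS := shortExact_of (A := A) f g hf hg hfg
  set S := ModuleCat.shortComplexOfCompEqZero f g hfg.linearMap_comp_eq_zero with hSdef
  intro n
  obtain ⟨-, -, δ, w₁, w₂, e1, e2⟩ := hasLES_tor (ModuleCat.of A N) S hS n
  have hmono : Mono δ := e1.mono_g ((h₂ n).eq_of_src _ _)
  cases n with
  | zero =>
    -- `Tor₀(N, f)` is a monomorphism
    have hm0 : Mono ((ModuleCat.of A N) ◁ S.f) := by
      rw [ModuleCat.mono_iff_injective]
      exact hinj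
    let e : (Tor (ModuleCat.{u} A) 0).obj (ModuleCat.of A N) ≅ tensorLeft (ModuleCat.of A N) :=
      (tensorLeft (ModuleCat.of A N)).leftDerivedZeroIsoSelf
    have hn : ((Tor (ModuleCat.{u} A) 0).obj (ModuleCat.of A N)).map S.f ≫ e.hom.app S.X₂ =
        e.hom.app S.X₁ ≫ (ModuleCat.of A N) ◁ S.f := e.hom.naturality S.f
    have hm : Mono (((Tor (ModuleCat.{u} A) 0).obj (ModuleCat.of A N)).map S.f) := by
      haveI i1 : Mono (e.hom.app S.X₁) := IsIso.mono_of_iso _
      haveI i2 : Mono (e.inv.app S.X₂) := IsIso.mono_of_iso _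
      have h3 : ((Tor (ModuleCat.{u} A) 0).obj (ModuleCat.of A N)).map S.f =
          e.hom.app S.X₁ ≫ (ModuleCat.of A N) ◁ S.f ≫ e.inv.app S.X₂ := by
        rw [← Category.assoc, ← hn, Category.assoc, Iso.hom_inv_id_app, Category.comp_id]
      rw [h3]
      haveI i3 : Mono ((ModuleCat.of A N) ◁ S.f ≫ e.inv.app S.X₂) := mono_comp _ _
      exact mono_comp _ _
    have hδ : δ = 0 := by
      rw [← cancel_mono (((Tor (ModuleCat.{u} A) 0).obj (ModuleCat.of A N)).map S.f), w₂,
        zero_comp]
    exact IsZero.of_mono_eq_zero δ hδ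
  | succ m =>
    exact IsZero.of_mono δ (h₁ m)

end Exact

section Colim

variable {ι : Type u} [DecidableEq ι] [Preorder ι] [IsDirected ι (· ≤ ·)] [Nonempty ι]
  (G : ι → Type u) [∀ i, AddCommGroup (G i)] [∀ i, Module A (G i)]
  (f : ∀ i j, i ≤ j → G i →ₗ[A] G j) [DirectedSystem G fun i j h ↦ f i j h]
  {N : Type u} [AddCommGroup N] [Module A N]

theorem TZ.directLimit (h : ∀ i, TZ A N (G i)) : TZ A N (Module.DirectLimit G f) := by
  intro n
  let F := (Tor (ModuleCat.{u} A) (n + 1)).obj (ModuleCat.of A N)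
  haveI : PreservesColimitsOfShape ι F :=
    Groth.Agent.H82.TorColim.preserves_tor (ModuleCat.of A N) (n + 1) ι
  let hc := isColimitOfPreserves F (ModuleCat.directLimitIsColimit G f)
  show IsZero (F.obj (ModuleCat.of A (Module.DirectLimit G f)))
  rw [IsZero.iff_id_eq_zero]
  refine hc.hom_ext fun i => ?_
  exact (h i n).eq_of_src _ _

end Colim

section BaseChange

variable {A' : Type u} [CommRing A'] [Algebra A A'] [Module.Flat A A']

theorem isZero_tor_of_flat_baseChange (P' : Type u) [AddCommGroup P'] [Module A' P'] [Module A P']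
    [IsScalarTower A A' P'] (Q : Type u) [AddCommGroup Q] [Module A Q] (n : ℕ)
    (h : IsZero (((Tor (ModuleCat.{u} A') n).obj (ModuleCat.of A' P')).obj
      (ModuleCat.of A' (A' ⊗[A] Q)))) :
    IsZero (((Tor (ModuleCat.{u} A) n).obj (ModuleCat.of A P')).obj (ModuleCat.of A Q)) := by
  obtain ⟨φ, hφ⟩ := Groth.Agent.H82.TorBC3.exists_semilinear_bijective_flat (A := A) (A' := A')
    P' Q n
  rw [ModuleCat.isZero_iff_subsingleton] at h ⊢
  exact hφ.injective.subsingleton

end BaseChange

end Groth.Agent.H34.PerfTorLib
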