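import Mathlib
import Groth.Agent.H34.PerfTorLib
import Groth.Agent.H34.PerfRing

set_option linter.style.haveILetI false
set_option linter.unusedSectionVars false

/-!
# The principal step for Tor-vanishing over perfect rings

`A` perfect of characteristic `p`, `J` a radical ideal, `g : A`, `J₁ = rad(J + (g))`,
`C` a perfect `A`-algebra.  If `Tor_{>0}^A(C, A/J) = 0` then `Tor_{>0}^A(C, A/J₁) = 0`.
-/

universe u

open TensorProduct

namespace Groth.Agent.H34.PerfStep

open Groth.Agent.H34.PerfTorLib Groth.Agent.H34.PerfRing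

variable {p : ℕ} [hp : Fact p.Prime] {A : Type u} [CommRing A]
  (hA : Function.Bijective fun x : A => x ^ p) (hp0 : (p : A) = 0) (J : Ideal A) (g : A)

/-- Iterated `p`-th roots of `g`. -/
noncomputable def gs (n : ℕ) : A := rootN hA n g

/-- Transition multipliers `g_i / g_j`. -/
noncomputable def tt (i j : ℕ) : A := ∏ k ∈ Finset.Ico i j, gs hA g (k + 1) ^ (p - 1)

theorem gs_succ_pow (n : ℕ) : gs hA g (n + 1) ^ p = gs hA g n := rootN_succ_pow hA n g

theorem tt_self (i : ℕ) : tt hA g i i = 1 := by simp [tt]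

theorem tt_succ (i : ℕ) : tt hA g i (i + 1) = gs hA g (i + 1) ^ (p - 1) := by simp [tt]

theorem tt_trans {i j k : ℕ} (hij : i ≤ j) (hjk : j ≤ k) :
    tt hA g i j * tt hA g j k = tt hA g i k :=
  Finset.prod_Ico_consecutive _ hij hjk

theorem tt_mul_gs {i j : ℕ} (hij : i ≤ j) : tt hA g i j * gs hA g j = gs hA g i := by
  induction j, hij using Nat.le_induction with
  | base => rw [tt_self, one_mul]
  | succ j hij ih =>
    rw [tt, Finset.prod_Ico_succ_top hij, ← tt, mul_assoc, ← pow_succ,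
      Nat.sub_add_cancel hp.out.one_le, gs_succ_pow, ih]

/-- The radical of `J + (g)`. -/
noncomputable def J1 : Ideal A := (J ⊔ Ideal.span {g}).radical

theorem J1_isRadical : (J1 J g).IsRadical := Ideal.radical_isRadical _

theorem gs_mem_J1 (n : ℕ) : gs hA g n ∈ J1 J g :=
  ⟨p ^ n, by rw [gs, rootN_pow]; exact Ideal.mem_sup_right (Ideal.subset_span rfl)⟩

theorem le_J1 : J ≤ J1 J g := le_sup_left.trans Ideal.le_radical

include hp0 in
theorem exists_of_mem_J1 (hJ : J.IsRadical) {a : A} (ha : a ∈ J1 J g) :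
    ∃ n b, a - b * gs hA g n ∈ J := by
  obtain ⟨m, hm⟩ := ha
  have h1 := exists_pow_p_mem hA hm
  obtain ⟨j, hj, z, hz, hjz⟩ := Submodule.mem_sup.mp h1
  obtain ⟨b, rfl⟩ := Ideal.mem_span_singleton'.mp hz
  refine ⟨m, rootN hA m b, ?_⟩
  have h2 : a = rootN hA m j + rootN hA m b * gs hA g m := by
    rw [gs, ← rootN_mul, ← rootN_add hA hp0, hjz, rootN_pow']
  have h3 : a - rootN hA m b * gs hA g m = rootN hA m j := by
    rw [h2]; ring
  rw [h3]
  exact rootN_mem hA hJ m hj

/-- The quotient map `A/J → A/J₁`. -/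
noncomputable def qmap : A ⧸ J →ₗ[A] A ⧸ J1 J g :=
  Submodule.mapQ J (J1 J g) LinearMap.id (by rw [Submodule.comap_id]; exact le_J1 J g)

theorem qmap_mk (a : A) :
    qmap J g (Submodule.Quotient.mk a) = Submodule.Quotient.mk a := rfl

theorem qmap_surjective : Function.Surjective (qmap J g) := by
  intro y
  obtain ⟨a, rfl⟩ := Submodule.Quotient.mk_surjective _ y
  exact ⟨Submodule.Quotient.mk a, rfl⟩

/-- The kernel `J₁/J`. -/
noncomputable abbrev KK : Submodule A (A ⧸ J) := LinearMap.ker (qmap J g)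

theorem mk_mem_KK (a : A) : (Submodule.Quotient.mk a : A ⧸ J) ∈ KK J g ↔ a ∈ J1 J g := by
  rw [LinearMap.mem_ker, qmap_mk, Submodule.Quotient.mk_eq_zero]

theorem smul_mem_KK {c : A} (hc : c ∈ J1 J g) (x : A ⧸ J) : c • x ∈ KK J g := by
  obtain ⟨a, rfl⟩ := Submodule.Quotient.mk_surjective _ x
  rw [← Submodule.Quotient.mk_smul, mk_mem_KK]
  exact Ideal.mul_mem_right _ _ hc

theorem smul_eq_zero_of_mem {j : A} (hj : j ∈ J) (x : A ⧸ J) : j • x = 0 := by
  obtain ⟨a, rfl⟩ := Submodule.Quotient.mk_surjective _ x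
  rw [← Submodule.Quotient.mk_smul, Submodule.Quotient.mk_eq_zero]
  exact J.mul_mem_right _ hj

/-- Index type in the right universe. -/
abbrev Idx : Type u := ULift.{u} ℕ

instance : IsDirected Idx (· ≤ ·) :=
  ⟨fun a b => ⟨⟨max a.down b.down⟩, le_max_left a.down b.down, le_max_right a.down b.down⟩⟩

/-- The transition maps. -/
noncomputable def ff (i j : Idx.{u}) (_ : i ≤ j) : A ⧸ J →ₗ[A] A ⧸ J :=
  LinearMap.lsmul A (A ⧸ J) (tt hA g i.down j.down)

instance : DirectedSystem (fun _ : Idx.{u} => A ⧸ J) (fun i j h => ff hA J g i j h) where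
  map_self i x := by simp [ff, tt_self]
  map_map k j i hij hjk x := by
    simp only [ff, LinearMap.lsmul_apply]
    rw [smul_smul, mul_comm, tt_trans hA g hij hjk]

/-- The maps to the kernel. -/
noncomputable def phi (i : Idx.{u}) : A ⧸ J →ₗ[A] KK J g :=
  LinearMap.codRestrict (KK J g) (LinearMap.lsmul A (A ⧸ J) (gs hA g i.down))
    (fun x => smul_mem_KK J g (gs_mem_J1 hA J g _) x)

theorem phi_apply (i : Idx.{u}) (x : A ⧸ J) : (phi hA J g i x : A ⧸ J) = gs hA g i.down • x := rfl

theorem phi_compat (i j : Idx.{u}) (h : i ≤ j) (x : A ⧸ J) :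
    phi hA J g j (ff hA J g i j h x) = phi hA J g i x := by
  apply Subtype.ext
  rw [phi_apply, phi_apply]
  simp only [ff, LinearMap.lsmul_apply]
  rw [smul_smul, mul_comm, tt_mul_gs hA g h]

/-- The comparison map from the direct limit. -/
noncomputable def LL :
    Module.DirectLimit (fun _ : Idx.{u} => A ⧸ J) (fun i j h => ff hA J g i j h) →ₗ[A] KK J g :=
  Module.DirectLimit.lift A Idx.{u} _ _ (phi hA J g) (phi_compat hA J g)

include hp0 in
theorem LL_surjective (hJ : J.IsRadical) : Function.Surjective (LL hA J g) := by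
  rintro ⟨y, hy⟩
  obtain ⟨a, rfl⟩ := Submodule.Quotient.mk_surjective _ y
  rw [mk_mem_KK] at hy
  obtain ⟨n, b, hb⟩ := exists_of_mem_J1 hA hp0 J g hJ hy
  refine ⟨Module.DirectLimit.of A Idx.{u} _ _ ⟨n⟩ (Submodule.Quotient.mk b), ?_⟩
  rw [LL, Module.DirectLimit.lift_of]
  apply Subtype.ext
  rw [phi_apply]
  show gs hA g n • (Submodule.Quotient.mk b : A ⧸ J) = Submodule.Quotient.mk a
  rw [← Submodule.Quotient.mk_smul, eq_comm, Submodule.Quotient.eq, smul_eq_mul, mul_comm]
  exact hb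

theorem LL_injective (hJ : J.IsRadical) : Function.Injective (LL hA J g) := by
  rw [injective_iff_map_eq_zero]
  intro z hz
  obtain ⟨i, x, rfl⟩ := Module.DirectLimit.exists_of z
  rw [LL, Module.DirectLimit.lift_of] at hz
  obtain ⟨a, rfl⟩ := Submodule.Quotient.mk_surjective _ x
  have h1 : gs hA g i.down * a ∈ J := by
    have := congrArg Subtype.val hz
    rw [phi_apply] at this
    have h0 : ((0 : KK J g) : A ⧸ J) = 0 := rfl
    rw [h0, ← Submodule.Quotient.mk_smul, Submodule.Quotient.mk_eq_zero, smul_eq_mul] at this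
    exact this
  let j : Idx.{u} := ⟨i.down + 1⟩
  have hij : i ≤ j := Nat.le_succ i.down
  rw [← Module.DirectLimit.of_f (hij := hij)]
  have h2 : ff hA J g i j hij (Submodule.Quotient.mk a) = 0 := by
    simp only [ff, LinearMap.lsmul_apply]
    rw [← Submodule.Quotient.mk_smul, Submodule.Quotient.mk_eq_zero, smul_eq_mul]
    apply hJ
    refine ⟨p, ?_⟩
    have h3 : tt hA g i.down j.down = gs hA g (i.down + 1) ^ (p - 1) := tt_succ hA g i.down
    have h4 : (gs hA g (i.down + 1) ^ (p - 1) * a) ^ p =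
        (gs hA g i.down * a) ^ (p - 1) * a := by
      rw [mul_pow, ← pow_mul, mul_comm (p - 1) p, pow_mul, gs_succ_pow, mul_pow, mul_assoc,
        ← pow_succ, Nat.sub_add_cancel hp.out.one_le]
    rw [h3, h4]
    exact J.mul_mem_right _ (Ideal.pow_mem_of_mem J h1 (p - 1) (Nat.sub_pos_of_lt hp.out.one_lt))
  rw [h2, map_zero]

include hA hp0 in
theorem tz_KK {N : Type u} [AddCommGroup N] [Module A N] (hJ : J.IsRadical)
    (h : TZ A N (A ⧸ J)) : TZ A N (KK J g) :=
  TZ.of_linearEquiv
    (LinearEquiv.ofBijective (LL hA J g) ⟨LL_injective hA J g hJ, LL_surjective hA hp0 J g hJ⟩)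
    (TZ.directLimit (fun _ : Idx.{u} => A ⧸ J) (fun i j h => ff hA J g i j h) (fun _ => h))

section Inj

variable {C : Type u} [CommRing C] [Algebra A C] (hC : Function.Bijective fun x : C => x ^ p)

/-- The class of `g_n` in the kernel. -/
noncomputable def kap (n : ℕ) : KK J g :=
  ⟨Submodule.Quotient.mk (gs hA g n), (mk_mem_KK J g _).mpr (gs_mem_J1 hA J g n)⟩

theorem kap_eq {i j : ℕ} (hij : i ≤ j) : kap hA J g i = tt hA g i j • kap hA J g j := by
  apply Subtype.ext
  show (Submodule.Quotient.mk (gs hA g i) : A ⧸ J) =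
    tt hA g i j • (Submodule.Quotient.mk (gs hA g j) : A ⧸ J)
  rw [← Submodule.Quotient.mk_smul, smul_eq_mul, tt_mul_gs hA g hij]

include hp0 in
theorem exists_tmul_kap (hJ : J.IsRadical) (t : C ⊗[A] KK J g) :
    ∃ (c : C) (n : ℕ), t = c ⊗ₜ[A] kap hA J g n := by
  induction t using TensorProduct.induction_on with
  | zero => exact ⟨0, 0, (TensorProduct.zero_tmul _ _).symm⟩
  | tmul c y =>
    obtain ⟨y, hy⟩ := y
    obtain ⟨a, rfl⟩ := Submodule.Quotient.mk_surjective _ y
    have ha := (mk_mem_KK J g a).mp hy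
    obtain ⟨n, b, hb⟩ := exists_of_mem_J1 hA hp0 J g hJ ha
    refine ⟨b • c, n, ?_⟩
    have h1 : (⟨Submodule.Quotient.mk a, hy⟩ : KK J g) = b • kap hA J g n := by
      apply Subtype.ext
      show (Submodule.Quotient.mk a : A ⧸ J) = b • (Submodule.Quotient.mk (gs hA g n) : A ⧸ J)
      rw [← Submodule.Quotient.mk_smul, Submodule.Quotient.eq, smul_eq_mul]
      exact hb
    rw [h1, TensorProduct.tmul_smul, TensorProduct.smul_tmul']
  | add u v hu hv =>
    obtain ⟨c, n, rfl⟩ := hu
    obtain ⟨c', m, rfl⟩ := hv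
    refine ⟨tt hA g n (max n m) • c + tt hA g m (max n m) • c', max n m, ?_⟩
    rw [kap_eq hA J g (le_max_left n m), kap_eq hA J g (le_max_right n m),
      TensorProduct.tmul_smul, TensorProduct.tmul_smul, TensorProduct.add_tmul,
      TensorProduct.smul_tmul', TensorProduct.smul_tmul']

theorem tmul_eq_zero_of_mem (w : C) (hw : w ∈ (J • (⊤ : Submodule A C))) (y : KK J g) :
    w ⊗ₜ[A] y = 0 := by
  refine Submodule.smul_induction_on hw ?_ ?_
  · intro j hj c _
    rw [TensorProduct.smul_tmul]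
    have h1 : j • y = 0 := by
      apply Subtype.ext
      exact smul_eq_zero_of_mem J hj y.1
    rw [h1, TensorProduct.tmul_zero]
  · intro x y' hx hy
    rw [TensorProduct.add_tmul, hx, hy, add_zero]

include hA hp0 hC in
theorem lTensor_injective (hJ : J.IsRadical) :
    Function.Injective ((KK J g).subtype.lTensor C) := by
  have hpC : ((p : ℕ) : C) = 0 := by
    have := map_natCast (algebraMap A C) p
    rw [← this, hp0, map_zero]
  rw [injective_iff_map_eq_zero]
  intro t ht
  obtain ⟨c, n, rfl⟩ := exists_tmul_kap hA hp0 J g hJ t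
  rw [LinearMap.lTensor_tmul] at ht
  have h1 : gs hA g n • c ∈ J • (⊤ : Submodule A C) := by
    have h0 := congrArg (TensorProduct.tensorQuotEquivQuotSMul C J) ht
    rw [map_zero] at h0
    have h00 : (TensorProduct.tensorQuotEquivQuotSMul C J)
        (c ⊗ₜ[A] (Ideal.Quotient.mk J (gs hA g n))) = 0 := h0
    rw [TensorProduct.tensorQuotEquivQuotSMul_tmul_mk, Submodule.Quotient.mk_eq_zero] at h00
    exact h00
  have h2 : algebraMap A C (gs hA g n) * c ∈ J.map (algebraMap A C) := by
    rw [Ideal.smul_top_eq_map] at h1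
    rw [← Algebra.smul_def]
    exact h1
  have hw : algebraMap A C (gs hA g (n + 1)) ^ (p - 1) * c ∈ J.map (algebraMap A C) := by
    apply map_isRadical hA hC hpC hJ
    refine ⟨p, ?_⟩
    have h3 : (algebraMap A C (gs hA g (n + 1)) ^ (p - 1) * c) ^ p =
        (algebraMap A C (gs hA g n) * c) ^ (p - 1) * c := by
      rw [mul_pow, ← pow_mul, mul_comm (p - 1) p, pow_mul, ← map_pow, gs_succ_pow, mul_pow,
        mul_assoc, ← pow_succ, Nat.sub_add_cancel hp.out.one_le]
    rw [h3]
    exact Ideal.mul_mem_right _ _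
      (Ideal.pow_mem_of_mem _ h2 _ (Nat.sub_pos_of_lt hp.out.one_lt))
  have hw' : (gs hA g (n + 1) ^ (p - 1)) • c ∈ J • (⊤ : Submodule A C) := by
    rw [Ideal.smul_top_eq_map, Algebra.smul_def, map_pow]
    exact hw
  have h3 : kap hA J g n = gs hA g (n + 1) ^ (p - 1) • kap hA J g (n + 1) := by
    rw [kap_eq hA J g (Nat.le_succ n), tt_succ]
  rw [h3, TensorProduct.tmul_smul, TensorProduct.smul_tmul']
  exact tmul_eq_zero_of_mem J g _ hw' _

include hA hp0 hC in
/-- The principal step. -/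
theorem step (hJ : J.IsRadical) (h : TZ A C (A ⧸ J)) : TZ A C (A ⧸ J1 J g) :=
  TZ.of_exact (KK J g).subtype (qmap J g) (Submodule.injective_subtype _) (qmap_surjective J g)
    (LinearMap.exact_subtype_ker_map _) (tz_KK hA hp0 J g hJ h) h
    (lTensor_injective hA hp0 J g hC hJ)

end Inj

end Groth.Agent.H34.PerfStep
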