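import Mathlib
import Groth.Agent.H34.PerfStep

set_option linter.style.haveILetI false
set_option linter.unusedSectionVars false

/-!
# Tor-vanishing for perfect rings (Bhatt–Scholze, Lemma 3.16)
-/

universe u

open TensorProduct CategoryTheory

namespace Groth.Agent.H34.PerfMain

open Groth.Agent.H34.PerfTorLib Groth.Agent.H34.PerfRing Groth.Agent.H34.PerfStep

section Surj

variable {p : ℕ} [hp : Fact p.Prime] {A : Type u} [CommRing A]
  (hA : Function.Bijective fun x : A => x ^ p) (hp0 : (p : A) = 0)
  {C : Type u} [CommRing C] [Algebra A C] (hC : Function.Bijective fun x : C => x ^ p)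

include hA hp0 hC in
/-- Finitely generated radical ideals. -/
theorem tz_finset (S : Finset A) : TZ A C (A ⧸ (Ideal.span (S : Set A)).radical) := by
  classical
  induction S using Finset.induction_on with
  | empty =>
    have hI : (Ideal.span ((∅ : Finset A) : Set A)).radical = ⊥ := by
      haveI := isReduced hA
      rw [Finset.coe_empty, Ideal.span_empty]
      have := nilradical_eq_zero A
      rwa [nilradical, Ideal.zero_eq_bot] at this
    exact TZ.of_linearEquiv (Submodule.quotEquivOfEqBot _ hI).symm TZ.of_projective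
  | insert g S hg ih =>
    have h := step hA hp0 _ g hC (Ideal.radical_isRadical _) ih
    have heq : J1 (Ideal.span (S : Set A)).radical g =
        (Ideal.span ((insert g S : Finset A) : Set A)).radical := by
      rw [J1, Finset.coe_insert, Ideal.span_insert, Ideal.radical_sup, Ideal.radical_idem,
        ← Ideal.radical_sup, sup_comm]
    exact TZ.of_linearEquiv (Submodule.quotEquivOfEq _ _ heq) h

/-- Index type: finite subsets of the ideal. -/
abbrev FS (I : Ideal A) : Type u := {S : Finset A // (S : Set A) ⊆ I}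

instance (I : Ideal A) : IsDirected (FS I) (· ≤ ·) := by
  classical
  exact ⟨fun S T => ⟨⟨S.1 ∪ T.1, by
    rw [Finset.coe_union]; exact Set.union_subset S.2 T.2⟩,
    Finset.subset_union_left, Finset.subset_union_right⟩⟩

instance (I : Ideal A) : Nonempty (FS I) := ⟨⟨∅, by simp⟩⟩

/-- Transition maps. -/
noncomputable def fq (I : Ideal A) (S T : FS I) (h : S ≤ T) :
    A ⧸ (Ideal.span (S.1 : Set A)).radical →ₗ[A] A ⧸ (Ideal.span (T.1 : Set A)).radical :=
  Submodule.mapQ _ _ LinearMap.id (by
    rw [Submodule.comap_id]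
    exact Ideal.radical_mono (Ideal.span_mono (Finset.coe_subset.mpr h)))

theorem fq_mk (I : Ideal A) (S T : FS I) (h : S ≤ T) (a : A) :
    fq I S T h (Submodule.Quotient.mk a) = Submodule.Quotient.mk a := rfl

instance (I : Ideal A) :
    DirectedSystem (fun S : FS I => A ⧸ (Ideal.span (S.1 : Set A)).radical)
      (fun S T h => fq I S T h) where
  map_self S x := by
    obtain ⟨a, rfl⟩ := Submodule.Quotient.mk_surjective _ x
    rfl
  map_map k j i hij hjk x := by
    obtain ⟨a, rfl⟩ := Submodule.Quotient.mk_surjective _ x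
    rfl

/-- Maps to `A ⧸ I`. -/
noncomputable def psi (I : Ideal A) (hI : I.IsRadical) (S : FS I) :
    A ⧸ (Ideal.span (S.1 : Set A)).radical →ₗ[A] A ⧸ I :=
  Submodule.mapQ _ _ LinearMap.id (by
    rw [Submodule.comap_id]
    exact hI.radical_le_iff.mpr (Ideal.span_le.mpr S.2))

theorem psi_mk (I : Ideal A) (hI : I.IsRadical) (S : FS I) (a : A) :
    psi I hI S (Submodule.Quotient.mk a) = Submodule.Quotient.mk a := rfl

include hA hp0 hC in
/-- Arbitrary radical ideals. -/
theorem tz_radical (I : Ideal A) (hI : I.IsRadical) : TZ A C (A ⧸ I) := by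
  classical
  let G : FS I → Type u := fun S => A ⧸ (Ideal.span (S.1 : Set A)).radical
  have hcompat : ∀ (S T : FS I) (h : S ≤ T) (x : G S), psi I hI T (fq I S T h x) = psi I hI S x := by
    intro S T h x
    obtain ⟨a, rfl⟩ := Submodule.Quotient.mk_surjective _ x
    rfl
  let L : Module.DirectLimit G (fun S T h => fq I S T h) →ₗ[A] A ⧸ I :=
    Module.DirectLimit.lift A (FS I) G (fun S T h => fq I S T h) (psi I hI) hcompat
  have hsurj : Function.Surjective L := by
    intro y
    obtain ⟨a, rfl⟩ := Submodule.Quotient.mk_surjective _ y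
    refine ⟨Module.DirectLimit.of A (FS I) G (fun S T h => fq I S T h) ⟨∅, by simp⟩
      (Submodule.Quotient.mk a), ?_⟩
    rw [Module.DirectLimit.lift_of]
    rfl
  have hinj : Function.Injective L := by
    rw [injective_iff_map_eq_zero]
    intro z hz
    obtain ⟨S, x, rfl⟩ := Module.DirectLimit.exists_of z
    rw [Module.DirectLimit.lift_of] at hz
    obtain ⟨a, rfl⟩ := Submodule.Quotient.mk_surjective _ x
    rw [psi_mk, Submodule.Quotient.mk_eq_zero] at hz
    let T : FS I := ⟨insert a S.1, by
      rw [Finset.coe_insert]; exact Set.insert_subset hz S.2⟩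
    have hST : S ≤ T := Finset.subset_insert a S.1
    rw [← Module.DirectLimit.of_f (hij := hST)]
    have h2 : fq I S T hST (Submodule.Quotient.mk a) = 0 := by
      rw [fq_mk, Submodule.Quotient.mk_eq_zero]
      exact Ideal.le_radical (Ideal.subset_span (by simp [T]))
    rw [h2, map_zero]
  exact TZ.of_linearEquiv (LinearEquiv.ofBijective L ⟨hinj, hsurj⟩)
    (TZ.directLimit G (fun S T h => fq I S T h) (fun S => tz_finset hA hp0 hC S.1))

end Surj

section Main

/-- **Bhatt–Scholze**: `Tor_i^A(B, C) = 0` for `i > 0` and perfect rings `C ← A → B`. -/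
theorem main (p : ℕ) [hp : Fact p.Prime] (A B C : Type u) [CommRing A] [CommRing B] [CommRing C]
    [CharP A p] [Algebra A B] [Algebra A C]
    (hA : Function.Bijective fun a : A => a ^ p) (hB : Function.Bijective fun b : B => b ^ p)
    (hC : Function.Bijective fun c : C => c ^ p) (i : ℕ) (hi : 0 < i) :
    Limits.IsZero (((Tor (ModuleCat.{u} A) i).obj (ModuleCat.of A B)).obj (ModuleCat.of A C)) := by
  obtain ⟨n, rfl⟩ : ∃ n, i = n + 1 := Nat.exists_eq_succ_of_ne_zero hi.ne'
  have hp0 : ((p : ℕ) : A) = 0 := CharP.cast_eq_zero A p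
  have hpB : ((p : ℕ) : B) = 0 := by
    have := map_natCast (algebraMap A B) p
    rw [← this, hp0, map_zero]
  have hpC : ((p : ℕ) : C) = 0 := by
    have := map_natCast (algebraMap A C) p
    rw [← this, hp0, map_zero]
  letI algA : Algebra (ZMod p) A := ZMod.algebra A p
  letI algB : Algebra (ZMod p) B := ((algebraMap A B).comp (algebraMap (ZMod p) A)).toAlgebra
  haveI : IsScalarTower (ZMod p) A B := IsScalarTower.of_algebraMap_eq (fun _ => rfl)
  have hZ : Function.Bijective fun x : ZMod p => x ^ p := by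
    have : (fun x : ZMod p => x ^ p) = id := funext ZMod.pow_card
    rw [this]
    exact Function.bijective_id
  have hP : Function.Bijective fun x : A ⊗[ZMod p] B => x ^ p :=
    frobenius_bijective_tensor hZ hA hB hp0 hpB
  have hpP : ((p : ℕ) : A ⊗[ZMod p] B) = 0 := natCast_tensor_eq_zero hp0
  have hC₁ : Function.Bijective fun x : (A ⊗[ZMod p] B) ⊗[A] C => x ^ p :=
    frobenius_bijective_tensor hA hP hC hpP hpC
  -- the presentation
  let π : A ⊗[ZMod p] B →ₐ[A] B :=
    Algebra.TensorProduct.lift (Algebra.ofId A B) (AlgHom.id (ZMod p) B)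
      (fun _ _ => Commute.all _ _)
  have hπ : Function.Surjective π := fun b => ⟨1 ⊗ₜ b, by
    simp [π]⟩
  letI modB : Module (A ⊗[ZMod p] B) B := Module.compHom B π.toRingHom
  have hsmul : ∀ (x : A ⊗[ZMod p] B) (b : B), x • b = π x * b := fun _ _ => rfl
  haveI : IsScalarTower A (A ⊗[ZMod p] B) B := ⟨fun a x b => by
    rw [hsmul, hsmul, map_smul, smul_mul_assoc]⟩
  let φ : A ⊗[ZMod p] B →ₗ[A ⊗[ZMod p] B] B :=
    { toFun := π
      map_add' := map_add π
      map_smul' := fun x y => by
        rw [RingHom.id_apply, hsmul, smul_eq_mul, map_mul] }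
  have hφ : Function.Surjective φ := hπ
  have hI : Ideal.IsRadical (LinearMap.ker φ) := by
    haveI := isReduced hB
    rintro x ⟨m, hm⟩
    rw [LinearMap.mem_ker] at hm ⊢
    have h1 : π x ^ m = 0 := by
      have : φ (x ^ m) = π x ^ m := map_pow π x m
      rw [← this, hm]
    exact IsReduced.eq_zero _ ⟨m, h1⟩
  have h1 : TZ (A ⊗[ZMod p] B) ((A ⊗[ZMod p] B) ⊗[A] C) ((A ⊗[ZMod p] B) ⧸ LinearMap.ker φ) :=
    tz_radical hP hpP hC₁ (LinearMap.ker φ) hI
  have h2 : TZ (A ⊗[ZMod p] B) ((A ⊗[ZMod p] B) ⊗[A] C) B :=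
    h1.of_linearEquiv (φ.quotKerEquivOfSurjective hφ)
  have h3 := h2.symm
  exact isZero_tor_of_flat_baseChange (A := A) (A' := A ⊗[ZMod p] B) B C (n + 1) (h3 n)

end Main

end Groth.Agent.H34.PerfMain
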