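import Groth.Agent.H34.Reflexive2

set_option autoImplicit false
universe u v w

namespace Groth.Agent.H34

/-- Clearing denominators of finitely many linear maps from a finite module into a localization. -/
theorem exists_integer_multiple_linearMaps {R : Type u} [CommRing R] (S : Submonoid R)
    (A : Type v) [CommRing A] [Algebra R A] [IsLocalization S A]
    (hinj : Function.Injective (algebraMap R A))
    {M : Type w} [AddCommGroup M] [Module R M] [Module.Finite R M] {k : ℕ}
    (c : Fin k → M →ₗ[R] A) :
    ∃ (s : S) (ψ : Fin k → Module.Dual R M), ∀ i x, algebraMap R A (ψ i x) = (s : R) • c i x := by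
  classical
  obtain ⟨G, hG⟩ := (Module.finite_def.mp (inferInstance : Module.Finite R M))
  obtain ⟨d, hd⟩ := IsLocalization.exist_integer_multiples_of_finite S
    (fun q : Fin k × G => c q.1 q.2.1)
  have hI : ∀ (i : Fin k) (x : M), ∃ r : R, algebraMap R A r = (d : R) • c i x := by
    intro i x
    have hx : x ∈ Submodule.span R (G : Set M) := by rw [hG]; trivial
    induction hx using Submodule.span_induction with
    | mem y hy =>
      obtain ⟨r, hr⟩ := hd (i, ⟨y, hy⟩)
      exact ⟨r, hr⟩
    | zero => exact ⟨0, by simp⟩
    | add y z _ _ hy hz =>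
      obtain ⟨r1, h1⟩ := hy
      obtain ⟨r2, h2⟩ := hz
      exact ⟨r1 + r2, by rw [map_add, map_add, smul_add, h1, h2]⟩
    | smul r y _ hy =>
      obtain ⟨r1, h1⟩ := hy
      exact ⟨r * r1, by rw [map_mul, h1, map_smul, smul_comm, Algebra.smul_def r]⟩
  choose ψ₀ hψ₀ using hI
  refine ⟨d, fun i =>
    { toFun := ψ₀ i
      map_add' := fun a b => hinj (by rw [map_add, hψ₀, hψ₀, hψ₀, map_add, smul_add])
      map_smul' := fun r a => hinj (by
        simp only [RingHom.id_apply, smul_eq_mul, map_mul, hψ₀, map_smul]
        rw [smul_comm, Algebra.smul_def r]) }, fun i x => hψ₀ i x⟩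

/-- Localizations of finite reflexive modules over a Noetherian domain are reflexive. -/
theorem isReflexive_localizedModule (R : Type u) [CommRing R] [IsDomain R] [IsNoetherianRing R]
    (M : Type v) [AddCommGroup M] [Module R M] [Module.Finite R M] [Module.IsReflexive R M]
    (S : Submonoid R) (hS : S ≤ nonZeroDivisors R) :
    Module.IsReflexive (Localization S) (LocalizedModule S M) := by
  have : IsDomain (Localization S) := IsLocalization.isDomain_localization hS
  obtain ⟨n, f, hf, hQ⟩ := exists_injective_free_torsionFree_coker R M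
  have hfS : Function.Injective (LocalizedModule.map S f) := LocalizedModule.map_injective S f hf
  have hex : Function.Exact (LocalizedModule.map S f) (LocalizedModule.map S (LinearMap.range f).mkQ) :=
    fun y => LocalizedModule.map_exact S f (LinearMap.range f).mkQ (LinearMap.exact_map_mkQ_range f) y
  have : Module.Free (Localization S) (LocalizedModule S (Fin n → R)) :=
    Module.free_of_isLocalizedModule S (LocalizedModule.mkLinearMap S _)
  have : Module.Finite (Localization S) (LocalizedModule S (Fin n → R)) :=
    Module.Finite.of_isLocalizedModule S (LocalizedModule.mkLinearMap S _)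
  have : Module.Finite (Localization S) (LocalizedModule S M) :=
    Module.Finite.of_isLocalizedModule S (LocalizedModule.mkLinearMap S _)
  have : Module.Finite (Localization S) (LocalizedModule S ((Fin n → R) ⧸ LinearMap.range f)) :=
    Module.Finite.of_isLocalizedModule S (LocalizedModule.mkLinearMap S _)
  exact ⟨bijective_eval_of_exact _ _ hfS hex (Module.bijective_dual_eval _ _)
    (injective_eval_of_torsionFree _ _)⟩

/-- Reflexivity can be checked at maximal ideals. -/
theorem isReflexive_of_forall_maximal (R : Type u) [CommRing R] [IsDomain R] [IsNoetherianRing R]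
    (M : Type v) [AddCommGroup M] [Module R M] [Module.Finite R M]
    (h : ∀ (m : Ideal R) (_ : m.IsMaximal),
      Module.IsReflexive (Localization.AtPrime m) (LocalizedModule m.primeCompl M)) :
    Module.IsReflexive R M := by
  classical
  have htf : Module.IsTorsionFree R M := by
    refine Module.IsTorsionFree.of_smul_eq_zero fun r x hrx => ?_
    by_contra hcon
    rw [not_or] at hcon
    obtain ⟨hr, hx⟩ := hcon
    let I : Ideal R := LinearMap.ker (LinearMap.toSpanSingleton R M x)
    have hI : I ≠ ⊤ := by
      intro hI
      have h1 : (1 : R) ∈ I := by rw [hI]; trivial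
      rw [LinearMap.mem_ker, LinearMap.toSpanSingleton_apply, one_smul] at h1
      exact hx h1
    obtain ⟨m, hm, hIm⟩ := Ideal.exists_le_maximal I hI
    have := h m hm
    have hS := Ideal.primeCompl_le_nonZeroDivisors m
    have hdom : IsDomain (Localization.AtPrime m) := IsLocalization.isDomain_localization hS
    let ι := LocalizedModule.mkLinearMap m.primeCompl M
    have h2 : (algebraMap R (Localization.AtPrime m) r) • ι x = 0 := by
      rw [algebraMap_smul, ← map_smul, hrx, map_zero]
    rcases smul_eq_zero.mp h2 with h3 | h3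
    · have hinj := IsLocalization.injective (Localization.AtPrime m) hS
      exact hr (hinj (by rw [h3, map_zero]))
    · obtain ⟨s, hs⟩ := IsLocalizedModule.exists_of_eq (S := m.primeCompl) (f := ι)
        (x₁ := x) (x₂ := 0) (by rw [h3, map_zero])
      rw [smul_zero] at hs
      have hsI : (s : R) ∈ I := by
        rw [LinearMap.mem_ker, LinearMap.toSpanSingleton_apply]
        exact hs
      exact s.2 (hIm hsI)
  refine ⟨⟨injective_eval_of_torsionFree R M, ?_⟩⟩
  intro y
  let E := LinearMap.range (Module.Dual.eval R M)
  let I : Ideal R := Submodule.comap (LinearMap.toSpanSingleton R _ y) E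
  have hI_mem : ∀ r, r ∈ I ↔ r • y ∈ E := fun r => by
    rw [Submodule.mem_comap, LinearMap.toSpanSingleton_apply]
  by_contra hy
  have hI : I ≠ ⊤ := by
    intro hI
    have h1 : (1 : R) ∈ I := by rw [hI]; trivial
    rw [hI_mem, one_smul] at h1
    exact hy h1
  obtain ⟨m, hm, hIm⟩ := Ideal.exists_le_maximal I hI
  have := h m hm
  have hS := Ideal.primeCompl_le_nonZeroDivisors m
  have hdom : IsDomain (Localization.AtPrime m) := IsLocalization.isDomain_localization hS
  have hinj : Function.Injective (algebraMap R (Localization.AtPrime m)) :=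
    IsLocalization.injective (Localization.AtPrime m) hS
  have hne : ∀ s : m.primeCompl, (s : R) ≠ 0 := fun s => nonZeroDivisors.ne_zero (hS s.2)
  let ι := LocalizedModule.mkLinearMap m.primeCompl M
  have hιinj : Function.Injective ι := by
    rw [IsLocalizedModule.injective_iff_isRegular m.primeCompl ι]
    intro c
    exact (IsRegular.of_ne_zero (hne c)).isSMulRegular
  have : Module.Finite (Localization.AtPrime m) (LocalizedModule m.primeCompl M) :=
    Module.Finite.of_isLocalizedModule m.primeCompl (LocalizedModule.mkLinearMap _ _)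
  obtain ⟨k, F, hFinj, hFQ⟩ := exists_injective_free_torsionFree_coker
    (Localization.AtPrime m) (LocalizedModule m.primeCompl M)
  let c : Fin k → M →ₗ[R] (Localization.AtPrime m) :=
    fun i => ((LinearMap.proj i ∘ₗ F).restrictScalars R) ∘ₗ ι
  have hc : ∀ i x, c i x = F (ι x) i := fun _ _ => rfl
  obtain ⟨s, ψ, hψ⟩ := exists_integer_multiple_linearMaps m.primeCompl (Localization.AtPrime m)
    hinj c
  let u : Fin k → Localization.AtPrime m := fun i => algebraMap R _ (y (ψ i))
  have hu : u ∈ LinearMap.range F := by
    obtain ⟨c0, hc0, -, hcy⟩ := eval_ker_coker R M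
    obtain ⟨x, hx⟩ := hcy y
    have h1 : algebraMap R (Localization.AtPrime m) c0 • u = F ((s : R) • ι x) := by
      funext i
      have h2 : c0 * y (ψ i) = ψ i x := by
        have h2' := LinearMap.congr_fun hx (ψ i)
        rw [Module.Dual.eval_apply, LinearMap.smul_apply, smul_eq_mul] at h2'
        exact h2'.symm
      rw [LinearMap.map_smul_of_tower, Pi.smul_apply, Pi.smul_apply, smul_eq_mul]
      show algebraMap R _ c0 * algebraMap R _ (y (ψ i)) = (s : R) • F (ι x) i
      rw [← map_mul, h2, hψ, hc]
    have h3 : algebraMap R (Localization.AtPrime m) c0 •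
        (Submodule.Quotient.mk u : (Fin k → Localization.AtPrime m) ⧸ LinearMap.range F) = 0 := by
      rw [← Submodule.Quotient.mk_smul, h1, Submodule.Quotient.mk_eq_zero]
      exact ⟨_, rfl⟩
    rcases smul_eq_zero.mp h3 with h4 | h4
    · exact absurd (hinj (by rw [h4, map_zero])) hc0
    · exact (Submodule.Quotient.mk_eq_zero _).mp h4
  obtain ⟨z, hz⟩ := hu
  obtain ⟨⟨x', t⟩, hxt⟩ := IsLocalizedModule.surj m.primeCompl ι z
  have hkey : ∀ i, ψ i x' = (s : R) * (t : R) * y (ψ i) := by
    intro i
    apply hinj
    rw [hψ, hc, ← hxt]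
    show (s : R) • F ((t : R) • z) i = _
    rw [LinearMap.map_smul_of_tower, hz, Pi.smul_apply]
    show (s : R) • (t : R) • algebraMap R (Localization.AtPrime m) (y (ψ i)) = _
    rw [Algebra.smul_def, Algebra.smul_def, ← map_mul, ← map_mul, mul_assoc]
  let w : Module.Dual R (Module.Dual R M) :=
    ((s : R) * (t : R)) • y - Module.Dual.eval R M x'
  have hwψ : ∀ i, w (ψ i) = 0 := by
    intro i
    simp [w, hkey i]
  have hw : w = 0 := by
    obtain ⟨c1, hc1, -, hcw⟩ := eval_ker_coker R M
    obtain ⟨x'', hx''⟩ := hcw w
    have h5 : ∀ i, ψ i x'' = 0 := by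
      intro i
      have h5' := LinearMap.congr_fun hx'' (ψ i)
      rw [Module.Dual.eval_apply, LinearMap.smul_apply, hwψ i, smul_zero] at h5'
      exact h5'
    have h6 : F (ι x'') = 0 := by
      funext i
      have h7 := hψ i x''
      rw [h5 i, map_zero, hc, Algebra.smul_def] at h7
      rcases mul_eq_zero.mp h7.symm with h8 | h8
      · exact absurd (hinj (by rw [h8, map_zero])) (hne s)
      · exact h8
    have h9 : ι x'' = 0 := hFinj (by rw [h6, map_zero])
    have h10 : x'' = 0 := hιinj (by rw [h9, map_zero])
    rw [h10, map_zero] at hx''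
    exact dual_smul_eq_zero hc1 w hx''.symm
  have hstI : (s : R) * (t : R) ∈ I := by
    rw [hI_mem]
    exact ⟨x', (sub_eq_zero.mp hw).symm⟩
  exact (m.primeCompl.mul_mem s.2 t.2) (hIm hstI)

end Groth.Agent.H34
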