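import Mathlib
import Groth.Prelude.Def_CAlg
import Groth.Agent.H26.DepthLib
import Groth.Agent.H34.ReflDepth2
import Groth.Agent.H34.Reflexive3

namespace Groth.Agent.H34.ReflLocal

open Pointwise IsLocalRing

universe u

variable (R : Type u) [CommRing R] [IsDomain R] [IsNoetherianRing R]
  (M : Type u) [AddCommGroup M] [Module R M] [Module.Finite R M]
  (p : Ideal R) [p.IsPrime]

theorem torsionFree_Np (c : Localization.AtPrime p) (hc : c ≠ 0)
    (n : LocalizedModule p.primeCompl (Module.Dual R (Module.Dual R M))) (h : c • n = 0) :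
    n = 0 := by
  obtain ⟨⟨r, t⟩, hrt⟩ := IsLocalization.surj p.primeCompl c
  have hr : r ≠ 0 := by
    rintro rfl
    rw [map_zero] at hrt
    have hu : IsUnit (algebraMap R (Localization.AtPrime p) (t : R)) :=
      IsLocalization.map_units _ t
    exact hc ((hu.mul_left_eq_zero).mp hrt)
  have h1 : r • n = 0 := by
    rw [← algebraMap_smul (Localization.AtPrime p) r n, ← hrt, mul_comm, mul_smul, h, smul_zero]
  obtain ⟨⟨φ, s⟩, hφs⟩ := IsLocalizedModule.surj p.primeCompl
    (LocalizedModule.mkLinearMap p.primeCompl (Module.Dual R (Module.Dual R M))) n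
  have h2 : LocalizedModule.mkLinearMap p.primeCompl _ (r • φ) = 0 := by
    rw [map_smul, ← hφs, smul_comm, h1, smul_zero]
  obtain ⟨u, hu⟩ := (IsLocalizedModule.eq_zero_iff p.primeCompl
    (LocalizedModule.mkLinearMap p.primeCompl _)).mp h2
  have hur : (u : R) * r ≠ 0 :=
    mul_ne_zero (fun h0 => u.2 (by rw [h0]; exact p.zero_mem)) hr
  have hφ : φ = 0 := dual_smul_eq_zero hur φ (by rw [mul_smul]; exact hu)
  rw [hφ, map_zero] at hφs
  exact IsLocalizedModule.smul_injective (LocalizedModule.mkLinearMap p.primeCompl _) s
    (hφs.trans (smul_zero _).symm)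

theorem mem_range_of_pow (a b : Localization.AtPrime p)
    (ha : IsSMulRegular (LocalizedModule p.primeCompl M) a)
    (hb : IsSMulRegular (QuotSMulTop a (LocalizedModule p.primeCompl M)) b)
    (ha0 : a ≠ 0)
    (ham : a ∈ maximalIdeal (Localization.AtPrime p))
    (hbm : b ∈ maximalIdeal (Localization.AtPrime p))
    (hinj : Function.Injective (LocalizedModule.map p.primeCompl (Module.Dual.eval R M)))
    (n : ℕ) : ∀ z : LocalizedModule p.primeCompl (Module.Dual R (Module.Dual R M)),
      (∀ c ∈ maximalIdeal (Localization.AtPrime p) ^ n, c • z ∈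
        LinearMap.range (LocalizedModule.map p.primeCompl (Module.Dual.eval R M))) →
      z ∈ LinearMap.range (LocalizedModule.map p.primeCompl (Module.Dual.eval R M)) := by
  have hstar : ∀ z : LocalizedModule p.primeCompl (Module.Dual R (Module.Dual R M)),
      (∀ c ∈ maximalIdeal (Localization.AtPrime p), c • z ∈
        LinearMap.range (LocalizedModule.map p.primeCompl (Module.Dual.eval R M))) →
      z ∈ LinearMap.range (LocalizedModule.map p.primeCompl (Module.Dual.eval R M)) := by
    intro z hz
    obtain ⟨u, hu⟩ := hz a ham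
    obtain ⟨v, hv⟩ := hz b hbm
    have h1 : b • u = a • v := hinj (by
      rw [map_smul, map_smul, hu, hv, smul_smul, smul_smul, mul_comm])
    have h2 : (Submodule.Quotient.mk u : QuotSMulTop a (LocalizedModule p.primeCompl M)) = 0 := by
      apply hb
      show b • (Submodule.Quotient.mk u : QuotSMulTop a (LocalizedModule p.primeCompl M)) = b • 0
      rw [smul_zero, ← Submodule.Quotient.mk_smul, h1, Submodule.Quotient.mk_eq_zero]
      exact Submodule.smul_mem_pointwise_smul v a ⊤ trivial
    rw [Submodule.Quotient.mk_eq_zero] at h2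
    obtain ⟨w, -, hw⟩ := (Submodule.mem_smul_pointwise_iff_exists _ _ _).mp h2
    have h3 : a • (z - LocalizedModule.map p.primeCompl (Module.Dual.eval R M) w) = 0 := by
      rw [smul_sub, ← map_smul, hw, hu, sub_self]
    have h4 := torsionFree_Np R M p a ha0 _ h3
    exact ⟨w, (sub_eq_zero.mp h4).symm⟩
  induction n with
  | zero =>
    intro z h
    have := h 1 (by simp)
    simpa using this
  | succ k ih =>
    intro z h
    apply ih
    intro c hc
    apply hstar
    intro d hd
    rw [smul_smul]
    exact h _ (by rw [pow_succ']; exact Ideal.mul_mem_mul hd hc)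

variable {R M}

theorem exists_pow_le_map (J : Ideal R) (hp : p ∈ J.minimalPrimes) :
    ∃ n : ℕ, maximalIdeal (Localization.AtPrime p) ^ n ≤
      J.map (algebraMap R (Localization.AtPrime p)) := by
  have hrad := IsLocalization.AtPrime.radical_map_of_mem_minimalPrimes
    (A := Localization.AtPrime p) p J hp
  rw [Localization.AtPrime.map_eq_maximalIdeal] at hrad
  exact Ideal.exists_pow_le_of_le_radical_of_fg (le_of_eq hrad.symm) (IsNoetherian.noetherian _)

variable (R M)

theorem main_mpr (h : ∀ (p : Ideal R) [p.IsPrime],
      Module.IsReflexive (Localization.AtPrime p) (LocalizedModule p.primeCompl M) ∨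
        2 ≤ LocCoh.depth (Localization.AtPrime p) (LocalizedModule p.primeCompl M)) :
    Module.IsReflexive R M := by
  classical
  have h' : ∀ (p : Ideal R) [p.IsPrime],
      Module.IsReflexive (Localization.AtPrime p) (LocalizedModule p.primeCompl M) ∨
      ∃ a b : Localization.AtPrime p, a ∈ maximalIdeal (Localization.AtPrime p) ∧
        b ∈ maximalIdeal (Localization.AtPrime p) ∧ a ≠ 0 ∧
        IsSMulRegular (LocalizedModule p.primeCompl M) a ∧
        IsSMulRegular (QuotSMulTop a (LocalizedModule p.primeCompl M)) b := by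
    intro p _
    rcases h p with h1 | h1
    · exact Or.inl h1
    · by_cases hIM : maximalIdeal (Localization.AtPrime p) •
          (⊤ : Submodule (Localization.AtPrime p) (LocalizedModule p.primeCompl M)) = ⊤
      · left
        have hbot : (⊤ : Submodule (Localization.AtPrime p) (LocalizedModule p.primeCompl M)) = ⊥ :=
          Submodule.eq_bot_of_le_smul_of_le_jacobson_bot (maximalIdeal (Localization.AtPrime p)) ⊤
            Module.Finite.fg_top (le_of_eq hIM.symm) (IsLocalRing.maximalIdeal_le_jacobson ⊥)
        have : Subsingleton (LocalizedModule p.primeCompl M) := by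
          refine ⟨fun x y => ?_⟩
          have hx : x ∈ (⊤ : Submodule (Localization.AtPrime p)
            (LocalizedModule p.primeCompl M)) := trivial
          have hy : y ∈ (⊤ : Submodule (Localization.AtPrime p)
            (LocalizedModule p.primeCompl M)) := trivial
          rw [hbot, Submodule.mem_bot] at hx hy
          rw [hx, hy]
        have : Module.Free (Localization.AtPrime p) (LocalizedModule p.primeCompl M) :=
          Module.Free.of_subsingleton _ _
        infer_instance
      · right
        unfold LocCoh.depth at h1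
        obtain ⟨rs, hlen, hreg, hmem⟩ := Groth.Agent.H26.DepthLib.exists_of_le_idealDepth
          (maximalIdeal (Localization.AtPrime p)) 2 (by exact_mod_cast h1) hIM
        obtain ⟨a, b, rfl⟩ := List.length_eq_two.1 hlen
        rw [RingTheory.Sequence.isWeaklyRegular_cons_iff,
          RingTheory.Sequence.isWeaklyRegular_singleton_iff] at hreg
        refine ⟨a, b, hmem a (by simp), hmem b (by simp), ?_, hreg.1, hreg.2⟩
        rintro rfl
        apply hIM
        have hsub : ∀ x : LocalizedModule p.primeCompl M, x = 0 := fun x =>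
          hreg.1 (by simp)
        refine le_antisymm le_top fun x _ => ?_
        rw [hsub x]; exact Submodule.zero_mem _
  have hinj : Function.Injective (Module.Dual.eval R M) := by
    rw [injective_iff_map_eq_zero]
    intro x hx
    by_contra hx0
    let J : Ideal R := LinearMap.ker (LinearMap.toSpanSingleton R M x)
    have hJmem : ∀ r, r ∈ J ↔ r • x = 0 := fun r => by
      rw [LinearMap.mem_ker, LinearMap.toSpanSingleton_apply]
    have hJtop : J ≠ ⊤ := by
      intro hJ
      have : (1 : R) ∈ J := by rw [hJ]; trivial
      rw [hJmem, one_smul] at this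
      exact hx0 this
    obtain ⟨⟨p, hp⟩⟩ := Ideal.nonempty_minimalPrimes hJtop
    have hpp : p.IsPrime := hp.1.1
    have hJp : J ≤ p := hp.1.2
    have hcontra : ∀ s : R, s ∉ p → s • x = 0 → False := fun s hs hsx =>
      hs (hJp ((hJmem s).mpr hsx))
    rcases h' p with h1 | ⟨a, b, ham, hbm, ha0, ha, hb⟩
    · obtain ⟨s, hs, hsx⟩ := ReflDepth2.L1 M p x hx
      exact hcontra s hs hsx
    · obtain ⟨n, hn⟩ := exists_pow_le_map p J hp
      have hkill : ∀ c ∈ J.map (algebraMap R (Localization.AtPrime p)),
          c • LocalizedModule.mkLinearMap p.primeCompl M x = 0 := by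
        intro c hc
        replace hc : c ∈ Submodule.span (Localization.AtPrime p)
          (algebraMap R (Localization.AtPrime p) '' (J : Set R)) := hc
        induction hc using Submodule.span_induction with
        | mem c hcm =>
          obtain ⟨j, hj, rfl⟩ := hcm
          rw [algebraMap_smul, ← map_smul, (hJmem j).mp hj, map_zero]
        | zero => rw [zero_smul]
        | add c₁ c₂ _ _ h₁ h₂ => rw [add_smul, h₁ , h₂, add_zero]
        | smul c' c₁ _ h₁ => rw [smul_assoc, h₁, smul_zero]
      have h0 : LocalizedModule.mkLinearMap p.primeCompl M x = 0 :=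
        (ha.pow n) ((hkill _ (hn (Ideal.pow_mem_pow ham n))).trans (smul_zero _).symm)
      obtain ⟨s, hs⟩ := (IsLocalizedModule.eq_zero_iff p.primeCompl
        (LocalizedModule.mkLinearMap p.primeCompl M)).mp h0
      exact hcontra s.1 s.2 hs
  refine ⟨⟨hinj, ?_⟩⟩
  intro y
  by_contra hy
  let J : Ideal R := Submodule.comap (LinearMap.toSpanSingleton R _ y)
    (LinearMap.range (Module.Dual.eval R M))
  have hJmem : ∀ r, r ∈ J ↔ r • y ∈ LinearMap.range (Module.Dual.eval R M) := fun r => by
    rw [Submodule.mem_comap, LinearMap.toSpanSingleton_apply]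
  have hJtop : J ≠ ⊤ := by
    intro hJ
    have : (1 : R) ∈ J := by rw [hJ]; trivial
    rw [hJmem, one_smul] at this
    exact hy this
  obtain ⟨⟨p, hp⟩⟩ := Ideal.nonempty_minimalPrimes hJtop
  have hpp : p.IsPrime := hp.1.1
  have hJp : J ≤ p := hp.1.2
  have hcontra : ∀ s : R, s ∉ p → s • y ∈ LinearMap.range (Module.Dual.eval R M) → False :=
    fun s hs hsy => hs (hJp ((hJmem s).mpr hsy))
  rcases h' p with h1 | ⟨a, b, ham, hbm, ha0, ha, hb⟩
  · obtain ⟨s, hs, hsy⟩ := ReflDepth2.L2 M p y
    exact hcontra s hs hsy
  · obtain ⟨n, hn⟩ := exists_pow_le_map p J hp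
    have hevp_inj : Function.Injective (LocalizedModule.map p.primeCompl (Module.Dual.eval R M)) :=
      LocalizedModule.map_injective p.primeCompl _ hinj
    have hev_mk : ∀ x : M, LocalizedModule.map p.primeCompl (Module.Dual.eval R M)
        (LocalizedModule.mkLinearMap p.primeCompl M x) =
        LocalizedModule.mkLinearMap p.primeCompl _ (Module.Dual.eval R M x) := by
      intro x
      rw [LocalizedModule.mkLinearMap_apply, LocalizedModule.map_mk,
        LocalizedModule.mkLinearMap_apply]
    have hJmap : ∀ c ∈ J.map (algebraMap R (Localization.AtPrime p)),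
        c • LocalizedModule.mkLinearMap p.primeCompl _ y ∈
          LinearMap.range (LocalizedModule.map p.primeCompl (Module.Dual.eval R M)) := by
      intro c hc
      replace hc : c ∈ Submodule.span (Localization.AtPrime p)
        (algebraMap R (Localization.AtPrime p) '' (J : Set R)) := hc
      induction hc using Submodule.span_induction with
      | mem c hcm =>
        obtain ⟨j, hj, rfl⟩ := hcm
        obtain ⟨x, hx⟩ := (hJmem j).mp hj
        refine ⟨LocalizedModule.mkLinearMap p.primeCompl M x, ?_⟩
        rw [algebraMap_smul, ← map_smul, ← hx, hev_mk]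
      | zero => rw [zero_smul]; exact Submodule.zero_mem _
      | add c₁ c₂ _ _ h₁ h₂ => rw [add_smul]; exact Submodule.add_mem _ h₁ h₂
      | smul c' c₁ _ h₁ => rw [smul_assoc]; exact Submodule.smul_mem _ c' h₁
    obtain ⟨g, hg⟩ := mem_range_of_pow R M p a b ha hb ha0 ham hbm hevp_inj n _
      (fun c hc => hJmap c (hn hc))
    obtain ⟨⟨x, s⟩, hxs⟩ := IsLocalizedModule.surj p.primeCompl
      (LocalizedModule.mkLinearMap p.primeCompl M) g
    have h5 : LocalizedModule.mkLinearMap p.primeCompl _
        ((s : R) • y - Module.Dual.eval R M x) = 0 := by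
      rw [map_sub, map_smul, ← hg, sub_eq_zero, ← hev_mk]
      have hxs' : (s : R) • g = LocalizedModule.mkLinearMap p.primeCompl M x := hxs
      rw [← hxs', ← algebraMap_smul (Localization.AtPrime p) (s : R) g, map_smul, algebraMap_smul]
    obtain ⟨t, ht⟩ := (IsLocalizedModule.eq_zero_iff p.primeCompl
      (LocalizedModule.mkLinearMap p.primeCompl _)).mp h5
    refine hcontra ((t : R) * (s : R)) (p.primeCompl.mul_mem t.2 s.2) ⟨(t : R) • x, ?_⟩
    have ht' : (t : R) • ((s : R) • y - Module.Dual.eval R M x) = 0 := ht
    rw [smul_sub, sub_eq_zero] at ht'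
    rw [map_smul, mul_smul]
    exact ht'.symm

theorem main : Module.IsReflexive R M ↔ ∀ (p : Ideal R) [p.IsPrime],
      Module.IsReflexive (Localization.AtPrime p) (LocalizedModule p.primeCompl M) ∨
        2 ≤ LocCoh.depth (Localization.AtPrime p) (LocalizedModule p.primeCompl M) := by
  constructor
  · intro h p _
    exact Or.inl (isReflexive_localizedModule R M p.primeCompl
      (Ideal.primeCompl_le_nonZeroDivisors p))
  · exact main_mpr R M

end Groth.Agent.H34.ReflLocal
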