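import Mathlib
import Groth.Prelude.Def_CAlg
import Groth.Agent.S0601
import Groth.Agent.S6880
import Groth.Agent.H34.ReflLocal
import Groth.Agent.H71.SkKernel

namespace Groth.Agent.H34.ReflS2

open IsLocalRing

universe u

variable (R : Type u) [CommRing R] [IsDomain R] [IsNoetherianRing R] [IsIntegrallyClosed R]
  (M : Type u) [AddCommGroup M] [Module R M] [Module.Finite R M]

theorem hasSk_two_self : LocCoh.HasSk 2 R R := by
  refine ((Groth.Agent.S0601.result R).mp ?_).2
  intro p _
  have hS := Ideal.primeCompl_le_nonZeroDivisors p
  exact ⟨IsLocalization.isDomain_localization hS,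
    isIntegrallyClosed_of_isLocalization _ p.primeCompl hS⟩

theorem mp [Module.IsReflexive R M] : NoZeroSMulDivisors R M ∧ LocCoh.HasSk 2 R M := by
  refine ⟨⟨fun {c x} h => ?_⟩, (Groth.Agent.S6880.result R M).2 (hasSk_two_self R)⟩
  by_cases hc : c = 0
  · exact Or.inl hc
  · right
    have h1 : c • Module.Dual.eval R M x = 0 := by rw [← map_smul, h, map_zero]
    have h2 := dual_smul_eq_zero hc _ h1
    exact (Module.bijective_dual_eval R M).1 (by rw [h2, map_zero])

omit [IsNoetherianRing R] [IsIntegrallyClosed R] [Module.Finite R M] in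
theorem torsionFree_loc (htf : NoZeroSMulDivisors R M) (p : Ideal R) [p.IsPrime]
    (c : Localization.AtPrime p) (hc : c ≠ 0) (g : LocalizedModule p.primeCompl M)
    (h : c • g = 0) : g = 0 := by
  obtain ⟨⟨r, t⟩, hrt⟩ := IsLocalization.surj p.primeCompl c
  have hr : r ≠ 0 := by
    rintro rfl
    rw [map_zero] at hrt
    have hu : IsUnit (algebraMap R (Localization.AtPrime p) (t : R)) :=
      IsLocalization.map_units _ t
    exact hc ((hu.mul_left_eq_zero).mp hrt)
  have h1 : r • g = 0 := by
    rw [← algebraMap_smul (Localization.AtPrime p) r g, ← hrt, mul_comm, mul_smul, h, smul_zero]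
  obtain ⟨⟨x, s⟩, hxs⟩ := IsLocalizedModule.surj p.primeCompl
    (LocalizedModule.mkLinearMap p.primeCompl M) g
  have h2 : LocalizedModule.mkLinearMap p.primeCompl M (r • x) = 0 := by
    rw [map_smul, ← hxs, smul_comm, h1, smul_zero]
  obtain ⟨u, hu⟩ := (IsLocalizedModule.eq_zero_iff p.primeCompl
    (LocalizedModule.mkLinearMap p.primeCompl M)).mp h2
  have hur : (u : R) * r ≠ 0 :=
    mul_ne_zero (fun h0 => u.2 (by rw [h0]; exact p.zero_mem)) hr
  have hx : x = 0 := by
    have h3 : ((u : R) * r) • x = 0 := by rw [mul_smul]; exact hu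
    exact (htf.eq_zero_or_eq_zero_of_smul_eq_zero h3).resolve_left hur
  rw [hx, map_zero] at hxs
  exact IsLocalizedModule.smul_injective (LocalizedModule.mkLinearMap p.primeCompl M) s
    (hxs.trans (smul_zero _).symm)

theorem mpr (htf : NoZeroSMulDivisors R M) (hS2 : LocCoh.HasSk 2 R M) :
    Module.IsReflexive R M := by
  apply ReflLocal.main_mpr
  intro p _
  have hS := Ideal.primeCompl_le_nonZeroDivisors p
  have : IsDomain (Localization.AtPrime p) := IsLocalization.isDomain_localization hS
  have : IsIntegrallyClosed (Localization.AtPrime p) :=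
    isIntegrallyClosed_of_isLocalization _ p.primeCompl hS
  have : Module.IsTorsionFree (Localization.AtPrime p) (LocalizedModule p.primeCompl M) :=
    Module.IsTorsionFree.of_smul_eq_zero fun c g h => by
      by_cases hc : c = 0
      · exact Or.inl hc
      · exact Or.inr (torsionFree_loc R M htf p c hc g h)
  by_cases hsub : Subsingleton (LocalizedModule p.primeCompl M)
  · left
    have : Module.Free (Localization.AtPrime p) (LocalizedModule p.primeCompl M) :=
      Module.Free.of_subsingleton _ _
    infer_instance
  have hnt : Nontrivial (LocalizedModule p.primeCompl M) := not_subsingleton_iff_nontrivial.mp hsub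
  by_cases hht : p.height ≤ 1
  · left
    have : IsPrincipalIdealRing (Localization.AtPrime p) := by
      have key : (IsIntegrallyClosed (Localization.AtPrime p) ∧
          ∀ P : Ideal (Localization.AtPrime p), P ≠ ⊥ → P.IsPrime →
            P = maximalIdeal (Localization.AtPrime p)) →
          IsPrincipalIdealRing (Localization.AtPrime p) :=
        ((tfae_of_isNoetherianRing_of_isLocalRing_of_isDomain
          (R := Localization.AtPrime p)).out 3 0).mp
      refine key ⟨inferInstance, ?_⟩
      intro P hP hPp
      rw [← Localization.AtPrime.eq_maximalIdeal_iff_under_eq]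
      have hqle : P.under R ≤ p := by
        have h1 : P ≤ maximalIdeal (Localization.AtPrime p) := IsLocalRing.le_maximalIdeal hPp.ne_top
        have h2 := Ideal.comap_mono (f := algebraMap R (Localization.AtPrime p)) h1
        rwa [show Ideal.comap (algebraMap R (Localization.AtPrime p))
          (maximalIdeal (Localization.AtPrime p)) = p from
          Localization.AtPrime.under_maximalIdeal] at h2
      have hqne : P.under R ≠ ⊥ := by
        intro h0
        apply hP
        rw [← IsLocalization.map_under p.primeCompl (Localization.AtPrime p) P, h0, Ideal.map_bot]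
      by_contra hne
      have hlt : P.under R < p := lt_of_le_of_ne hqle hne
      have h1 := Ideal.height_add_one_le_of_lt_of_isPrime hlt
      have h3 : (P.under R).height + 1 ≤ 1 := h1.trans hht
      have h0 : (P.under R).height = 0 := by
        by_contra h0
        have h4 : 1 ≤ (P.under R).height := Order.one_le_iff_pos.mpr (pos_iff_ne_zero.mpr h0)
        have h5 : (1 : ℕ∞) + 1 ≤ 1 := (add_le_add h4 le_rfl).trans h3
        exact absurd h5 (by
          rw [one_add_one_eq_two]; exact_mod_cast (by decide : ¬ ((2 : ℕ) ≤ 1)))
      exact hqne (Ideal.height_eq_zero_iff_eq_bot.mp h0)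
    infer_instance
  · right
    have hann : Module.annihilator (Localization.AtPrime p) (LocalizedModule p.primeCompl M) = ⊥ := by
      rw [eq_bot_iff]
      intro c hc
      rw [Submodule.mem_bot]
      by_contra hc0
      obtain ⟨g, hg⟩ := exists_ne (0 : LocalizedModule p.primeCompl M)
      exact hg (torsionFree_loc R M htf p c hc0 g (Module.mem_annihilator.mp hc g))
    have hsd : Module.supportDim (Localization.AtPrime p) (LocalizedModule p.primeCompl M) =
        ((p.height : ℕ∞) : WithBot ℕ∞) := by
      rw [Module.supportDim_eq_ringKrullDim_quotient_annihilator, hann,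
        ringKrullDim_eq_of_ringEquiv (RingEquiv.quotientBot _),
        IsLocalization.AtPrime.ringKrullDim_eq_height p]
    have h2 : (2 : ℕ∞) ≤ p.height := by
      have h1 : 1 < p.height := lt_of_not_ge hht
      have := Order.add_one_le_of_lt h1
      rwa [one_add_one_eq_two] at this
    have h3 := Groth.Agent.H71.SK.le_depth_of_hasSk p hS2 2 le_rfl (by
      rw [hsd, ← WithBot.coe_natCast]
      exact WithBot.coe_le_coe.mpr (by exact_mod_cast h2))
    exact_mod_cast h3

theorem main : Module.IsReflexive R M ↔ NoZeroSMulDivisors R M ∧ LocCoh.HasSk 2 R M :=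
  ⟨fun _ => mp R M, fun h => mpr R M h.1 h.2⟩

end Groth.Agent.H34.ReflS2
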