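import Mathlib

set_option autoImplicit false
universe u v w

namespace Groth.Agent.H34

open scoped nonZeroDivisors

/-- A "dual frame up to torsion" for a finite module over a domain. -/
theorem exists_dual_frame (R : Type u) [CommRing R] [IsDomain R] (M : Type v)
    [AddCommGroup M] [Module R M] [Module.Finite R M] :
    ∃ (n : ℕ) (ψ : Fin n → Module.Dual R M) (m : Fin n → M) (d : R), d ≠ 0 ∧
      ∀ x : M, ∃ s : R, s ≠ 0 ∧ s • (d • x - ∑ i, ψ i x • m i) = 0 := by
  classical
  let S := nonZeroDivisors R
  let K := FractionRing R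
  let V := LocalizedModule S M
  let ι : M →ₗ[R] V := LocalizedModule.mkLinearMap S M
  let n := Module.finrank K V
  let b : Module.Basis (Fin n) K V := Module.finBasis K V
  have hsurj : ∀ i, ∃ p : M × S, p.2 • b i = ι p.1 := fun i => IsLocalizedModule.surj S ι (b i)
  choose p hp using hsurj
  have hw : ∀ i, IsUnit (algebraMap R K ((p i).2 : R)) :=
    fun i => IsLocalization.map_units K (p i).2
  let b' : Module.Basis (Fin n) K V := b.isUnitSMul hw
  have hb' : ∀ i, b' i = ι (p i).1 := by
    intro i
    rw [Module.Basis.isUnitSMul_apply, ← hp i, algebraMap_smul]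
    rfl
  let c : Fin n → (M →ₗ[R] K) := fun i => ((b'.coord i).restrictScalars R) ∘ₗ ι
  have hc : ∀ i x, c i x = b'.repr (ι x) i := fun _ _ => rfl
  obtain ⟨G, hG⟩ := (Module.finite_def.mp (inferInstance : Module.Finite R M))
  obtain ⟨d, hd⟩ := IsLocalization.exist_integer_multiples_of_finite S
    (fun q : Fin n × G => c q.1 q.2.1)
  have hI : ∀ (i : Fin n) (x : M), ∃ r : R, algebraMap R K r = (d : R) • c i x := by
    intro i x
    have hx : x ∈ Submodule.span R (G : Set M) := by rw [hG]; trivial
    induction hx using Submodule.span_induction with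
    | mem y hy =>
      obtain ⟨r, hr⟩ := hd (i, ⟨y, hy⟩)
      exact ⟨r, hr⟩
    | zero => exact ⟨0, by simp⟩
    | add y z _ _ hy hz =>
      obtain ⟨r1, h1⟩ := hy
      obtain ⟨r2, h2⟩ := hz
      exact ⟨r1 + r2, by rw [map_add, map_add, smul_add, h1, h2]⟩
    | smul r y _ hy =>
      obtain ⟨r1, h1⟩ := hy
      exact ⟨r * r1, by rw [map_mul, h1, map_smul, smul_comm, Algebra.smul_def r]⟩
  have hinjK : Function.Injective (algebraMap R K) := IsFractionRing.injective R K
  choose ψ₀ hψ₀ using hI
  let ψ : Fin n → Module.Dual R M := fun i =>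
    { toFun := ψ₀ i
      map_add' := fun a b => hinjK (by rw [map_add, hψ₀, hψ₀, hψ₀, map_add, smul_add])
      map_smul' := fun r a => hinjK (by
        simp only [RingHom.id_apply, smul_eq_mul, map_mul, hψ₀, map_smul]
        rw [smul_comm, Algebra.smul_def r]) }
  have hψ : ∀ i x, algebraMap R K (ψ i x) = (d : R) • c i x := fun i x => hψ₀ i x
  refine ⟨n, ψ, fun i => (p i).1, (d : R), nonZeroDivisors.ne_zero d.2, ?_⟩
  intro x
  have hz : ι ((d : R) • x - ∑ i, ψ i x • (p i).1) = 0 := by
    have h1 : ∀ i, ψ i x • ι (p i).1 = (d : R) • (b'.repr (ι x) i • b' i) := by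
      intro i
      rw [← hb' i, ← algebraMap_smul K (ψ i x) (b' i), hψ, smul_assoc, hc]
    rw [map_sub, map_smul, map_sum]
    simp only [map_smul, h1]
    rw [← Finset.smul_sum, b'.sum_repr, sub_self]
  obtain ⟨s, hs⟩ := IsLocalizedModule.exists_of_eq (S := S) (f := ι)
    (x₁ := (d : R) • x - ∑ i, ψ i x • (p i).1) (x₂ := 0) (by rw [hz, map_zero])
  refine ⟨(s : R), nonZeroDivisors.ne_zero s.2, ?_⟩
  rw [smul_zero] at hs
  exact hs

/-- One nonzero `c` kills the kernel of `M → M**` and multiplies `M**` into the image. -/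
theorem eval_ker_coker (R : Type u) [CommRing R] [IsDomain R] (M : Type v)
    [AddCommGroup M] [Module R M] [Module.Finite R M] :
    ∃ c : R, c ≠ 0 ∧ (∀ x : M, Module.Dual.eval R M x = 0 → c • x = 0) ∧
      ∀ y : Module.Dual R (Module.Dual R M), c • y ∈ LinearMap.range (Module.Dual.eval R M) := by
  classical
  obtain ⟨n, ψ, m, d, hd, hfr⟩ := exists_dual_frame R M
  let τ : M →ₗ[R] M := d • LinearMap.id - ∑ i, (ψ i).smulRight (m i)
  have hτ : ∀ x, τ x = d • x - ∑ i, ψ i x • m i := by
    intro x
    simp [τ, LinearMap.sum_apply]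
  obtain ⟨G, hG⟩ := Module.finite_def.mp (inferInstance : Module.Finite R M)
  choose t ht0 ht using hfr
  let s : R := ∏ g ∈ G, t g
  have hs0 : s ≠ 0 := Finset.prod_ne_zero_iff.mpr (fun g _ => ht0 g)
  have hs : ∀ x, s • τ x = 0 := by
    intro x
    have hx : x ∈ Submodule.span R (G : Set M) := by rw [hG]; trivial
    induction hx using Submodule.span_induction with
    | mem g hg =>
      obtain ⟨u, hu⟩ := Finset.dvd_prod_of_mem t hg
      have hsu : s = u * t g := by rw [mul_comm]; exact hu
      rw [hsu, mul_smul, hτ, ht, smul_zero]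
    | zero => simp
    | add y z _ _ hy hz => rw [map_add, smul_add, hy, hz, add_zero]
    | smul r y _ hy => rw [map_smul, smul_comm, hy, smul_zero]
  have hφτ : ∀ (φ : Module.Dual R M) x, φ (τ x) = 0 := by
    intro φ x
    have h1 : s * φ (τ x) = 0 := by
      rw [← smul_eq_mul, ← map_smul, hs, map_zero]
    exact (mul_eq_zero.mp h1).resolve_left hs0
  refine ⟨s * d, mul_ne_zero hs0 hd, ?_, ?_⟩
  · intro x hx
    have hψx : ∀ i, ψ i x = 0 := fun i => by
      have := LinearMap.congr_fun hx (ψ i)
      simpa using this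
    have h2 : τ x = d • x := by
      rw [hτ]
      simp [hψx]
    rw [mul_smul, ← h2, hs]
  · intro y
    refine ⟨s • ∑ i, y (ψ i) • m i, ?_⟩
    refine LinearMap.ext fun φ => ?_
    have hdφ : ∀ x, d * φ x = ∑ i, ψ i x * φ (m i) := by
      intro x
      have h3 := hφτ φ x
      rw [hτ, map_sub, sub_eq_zero, map_smul, map_sum] at h3
      simpa using h3
    have hdφ' : d • φ = ∑ i, φ (m i) • ψ i := by
      refine LinearMap.ext fun x => ?_
      rw [LinearMap.smul_apply, smul_eq_mul, hdφ x, LinearMap.sum_apply]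
      exact Finset.sum_congr rfl (fun i _ => by rw [LinearMap.smul_apply, smul_eq_mul, mul_comm])
    have e1 : y (d • φ) = ∑ i, φ (m i) * y (ψ i) := by
      rw [hdφ', map_sum]
      exact Finset.sum_congr rfl (fun i _ => by rw [map_smul, smul_eq_mul])
    calc (Module.Dual.eval R M (s • ∑ i, y (ψ i) • m i)) φ
        = s * ∑ i, y (ψ i) * φ (m i) := by
          rw [Module.Dual.eval_apply]
          simp only [map_smul, map_sum, smul_eq_mul]
      _ = s * y (d • φ) := by
          rw [e1]
          congr 1
          exact Finset.sum_congr rfl (fun i _ => mul_comm _ _)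
      _ = ((s * d) • y) φ := by
          simp only [map_smul, LinearMap.smul_apply, smul_eq_mul]
          ring

/-- The dual of any module over a domain has no torsion. -/
theorem dual_smul_eq_zero {R : Type u} [CommRing R] [IsDomain R] {N : Type v}
    [AddCommGroup N] [Module R N] {c : R} (hc : c ≠ 0) (y : Module.Dual R N)
    (h : c • y = 0) : y = 0 := by
  refine LinearMap.ext fun x => ?_
  have h1 := LinearMap.congr_fun h x
  rw [LinearMap.smul_apply, smul_eq_mul, LinearMap.zero_apply] at h1
  exact (mul_eq_zero.mp h1).resolve_left hc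

/-- For a finite torsion-free module over a domain, `M → M**` is injective. -/
theorem injective_eval_of_torsionFree (R : Type u) [CommRing R] [IsDomain R] (M : Type v)
    [AddCommGroup M] [Module R M] [Module.Finite R M] [Module.IsTorsionFree R M] :
    Function.Injective (Module.Dual.eval R M) := by
  obtain ⟨c, hc0, hc, -⟩ := eval_ker_coker R M
  rw [injective_iff_map_eq_zero]
  intro x hx
  exact (smul_eq_zero.mp (hc x hx)).resolve_left hc0

/-- Key lemma: in an exact sequence `0 → M → M' → M''` over a domain with `M` finite,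
`M'` reflexive and `M'' → M''**` injective, the module `M` is reflexive. -/
theorem bijective_eval_of_exact {R : Type u} [CommRing R] [IsDomain R]
    {M : Type v} {M' : Type w} {M'' : Type*}
    [AddCommGroup M] [Module R M] [Module.Finite R M]
    [AddCommGroup M'] [Module R M'] [AddCommGroup M''] [Module R M'']
    (f : M →ₗ[R] M') (g : M' →ₗ[R] M'') (hf : Function.Injective f) (hfg : Function.Exact f g)
    (h' : Function.Bijective (Module.Dual.eval R M'))
    (h'' : Function.Injective (Module.Dual.eval R M'')) :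
    Function.Bijective (Module.Dual.eval R M) := by
  constructor
  · rw [injective_iff_map_eq_zero]
    intro x hx
    apply hf
    rw [map_zero]
    apply h'.1
    rw [map_zero]
    refine LinearMap.ext fun ψ => ?_
    have h1 := LinearMap.congr_fun hx (ψ ∘ₗ f)
    simpa using h1
  · intro y
    obtain ⟨m', hm'⟩ := h'.2 (y ∘ₗ f.dualMap)
    have hm'ψ : ∀ ψ : Module.Dual R M', ψ m' = y (ψ ∘ₗ f) := fun ψ => by
      have h1 := LinearMap.congr_fun hm' ψ
      simpa [LinearMap.dualMap_apply'] using h1
    have hg : g m' = 0 := by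
      apply h''
      rw [map_zero]
      refine LinearMap.ext fun χ => ?_
      have h0 : (χ ∘ₗ g) ∘ₗ f = 0 := by
        refine LinearMap.ext fun x => ?_
        simp [hfg.apply_apply_eq_zero]
      have h2 := hm'ψ (χ ∘ₗ g)
      rw [h0, map_zero] at h2
      simpa using h2
    obtain ⟨m, rfl⟩ := (hfg m').mp hg
    refine ⟨m, ?_⟩
    obtain ⟨c, hc0, -, hc⟩ := eval_ker_coker R M
    obtain ⟨v, hv⟩ := hc (y - Module.Dual.eval R M m)
    have hz : ∀ ψ : Module.Dual R M', (y - Module.Dual.eval R M m) (ψ ∘ₗ f) = 0 := fun ψ => by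
      rw [LinearMap.sub_apply, ← hm'ψ ψ]
      simp
    have hfv : f v = 0 := by
      apply h'.1
      rw [map_zero]
      refine LinearMap.ext fun ψ => ?_
      have h3 := LinearMap.congr_fun hv (ψ ∘ₗ f)
      rw [LinearMap.smul_apply, hz ψ, smul_zero] at h3
      simpa using h3
    have hv0 : v = 0 := hf (by rw [hfv, map_zero])
    rw [hv0, map_zero] at hv
    have h4 := dual_smul_eq_zero hc0 _ hv.symm
    exact (sub_eq_zero.mp h4).symm

end Groth.Agent.H34
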