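import Mathlib.Algebra.Category.ModuleCat.Ext.HasExt
import Mathlib.Algebra.Homology.DerivedCategory.Ext.ExactSequences
import Mathlib.Algebra.Homology.DerivedCategory.Ext.EnoughProjectives
import Mathlib.Algebra.Category.ModuleCat.Projective
import Mathlib.Algebra.Homology.ShortComplex.ModuleCat
import Mathlib.RingTheory.LocalRing.Module
import Mathlib.RingTheory.Noetherian.Basic
import Mathlib.LinearAlgebra.FreeModule.Finite.Basic
import Mathlib.Algebra.Module.Projective
import Mathlib.Algebra.Exact.Basic

/-! Serre correspondence, local algebra: an extension `0 → A → M → I → 0` of an ideal with a length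
one free resolution has `M` free iff its class generates `Ext¹(I, A)` (helper34). -/

set_option autoImplicit false
universe u
open CategoryTheory

namespace Groth.Agent.H34.SerreExt

section alg

variable {A : Type u} [CommRing A] [Nontrivial A]

/-- If every functional on the free finite module `K` extends along `i : K → F`, then `i` splits and
the cokernel is projective. -/
theorem projective_of_extend {K F N : Type u} [AddCommGroup K] [Module A K] [AddCommGroup F]
    [Module A F] [AddCommGroup N] [Module A N] [Module.Free A K] [Module.Finite A K]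
    [Module.Projective A F]
    (i : K →ₗ[A] F) (π : F →ₗ[A] N) (hπ : Function.Surjective π)
    (hex : Function.Exact i π)
    (hext : ∀ c : K →ₗ[A] A, ∃ d : F →ₗ[A] A, d ∘ₗ i = c) : Module.Projective A N := by
  classical
  let b := Module.Free.chooseBasis A K
  have : Finite (Module.Free.ChooseBasisIndex A K) := Module.Finite.finite_basis b
  have : Fintype (Module.Free.ChooseBasisIndex A K) := Fintype.ofFinite _
  choose d hd using fun j => hext (b.coord j)
  let ρ : F →ₗ[A] K := ∑ j, (d j).smulRight (b j)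
  have hρ : ρ ∘ₗ i = LinearMap.id := by
    ext k
    have h1 : ∀ j, (d j) (i k) = b.repr k j := by
      intro j
      have := LinearMap.congr_fun (hd j) k
      simpa using this
    simp only [ρ, LinearMap.comp_apply, LinearMap.sum_apply, LinearMap.smulRight_apply,
      LinearMap.id_apply, h1]
    exact b.sum_repr k
  have h2 : Function.Surjective π ∧ ∃ l, l ∘ₗ i = LinearMap.id := ⟨hπ, ρ, hρ⟩
  have h3 : Function.Injective i ∧ ∃ l, π ∘ₗ l = LinearMap.id :=
    ((Function.Exact.split_tfae' hex).out 1 0 rfl rfl).mp h2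
  obtain ⟨-, l, hl⟩ := h3
  exact Module.Projective.of_split l π hl

end alg

theorem main (A : Type u) [CommRing A] [IsNoetherianRing A] [IsLocalRing A]
    (I : Ideal A)
    (hres : ∃ (q : ℕ) (φ : (Fin q → A) →ₗ[A] ↥I), Function.Surjective φ ∧
      Module.Free A ↥(LinearMap.ker φ))
    (S : ShortComplex (ModuleCat.{u} A)) (hS : S.ShortExact)
    (h₁ : Nonempty (S.X₁ ≅ ModuleCat.of A A)) (h₃ : Nonempty (S.X₃ ≅ ModuleCat.of A ↥I)) :
    Module.Free A S.X₂ ↔
      ∀ x : Abelian.Ext S.X₃ S.X₁ 1, ∃ f : S.X₁ ⟶ S.X₁,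
        hS.extClass.comp (Abelian.Ext.mk₀ f) (add_zero 1) = x := by
  obtain ⟨e₁⟩ := h₁
  obtain ⟨e₃⟩ := h₃
  have hprojX₁ : Projective S.X₁ := by
    have : Projective (ModuleCat.of A A) := ModuleCat.projective_of_categoryTheory_projective _
    exact Projective.of_iso e₁.symm this
  constructor
  · intro hfree x
    have hproj2 : Projective S.X₂ := ModuleCat.projective_of_categoryTheory_projective _
    have h0 : (Abelian.Ext.mk₀ S.g).comp x (zero_add 1) = 0 := Abelian.Ext.eq_zero_of_projective _
    obtain ⟨x₁, hx₁⟩ := Abelian.Ext.contravariant_sequence_exact₃ hS S.X₁ x h0 (add_zero 1)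
    refine ⟨Abelian.Ext.homEquiv₀ x₁, ?_⟩
    rw [Abelian.Ext.mk₀_homEquiv₀_apply]
    exact hx₁
  · intro hgen
    -- Step A: `Ext¹(X₂, X₁) = 0`.
    have hA : ∀ z : Abelian.Ext S.X₂ S.X₁ 1, z = 0 := by
      intro z
      have h0 : (Abelian.Ext.mk₀ S.f).comp z (zero_add 1) = 0 :=
        Abelian.Ext.eq_zero_of_projective _
      obtain ⟨x₁, hx₁⟩ := Abelian.Ext.contravariant_sequence_exact₂ hS S.X₁ z h0
      obtain ⟨f, hf⟩ := hgen x₁
      rw [← hx₁, ← hf]
      exact hS.comp_extClass_assoc _ _
    -- module level data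
    obtain ⟨q, φ, hφ, hKfree⟩ := hres
    let E₁ : S.X₁ ≃ₗ[A] A := e₁.toLinearEquiv
    let E₃ : S.X₃ ≃ₗ[A] I := e₃.toLinearEquiv
    let sf : S.X₁ →ₗ[A] S.X₂ := S.f.hom
    let sg : S.X₂ →ₗ[A] S.X₃ := S.g.hom
    have hsf : Function.Injective sf := hS.moduleCat_injective_f
    have hsg : Function.Surjective sg := hS.moduleCat_surjective_g
    have hex : Function.Exact sf sg :=
      (ShortComplex.ShortExact.moduleCat_exact_iff_function_exact S).mp hS.exact
    let g' : S.X₂ →ₗ[A] I := E₃.toLinearMap ∘ₗ sg
    have hg' : Function.Surjective g' := E₃.surjective.comp hsg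
    obtain ⟨h, hh⟩ := Module.projective_lifting_property g' φ hg'
    let f₁ : A →ₗ[A] S.X₂ := sf ∘ₗ E₁.symm.toLinearMap
    have hf₁ : Function.Injective f₁ := hsf.comp E₁.symm.injective
    have hgf : ∀ a, sg (f₁ a) = 0 := fun a => (hex (f₁ a)).mpr ⟨E₁.symm a, rfl⟩
    have hgh : ∀ v, g' (h v) = φ v := fun v => LinearMap.congr_fun hh v
    let π : (A × (Fin q → A)) →ₗ[A] S.X₂ := f₁.coprod h
    have hπ : Function.Surjective π := by
      intro m
      obtain ⟨v, hv⟩ := hφ (g' m)
      have h1 : sg (m - h v) = 0 := by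
        apply E₃.injective
        have : g' (m - h v) = 0 := by rw [map_sub, hgh, hv, sub_self]
        simpa [g'] using this
      obtain ⟨y, hy⟩ := (hex _).mp h1
      refine ⟨(E₁ y, v), ?_⟩
      show f₁ (E₁ y) + h v = m
      have : f₁ (E₁ y) = sf y := by simp [f₁]
      rw [this, hy]
      abel
    -- the kernel of `π` is isomorphic to the kernel of `φ`
    have hker : ∀ x : LinearMap.ker π, φ (x.1.2) = 0 := by
      intro x
      have hx : f₁ x.1.1 + h x.1.2 = 0 := x.2
      have h1 : h x.1.2 = - f₁ x.1.1 := eq_neg_of_add_eq_zero_right hx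
      rw [← hgh, h1, map_neg]
      show -(E₃ (sg (f₁ x.1.1))) = 0
      rw [hgf, map_zero, neg_zero]
    let pr : LinearMap.ker π →ₗ[A] LinearMap.ker φ :=
      LinearMap.codRestrict (LinearMap.ker φ)
        ((LinearMap.snd A A (Fin q → A)) ∘ₗ (LinearMap.ker π).subtype) hker
    have hpr_inj : Function.Injective pr := by
      rw [injective_iff_map_eq_zero]
      intro x hx
      have h2 : x.1.2 = 0 := congrArg Subtype.val hx
      have hx' : f₁ x.1.1 + h x.1.2 = 0 := x.2
      rw [h2, map_zero, add_zero] at hx'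
      have h3 : x.1.1 = 0 := hf₁ (by rw [hx', map_zero])
      apply Subtype.ext
      exact Prod.ext h3 h2
    have hpr_surj : Function.Surjective pr := by
      intro v
      have hv : φ v.1 = 0 := v.2
      have h1 : sg (h v.1) = 0 := by
        apply E₃.injective
        have : g' (h v.1) = 0 := by rw [hgh, hv]
        simpa [g'] using this
      obtain ⟨y, hy⟩ := (hex _).mp h1
      have hmem : ((-(E₁ y), v.1) : A × (Fin q → A)) ∈ LinearMap.ker π := by
        show f₁ (-(E₁ y)) + h v.1 = 0
        have : f₁ (-(E₁ y)) = - sf y := by simp [f₁]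
        rw [this, hy, neg_add_cancel]
      exact ⟨⟨_, hmem⟩, Subtype.ext rfl⟩
    have : Module.Free A (LinearMap.ker π) :=
      Module.Free.of_equiv (LinearEquiv.ofBijective pr ⟨hpr_inj, hpr_surj⟩).symm
    have : IsNoetherian A (A × (Fin q → A)) := isNoetherian_of_isNoetherianRing_of_finite A _
    have : Module.Finite A (LinearMap.ker π) := inferInstance
    -- Step C: functionals extend
    let T := π.shortComplexKer
    have hT : T.ShortExact := LinearMap.shortExact_shortComplexKer hπ
    have hext : ∀ c : LinearMap.ker π →ₗ[A] A, ∃ d : (A × (Fin q → A)) →ₗ[A] A,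
        d ∘ₗ (LinearMap.ker π).subtype = c := by
      intro c
      let c' : T.X₁ ⟶ S.X₁ := ModuleCat.ofHom (E₁.symm.toLinearMap ∘ₗ c)
      have h0 : hT.extClass.comp (Abelian.Ext.mk₀ c') (add_zero 1) = 0 := hA _
      obtain ⟨x₂, hx₂⟩ :=
        Abelian.Ext.contravariant_sequence_exact₁ hT S.X₁ (Abelian.Ext.mk₀ c') (add_zero 1) h0
      let d' : T.X₂ ⟶ S.X₁ := Abelian.Ext.homEquiv₀ x₂
      have h1 : T.f ≫ d' = c' := by
        apply (Abelian.Ext.mk₀_bijective _ _).1
        rw [← Abelian.Ext.mk₀_comp_mk₀, Abelian.Ext.mk₀_homEquiv₀_apply]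
        exact hx₂
      refine ⟨E₁.toLinearMap ∘ₗ d'.hom, ?_⟩
      ext k
      have h2 := congrArg (fun t => t.hom k) h1
      simp only [ModuleCat.hom_comp, LinearMap.comp_apply] at h2
      show E₁ (d'.hom ((LinearMap.ker π).subtype k)) = c k
      have h3 : d'.hom ((LinearMap.ker π).subtype k) = E₁.symm (c k) := h2
      rw [h3, LinearEquiv.apply_symm_apply]
    have hprojN : Module.Projective A S.X₂ :=
      projective_of_extend (LinearMap.ker π).subtype π hπ
        (LinearMap.exact_subtype_ker_map π) hext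
    have : Module.Finite A S.X₂ := Module.Finite.of_surjective π hπ
    exact Module.free_of_flat_of_isLocalRing

end Groth.Agent.H34.SerreExt
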