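import Mathlib

set_option autoImplicit false
universe w v u

namespace Groth.Agent.H34.SerreUniq

open CategoryTheory

variable {k : Type w} [Field k] {T : Type u} [Category.{v} T] [Preadditive T] [Linear k T]
  [∀ X Y : T, Module.Finite k (X ⟶ Y)]

theorem nondeg (F : T ⥤ T) (c : ∀ X Y : T, (X ⟶ Y) ≃ₗ[k] Module.Dual k (Y ⟶ F.obj X))
    {X Y : T} (u v : Y ⟶ F.obj X)
    (h : ∀ g : X ⟶ Y, c X Y g u = c X Y g v) : u = v := by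
  have h1 : ∀ ξ : Module.Dual k (Y ⟶ F.obj X), ξ (u - v) = 0 := by
    intro ξ
    obtain ⟨g, rfl⟩ := (c X Y).surjective ξ
    rw [map_sub, h g, sub_self]
  exact sub_eq_zero.mp ((Module.forall_dual_apply_eq_zero_iff k (u - v)).mp h1)

theorem exists_comp (F G : T ⥤ T)
    (c : ∀ X Y : T, (X ⟶ Y) ≃ₗ[k] Module.Dual k (Y ⟶ F.obj X))
    (hc₁ : ∀ (X Y Y' : T) (f : X ⟶ Y) (g : Y ⟶ Y'),
      c X Y' (f ≫ g) = (c X Y f) ∘ₗ Linear.leftComp k (F.obj X) g)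
    (c' : ∀ X Y : T, (X ⟶ Y) ≃ₗ[k] Module.Dual k (Y ⟶ G.obj X))
    (hc'₁ : ∀ (X Y Y' : T) (f : X ⟶ Y) (g : Y ⟶ Y'),
      c' X Y' (f ≫ g) = (c' X Y f) ∘ₗ Linear.leftComp k (G.obj X) g) (X : T) :
    ∃ φ : F.obj X ⟶ G.obj X, ∀ (Y : T) (f : X ⟶ Y) (h : Y ⟶ F.obj X),
      c X Y f h = c' X Y f (h ≫ φ) := by
  let D := c' X (F.obj X)
  let Θ : Module.Dual k (Module.Dual k (F.obj X ⟶ G.obj X)) :=
    (c X X (𝟙 X)) ∘ₗ D.symm.toLinearMap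
  refine ⟨(Module.evalEquiv k (F.obj X ⟶ G.obj X)).symm Θ, ?_⟩
  intro Y f h
  have e1 : c X Y f h = c X X (𝟙 X) (f ≫ h) := by
    have := LinearMap.congr_fun (hc₁ X X Y (𝟙 X) f) h
    rw [Category.id_comp] at this
    exact this
  have e2 : c' X (F.obj X) (f ≫ h) ((Module.evalEquiv k (F.obj X ⟶ G.obj X)).symm Θ) =
      c' X Y f (h ≫ (Module.evalEquiv k (F.obj X ⟶ G.obj X)).symm Θ) :=
    LinearMap.congr_fun (hc'₁ X Y (F.obj X) f h) _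
  rw [e1, ← e2, Module.apply_evalEquiv_symm_apply]
  show c X X (𝟙 X) (f ≫ h) = c X X (𝟙 X) (D.symm (D (f ≫ h)))
  rw [LinearEquiv.symm_apply_apply]

theorem natural (F G : T ⥤ T)
    (c : ∀ X Y : T, (X ⟶ Y) ≃ₗ[k] Module.Dual k (Y ⟶ F.obj X))
    (hc₂ : ∀ (X' X Y : T) (a : X' ⟶ X) (f : X ⟶ Y),
      c X' Y (a ≫ f) = (c X Y f) ∘ₗ Linear.rightComp k Y (F.map a))
    (c' : ∀ X Y : T, (X ⟶ Y) ≃ₗ[k] Module.Dual k (Y ⟶ G.obj X))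
    (hc'₂ : ∀ (X' X Y : T) (a : X' ⟶ X) (f : X ⟶ Y),
      c' X' Y (a ≫ f) = (c' X Y f) ∘ₗ Linear.rightComp k Y (G.map a))
    (φ : ∀ X : T, F.obj X ⟶ G.obj X)
    (hφ : ∀ (X Y : T) (f : X ⟶ Y) (h : Y ⟶ F.obj X), c X Y f h = c' X Y f (h ≫ φ X))
    {X' X : T} (a : X' ⟶ X) : F.map a ≫ φ X = φ X' ≫ G.map a := by
  apply nondeg G c'
  intro g
  rw [← hφ X (F.obj X') g (F.map a)]
  have e1 : c X' (F.obj X') (a ≫ g) (𝟙 _) = c X (F.obj X') g (𝟙 _ ≫ F.map a) :=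
    LinearMap.congr_fun (hc₂ X' X (F.obj X') a g) (𝟙 _)
  have e2 : c' X' (F.obj X') (a ≫ g) (φ X') = c' X (F.obj X') g (φ X' ≫ G.map a) :=
    LinearMap.congr_fun (hc'₂ X' X (F.obj X') a g) (φ X')
  rw [Category.id_comp] at e1
  rw [← e1, ← e2, hφ X' (F.obj X') (a ≫ g) (𝟙 _), Category.id_comp]

theorem serre_unique (F G : T ⥤ T)
    (c : ∀ X Y : T, (X ⟶ Y) ≃ₗ[k] Module.Dual k (Y ⟶ F.obj X))
    (hc₁ : ∀ (X Y Y' : T) (f : X ⟶ Y) (g : Y ⟶ Y'),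
      c X Y' (f ≫ g) = (c X Y f) ∘ₗ Linear.leftComp k (F.obj X) g)
    (hc₂ : ∀ (X' X Y : T) (a : X' ⟶ X) (f : X ⟶ Y),
      c X' Y (a ≫ f) = (c X Y f) ∘ₗ Linear.rightComp k Y (F.map a))
    (c' : ∀ X Y : T, (X ⟶ Y) ≃ₗ[k] Module.Dual k (Y ⟶ G.obj X))
    (hc'₁ : ∀ (X Y Y' : T) (f : X ⟶ Y) (g : Y ⟶ Y'),
      c' X Y' (f ≫ g) = (c' X Y f) ∘ₗ Linear.leftComp k (G.obj X) g)
    (hc'₂ : ∀ (X' X Y : T) (a : X' ⟶ X) (f : X ⟶ Y),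
      c' X' Y (a ≫ f) = (c' X Y f) ∘ₗ Linear.rightComp k Y (G.map a)) :
    ∃! φ : F ≅ G, ∀ (X Y : T) (f : X ⟶ Y),
      c X Y f = (c' X Y f) ∘ₗ Linear.rightComp k Y (φ.hom.app X) := by
  choose φ hφ using fun X => exists_comp F G c hc₁ c' hc'₁ X
  choose ψ hψ using fun X => exists_comp G F c' hc'₁ c hc₁ X
  have h1 : ∀ X, φ X ≫ ψ X = 𝟙 (F.obj X) := fun X => by
    apply nondeg F c
    intro g
    rw [← hψ X _ g (φ X), hφ X _ g (𝟙 _), Category.id_comp]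
  have h2 : ∀ X, ψ X ≫ φ X = 𝟙 (G.obj X) := fun X => by
    apply nondeg G c'
    intro g
    rw [← hφ X _ g (ψ X), hψ X _ g (𝟙 _), Category.id_comp]
  refine ⟨NatIso.ofComponents (fun X => ⟨φ X, ψ X, h1 X, h2 X⟩)
    (fun {X' X} a => natural F G c hc₂ c' hc'₂ φ hφ a), ?_, ?_⟩
  · intro X Y f
    apply LinearMap.ext
    intro h
    exact hφ X Y f h
  · intro φ₂ h₂
    apply Iso.ext
    apply NatTrans.ext
    funext X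
    show φ₂.hom.app X = φ X
    apply nondeg G c'
    intro g
    have e1 : c X (F.obj X) g (𝟙 _) = c' X (F.obj X) g (𝟙 _ ≫ φ₂.hom.app X) :=
      LinearMap.congr_fun (h₂ X (F.obj X) g) (𝟙 _)
    have e2 := hφ X (F.obj X) g (𝟙 _)
    rw [Category.id_comp] at e1 e2
    rw [← e1, e2]

end Groth.Agent.H34.SerreUniq
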