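import Mathlib
import Groth.Prelude.Def_CAlg
import Groth.Agent.S6876
import Groth.Agent.H26.DepthQuot

namespace Groth.Agent.H34.SkHom

open CAlg

universe u

section loc

variable (A : Type u) [CommRing A] [IsNoetherianRing A] [IsLocalRing A]
  (M N : Type u) [AddCommGroup M] [Module A M] [Module.Finite A M]
  [AddCommGroup N] [Module A N] [Module.Finite A N]

theorem supportDim_hom_le : Module.supportDim A (M →ₗ[A] N) ≤ Module.supportDim A N := by
  have hsub : Module.support A (M →ₗ[A] N) ⊆ Module.support A N := by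
    intro p hp
    rw [Module.mem_support_iff_of_finite] at hp ⊢
    refine le_trans ?_ hp
    intro r hr
    rw [Module.mem_annihilator] at hr ⊢
    intro f
    ext m
    simp [hr (f m)]
  exact Order.krullDim_le_of_strictMono (fun a => ⟨a.1, hsub a.2⟩) (fun {_ _} lt => lt)

theorem key1 (h : min (1 : WithBot ℕ∞) (Module.supportDim A N) ≤ ((LocCoh.depth A N : ℕ∞) : WithBot ℕ∞)) :
    min (1 : WithBot ℕ∞) (Module.supportDim A (M →ₗ[A] N)) ≤
      ((LocCoh.depth A (M →ₗ[A] N) : ℕ∞) : WithBot ℕ∞) := by
  by_cases hd : 1 ≤ LocCoh.depth A (M →ₗ[A] N)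
  · exact (min_le_left _ _).trans (by exact_mod_cast hd)
  · have hN : ¬ 1 ≤ LocCoh.depth A N := fun h1 => hd ((Groth.Agent.S6876.result A M N).1 h1)
    have hN0 : LocCoh.depth A N = 0 := Order.lt_one_iff.mp (lt_of_not_ge hN)
    rw [hN0] at h
    have hs : Module.supportDim A N ≤ ((0 : ℕ∞) : WithBot ℕ∞) := by
      rcases min_le_iff.mp h with h1 | h1
      · exact absurd h1 (by simp)
      · exact h1
    refine (min_le_right _ _).trans (((supportDim_hom_le A M N).trans hs).trans ?_)
    exact WithBot.coe_le_coe.mpr (by simp)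

theorem key2 (h : min (2 : WithBot ℕ∞) (Module.supportDim A N) ≤ ((LocCoh.depth A N : ℕ∞) : WithBot ℕ∞)) :
    min (2 : WithBot ℕ∞) (Module.supportDim A (M →ₗ[A] N)) ≤
      ((LocCoh.depth A (M →ₗ[A] N) : ℕ∞) : WithBot ℕ∞) := by
  have h2 : (2 : WithBot ℕ∞) = ((2 : ℕ∞) : WithBot ℕ∞) := rfl
  by_cases hd : 2 ≤ LocCoh.depth A (M →ₗ[A] N)
  · exact (min_le_left _ _).trans (by rw [h2]; exact WithBot.coe_le_coe.mpr hd)
  · have hN : ¬ 2 ≤ LocCoh.depth A N := fun h1 => hd ((Groth.Agent.S6876.result A M N).2 h1)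
    have hN1 : LocCoh.depth A N ≤ 1 := ENat.lt_two_iff.mp (lt_of_not_ge hN)
    have hs : Module.supportDim A N ≤ ((LocCoh.depth A N : ℕ∞) : WithBot ℕ∞) := by
      rcases min_le_iff.mp h with h1 | h1
      · rw [h2] at h1; exact absurd (WithBot.coe_le_coe.mp h1) hN
      · exact h1
    refine (min_le_right _ _).trans (((supportDim_hom_le A M N).trans hs).trans ?_)
    by_cases h1 : 1 ≤ LocCoh.depth A N
    · have h2 := (Groth.Agent.S6876.result A M N).1 h1
      exact WithBot.coe_le_coe.mpr (hN1.trans h2)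
    · have hN0 : LocCoh.depth A N = 0 := Order.lt_one_iff.mp (lt_of_not_ge h1)
      rw [hN0]
      exact WithBot.coe_le_coe.mpr (by simp)

end loc

section glob

variable (R : Type u) [CommRing R] [IsNoetherianRing R]
  (M N : Type u) [AddCommGroup M] [Module R M] [Module.Finite R M]
  [AddCommGroup N] [Module R N] [Module.Finite R N]

/-- localisation of Hom -/
noncomputable def e (p : Ideal R) [p.IsPrime] :
    LocalizedModule p.primeCompl (M →ₗ[R] N) ≃ₗ[Localization.AtPrime p]
      (LocalizedModule p.primeCompl M →ₗ[Localization.AtPrime p]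
        LocalizedModule p.primeCompl N) :=
  haveI : Module.FinitePresentation R M := Module.finitePresentation_of_finite R M
  (IsLocalizedModule.iso p.primeCompl
    (LocalizedModule.map p.primeCompl (M := M) (N := N))).extendScalarsOfIsLocalization
      p.primeCompl (Localization.AtPrime p)

theorem main :
    (LocCoh.HasSk 1 R N → LocCoh.HasSk 1 R (M →ₗ[R] N)) ∧
    (LocCoh.HasSk 2 R N → LocCoh.HasSk 2 R (M →ₗ[R] N)) := by
  constructor
  · intro h p hp
    have hdep : LocCoh.depth (Localization.AtPrime p) (LocalizedModule p.primeCompl (M →ₗ[R] N)) =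
        LocCoh.depth (Localization.AtPrime p) (LocalizedModule p.primeCompl M →ₗ[Localization.AtPrime p]
        LocalizedModule p.primeCompl N) :=
      Groth.Agent.H26.DepthQuot.idealDepth_congr _ (e R M N p)
    rw [hdep, Module.supportDim_eq_of_equiv (e R M N p)]
    exact key1 _ _ _ (by exact_mod_cast h p)
  · intro h p hp
    have hdep : LocCoh.depth (Localization.AtPrime p) (LocalizedModule p.primeCompl (M →ₗ[R] N)) =
        LocCoh.depth (Localization.AtPrime p) (LocalizedModule p.primeCompl M →ₗ[Localization.AtPrime p]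
        LocalizedModule p.primeCompl N) :=
      Groth.Agent.H26.DepthQuot.idealDepth_congr _ (e R M N p)
    rw [hdep, Module.supportDim_eq_of_equiv (e R M N p)]
    exact key2 _ _ _ (by exact_mod_cast h p)

end glob

end Groth.Agent.H34.SkHom
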