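import Mathlib

set_option autoImplicit false

namespace Groth.Agent.H34.SplitAlg

universe u

open Polynomial TensorProduct

theorem adjoinRoot_of_injective {R : Type u} [CommRing R] {f : R[X]} (hf : f.Monic)
    (hd : 0 < f.natDegree) : Function.Injective (algebraMap R (AdjoinRoot f)) := by
  rw [injective_iff_map_eq_zero]
  intro a ha
  rw [AdjoinRoot.algebraMap_eq, AdjoinRoot.of, RingHom.comp_apply, AdjoinRoot.mk_eq_zero] at ha
  by_contra h0
  exact hf.not_dvd_of_natDegree_lt (by rwa [Ne, C_eq_zero]) (by rw [natDegree_C]; exact hd) ha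

theorem exists_split : ∀ (n : ℕ) (R : Type u) [CommRing R] (f : R[X]), f.Monic →
    f.natDegree = n →
    ∃ (R' : Type u) (_ : CommRing R') (_ : Algebra R R'), Module.Finite R R' ∧ Module.Free R R' ∧
      Function.Injective (algebraMap R R') ∧
      ∃ α : Fin n → R', f.map (algebraMap R R') = ∏ j, (X - C (α j)) := by
  intro n
  induction n with
  | zero =>
    intro R _ f hf hn
    refine ⟨R, inferInstance, Algebra.id R, inferInstance, inferInstance,
      Function.injective_id, Fin.elim0, ?_⟩
    rw [(Polynomial.Monic.natDegree_eq_zero hf).mp hn]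
    simp
  | succ n ih =>
    intro R _ f hf hn
    have hnt : Nontrivial R := by
      by_contra h
      rw [not_nontrivial_iff_subsingleton] at h
      have : f = 0 := Subsingleton.elim _ _
      simp [this] at hn
    have hfin := hf.finite_adjoinRoot
    have hfree := hf.free_adjoinRoot
    have hinj := adjoinRoot_of_injective hf (by omega)
    have hnt₁ : Nontrivial (AdjoinRoot f) := hinj.nontrivial
    have hroot : IsRoot (f.map (algebraMap R (AdjoinRoot f))) (AdjoinRoot.root f) := by
      rw [AdjoinRoot.algebraMap_eq]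
      exact AdjoinRoot.isRoot_root f
    have hfg : (X - C (AdjoinRoot.root f)) *
        (f.map (algebraMap R (AdjoinRoot f)) /ₘ (X - C (AdjoinRoot.root f))) =
        f.map (algebraMap R (AdjoinRoot f)) := mul_divByMonic_eq_iff_isRoot.mpr hroot
    have hf₁ : (f.map (algebraMap R (AdjoinRoot f))).Monic := hf.map _
    have hg : (f.map (algebraMap R (AdjoinRoot f)) /ₘ (X - C (AdjoinRoot.root f))).Monic :=
      Monic.of_mul_monic_left (monic_X_sub_C (AdjoinRoot.root f)) (hfg.symm ▸ hf₁)
    have hgdeg : (f.map (algebraMap R (AdjoinRoot f)) /ₘ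
        (X - C (AdjoinRoot.root f))).natDegree = n := by
      rw [natDegree_divByMonic _ (monic_X_sub_C (AdjoinRoot.root f)), hf.natDegree_map,
        natDegree_X_sub_C, hn]
      rfl
    obtain ⟨R₂, iR₂, aR₂, h2fin, h2free, h2inj, β, hβ⟩ := ih (AdjoinRoot f) _ hg hgdeg
    let alg : Algebra R R₂ :=
      ((algebraMap (AdjoinRoot f) R₂).comp (algebraMap R (AdjoinRoot f))).toAlgebra
    have tower : IsScalarTower R (AdjoinRoot f) R₂ := IsScalarTower.of_algebraMap_eq fun _ => rfl
    refine ⟨R₂, iR₂, alg, Module.Finite.trans (AdjoinRoot f) R₂,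
      Module.Free.trans (S := AdjoinRoot f), ?_,
      Fin.cons (algebraMap (AdjoinRoot f) R₂ (AdjoinRoot.root f)) β, ?_⟩
    · show Function.Injective
        ((algebraMap (AdjoinRoot f) R₂).comp (algebraMap R (AdjoinRoot f)))
      rw [RingHom.coe_comp]
      exact h2inj.comp hinj
    · have h1 : f.map (algebraMap R R₂) =
          (f.map (algebraMap R (AdjoinRoot f))).map (algebraMap (AdjoinRoot f) R₂) := by
        rw [Polynomial.map_map]
        rfl
      rw [h1, ← hfg, Polynomial.map_mul, hβ, Fin.prod_univ_succ]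
      simp [Fin.cons_zero, Fin.cons_succ]

theorem main (R S : Type u) [CommRing R] [CommRing S] [Algebra R S] [Module.Finite R S] :
    ∃ (R' : Type u) (_ : CommRing R') (_ : Algebra R R'), Module.Finite R R' ∧ Module.Free R R' ∧
      Function.Injective (algebraMap R R') ∧
      ∃ (n : ℕ) (d : Fin n → ℕ) (α : (i : Fin n) → Fin (d i) → R')
        (φ : MvPolynomial (Fin n) R' →ₐ[R'] R' ⊗[R] S), Function.Surjective φ ∧
          ∀ i, φ (∏ j, (MvPolynomial.X i - MvPolynomial.C (α i j))) = 0 := by
  obtain ⟨n, s, hs⟩ := Module.Finite.exists_fin (R := R) (M := S)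
  have hint : ∀ i, IsIntegral R (s i) := fun i => IsIntegral.of_finite R (s i)
  choose Pi hPim hPi0 using hint
  have hPm : (∏ i, Pi i).Monic := monic_prod_of_monic _ _ fun i _ => hPim i
  have hP0 : ∀ i, aeval (s i) (∏ i, Pi i) = 0 := fun i => by
    apply aeval_eq_zero_of_dvd_aeval_eq_zero (Finset.dvd_prod_of_mem _ (Finset.mem_univ i))
    rw [aeval_def]
    exact hPi0 i
  obtain ⟨R', iR', aR', hfin, hfree, hinj, α, hα⟩ :=
    exists_split (∏ i, Pi i).natDegree R (∏ i, Pi i) hPm rfl
  refine ⟨R', iR', aR', hfin, hfree, hinj, n, fun _ => (∏ i, Pi i).natDegree, fun _ => α,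
    MvPolynomial.aeval (fun i => (1 : R') ⊗ₜ[R] s i), ?_, ?_⟩
  · rw [← AlgHom.range_eq_top, eq_top_iff]
    have key : ∀ x ∈ Submodule.span R (Set.range s), ∀ r' : R',
        r' ⊗ₜ[R] x ∈ (MvPolynomial.aeval (R := R') (fun i => (1 : R') ⊗ₜ[R] s i)).range := by
      intro x hx
      induction hx using Submodule.span_induction with
      | mem x hx =>
        obtain ⟨i, rfl⟩ := hx
        intro r'
        have h1 : r' ⊗ₜ[R] s i = r' • ((1 : R') ⊗ₜ[R] s i) := by
          rw [TensorProduct.smul_tmul', smul_eq_mul, mul_one]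
        rw [h1]
        have h2 : (1 : R') ⊗ₜ[R] s i ∈
            (MvPolynomial.aeval (R := R') (fun i => (1 : R') ⊗ₜ[R] s i)).range :=
          ⟨MvPolynomial.X i, by simp⟩
        exact Subalgebra.smul_mem _ h2 r'
      | zero =>
        intro r'
        rw [TensorProduct.tmul_zero]
        exact Subalgebra.zero_mem _
      | add x y _ _ hx hy =>
        intro r'
        rw [TensorProduct.tmul_add]
        exact Subalgebra.add_mem _ (hx r') (hy r')
      | smul a x _ hx =>
        intro r'
        rw [← TensorProduct.smul_tmul]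
        exact hx (a • r')
    rintro t -
    induction t using TensorProduct.induction_on with
    | zero => exact Subalgebra.zero_mem _
    | add x y hx hy => exact Subalgebra.add_mem _ hx hy
    | tmul r' x => exact key x (by rw [hs]; trivial) r'
  · intro i
    have h1 : aeval ((1 : R') ⊗ₜ[R] s i) ((∏ i, Pi i).map (algebraMap R R')) = 0 := by
      rw [aeval_map_algebraMap]
      have := Polynomial.aeval_algHom_apply
        (Algebra.TensorProduct.includeRight : S →ₐ[R] R' ⊗[R] S) (s i) (∏ i, Pi i)
      rw [Algebra.TensorProduct.includeRight_apply] at this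
      rw [this, hP0 i, map_zero]
    rw [hα, map_prod] at h1
    rw [map_prod]
    simpa using h1

end Groth.Agent.H34.SplitAlg
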