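import Mathlib

set_option autoImplicit false
universe u

namespace Groth.Agent.H34

open TensorProduct

variable {R : Type u} [CommRing R] (I : Ideal R)

/-- Coordinatewise reduction modulo `I`. -/
noncomputable def redPi (n : ℕ) : (Fin n → R) →ₗ[R] (Fin n → R ⧸ I) :=
  (Algebra.linearMap R (R ⧸ I)).compLeft (Fin n)

theorem redPi_apply (n : ℕ) (x : Fin n → R) (i : Fin n) :
    redPi I n x i = Ideal.Quotient.mk I (x i) := rfl

theorem redPi_surjective (n : ℕ) : Function.Surjective (redPi I n) := by
  intro y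
  refine ⟨fun i => (Ideal.Quotient.mk_surjective (y i)).choose, ?_⟩
  funext i
  rw [redPi_apply]
  exact (Ideal.Quotient.mk_surjective (y i)).choose_spec

theorem ker_redPi (n : ℕ) :
    LinearMap.ker (redPi I n) = I • (⊤ : Submodule R (Fin n → R)) := by
  classical
  apply le_antisymm
  · intro x hx
    rw [LinearMap.mem_ker] at hx
    have hxi : ∀ i, x i ∈ I := fun i => by
      have := congrFun hx i
      rw [redPi_apply] at this
      exact Ideal.Quotient.eq_zero_iff_mem.mp this
    rw [pi_eq_sum_univ x]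
    exact Submodule.sum_mem _ (fun i _ => Submodule.smul_mem_smul (hxi i) Submodule.mem_top)
  · apply Submodule.smul_le.mpr
    intro r hr x _
    rw [LinearMap.mem_ker]
    funext i
    rw [redPi_apply]
    exact Ideal.Quotient.eq_zero_iff_mem.mpr (I.mul_mem_right _ hr)

theorem exists_isStablyFree_lift (hI : I ≤ Ideal.jacobson (⊥ : Ideal R)) (E : Type u)
    [AddCommGroup E] [Module (R ⧸ I) E]
    [Module.Finite (R ⧸ I) E] [Module.IsStablyFree (R ⧸ I) E] :
    ∃ (M : Type u) (_ : AddCommGroup M) (_ : Module R M), Module.Finite R M ∧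
      Module.IsStablyFree R M ∧ Nonempty ((R ⧸ I) ⊗[R] M ≃ₗ[R ⧸ I] E) := by
  classical
  by_cases htriv : Subsingleton (R ⧸ I)
  · have : Subsingleton E := Module.subsingleton (R ⧸ I) E
    refine ⟨PUnit, inferInstance, inferInstance, inferInstance, inferInstance, ⟨?_⟩⟩
    have : Subsingleton ((R ⧸ I) ⊗[R] PUnit.{u + 1}) := Module.subsingleton (R ⧸ I) _
    exact
      { toFun := fun _ => 0
        map_add' := fun _ _ => by simp
        map_smul' := fun _ _ => by simp
        invFun := fun _ => 0
        left_inv := fun _ => Subsingleton.elim _ _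
        right_inv := fun _ => Subsingleton.elim _ _ }
  · rw [not_subsingleton_iff_nontrivial] at htriv
    obtain ⟨N, _, _, _, _, hfree⟩ := Module.IsStablyFree.exist_free_prod (R ⧸ I) E
    obtain ⟨a, ⟨φN⟩⟩ : ∃ a : ℕ, Nonempty (N ≃ₗ[R ⧸ I] (Fin a → R ⧸ I)) :=
      ⟨_, ⟨(Module.finBasis (R ⧸ I) N).equivFun⟩⟩
    obtain ⟨b, ⟨φEN⟩⟩ : ∃ b : ℕ, Nonempty ((E × N) ≃ₗ[R ⧸ I] (Fin b → R ⧸ I)) :=
      ⟨_, ⟨(Module.finBasis (R ⧸ I) (E × N)).equivFun⟩⟩
    let _ : Module R E := Module.compHom E (Ideal.Quotient.mk I)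
    have : IsScalarTower R (R ⧸ I) E := IsScalarTower.of_algebraMap_smul (fun r x => rfl)
    let eb : (Fin a → R ⧸ I) →ₗ[R ⧸ I] (Fin b → R ⧸ I) :=
      φEN.toLinearMap ∘ₗ LinearMap.inr (R ⧸ I) E N ∘ₗ φN.symm.toLinearMap
    let pb : (Fin b → R ⧸ I) →ₗ[R ⧸ I] (Fin a → R ⧸ I) :=
      φN.toLinearMap ∘ₗ LinearMap.snd (R ⧸ I) E N ∘ₗ φEN.symm.toLinearMap
    let qb : (Fin b → R ⧸ I) →ₗ[R ⧸ I] E :=
      LinearMap.fst (R ⧸ I) E N ∘ₗ φEN.symm.toLinearMap
    have hpe : ∀ z, pb (eb z) = z := by
      intro z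
      simp [pb, eb]
    have hqe : ∀ z, qb (eb z) = 0 := by
      intro z
      simp [qb, eb]
    have hq_surj : Function.Surjective qb := by
      intro x
      refine ⟨φEN (x, 0), ?_⟩
      simp [qb]
    have hq_ker : ∀ w, qb w = 0 → ∃ z, eb z = w := by
      intro w hw
      refine ⟨φN (φEN.symm w).2, ?_⟩
      have h1 : (φEN.symm w).1 = 0 := hw
      have h2 : ((0 : E), (φEN.symm w).2) = φEN.symm w := by
        rw [← h1]
      simp only [eb, LinearMap.comp_apply, LinearEquiv.coe_coe, LinearEquiv.symm_apply_apply,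
        LinearMap.inr_apply]
      rw [h2, LinearEquiv.apply_symm_apply]
    obtain ⟨e, he⟩ := Module.projective_lifting_property (redPi I b)
      ((eb.restrictScalars R) ∘ₗ redPi I a) (redPi_surjective I b)
    obtain ⟨p, hp⟩ := Module.projective_lifting_property (redPi I a)
      ((pb.restrictScalars R) ∘ₗ redPi I b) (redPi_surjective I a)
    have he' : ∀ y, redPi I b (e y) = eb (redPi I a y) := fun y => LinearMap.congr_fun he y
    have hp' : ∀ x, redPi I a (p x) = pb (redPi I b x) := fun x => LinearMap.congr_fun hp x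
    let u : (Fin a → R) →ₗ[R] (Fin a → R) := p ∘ₗ e
    have hu : ∀ y, redPi I a (u y) = redPi I a y := by
      intro y
      show redPi I a (p (e y)) = redPi I a y
      rw [hp', he', hpe]
    have hu_surj : Function.Surjective u := by
      have hle : (⊤ : Submodule R (Fin a → R)) ≤
          LinearMap.range u ⊔ I • (⊤ : Submodule R (Fin a → R)) := by
        intro y _
        have h1 : y - u y ∈ I • (⊤ : Submodule R (Fin a → R)) := by
          rw [← ker_redPi, LinearMap.mem_ker, map_sub, hu y, sub_self]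
        have h2 : y = u y + (y - u y) := by abel
        rw [h2]
        exact Submodule.add_mem_sup ⟨y, rfl⟩ h1
      have h3 := Submodule.le_of_le_smul_of_le_jacobson_bot Module.Finite.fg_top hI hle
      rw [← LinearMap.range_eq_top]
      exact top_le_iff.mp h3
    have hu_inj : Function.Injective u :=
      OrzechProperty.injective_of_surjective_endomorphism u hu_surj
    let uE : (Fin a → R) ≃ₗ[R] (Fin a → R) := LinearEquiv.ofBijective u ⟨hu_inj, hu_surj⟩
    have huE : ∀ y, uE.symm (p (e y)) = y := fun y => uE.symm_apply_apply y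
    let ψ : (Fin b → R) →ₗ[R] ((Fin b → R) ⧸ LinearMap.range e) × (Fin a → R) :=
      LinearMap.prod (LinearMap.range e).mkQ (uE.symm.toLinearMap ∘ₗ p)
    have hψ_inj : Function.Injective ψ := by
      rw [← LinearMap.ker_eq_bot, LinearMap.ker_eq_bot']
      intro x hx
      have h1 : (LinearMap.range e).mkQ x = 0 := congrArg Prod.fst hx
      have h2 : uE.symm (p x) = 0 := congrArg Prod.snd hx
      rw [Submodule.mkQ_apply, Submodule.Quotient.mk_eq_zero] at h1
      obtain ⟨y, rfl⟩ := h1
      rw [huE] at h2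
      rw [h2, map_zero]
    have hψ_surj : Function.Surjective ψ := by
      rintro ⟨m, y⟩
      obtain ⟨x₀, rfl⟩ := Submodule.mkQ_surjective _ m
      refine ⟨x₀ - e (uE.symm (p x₀)) + e y, ?_⟩
      have hm : ∀ y', (LinearMap.range e).mkQ (e y') = 0 := fun y' => by
        rw [Submodule.mkQ_apply, Submodule.Quotient.mk_eq_zero]
        exact ⟨y', rfl⟩
      apply Prod.ext
      · show (LinearMap.range e).mkQ (x₀ - e (uE.symm (p x₀)) + e y) = (LinearMap.range e).mkQ x₀
        rw [map_add, map_sub, hm, hm, sub_zero, add_zero]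
      · show uE.symm (p (x₀ - e (uE.symm (p x₀)) + e y)) = y
        rw [map_add, map_sub, map_add, map_sub, huE, huE]
        abel
    let ψE : (Fin b → R) ≃ₗ[R] ((Fin b → R) ⧸ LinearMap.range e) × (Fin a → R) :=
      LinearEquiv.ofBijective ψ ⟨hψ_inj, hψ_surj⟩
    have hfreeM : Module.Free R (((Fin b → R) ⧸ LinearMap.range e) × (Fin a → R)) :=
      Module.Free.of_equiv ψE
    have hsf : Module.IsStablyFree R ((Fin b → R) ⧸ LinearMap.range e) :=
      Module.IsStablyFree.of_free_prod R _ (Fin a → R)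
    let G : (Fin b → R) →ₗ[R] E := (qb.restrictScalars R) ∘ₗ redPi I b
    have hG : LinearMap.range e ≤ LinearMap.ker G := by
      rintro _ ⟨y, rfl⟩
      rw [LinearMap.mem_ker]
      show qb (redPi I b (e y)) = 0
      rw [he', hqe]
    let g : ((Fin b → R) ⧸ LinearMap.range e) →ₗ[R] E := (LinearMap.range e).liftQ G hG
    have hg_mk : ∀ x, g ((LinearMap.range e).mkQ x) = qb (redPi I b x) := fun x => rfl
    have hg_surj : Function.Surjective g := by
      intro x
      obtain ⟨w, rfl⟩ := hq_surj x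
      obtain ⟨v, rfl⟩ := redPi_surjective I b w
      exact ⟨(LinearMap.range e).mkQ v, hg_mk v⟩
    have hker : LinearMap.ker g =
        I • (⊤ : Submodule R ((Fin b → R) ⧸ LinearMap.range e)) := by
      apply le_antisymm
      · intro m hm
        obtain ⟨x, rfl⟩ := Submodule.mkQ_surjective _ m
        rw [LinearMap.mem_ker, hg_mk] at hm
        obtain ⟨z, hz⟩ := hq_ker _ hm
        obtain ⟨y, rfl⟩ := redPi_surjective I a z
        have h3 : x - e y ∈ I • (⊤ : Submodule R (Fin b → R)) := by
          rw [← ker_redPi, LinearMap.mem_ker, map_sub, he', hz, sub_self]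
        have h5 : (LinearMap.range e).mkQ x = (LinearMap.range e).mkQ (x - e y) := by
          rw [map_sub]
          have : (LinearMap.range e).mkQ (e y) = 0 := by
            rw [Submodule.mkQ_apply, Submodule.Quotient.mk_eq_zero]
            exact ⟨y, rfl⟩
          rw [this, sub_zero]
        rw [h5]
        have h6 : Submodule.map (LinearMap.range e).mkQ (I • (⊤ : Submodule R (Fin b → R))) ≤
            I • (⊤ : Submodule R ((Fin b → R) ⧸ LinearMap.range e)) := by
          rw [Submodule.map_smul'']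
          exact Submodule.smul_mono le_rfl le_top
        exact h6 ⟨_, h3, rfl⟩
      · apply Submodule.smul_le.mpr
        intro r hr m _
        rw [LinearMap.mem_ker, map_smul]
        show (Ideal.Quotient.mk I r) • g m = 0
        rw [Ideal.Quotient.eq_zero_iff_mem.mpr hr, zero_smul]
    refine ⟨(Fin b → R) ⧸ LinearMap.range e, inferInstance, inferInstance, inferInstance, hsf, ⟨?_⟩⟩
    let e1 : ((R ⧸ I) ⊗[R] ((Fin b → R) ⧸ LinearMap.range e)) ≃ₗ[R]
        ((Fin b → R) ⧸ LinearMap.range e) ⧸
          (I • (⊤ : Submodule R ((Fin b → R) ⧸ LinearMap.range e))) :=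
      TensorProduct.quotTensorEquivQuotSMul _ I
    let e2 := Submodule.quotEquivOfEq _ _ hker.symm
    let e3 := g.quotKerEquivOfSurjective hg_surj
    exact (e1.trans (e2.trans e3)).extendScalarsOfSurjective Ideal.Quotient.mk_surjective

end Groth.Agent.H34
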