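import Groth.Prelude.Def_C1
import Groth.Prelude.Def_Pic
import Groth.Agent.H95.SecOrd
import Groth.Agent.H17.ExtFlat.LocGen
import Groth.Agent.H88.PicPn

/-!
# A section of an invertible module generating every stalk is a free generator
-/

set_option autoImplicit false
set_option linter.style.haveILetI false
universe u
open CategoryTheory AlgebraicGeometry TopologicalSpace Opposite

namespace Groth.Agent.H34.SubGen

open Groth.Agent.H18.TensorGen (IsGen exists_isGen)
open Groth.Agent.H95.AssGen (GenAt isUnit_germ_of_genAt)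
open Groth.Agent.H8 (res_res res_smul)

variable {Y : Scheme.{u}}

theorem isGen_of_genAt {M : Y.Modules} (hM : PicF.IsInvertible M) {W : Y.Opens} (μ : Γ(M, W))
    (h : ∀ y (hy : y ∈ W), GenAt M (M.presheaf.germ W y hy μ)) : IsGen M W μ := by
  refine Groth.Agent.H17.ExtFlat.isGen_of_locally M W μ (fun y hy => ?_)
  obtain ⟨V, τ, hyV, hτ⟩ := exists_isGen hM y
  obtain ⟨g, hg⟩ := (hτ (V ⊓ W) inf_le_left).2
    (M.presheaf.map (homOfLE (inf_le_right : V ⊓ W ≤ W)).op μ)
  have hg' : M.presheaf.map (homOfLE (inf_le_right : V ⊓ W ≤ W)).op μ =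
      g • M.presheaf.map (homOfLE (inf_le_left : V ⊓ W ≤ V)).op τ := hg.symm
  have hyP : y ∈ V ⊓ W := ⟨hyV, hy⟩
  have hu := isUnit_germ_of_genAt hτ μ g hg' y hyV hy hyP (h y hy)
  refine ⟨Y.basicOpen g, (Y.basicOpen_le g).trans inf_le_right,
    (Scheme.mem_basicOpen Y g y hyP).mpr hu, ?_⟩
  have hunit : IsUnit (Y.presheaf.map (homOfLE (Y.basicOpen_le g)).op g) :=
    Y.toRingedSpace.isUnit_res_basicOpen g
  have hτ' : IsGen M (Y.basicOpen g)
      (M.presheaf.map (homOfLE ((Y.basicOpen_le g).trans inf_le_left)).op τ) := hτ.res _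
  have key := Groth.Agent.H88.PicPn.IsGen.unit_smul hτ' _ hunit
  have e := congrArg (M.presheaf.map (homOfLE (Y.basicOpen_le g)).op) hg'
  rw [res_res, res_smul, res_res] at e
  rw [e]
  exact key

end Groth.Agent.H34.SubGen
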