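import Groth.Prelude.Def_C1
import Groth.Prelude.Def_Pic
import Groth.Prelude.Def_Omega4
import Groth.Agent.H95.SecOrd
import Groth.Agent.H39.PullTrack5
import Groth.Agent.H18.AmpleBasis

/-!
# The pullback of a free generator generates every stalk of the pullback module
-/

set_option autoImplicit false
set_option linter.style.haveILetI false
universe u
open CategoryTheory AlgebraicGeometry TopologicalSpace Opposite
open scoped TensorProduct

namespace Groth.Agent.H34.SubGen

open Groth.Agent.H18.TensorGen (IsGen exists_isGen)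
open Groth.Agent.H95.AssGen (GenAt)
open Groth.Agent.H39.PullTrack
open OmegaSh (pullSect)

variable {X Y : Scheme.{u}}

theorem genAt_pullSect (f : Y ⟶ X) {L : X.Modules} (hL : PicF.IsInvertible L) {V : X.Opens}
    {τ : Γ(L, V)} (hτ : IsGen L V τ) (y : Y) (hy : y ∈ f ⁻¹ᵁ V) :
    GenAt ((Scheme.Modules.pullback f).obj L)
      (((Scheme.Modules.pullback f).obj L).presheaf.germ (f ⁻¹ᵁ V) y hy (pullSect f L V τ)) := by
  haveI : L.IsQuasicoherent := Groth.Agent.H18.AmpleBasis.isQuasicoherent_of_isInvertible hL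
  intro t'
  obtain ⟨W, hyW, σ, rfl⟩ :=
    TopCat.Presheaf.exists_germ_eq ((Scheme.Modules.pullback f).obj L).presheaf t'
  obtain ⟨U, hU, hxU, hUV⟩ := exists_isAffineOpen_mem_and_subset (x := f y) (U := V) hy
  have hyWU : y ∈ W ⊓ f ⁻¹ᵁ U := ⟨hyW, hxU⟩
  obtain ⟨U', hU', hyU', hle⟩ :=
    exists_isAffineOpen_mem_and_subset (x := y) (U := W ⊓ f ⁻¹ᵁ U) hyWU
  have hle1 : U' ≤ f ⁻¹ᵁ U := hle.trans inf_le_right
  have hle2 : U' ≤ W := hle.trans inf_le_left
  letI := (f.appLE U U' hle1).hom.toAlgebra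
  obtain ⟨E, hE⟩ := exists_sectionsPullbackEquiv f L hU hU' hle1
  have hgen : ∀ z : Γ(Y, U') ⊗[Γ(X, U)] Γ(L, U), ∃ r : Γ(Y, U'),
      z = r ⊗ₜ[Γ(X, U)] (L.presheaf.map (homOfLE hUV).op τ) := by
    intro z
    induction z using TensorProduct.induction_on with
    | zero => exact ⟨0, (TensorProduct.zero_tmul _ _).symm⟩
    | tmul b x =>
      obtain ⟨a, ha⟩ := (hτ U hUV).2 x
      refine ⟨a • b, ?_⟩
      rw [← ha]
      exact (TensorProduct.smul_tmul a b _).symm
    | add z₁ z₂ h₁ h₂ =>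
      obtain ⟨r₁, rfl⟩ := h₁
      obtain ⟨r₂, rfl⟩ := h₂
      exact ⟨r₁ + r₂, (TensorProduct.add_tmul _ _ _).symm⟩
  obtain ⟨r, hr⟩ := hgen (E (((Scheme.Modules.pullback f).obj L).presheaf.map (homOfLE hle2).op σ))
  have h1 : ((Scheme.Modules.pullback f).obj L).presheaf.map (homOfLE hle2).op σ =
      r • pullSectLE f L U U' hle1 (L.presheaf.map (homOfLE hUV).op τ) := by
    apply E.injective
    rw [hr, map_smul, hE, TensorProduct.smul_tmul', smul_eq_mul, mul_one]
  refine ⟨Y.presheaf.germ U' y hyU' r, ?_⟩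
  rw [← TopCat.Presheaf.germ_res_apply ((Scheme.Modules.pullback f).obj L).presheaf
    (homOfLE hle2) y hyU' σ, h1, Mero.germ_smul]
  congr 1
  have e1 := pullSectLE_res_source f L (show U ≤ V from hUV) U' hle1 τ
  have e2 := pullSectLE_apply f L V U' (hle1.trans (fun _ hy => hUV hy)) τ
  exact (congrArg (((Scheme.Modules.pullback f).obj L).presheaf.germ U' y hyU')
    (e1.trans e2)).trans
    (TopCat.Presheaf.germ_res_apply ((Scheme.Modules.pullback f).obj L).presheaf
      (homOfLE (hle1.trans (fun _ hy => hUV hy) : U' ≤ f ⁻¹ᵁ V)) y hyU' _)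

end Groth.Agent.H34.SubGen
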