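import Groth.Agent.H34.SubGen
import Groth.Agent.H34.SubGenAt
import Groth.Agent.H22.PullGen

/-!
# The pullback of a free generator is a free generator of the pullback module
-/

set_option autoImplicit false
universe u
open CategoryTheory AlgebraicGeometry TopologicalSpace Opposite

namespace Groth.Agent.H34.SubGen

open Groth.Agent.H18.TensorGen (IsGen)
open OmegaSh (pullSect)

variable {X Y : Scheme.{u}}

theorem isGen_pullSect (f : Y ⟶ X) {L : X.Modules} (hL : PicF.IsInvertible L) {V : X.Opens}
    {τ : Γ(L, V)} (hτ : IsGen L V τ) :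
    IsGen ((Scheme.Modules.pullback f).obj L) (f ⁻¹ᵁ V) (pullSect f L V τ) :=
  isGen_of_genAt (Groth.Agent.H22.PullGen.isInvertible_pullback f hL) _
    (fun y hy => genAt_pullSect f hL hτ y hy)

end Groth.Agent.H34.SubGen
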