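import Groth.Agent.H34.SubPieces
import Groth.Agent.S1925
import Groth.Agent.S1918
import Groth.Agent.H95.C1Cap
import Groth.Agent.H34.KeyCIb

/-!
# `c₁(L) ∩ [Y]_{k+1} ∼ ι_*[Z(s)]_k` for a closed subscheme `ι : Y → X` (S1924)

Assembly: S1925 on `Y` computes `[Z(s)]_k` as `c₁(ι^*L) ∩ [Y]_{k+1}` with the rational sections
given by `s`; the dictionary (`secOrdAt_pullback_closedImmersion`) compares orders of rational
sections of `ι^*L` on `Y` with those of `L` on `X`, the discrepancy being the divisor of a rational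
function on each top-dimensional component of `Y`.
-/

set_option autoImplicit false
set_option linter.style.haveILetI false
universe u
open CategoryTheory AlgebraicGeometry TopologicalSpace Opposite

namespace Groth.Agent.H34.SubMain

open Groth.Agent.H34.SubPieces
open Groth.Agent.H34.KeyRel (finsum_eq_finsum_comp_of_support_subset_range divFun_closedImmersion)

variable {X Y : Scheme.{u}}

/-- `[Y]_k` computed on `X` and on `Y`. -/
theorem subschemeFun_closedImmersion (ι : Y ⟶ X) [IsClosedImmersion ι] (δ : X → ℤ) (k : ℤ)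
    (y : Y) :
    Cyc.subschemeFun δ k ι (ι y) = Cyc.subschemeFun (fun y => δ (ι y)) k (𝟙 Y) y := by
  have hinj : Function.Injective (ι : Y → X) := ι.isClosedEmbedding.injective
  unfold Cyc.subschemeFun
  have e1 : {z : Y | ι z = ι y} = {y} := by
    ext z
    simp [hinj.eq_iff]
  have e2 : {z : Y | (𝟙 Y : Y ⟶ Y) z = y} = {y} := by
    ext z
    simp
  rw [e1, e2]

theorem subschemeFun_eq_zero_of_notMem_range (ι : Y ⟶ X) (δ : X → ℤ) (k : ℤ) (x : X)
    (hx : x ∉ Set.range ι) : Cyc.subschemeFun δ k ι x = 0 := by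
  unfold Cyc.subschemeFun
  have e1 : {z : Y | ι z = x} = ∅ := by
    ext z
    simp only [Set.mem_setOf_eq, Set.mem_empty_iff_false, iff_false]
    exact fun h => hx ⟨z, h⟩
  rw [e1, finsum_mem_empty, ite_self]

theorem subschemeFun_ne_zero (δ : Y → ℤ) (k : ℤ) (y : Y)
    (h : Cyc.subschemeFun δ k (𝟙 Y) y ≠ 0) : δ y = k := by
  unfold Cyc.subschemeFun at h
  by_contra hne
  exact h (if_neg hne)

/-- Pointwise comparison of the divisor of a rational section of `ι^*L` on `Y` with the divisor of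
a rational section of `L` on `X`. -/
theorem secDivFun_closedImmersion (ι : Y ⟶ X) [IsClosedImmersion ι] (δ : X → ℤ) {L : X.Modules}
    (y : Y) (u : Cyc.secFibre ((Scheme.Modules.pullback ι).obj L) y) (v : Cyc.secFibre L (ι y))
    (g : X.residueField (ι y))
    (hg : ∀ (y' : Y) (h : y ⤳ y') (h' : ι y ⤳ ι y'),
      Cyc.secOrdAt ((Scheme.Modules.pullback ι).obj L) y y' h u =
        Cyc.secOrdAt L (ι y) (ι y') h' v + Cyc.ordAt (ι y') (ι y) h' g) (y' : Y) :
    Cyc.secDivFun (fun y => δ (ι y)) ((Scheme.Modules.pullback ι).obj L) y u y' =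
      Cyc.secDivFun δ L (ι y) v (ι y') + Cyc.divFun δ (ι y) g (ι y') := by
  classical
  have hind : Topology.IsInducing (ι : Y → X) := ι.isClosedEmbedding.isInducing
  unfold Cyc.secDivFun Cyc.divFun
  by_cases h : y ⤳ y' ∧ δ (ι y') + 1 = δ (ι y)
  · have h' : ι y ⤳ ι y' ∧ δ (ι y') + 1 = δ (ι y) := ⟨hind.specializes_iff.mpr h.1, h.2⟩
    rw [dif_pos h, dif_pos h', dif_pos h']
    exact hg y' h.1 h'.1
  · have h' : ¬ (ι y ⤳ ι y' ∧ δ (ι y') + 1 = δ (ι y)) := fun hc =>
      h ⟨hind.specializes_iff.mp hc.1, hc.2⟩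
    rw [dif_neg h, dif_neg h', dif_neg h', add_zero]

/-- S1924: `c₁(L) ∩ [Y]_{k+1} ∼ ι_*[Z(s)]_k`. -/
theorem main (X Y : Scheme.{u}) (δ : X → ℤ) (hX : Cyc.IsSetup X δ) (L : X.Modules)
    (hL : PicF.IsInvertible L) (ι : Y ⟶ X) [IsClosedImmersion ι] (k : ℤ)
    (hY : ∀ y : Y, δ (ι y) ≤ k + 1)
    (s : ((Scheme.Modules.pullback ι).obj L).presheaf.obj (Opposite.op ⊤))
    (hZ : ∀ y : Y, (((Scheme.Modules.pullback ι).obj L).presheaf.germ ⊤ y trivial) s ∈
      IsLocalRing.maximalIdeal (Y.presheaf.stalk y) •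
        (⊤ : Submodule (Y.presheaf.stalk y)
          (((Scheme.Modules.pullback ι).obj L).presheaf.stalk y)) → δ (ι y) ≤ k)
    (hreg : ∀ y : Y, δ (ι y) = k → Function.Injective (fun a : Y.presheaf.stalk y =>
      a • (((Scheme.Modules.pullback ι).obj L).presheaf.germ ⊤ y trivial) s))
    (v : (ξ : X) → Cyc.secFibre L ξ) (hv : ∀ ξ, v ξ ≠ 0) (γ : AlgebraicCycle X ℤ)
    (hγ : ⇑γ = Cyc.c1CapFun δ L (Cyc.subschemeFun δ (k + 1) ι) v) (ζ : AlgebraicCycle Y ℤ)
    (hζ : ⇑ζ = Cyc.zeroSectionFun (fun y => δ (ι y)) k ((Scheme.Modules.pullback ι).obj L) s) :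
    Cyc.RatEquiv δ k γ (AlgebraicCycle.map ι (fun y => δ (ι y)) δ ζ) := by
  classical
  have hinj : Function.Injective (ι : Y → X) := ι.isClosedEmbedding.injective
  have hdeg := Groth.Agent.H85.CycImm.residueDegree_eq_one ι (fun y => ι.stalkMap_surjective y)
  have hYs : Cyc.IsSetup Y (fun y => δ (ι y)) := isSetup_closedImmersion ι δ hX
  have hM : PicF.IsInvertible ((Scheme.Modules.pullback ι).obj L) :=
    Groth.Agent.H22.PullGen.isInvertible_pullback ι hL
  have h25 := Groth.Agent.S1925.result Y (fun y => δ (ι y)) hYs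
    ((Scheme.Modules.pullback ι).obj L) hM k hY s hZ hreg
  -- the rational sections given by `s`
  have hsb0 : ∀ y : Y, δ (ι y) = k + 1 →
      (Submodule.Quotient.mk ((((Scheme.Modules.pullback ι).obj L).presheaf.germ ⊤ y trivial) s) :
        Cyc.secFibre ((Scheme.Modules.pullback ι).obj L) y) ≠ 0 := by
    intro y hy h0
    have := hZ y ((Submodule.Quotient.mk_eq_zero _).mp h0)
    omega
  have hex : ∀ y : Y, ∃ g : X.residueField (ι y), g ≠ 0 ∧ (δ (ι y) = k + 1 →
      ∀ (y' : Y) (h : y ⤳ y') (h' : ι y ⤳ ι y'),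
        Cyc.secOrdAt ((Scheme.Modules.pullback ι).obj L) y y' h
          (Submodule.Quotient.mk
            ((((Scheme.Modules.pullback ι).obj L).presheaf.germ ⊤ y trivial) s)) =
        Cyc.secOrdAt L (ι y) (ι y') h' (v (ι y)) + Cyc.ordAt (ι y') (ι y) h' g) := by
    intro y
    by_cases hy : δ (ι y) = k + 1
    · obtain ⟨g, hg0, hg⟩ := secOrdAt_pullback_closedImmersion ι hL y _ (hsb0 y hy)
        (v (ι y)) (hv _)
      exact ⟨g, hg0, fun _ => hg⟩
    · exact ⟨1, one_ne_zero, fun h => absurd h hy⟩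
  choose g hg0 hg using hex
  set m : Y → ℤ := Cyc.subschemeFun (fun y => δ (ι y)) (k + 1) (𝟙 Y) with hm
  show Cyc.RatEquivZero δ k (γ - AlgebraicCycle.map ι (fun y => δ (ι y)) δ ζ)
  refine ⟨{y : Y // δ (ι y) = k + 1}, fun i => ι i.1, fun i => (g i.1) ^ (-(m i.1)),
    fun i => i.2, fun i => zpow_ne_zero _ (hg0 i.1), ?_, ?_⟩
  · intro x
    obtain ⟨U, hUo, hxU, hfin⟩ := locallyFinite_top_points ι δ hX k hY x
    refine ⟨U, hUo, hxU, ?_⟩
    have e : {i : {y : Y // δ (ι y) = k + 1} | (closure {ι i.1} ∩ U).Nonempty} ⊆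
        Subtype.val ⁻¹' {y : Y | δ (ι y) = k + 1 ∧ (closure {ι y} ∩ U).Nonempty} :=
      fun i hi => ⟨i.2, hi⟩
    exact (hfin.preimage Subtype.val_injective.injOn).subset e
  · intro x
    rw [Function.locallyFinsuppWithin.coe_sub, Pi.sub_apply]
    by_cases hx : x ∈ Set.range ι
    · obtain ⟨y', rfl⟩ := hx
      have hmap : AlgebraicCycle.map ι (fun y => δ (ι y)) δ ζ (ι y') = ζ y' :=
        Groth.Agent.S1918.map_apply_of_injective ι hinj hdeg (fun y => δ (ι y)) δ
          (fun y => rfl) ζ y'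
      have hγ1 : γ (ι y') =
          ∑ᶠ y : Y, m y * Cyc.secDivFun δ L (ι y) (v (ι y)) (ι y') := by
        rw [hγ]
        unfold Cyc.c1CapFun
        refine (finsum_eq_finsum_comp_of_support_subset_range (ι : Y → X) hinj
          (fun ξ => Cyc.subschemeFun δ (k + 1) ι ξ * Cyc.secDivFun δ L ξ (v ξ) (ι y'))
          ?_).trans ?_
        · intro ξ hξ
          by_contra hr
          apply hξ
          show Cyc.subschemeFun δ (k + 1) ι ξ * _ = 0
          rw [subschemeFun_eq_zero_of_notMem_range ι δ (k + 1) ξ hr, zero_mul]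
        · refine finsum_congr (fun y => ?_)
          show Cyc.subschemeFun δ (k + 1) ι (ι y) * _ = _
          rw [subschemeFun_closedImmersion ι δ (k + 1) y]
      have hζ1 : ζ y' = ∑ᶠ y : Y, m y * Cyc.secDivFun (fun y => δ (ι y))
          ((Scheme.Modules.pullback ι).obj L) y (Submodule.Quotient.mk
            ((((Scheme.Modules.pullback ι).obj L).presheaf.germ ⊤ y trivial) s)) y' := by
        rw [hζ, h25]
        rfl
      have hterm : ∀ y : Y, m y * Cyc.secDivFun (fun y => δ (ι y))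
          ((Scheme.Modules.pullback ι).obj L) y (Submodule.Quotient.mk
            ((((Scheme.Modules.pullback ι).obj L).presheaf.germ ⊤ y trivial) s)) y' =
          m y * Cyc.secDivFun δ L (ι y) (v (ι y)) (ι y') +
            m y * Cyc.divFun δ (ι y) (g y) (ι y') := by
        intro y
        by_cases hmy : m y = 0
        · simp [hmy]
        · have hy : δ (ι y) = k + 1 := subschemeFun_ne_zero (fun y => δ (ι y)) (k + 1) y hmy
          rw [secDivFun_closedImmersion ι δ y _ (v (ι y)) (g y) (hg y hy) y', mul_add]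
      obtain ⟨U, hUo, hxU, hfin⟩ := locallyFinite_top_points ι δ hX k hY (ι y')
      have hA : (Function.support fun y : Y =>
          m y * Cyc.secDivFun δ L (ι y) (v (ι y)) (ι y')).Finite := by
        refine hfin.subset (fun y hy => ?_)
        have h1 : m y ≠ 0 := left_ne_zero_of_mul hy
        have h2 : Cyc.secDivFun δ L (ι y) (v (ι y)) (ι y') ≠ 0 := right_ne_zero_of_mul hy
        have hsp : ι y ⤳ ι y' := by
          by_contra hn
          exact h2 (Groth.Agent.H95.C1Cap.secDivFun_eq_zero δ L _ _ _ hn)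
        exact ⟨subschemeFun_ne_zero (fun y => δ (ι y)) (k + 1) y h1, ι y',
          specializes_iff_mem_closure.mp hsp, hxU⟩
      have hB : (Function.support fun y : Y =>
          m y * Cyc.divFun δ (ι y) (g y) (ι y')).Finite := by
        refine hfin.subset (fun y hy => ?_)
        have h1 : m y ≠ 0 := left_ne_zero_of_mul hy
        have h2 : Cyc.divFun δ (ι y) (g y) (ι y') ≠ 0 := right_ne_zero_of_mul hy
        have hsp : ι y ⤳ ι y' := by
          by_contra hn
          exact h2 (Groth.Agent.H95.C1Cap.divFun_eq_zero δ _ _ _ hn)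
        exact ⟨subschemeFun_ne_zero (fun y => δ (ι y)) (k + 1) y h1, ι y',
          specializes_iff_mem_closure.mp hsp, hxU⟩
      have hR : ∑ᶠ i : {y : Y // δ (ι y) = k + 1},
          Cyc.divFun δ (ι i.1) ((g i.1) ^ (-(m i.1))) (ι y') =
          - ∑ᶠ y : Y, m y * Cyc.divFun δ (ι y) (g y) (ι y') := by
        rw [← finsum_neg_distrib]
        rw [finsum_eq_finsum_comp_of_support_subset_range
          (Subtype.val : {y : Y // δ (ι y) = k + 1} → Y) Subtype.val_injective
          (fun y => -(m y * Cyc.divFun δ (ι y) (g y) (ι y'))) ?_]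
        · refine finsum_congr (fun i => ?_)
          rw [Groth.Agent.H95.C1Cap.divFun_zpow δ _ (hg0 i.1) _ _, neg_mul]
        · intro y hy
          have h1 : m y ≠ 0 := by
            intro h0
            apply hy
            simp [h0]
          exact ⟨⟨y, subschemeFun_ne_zero (fun y => δ (ι y)) (k + 1) y h1⟩, rfl⟩
      rw [hγ1, hmap, hζ1, finsum_congr hterm, finsum_add_distrib hA hB, hR]
      ring
    · have h1 : γ x = 0 := by
        rw [hγ]
        unfold Cyc.c1CapFun
        refine finsum_eq_zero_of_forall_eq_zero (fun ξ => ?_)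
        by_cases hξ : ξ ∈ Set.range ι
        · have : ¬ ξ ⤳ x := fun hsp =>
            hx (Groth.Agent.S1918.mem_range_of_specializes ι hξ hsp)
          rw [Groth.Agent.H95.C1Cap.secDivFun_eq_zero δ L ξ _ x this, mul_zero]
        · rw [subschemeFun_eq_zero_of_notMem_range ι δ (k + 1) ξ hξ, zero_mul]
      have h2 := Groth.Agent.S1918.map_apply_of_notMem_range ι (fun y => δ (ι y)) δ ζ x hx
      rw [h1, h2, sub_zero]
      symm
      refine finsum_eq_zero_of_forall_eq_zero (fun i => ?_)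
      exact Groth.Agent.H95.C1Cap.divFun_eq_zero δ _ _ x (fun hsp =>
        hx (Groth.Agent.S1918.mem_range_of_specializes ι ⟨i.1, rfl⟩ hsp))

end Groth.Agent.H34.SubMain
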