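import Groth.Agent.H34.SubIsGen
import Groth.Agent.H35.StubSub_SD
import Groth.Agent.H37.StubSub_SA
import Groth.Agent.H44.StubSub_SC

/-!
# Pieces for S1924 (squad #4): adapter re-exporting the providers' theorems

* (SA) `isSetup_closedImmersion` — helper37 (`Groth.Agent.H37.StubSub_SA`)
* (SB) `isGen_pullSect` — `Groth.Agent.H34.SubGen`
* (SC) `secOrdAt_pullback_closedImmersion` — helper44 (`Groth.Agent.H44.StubSub_SC`) + (SB)
* (SD) `locallyFinite_top_points` — helper35 (`Groth.Agent.H35.StubSub_SD`)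
-/

set_option autoImplicit false
universe u
open CategoryTheory AlgebraicGeometry TopologicalSpace Opposite

namespace Groth.Agent.H34.SubPieces

open Groth.Agent.H18.TensorGen (IsGen exists_isGen)
open OmegaSh (pullSect)

variable {X Y : Scheme.{u}}

/-- (SA) The setup restricts to a closed subscheme. -/
theorem isSetup_closedImmersion (ι : Y ⟶ X) [IsClosedImmersion ι] (δ : X → ℤ)
    (hX : Cyc.IsSetup X δ) : Cyc.IsSetup Y (fun y => δ (ι y)) :=
  Groth.Agent.H37.StubSub_SA.isSetup_closedImmersion ι δ hX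

/-- (SC) The dictionary for orders of rational sections of `ι^* L` along a closed immersion. -/
theorem secOrdAt_pullback_closedImmersion (ι : Y ⟶ X) [IsClosedImmersion ι] {L : X.Modules}
    (hL : PicF.IsInvertible L) (y : Y)
    (u : Cyc.secFibre ((Scheme.Modules.pullback ι).obj L) y) (hu : u ≠ 0)
    (v : Cyc.secFibre L (ι y)) (hv : v ≠ 0) :
    ∃ g : X.residueField (ι y), g ≠ 0 ∧ ∀ (y' : Y) (h : y ⤳ y') (h' : ι y ⤳ ι y'),
      Cyc.secOrdAt ((Scheme.Modules.pullback ι).obj L) y y' h u =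
        Cyc.secOrdAt L (ι y) (ι y') h' v + Cyc.ordAt (ι y') (ι y) h' g :=
  Groth.Agent.H44.StubSub_SC.secOrdAt_pullback_closedImmersion_of ι hL
    (fun _ _ h => Groth.Agent.H34.SubGen.isGen_pullSect ι hL h) y u hu v hv

/-- (SD) The points of top dimension of a closed subscheme form a locally finite family. -/
theorem locallyFinite_top_points (ι : Y ⟶ X) [IsClosedImmersion ι] (δ : X → ℤ)
    (hX : Cyc.IsSetup X δ) (k : ℤ) (hY : ∀ y : Y, δ (ι y) ≤ k + 1) (x : X) :
    ∃ U : Set X, IsOpen U ∧ x ∈ U ∧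
      {y : Y | δ (ι y) = k + 1 ∧ (closure {ι y} ∩ U).Nonempty}.Finite :=
  Groth.Agent.H35.StubSub_SD.locallyFinite_top_points ι δ hX k hY x

end Groth.Agent.H34.SubPieces
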