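import Mathlib
import Groth.Prelude.Def_Tame
import Groth.Agent.H34.TameNorm
import Groth.Agent.H32.FinExtEmb
import Groth.Agent.H71.TameP35
import Groth.Agent.H94.TameP7
import Groth.Agent.H87.TameP6

set_option autoImplicit false
set_option linter.style.haveILetI false

/-!
# Norm of the local tame symbols of a finite extension (S1849), global part
-/

namespace Groth.Agent.H34.TameNorm

open IsLocalRing CycAlg Function
open Groth.Agent.H34.TameLoc Groth.Agent.H34.TameCmp Groth.Agent.H34.TameCL
open Groth.Agent.H34.TameRep Groth.Agent.H34.TameRef Groth.Agent.H34.TameLaws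
open Groth.Agent.H34.Euclid1 Groth.Agent.H34.RelLen
open Groth.Agent.H87.TameP6

universe u

section Global

variable {A : Type u} [CommRing A] [IsLocalRing A] [IsNoetherianRing A]
variable {B : Type u} [CommRing B] [Algebra A B]
variable {Q : Type u} [CommRing Q] [Algebra A Q] (M : Submonoid A) [IsLocalization M Q]

include M in
theorem main_aux (hA : ringKrullDim A = 1) (hM : M ≤ nonZeroDivisors A)
    (hB : IsFinExt A B (maximalIdeal A))
    (hass : maximalIdeal A ∉ associatedPrimes A B)
    [hloc : ∀ q : MaximalSpectrum B, IsLocalHom (algebraMap A (Localization.AtPrime q.asIdeal))]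
    (j : B →ₐ[A] Q) (hj : Injective j) (a b : A) (ha : a ∈ nonZeroDivisors A)
    (hb : b ∈ nonZeroDivisors A) (hau : IsUnit (algebraMap A Q a))
    (hbu : IsUnit (algebraMap A Q b)) (x : A) (hxM : x ∈ M) (hxm : x ∈ maximalIdeal A) :
    tameSymbol A a b = ∏ᶠ q : MaximalSpectrum B, Algebra.norm (ResidueField A)
      (tameSymbol (Localization.AtPrime q.asIdeal)
        (algebraMap A (Localization.AtPrime q.asIdeal) a)
        (algebraMap A (Localization.AtPrime q.asIdeal) b)) := by
  haveI : Module.Finite A B := hB.2.1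
  obtain ⟨E, hBE, hEfg, hmono⟩ := Euclid1.main M hA hM 2 [algebraMap A Q a, algebraMap A Q b] rfl
    j.range (fg_range j) (by
      intro α hα
      simp only [List.mem_cons, List.not_mem_nil, or_false] at hα
      rcases hα with rfl | rfl
      · exact ⟨Subalgebra.algebraMap_mem _ _, hau⟩
      · exact ⟨Subalgebra.algebraMap_mem _ _, hbu⟩)
  haveI : Module.Finite A E := Module.Finite.of_fg hEfg
  haveI hlocE : ∀ q'' : MaximalSpectrum E,
      IsLocalHom (algebraMap A (Localization.AtPrime q''.asIdeal)) :=
    fun q'' => isLocalHom_of_finite q''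
  have hc : algebraMap A Q a ∈ [algebraMap A Q a, algebraMap A Q b] := by simp
  have hd : algebraMap A Q b ∈ [algebraMap A Q a, algebraMap A Q b] := by simp
  rw [tameSymbol_eq_finprod M hEfg hmono hA hM ha hb hc hd]
  -- the `B`-algebra structure on `E`
  let j' : B →ₐ[A] E := j.codRestrict E (fun y => hBE (AlgHom.mem_range_self j y))
  letI algBE : Algebra B E := j'.toRingHom.toAlgebra
  haveI : IsScalarTower A B E := IsScalarTower.of_algebraMap_eq (fun r => (j'.commutes r).symm)
  have hinj : Injective (algebraMap B E) := by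
    intro y₁ y₂ h
    apply hj
    exact congrArg Subtype.val h
  haveI : IsNoetherianRing B := IsNoetherianRing.of_finite A B
  haveI : Module.Finite B E := Module.Finite.of_restrictScalars_finite A B E
  haveI : Algebra.IsIntegral B E := Algebra.IsIntegral.of_finite B E
  haveI : Finite (MaximalSpectrum B) := finite_maximalSpectrum (A := A) B
  haveI : Finite (MaximalSpectrum E) := finite_maximalSpectrum (A := A) E
  rw [← Groth.Agent.H94.TameP7.finprod_fiberwise_maxSpec (B := B) (E := E)]
  apply finprod_congr
  intro q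
  symm
  obtain ⟨c, hcM, hcE⟩ := exists_smul_mem_bot M (Subalgebra.toSubmodule E) hEfg
  have hcx : c * x ∈ nonZeroDivisors A := mul_mem (hM hcM) (hM hxM)
  have hcxm : c * x ∈ maximalIdeal A := Ideal.mul_mem_left _ _ hxm
  have hcxB := Groth.Agent.H71.TameP35.nzd_of_not_mem_associatedPrimes hA hass (c * x) hcx
  have hdim := Groth.Agent.H71.TameP35.ringKrullDim_localization_eq_one hA (c * x) hcxm hcxB q
  have hxq : algebraMap A B (c * x) ∈ q.asIdeal := by
    rw [← Ideal.mem_comap, Groth.Agent.H87.LenFinsum.comap_eq_maximalIdeal q]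
    exact hcxm
  have hxE : ∀ e : E, ∃ b' : B, algebraMap B E b' = (algebraMap A B (c * x)) • e := by
    intro e
    obtain ⟨z, hz⟩ := hcE e.1 e.2
    refine ⟨algebraMap A B (x * z), ?_⟩
    apply Subtype.ext
    have h1 : ((algebraMap B E (algebraMap A B (x * z)) : E) : Q) = algebraMap A Q (x * z) :=
      j.commutes (x * z)
    have h2 : (((algebraMap A B (c * x)) • e : E) : Q) = algebraMap A Q (c * x) * (e : Q) := by
      rw [Algebra.smul_def]
      show (j (algebraMap A B (c * x)) : Q) * (e : Q) = _
      rw [j.commutes]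
    rw [h1, h2, map_mul, hz, Algebra.smul_def, map_mul]
    ring
  have hfin := isFinExt_localization (B := B) (E := E) hinj q hdim (algebraMap A B (c * x)) hxq
    hcxB hxE
  have hnz : ∀ r : A, r ∈ nonZeroDivisors A →
      algebraMap A (Localization.AtPrime q.asIdeal) r ∈
        nonZeroDivisors (Localization.AtPrime q.asIdeal) := by
    intro r hr
    have h1 := Groth.Agent.H71.TameP35.nzd_of_not_mem_associatedPrimes hA hass r hr
    rw [IsScalarTower.algebraMap_apply A B (Localization.AtPrime q.asIdeal)]
    exact IsLocalization.map_nonZeroDivisors_le q.asIdeal.primeCompl _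
      (Submonoid.mem_map_of_mem _ h1)
  exact norm_tameSymbol_localization q hdim hfin a b (hnz a ha) (hnz b hb) (piOf hmono)
    (piOf_mem hmono) (fun q'' => uOf hmono q'' a hc) (fun q'' => uOf hmono q'' b hd)
    (fun q'' => eOf hmono q'' a hc) (fun q'' => eOf hmono q'' b hd)
    (fun q'' => fac_of hmono q'' a hc) (fun q'' => fac_of hmono q'' b hd)

end Global

theorem main (A : Type u) [CommRing A] [IsNoetherianRing A] [IsLocalRing A]
    (hA : ringKrullDim A = 1) (B : Type u) [CommRing B] [Algebra A B]
    (hB : IsFinExt A B (maximalIdeal A))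
    (hass : maximalIdeal A ∉ associatedPrimes A B)
    [hloc : ∀ q : MaximalSpectrum B, IsLocalHom (algebraMap A (Localization.AtPrime q.asIdeal))]
    (a b : A) (ha : a ∈ nonZeroDivisors A) (hb : b ∈ nonZeroDivisors A) :
    tameSymbol A a b = ∏ᶠ q : MaximalSpectrum B, Algebra.norm (ResidueField A)
      (tameSymbol (Localization.AtPrime q.asIdeal)
        (algebraMap A (Localization.AtPrime q.asIdeal) a)
        (algebraMap A (Localization.AtPrime q.asIdeal) b)) := by
  haveI : Module.Finite A B := hB.2.1
  by_cases hu : IsUnit a ∧ IsUnit b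
  · rw [tameSymbol_eq_one_of_isUnit hu.1 hu.2]
    symm
    apply finprod_eq_one_of_forall_eq_one
    intro q
    rw [tameSymbol_eq_one_of_isUnit (hu.1.map _) (hu.2.map _), map_one]
  have hxm : a * b ∈ maximalIdeal A := by
    rw [mem_maximalIdeal, mem_nonunits_iff]
    intro h
    exact hu ⟨isUnit_of_mul_isUnit_left h, isUnit_of_mul_isUnit_right h⟩
  have hx : a * b ∈ nonZeroDivisors A := mul_mem ha hb
  have hxB := Groth.Agent.H71.TameP35.nzd_of_not_mem_associatedPrimes hA hass (a * b) hx
  obtain ⟨j, hj⟩ := Groth.Agent.H32.FinExtEmb.exists_embedding (maximalIdeal A) hB (a * b) hxm hxB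
  have hxu : IsUnit (algebraMap A (Localization.Away (a * b)) (a * b)) :=
    IsLocalization.Away.algebraMap_isUnit (a * b)
  rw [map_mul] at hxu
  exact main_aux (Submonoid.powers (a * b)) hA (Submonoid.powers_le.mpr hx) hB hass j hj a b ha hb
    (isUnit_of_mul_isUnit_left hxu) (isUnit_of_mul_isUnit_right hxu) (a * b)
    (Submonoid.mem_powers _) hxm

end Groth.Agent.H34.TameNorm
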