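import Mathlib

set_option autoImplicit false
universe u

namespace Groth.Agent.H34.TensorImage

open scoped TensorProduct
open Algebra.TensorProduct

variable (k : Type u) [Field k] (R S : Type u) [CommRing R] [Algebra k R] [CommRing S]
  [Algebra k S] (S' : Subalgebra k S)

/-- the comparison map -/
noncomputable abbrev ι : R ⊗[k] S' →ₐ[k] R ⊗[k] S :=
  Algebra.TensorProduct.map (AlgHom.id k R) S'.val

theorem key (P : Ideal R) (y : R ⊗[k] S')
    (hy : ι k R S S' y ∈ Ideal.map (algebraMap R (R ⊗[k] S)) P) :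
    y ∈ Ideal.map (algebraMap R (R ⊗[k] S')) P := by
  let π : R →ₐ[k] R ⧸ P := Ideal.Quotient.mkₐ k P
  have hπ : Function.Surjective π := Ideal.Quotient.mkₐ_surjective k P
  let Φ : R ⊗[k] S →ₐ[k] (R ⧸ P) ⊗[k] S := Algebra.TensorProduct.map π (AlgHom.id k S)
  let Φ' : R ⊗[k] S' →ₐ[k] (R ⧸ P) ⊗[k] S' := Algebra.TensorProduct.map π (AlgHom.id k S')
  let ιb : (R ⧸ P) ⊗[k] S' →ₐ[k] (R ⧸ P) ⊗[k] S :=
    Algebra.TensorProduct.map (AlgHom.id k (R ⧸ P)) S'.val
  have hcomm : ∀ z : R ⊗[k] S', Φ (ι k R S S' z) = ιb (Φ' z) := by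
    intro z
    induction z using TensorProduct.induction_on with
    | zero => rw [map_zero, map_zero, map_zero, map_zero]
    | tmul a s => rfl
    | add z w hz hw => rw [map_add, map_add, map_add, map_add, hz, hw]
  have hιb : Function.Injective ιb := by
    have h1 : ∀ z, ιb z = LinearMap.lTensor (R ⧸ P) S'.val.toLinearMap z := by
      intro z
      induction z using TensorProduct.induction_on with
      | zero => rw [map_zero, map_zero]
      | tmul a s => rfl
      | add z w hz hw => rw [map_add, map_add, hz, hw]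
    have h2 : Function.Injective (LinearMap.lTensor (R ⧸ P) S'.val.toLinearMap) :=
      Module.Flat.lTensor_preserves_injective_linearMap _ Subtype.val_injective
    intro z w hzw
    apply h2
    rw [← h1, ← h1, hzw]
  have hJ : Ideal.map (algebraMap R (R ⊗[k] S)) P ≤ RingHom.ker Φ := by
    rw [Ideal.map_le_iff_le_comap]
    intro a ha
    rw [Ideal.mem_comap, RingHom.mem_ker]
    have h3 : Φ (algebraMap R (R ⊗[k] S) a) = π a ⊗ₜ[k] (1 : S) := rfl
    have h4 : π a = 0 := Ideal.Quotient.eq_zero_iff_mem.mpr ha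
    rw [h3, h4, TensorProduct.zero_tmul]
  have hΦy : Φ (ι k R S S' y) = 0 := RingHom.mem_ker.mp (hJ hy)
  have hΦ'y : Φ' y = 0 := hιb (by rw [← hcomm, hΦy, map_zero])
  have hker : RingHom.ker Φ' =
      (RingHom.ker π).map (includeLeft : R →ₐ[k] R ⊗[k] S') :=
    Algebra.TensorProduct.rTensor_ker π hπ
  have hy' : y ∈ RingHom.ker Φ' := RingHom.mem_ker.mpr hΦ'y
  have hkπ : RingHom.ker π = P := by
    ext a
    rw [RingHom.mem_ker]
    exact Ideal.Quotient.eq_zero_iff_mem
  rw [hker, hkπ] at hy'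
  have hmaps : Ideal.map (includeLeft : R →ₐ[k] R ⊗[k] S') P ≤
      Ideal.map (algebraMap R (R ⊗[k] S')) P := by
    rw [Ideal.map_le_iff_le_comap]
    intro a ha
    rw [Ideal.mem_comap]
    have h5 : (includeLeft : R →ₐ[k] R ⊗[k] S') a = algebraMap R (R ⊗[k] S') a := rfl
    rw [h5]
    exact Ideal.mem_map_of_mem _ ha
  exact hmaps hy'

theorem main (f : R ⊗[k] S') (p : PrimeSpectrum R) :
    (∃ q : PrimeSpectrum (R ⊗[k] S),
        Algebra.TensorProduct.map (AlgHom.id k R) S'.val f ∉ q.asIdeal ∧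
        q.asIdeal.comap (algebraMap R (R ⊗[k] S)) = p.asIdeal) ↔
    (∃ q' : PrimeSpectrum (R ⊗[k] S'), f ∉ q'.asIdeal ∧
        q'.asIdeal.comap (algebraMap R (R ⊗[k] S')) = p.asIdeal) := by
  have hιalg : ∀ a : R, ι k R S S' (algebraMap R (R ⊗[k] S') a) = algebraMap R (R ⊗[k] S) a :=
    fun a => rfl
  have hp1 : (1 : R) ∉ p.asIdeal := fun h => p.isPrime.ne_top ((Ideal.eq_top_iff_one _).mpr h)
  constructor
  · rintro ⟨q, hfq, hqp⟩
    have hqprime := q.isPrime
    refine ⟨⟨q.asIdeal.comap (ι k R S S'), Ideal.comap_isPrime _ _⟩, hfq, ?_⟩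
    rw [← hqp]
    ext a
    simp only [Ideal.mem_comap]
    rw [hιalg]
  · rintro ⟨q', hfq', hq'p⟩
    have hq'prime := q'.isPrime
    have hpprime := p.isPrime
    let M : Submonoid (R ⊗[k] S) :=
      { carrier := {x | ∃ (n : ℕ) (r : R), r ∉ p.asIdeal ∧
          x = (ι k R S S' f) ^ n * algebraMap R (R ⊗[k] S) r}
        one_mem' := ⟨0, 1, hp1, by rw [pow_zero, map_one, mul_one]⟩
        mul_mem' := by
          rintro _ _ ⟨n, r, hr, rfl⟩ ⟨n', r', hr', rfl⟩
          refine ⟨n + n', r * r', fun h => (hpprime.mem_or_mem h).elim hr hr', ?_⟩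
          rw [pow_add, map_mul]
          ring }
    have hdisj : Disjoint
        ((Ideal.map (algebraMap R (R ⊗[k] S)) p.asIdeal : Ideal (R ⊗[k] S)) : Set (R ⊗[k] S))
        (M : Set (R ⊗[k] S)) := by
      rw [Set.disjoint_left]
      rintro x hxJ ⟨n, r, hr, rfl⟩
      have hy : ι k R S S' (f ^ n * algebraMap R (R ⊗[k] S') r) ∈
          Ideal.map (algebraMap R (R ⊗[k] S)) p.asIdeal := by
        rw [map_mul, map_pow, hιalg]
        exact hxJ
      have hy' := key k R S S' p.asIdeal _ hy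
      have hle : Ideal.map (algebraMap R (R ⊗[k] S')) p.asIdeal ≤ q'.asIdeal := by
        rw [Ideal.map_le_iff_le_comap, hq'p]
      rcases hq'prime.mem_or_mem (hle hy') with h1 | h1
      · exact hfq' (hq'prime.mem_of_pow_mem n h1)
      · apply hr
        rw [← hq'p]
        exact h1
    obtain ⟨q, hq, hJq, hqM⟩ := Ideal.exists_le_prime_disjoint _ M hdisj
    refine ⟨⟨q, hq⟩, ?_, ?_⟩
    · intro hf
      exact Set.disjoint_left.mp hqM hf ⟨1, 1, hp1, by rw [pow_one, map_one, mul_one]⟩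
    · apply le_antisymm
      · intro r hr
        by_contra hrp
        exact Set.disjoint_left.mp hqM (Ideal.mem_comap.mp hr)
          ⟨0, r, hrp, by rw [pow_zero, one_mul]⟩
      · rw [← Ideal.map_le_iff_le_comap]
        exact hJq

end Groth.Agent.H34.TensorImage
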